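import Mathlib
import Cfsg.Agent.Spor.LyR.Gen
import Cfsg.Agent.Spor.MX.McLCovD

/-! Generated by tools/dc: tables for the triple cover of the McLaughlin group -/

set_option autoImplicit false
set_option maxRecDepth 100000
set_option linter.unusedVariables false
set_option exponentiation.threshold 100000

namespace Cfsg.Agent.Spor.LyR

open Cfsg.Agent.Spor Cfsg.Agent.Spor.DC

noncomputable def Tt0 : BT :=
(.node (.node (.node (.node (.node (.node (.leaf (nat_lit 0x149e4f1852c966ef2a172125e2fc2e245815b3d6f015e3d98cad6c1e81eb64c90df62175315eef9051adc8ab6f980f2be2ea385237773a1089e6a1b04e121525e06af36a29cb001f30e1c415a1c8122e350d97e86698be110d1f93091020f22dce3003b6c2e2d30ad472ae03138c6bb25154ea006ab5d24d152a814ce97f0e222fa42a05c27d11371a0b92ba7198036b398b2736538196da4b2c1ba948395834742d82d527f3f261c49f7e081109b4107cecce11805270f4620c78c45185a0a6e322a22070070d1d6c91986d90502d13c30696111c9a8f5c124d06728815806f258ea08255ea89faec71b48caf57fa1dbcc186100582846835f01c6391122420814c26141d83064f0561ed54453b9f062a713075e69a509e148110abb500354a809e804232ea0cb1043651290388f4cc240c9893acd))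
 (.leaf (nat_lit 0x448df1035c38c66e30150d26a271b09a6129c0604522f945d2f9643d1f8e87b3ddc6fa63b11d834700c9baf175af9faf87339d76c97ab0970ef600cdda2f673686cd618b6166d41b8d4563067b6d6ab0168b1c8fb79ae586f262b8870df5fba97aba72af18ce15bad99aae6a8a852cc172d15aa84586552ac142983826138543618482753c8f0b888260b048780e2306038349f4e2351c1655a282812050050a0040a0906803c1e4e27a3d9f0fc7f3b9d8e6723a9d0fa7088c30db0687c22125e3319cc8658698a090b7f9a0b45625174b24925970ab0a81c01fc502641e0a4f2b96cb0462112078441d11c76401f0fc7a452090c72c169b65a4f06f3b9aed06e2bd96ca68ac962a751a904a204a2681024082580aa550a4554a04da3144894ca20081f07a481a934c21d2e214a8183a110100d0c84))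
) (.node (.leaf (nat_lit 0x19cd31087aa208c85186cde3a77c248ec075c055252613d9550a373d1430528871fabd7d8a08c50769a20ec52990dc6422039c28160c97dca4e308cdc0834ab68963d12b60243f24b64b830062b83c7d030b122c786288903c78a91830d5fc21f4805c2f0f4890ba650cdb3c04164940281d1b0e55bd604ac62299eeff1d9f0a8184e27514845ba1c2697072d56871678251800482b51cc945a7976b33ca58049f08b285eba6a82846c65005534883b9ccec393a9d16070833ccc91135ba8d84f33448da656fb78c641130c8b4242c035a0371b0acaaf9819114a3477375d05e6934c94ec7c30de500351344ee61f351aca785af8e4382d8d4aef031131ae59020859682100a43e453038862d1661f83a56150045cfe7e391d27b4d86972e15b1fdb8b107a60ba934908816af670b410814280d9a8f))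
 (.leaf (nat_lit 0x11e12a8818f5283624412229c49909544153a792e99872a4960769358743c80960d84d06c3ddec885a95145279230de25200fd0e1b34ab0f2cf519c04e4a01954aeff3317568432f1b61b002e0252c3b03398245a132412a6e22114c621392b5f0241103026185584072983537034232307566d843419246435c09a6e98530dbeda38a9814d445939a0887f3355e56103dc080b661fd1af90f268fcce2da6ca80e278206e2b5f125a2b60e3b0b22a188056a751683cc0672fb0a18a475a3a0abc6f3a1f71002864fa8f7abd9f5074494176ee6c98540db3ba8828f348a7450803107dcadd6bab98e7a0038d42e765421c4f44fb90ecc05919466347e858a6e1160442e2e34324f8bd78b12244c580c182e040add8ab8751e06a5139a0d087b14ac504b95fb19e0020abb5aa2f42b2c70327e2e8e83e))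
)) (.node (.node (.leaf (nat_lit 0x44a231087c3a1b0c85c2a130883c1a0b0481c0a03007fbf9fafc7dbe9f2f87bbd9eaf479bc9e2f077bb9daec75ba9d2e873b99cae471b89c2e06fb79badc6db69b2d86bb59aad469b49a2d067b399acc65b2992c863b198ac461b0982c05faf97abc5dae972b85bad96ab459ac962b057ab95aac55aa952a853a994aa451a8942a04fa793a9c4da6932984ba592a9449a49229047a391a8c45a29128843a190a8441a0902803f9f8fa7c3d9e8f2783b9d8ea74399c8e270379b8da6c359a8d26833998ca6431988c2602f978ba5c2d968b2582b958aa5429948a250279389a4c259289248239188a442190882401f8f87a3c1d8e872381b8d86a34198c86230178b85a2c158a85228138984a241188842200f8783a1c0d86832180b8582a14098482210078381a0c058281208038180a04018080200))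
 (.leaf (nat_lit 0x415426538345883b8343e12c543834d2496cb0200d41fa8c8a7b7aa81e03578bf880110ec4620288638c2c4430bcd48e25ea49aaed219f53a8e758f5129a5d23014fb5524d56df639095099811d0009546a3cc05d19bf5e46c6915c784d64ba08eff58039305380be16ccf86c38188a6c2d1f827760950266102954e193591836a63e38002963c071ee7e6d22c268838aa462082a3986e6f5f35812791f3213ee1371dd3c15401fd3822133e9d21a119d55a84483380e64261a1aede7732cb051280148267588096eea83c21cf0a4196d23044ba195d0b174489e5c2d2c8aac225abca4c12b03c48327b0c1a03a61b4c0c6d159296aa27232828622f8a442bc63331703981b6dca386e87c900439a6de87a3b2fc3c342f21406595c9a82e2c16b70302f7c98c6c2a413bd9a0b5dacc9c104a048e4ac))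
) (.node (.leaf (nat_lit 0x8410551abe03a331b88c5cd142838c07434174542d13b3c4cd2313792a4449a09d0a45c18cae400fb2d2407261648e4f4c1c9370d4542cbc031c85d6480781dcf6457e8d1d2b60885844730d231b8ad3aa81be1482c45986c6dba8fa2965160bee577279de43669b8fee47d8e1e2f255b18cc4d67275625360358586500b8160e67fc017cbb4b2b174ec7e2042a7c64951daeb7144a04615a1a96ef5423554b034fa8978898624172dd80c1de6bd8800138fe7d2fd1c0c06908485a25b4c162001014563f0828d5e3e36818e07e4d0704a2f0c1e41e363216db0e70f25ca45c1420c14d9191c4de492b0ed6a091884d88696a0c1ee9402244786720a1950d7553e5327a091221506250e8327853b208c8760a21163d5741184a96813a130863bd1c6a16d1aca28d87c39861b281d98a8f7b29966e1))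
 (.leaf (nat_lit 0x24d78826fa24f6ee79b00e4e669201bae165a95027d743798eaa432bd749f452d2070d652b986e75b331d2fb66b692276481dd61075da51ae7939b6db9057f2313c8b82266129c55b9150cf472810f0c7ac2dc4744dc18e2a94ab39f07f689f9a6b14c291b2fc6b28558928035222a74ea598a7a5eae0eabf72b2106f942449dec260ae5f4b27ec416ee380bc9e2c9513d9daf05f341c0ea3e1e10aa375bb21c88812692ec68523d66d87a2d51af7843fd88a687b555a140d13018040315c0e6c168846c63089880619250b8824d20184e0580291c440d10004cc551a8203e24220744e4f148ccce381585c58340d858bc32130dcca4b050e4905b0588c843e1d8f48a5d098fcac4e090bca46e1e140a2182e150be1c150082053188c0da5921924c860349ac3c15230e8122807838d4682d1bc4a00))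
))) (.node (.node (.node (.leaf (nat_lit 0x320ccde61b9974df193b1e64f34b009b128818e0d007c1c0e2064e2a982bb6e3406cef84a9c088c7a14096d3818e9008916365fe5e6911c8495863accef72736968900daa47c4a5fb1c270f674348c6f249b95e005e0610e727b30906ae8524550e372b3d46b82d22d6b0e7ca34a40c64c0536932b3d60edd77091421458990b01d20188ab11340b5fc3b3516e04ed309116ee76610616e465a760aab6a144209459a3d32ca242587a9702a88ec864f17134390f421b681413a4f819529b5ac2a5ebec1a34700ccae08133c034312a2f8386b560dca67e452e456f2623f5d016423156c38713444e4c22b84ca3500bf0d87b173a8c025443e80e7a3bac8f2123a8245ed83c2b478030fa90fe30118802a1121964ba736ba80fa8501248425f66a9814c60782d1cb00b88930744fb5452f1140387f04))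
 (.leaf (nat_lit 0x1bdb0552d148d2602e28c93011f8ac7cd40633d6a1e1b838da5f2114d843675c20bae805841fe266c8f5ac8567250664e848c1529e5f01c46e038881602887310d6c81e0bd5ab3718c44a787ba111e79532b0d4322691c745e02928ca564e8b0103b3089c2ee64b061ec136491844540da2dca2a4b8355caf14ac80457682612443452d19a743ebc91a124cb54fcc5051d4822e800e4e41d5b818021607a1df4bb538642ae23b9e9101f01a24a0b90d238f89c501d90264893e0ce4b5c36da711830d4b2d2739b204ef86bb4dd0f543e5fa9a0e3c5b46831c121644123005a4038145d9052dba842cc4ab7d0cd18520d6c4f2c32d56a47a31dd26233374690c88121eafc60a01210365209e0d77db1954bd4f800fede5885098ee83a6dc293722448af35137008c35e2317e385d285fc7b08a94e609))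
) (.node (.leaf (nat_lit 0x4121310850020f0e85bfa050880c4a07067fc461b0082c3d78f64e23d82de50a2d50e3642309050200e8ce7021179eabb6eb0112a763bac8e6133134de874a3695cca59b3d32d32b12cb04949b652cd2250f522ba7a2897ee4762e0a263231a0dc904ebcd92622237196954d0e4b4db58b3940fb52af5c0e9623c4a85f260f0d68e7d291d0ac32b5d10b2490fcaeb06b17572fd4fab5e0457e384a6d55b1640a80020b0261912a040e161a054e62f3b9e0221f110206ac373aa96eef7ba8dbe41271a4a4647330952ee4f0ed2e86682bcb83e5a350aaab72a6df28d27bb5f06a662d4b6a645315e46d21b897c6c66b45b0c675181301b031c46c180a0c9061e3b1c8480c16874207a138cc142b3e9e40630048801a380e1f1087b0b86850263f1d42402078845482429fce82e118041631070a46f0c))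
 (.leaf (nat_lit 0x35dcecc74a6a14a6551f950f97eb61b4e34a3d20c9f88c39a2c639c2d5eca721edea855824d86cd6f2f224e26ea092e8641c1596766a36e0eea571f584a060b11e2d33ca91f8c73d425f6e850c2122d962bd9fc9259b716c7f3bb49e4bd5cc0dac875135530d079a21e10c53a95f50f4c9e137025d33d70714f3e114ef6fb9908ab5ac11da9d72bdd170d40441c0a347aa4eaff762419c9c46a5602ad56321dcb140ac91cb75d9d180e15a1c918be4b32600bf3e225d60a32158424b059886a381597cd83601170a25b12104907017880da191f8a0ce452c81062222b9687a12128f0d61820180464e3187818690e108de3e370988c2e2601460032c0a4ba3407844a0650687c942d0a1544e33340ec0c520b8c8c22a268e41c1d27804d42c0a820a85e0d1980e490804c88431d0583609238dca600))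
)) (.node (.node (.leaf (nat_lit 0x2a5811045a01ba84193f0c6273798576e04eb99ce17743d98e1b482a142895287190ac47a45868e830ea12c5450ede6143319d487c7d91d846c8394cd27838b680e9309830f20600ab8943f411f448d918358f49f4e29c901a23108d64e531061cf4133e850e2369d840943f02c12360f88cf6bc60c3080ba0b1c0a24d26310a8347ab7866fd32a04e605040ad6035160b82ae37486140b91c188be22179581aaa440f424bd43844963c28114080a3b895ae0318808aebf6f800890455a8e1abe81404a50076baddeee7c3a8e4d34b1d1a8b56d8dcaaf94f26deead84445ca6a670799aec5c3c592b785b84d11216b2d9ee42f1810b0f43255688d8190d323e3f841a0d82da612e8c27c156c496920d62580734564fe85288dcf032319e4ff3aa69669207abc72ca0eb7042296616454d52d174b819))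
 (.leaf (nat_lit 0x35d4533c239880e600c074bd58ac94865610d0f8d675c3ce8b605a358ae83580488294c2a438d819419e03713208a48a26401c46c21c0df02a369549ed43d83d247a431c8fea515a8da6d013bc986ee6899158091e31d100725224920818b20203b269756833331e502a70d9c5a48c8480d08ad7e421721780afd6ab8703b4b30263441c26a893c54c006ebb10ab785bbd60c90aa41f46f2a2edfeb34b305be1a102bc7c607cb3536ce8693916754f3f9eee916b98bc3f0b0a15c91093cc3e35011692a67174148afb0a1a550a16b9f506244b961bc133b864223d6c9408e4b02a1c4a514eb55b6fd7a17e0e6839bd9448f860b1ea5b3f104420c2115d32040524ce01d030d9549f31b943ccb722adcf0a660e2222f2343872615d08cdc62111d934e36d20128a05e12138cf0c158805c82329b8be))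
) (.leaf (nat_lit 0x444df1038430c26e2f118cc682019c846323c36084431121c6f1563d5ece87e3b1d2fd5429dee287309dcef97c28df4eb703753aad7a2913ced54899de2267b686ad912b4934d31b8d840246736d2c940f08dc8f37da8142f052b7870df55bb9549c70a7d44e54da6596936e07442ca0fa5592c74586580c81a304363319060381547aed70900b8bc2605040b4182c038402cbc5d231221a5fa242811020190a003f1f4fe843c9e0e27b3d1f102833b9ccec743a9c9046b89438cb0987c2e0c60349b0c86d8097e05087f9a8ba561f968b83e1e964aafe82c02144520c1e06432b960b6542694478521d94c744e2492896502613c72a66a359b0f2713a9aed16aa499acc682612ec45f308622b582cc1230072d416c561a397ab95ba358c8a5b21c142e07abc1aae5922162295a0045412018090c80))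
))) (.node (.node (.node (.node (.leaf (nat_lit 0x44a231087c3a1b0c85c2a130883c1a0b0481c0a03007fbf9fafc7dbe9f2f87bbd9eaf479bc9e2f077bb9daec75ba9d2e873b99cae471b89c2e06fb79badc6db69b2d86bb59aad469b49a2d067b399acc65b2992c863b198ac461b0982c05faf97abc5dae972b85bad96ab459ac962b057ab95aac55aa952a853a994aa451a8942a04fa793a9c4da6932984ba592a9449a49229047a391a8c45a29128843a190a8441a0902803f9f8fa7c3d9e8f2783b9d8ea74399c8e270379b8da6c359a8d26833998ca6431988c2602f978ba5c2d968b2582b958aa5429948a250279389a4c259289248239188a442190882401f8f87a3c1d8e872381b8d86a34198c86230178b85a2c158a85228138984a241188842200f8783a1c0d86832180b8582a14098482210078381a0c058281208038180a04018080200))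
 (.leaf (nat_lit 0x449bf1061b20c6ba279c0d23260411bd067c199cd0026bb178bf7da11f30335b157ac7003c870e4363a9bafe713b8dce533c05d0f071badc26188c15dab6413695c3641ad102d02db30b0d42bb386ed2658d5730e7a0d1ec5087b08a3077e1a9eafd29c31926232b7094d6188b9622c2d364349c52aa152aa4686d5614209ed42164009912ac22010fc7206805260c4a87522900c9f14e452311d3a134389052fa6bb6daa9f3fa64fa8e510a024763b9e0441f08a607b0a273a4a4ef7bafa124c73c096e6486ae1c05e19980542b69abc5ad167924aa545d9b582c4859bdfe6825ad4ac1c4522d189b139094640030f8e2181d0ec10f166b6194c62fc21663017ac8b2b02e1750a7a21a781486039d4421e3a0812448532b51e3c0ba802aa4441e4e60b0780d2e94080941239118fc049a070152cf3))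
) (.node (.leaf (nat_lit 0x3d5787741ad11eca63045748c3731c28aa19af5f65082829b6b31633cf2c243b7198d21b0b8e6057e86150d76f0d160bb484388e0349934bf0c0c989d25c77b6a08c016c48b0c360b9ca27083c24a86c241012ed93883826b118be134f412b106a237f8f4baa4228c21e69689a0c9021d99964ae09031908257ad85eb848884083903a2a06571e2180c5227c28cf0d2713020d84a8a81a024414c84492d87216d6121bcac9415928c65a058216ad32a8f87e3a2c9b60c76001f5928440bc9e6a24038dc87b7d279388e70a816eab0dbb9e23830bfa20d5759f0fe1d142b1c41576bdd427572a64527a0b224349f5fb15be7446bc086227b399ba854ea9da8ec4b1a94d117e1944e725cba196f980b342e8b2f29482783f0259c985687d2426680dc3ca307ba864a95f006010870119362030110d64b))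
 (.leaf (nat_lit 0x1d4082b8517928c174a2dc6b35c8f17818578bd90b83d1394a5965b407c210f3b0700f27b7db4863f330241c41ad840d211098e42d0d8a50478061ec629b6e11944997f3c17e6e4d2a93e8d400419c1a481d9dea32e33602f1303c94cfd5ab618ae64285d7c79424355ae57b8018cfa4f325a66731904b470321ae0cd75430ca2dd250d86832059220903723d122a73131e166d7b448a4e737ba1850888438fe3755a61da242d911e6ea36352230f771a952db7e3e05040128192457248a82c73438097a0a0400c5807409c5949c1ca3110ba44854eee05933ca8b74502466b0503fd1e566f0e8984b570149a1986108a1092fb1176014a87422d13e83886d54b384467c561d168581a83542450f999263d5884c283f34954ca276b300602e344020e97813ee0a472e985d6a46ca75ea3b71238a6f9))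
)) (.node (.node (.leaf (nat_lit 0x1089a776782066af641c5f0e97fa2830b84637976ba6212c12570e9740e161ab38b4921c84c6c0a759b8beae722701a1a1314c2a0405914a0e20a23606492f154c0271f400ac636f948d30219130cc3a271905e7410894467e4aab5b0e5653ed2e1078009107a7a019c06869bde146d0e26d022e16039c2725b35968f2422cd9831018d172b15e8ac5a54764496ebe27b0ceab242b70e683411f18cd15abbcd61f0f10cb6292c004d4d5091fc6ecd079646038682fdd40c74015584749c313ae34f4161ca8448f0c41953b1ce06f2022e13041dc1a20d950201289a47a9122aa51c35ced264ac10ebc7a9ed20c27330216797e801823d3091082991427c7f1110118cf0854a84902279a39a90132928366c7f374a27d6d84530787d1d9aea265a58b8f16d3d9561752891f8c5773b5f28687a9a0e2a))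
 (.leaf (nat_lit 0x44a231087c3a1b0c85c2a130883c1a0b0481c0a03007fbf9fafc7dbe9f2f87bbd9eaf479bc9e2f077bb9daec75ba9d2e873b99cae471b89c2e06fb79badc6db69b2d86bb59aad469b49a2d067b399acc65b2992c863b198ac461b0982c05faf97abc5dae972b85bad96ab459ac962b057ab95aac55aa952a853a994aa451a8942a04fa793a9c4da6932984ba592a9449a49229047a391a8c45a29128843a190a8441a0902803f9f8fa7c3d9e8f2783b9d8ea74399c8e270379b8da6c359a8d26833998ca6431988c2602f978ba5c2d968b2582b958aa5429948a250279389a4c259289248239188a442190882401f8f87a3c1d8e872381b8d86a34198c86230178b85a2c158a85228138984a241188842200f8783a1c0d86832180b8582a14098482210078381a0c058281208038180a04018080200))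
) (.node (.leaf (nat_lit 0x2e0a71084380be6f568e976c47fa751ea47a109d615861a2026027449d49f262fa1b0676afca45181b1a0a4463a34c684453857a1c602e8dc4d0a241f0596c15560ae5ab38927405b6c72b1038d454950712de2dd73c296e8b4d802169e3239208ef74901d8a84607924ca69acd34cf399c4d66121c1dc4a97e400d50e4743c765434bed5866228fc60d5441747ad61184d4d1184bdd424813a71ea564b25d6cdf433305a6c2d80568fe55b0d9ad46d344b00a1f1fd26177419d72e5193c1123c611899291133f46616640d05eb2011e0b41016020ee5e719e946c15137900184a2140a6d7d1948c2828064f8470487db2f65029c4a4f14a0818f95e1ed96af159d442d23901106c50d3cc94982b8dc242e188342241770e1cca57906ce0aa10340b8d707a64ec7d3f01902221b00cf2246e21c3b02))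
 (.leaf (nat_lit 0x164206d0585d28261026136555218842820f88c068501090786f568e8942f5aaf838531a03c7c5a4434c9631151748c5e86b056437279a04aff6e3c0cc7803a417039220541c2d6701134b13a8b12c116925456b9318fe16607e1320ce96b1588aa5703f4ca5768889607300a486a4065b8412183ca45761a190ed4e4257835f0a323818667c6c830e4053a1c4ee8940075d0194509c5c7e73281bc9d3da4c92545b431d8c809b2518c438401164d0b3010ecf5620574f92704a1048350c18cd881bd0c85b7d19dde5c21b403c866d8a47a7f513b594a62fb34d8ea6bc1c71114fb7598a93d30850364bb95dcaa4f1d8284173b88fb0f59afcdc6b85448a30280bc5b4bd7f354b0527b9411ac74786d330475ad1070e61bda20c584bc8d2fb4223950ae6a029c8bc30aad6ee34e001bef350c15ea08))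
))) (.node (.node (.node (.leaf (nat_lit 0x2a179107899dfa400b144dca25ec320ae32fa7d1e3c5c42980a5363bdece87c86dbedd84949570b423c8008b4f238c64779b2184418240d149087135382b3eb69a4db2c01d0c991133d6cb30625024ae43b31466f88baa1e4435badd8ac532b6046913418749d468fcf0d80f03924952d0f42f0d62c49f4612f2fca8e164addfc4f83b95124e5cb2cb8b2149d5602c2b8e4cae07690e10602314dfe5924b54e4a96a3587ce66692968be801a86e962ab416a98008259c704039c68fb241e98e7b7aba518e40cb7954910a06042836b814e60a25810ee1c520a14264623d084451a895343819b0498a063188a0ba088bd94687805404c33c8d926277c29da67f12034fc710982d2eee0d2ec5a81410185cdc019d95efc7b9b4cc323e0ed36e2100c1a285079d0bad90f96c2008118c43a56152c51101))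
 (.leaf (nat_lit 0x2187cda7f2cda0998086c950924971a4d41e9612d045a43ceb0a022214ccc61a2d6c0a4d2414aaa00c19a2ab49900249415ad4e2a83c92d2a06120307e8d4903d5e031e0e5190b20a609e3b3925c740e5183400766baf582bc28ac18acb50c1c22785720d1e7d602896eb1472260ab26101538dc760c4ac22871508c57732b0e0c812b599e1334bc94eff26c003a092d11dc6d540c31eaf37b0b1b2506499514733d809227e2286010ba7e86572a03bb10f8de0b2745cf9669fc9c59244085adf1016e1a6c0f361a6ef03aa606be32278864408148aabf65375e2c7768c1b66714c21dc6b673dcdd11330d8de372f1a8bafa89185d61c4d82c429f4139d8c4c3d2e1d4740b85148e93188c3460152b44c6d2109df0387e3d05e8470201f63572055e0e288384c4852f8d176e50f8c9d028298ccd087))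
) (.node (.leaf (nat_lit 0x37c81101c2a8ce6e3206cd843271a466660a3bdda4f13071c70a5e27d42de52bf9d29c5d1ede2166e931c0ec70add510584c19128c56229710160136040465368ae7d05330ead12c0d45601692550c712481de0f37d9e98af261b88d7125fba908c781b211aeb5f20da0823f8a454d806ad144fd608660ef522a98a25f32854a83c47a91fe901d094220201964583d25838a0f47d318f83487b08a612188c1240040ab96d0c39a1d60b962239aed53ba20f0b259ac5ac7088a0082e755a6dcc5e3098cc0278210a1aa34f1104220030743c2d060f8aaf972bb9ee1a192a5f0521b16c6e483111830680b91c766f2e0904628369a8208b65a4d9ee474400fccd4cabda6ce6a1c8e8a085a7444564a2680a3f1ca5810f67e2461ca7843255abb6e1d85e1f07a145cd94b9e5305a6d928ba13058256abd))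
 (.leaf (nat_lit 0x104f62e72074440a3f0a03445792ac1ea00b0844e3838061a8cc149353acb313895f055b8c81651742e616e7263a818014c398ca021d93c566c0bb1514e349279fc4446b7cc89b4fa2df310101004ca3530f0ac611c968d45b72c021ccd2f98ca4092b970d23f3687a225e211ae143e2310c6a2d42b25c2745d3e108b67e3118c3107021a2337ea682aec783a5e2ac3a871aacf2e8a8d02f118dca86e7bab60c55844049cb05c3b57d125a94d9d0224bfcde596c3821a7649815e6720a379dcd7472f186913ea1c06240686408a751285507a0daa94a362c07d2e507b11c0c124ca70907740bd506731a044f8793fa0118136e3ec4ac26ea250cae2541e09031eb4129095499c74b1413018e00691c4f0905ea9182db5d8b168d96b0c096b2653ad670c7a34d7e964a840ccda03be9108f6443dde60))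
)) (.node (.node (.leaf (nat_lit 0x44a231087c3a1b0c85c2a130883c1a0b0481c0a03007fbf9fafc7dbe9f2f87bbd9eaf479bc9e2f077bb9daec75ba9d2e873b99cae471b89c2e06fb79badc6db69b2d86bb59aad469b49a2d067b399acc65b2992c863b198ac461b0982c05faf97abc5dae972b85bad96ab459ac962b057ab95aac55aa952a853a994aa451a8942a04fa793a9c4da6932984ba592a9449a49229047a391a8c45a29128843a190a8441a0902803f9f8fa7c3d9e8f2783b9d8ea74399c8e270379b8da6c359a8d26833998ca6431988c2602f978ba5c2d968b2582b958aa5429948a250279389a4c259289248239188a442190882401f8f87a3c1d8e872381b8d86a34198c86230178b85a2c158a85228138984a241188842200f8783a1c0d86832180b8582a14098482210078381a0c058281208038180a04018080200))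
 (.leaf (nat_lit 0x31d78ba64aed709060a2d009147c3581046444112bf8623160c6421dd5f12721d9eb0e5a204f6b671a0e0afe79b15d28273b295cc349bed7a9f6fb6954b361279b6e83cbe91cee7cb49e2996ec0cf509432a162ce7c310e8fc7bb6534ed46bc158717a409110650afa10eb539e21ea469aa572e15bb3dcae66e280eafd65a1d56734537a0e9c8542ce4b27b28a029477a956aff4e9f200ec4db812aad4b28daee26a360fecc79334fad5689f90a986b25d24ea53342222d311345e330d140c251061b822702712c284c0c810680529128781b03920ce15298c8761324908cc1c378408818160e4a84f0b18c0c400b9788e0834118740a148d8d8311a96cba28058c0c83d101ac1a2e1c15c445c2f80c562109104b0600e8a84656010048a69350241c5a079946e553689c3e5913078483e128fc8600))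
) (.leaf (nat_lit 0x39dc1101c3d222fd75429de6831c1cbe696f448ce6d72bd93efc74a0142e27b87108ba0c9e9e2a06f89cc2c51993000a4812a484c447aedd10d84a29807e1ab6846ca39a085e30689f59a066c365a6ae1fb3c50aa7ab9090c661851566c383b978a87c43923052935cb636418845cdb4b92de0fa35a70ccbd3e2fd4ae121858a8ad863aca6c8803544a1f150dcae956b2c88af3370d0a0f287c0c8edc09160e8c70524cf2ac40a200e1a47230fe113b84d325d5b03568a676b8d36dd608c89c60203982eb783274df085c28d0a1e2b009962b4a2d4aaf931190a21820c11850b66090b8ec1311972652f3fc75012cb4058a23513cb48b101c5607b4f0ecec2d4d02da80c432bc0a155f224ea01671e124960412412fe0da9d208d220f1924d18810441d078a4063d58acc2098690f81c87390e494fb))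
)))) (.node (.node (.node (.node (.node (.leaf (nat_lit 0x371eca06bbf5790c85c294aa20021d22cb591cd28de5cb061cf57dbe8b82e1c445f8d56c9b4905066bb8ec560fa5ca84755b99ca68231f1769c034012d126db69e61287b59e8242c12986d0318b1deb5822fcc45708b19544568a61fc936500d110d70ae9fe394d92d98822cc0d629027a54be1973b14fa3f32a9a128e20c2143104785d3ae05b944cec2753755d01600ea0ab04fa90044c2022912bd83218d4232dad0cc61181a552e21d90cd83d29bb49c14811540270110bde47912a14fce44ca054e0f67b2500185697868f94196966d3643b0e4e93b88534f0579d4108c5b34808f17438d88053d059468b540acf03c3da4970f71b0dc265d0d074627f373e05ace1f0a8202813824d6d4421bca41b75878640a100cd58604f1082a741ab618e293202c1a0c070704c4d03b7c88495f234e307))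
 (.leaf (nat_lit 0xc086a687a392c881da861109838e92e861ec09523f52120f8546abe8360e78b158cbd090a1ee2576971de1c6c1a42a095b85cfa0a3d17c46e00f0089c115a2fd64eb2814df65224840d0673a01cc21403328f27859bd5ecc428b0982b56d1bde876581cc32717384d80db63b6496bb02ab958ad55a8a028d1e4408cff51aaa14a04e279149f20231324782c352a891c9090e9000439509a45a75290c48c106684418b05e7537059cafd0c38d92c83baf100cf5d031700f5f1fcca6a359b1d4d168164da640080d9a2771080baee2c034cc5b0f930aafc6b35186d712374165658929a6fe4c2948a3e88a48829b8011206a785c1926381b8a45431428ac6912408b85a82190d46cf230099e04f708683a5e2bb7c42ec7c889727b731f9d2cc5b3cdb8d2383e0b47226b91d0086732d5e0431378c68f))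
) (.node (.leaf (nat_lit 0x2e921105c94d3e9d28a45e6fc863d20d0e83865fa4631915701544b858c4e0d3249abb7f93cf69b5e3f9d2187330428ed639ba1a3b7c198808055411ea39581dd9c82588b010313b33008dc0608c224b4d24cc0e571131e03228449c8e3500e1bd0530908d0e7380085e571732cac352db642e261e40df4c2350d144dd7cc2d4e44521b0de472402d30592508928db1e892105f74194da411419e221f2d35c5a3357b283a9e01841a45e323b852852a9744220029706c8d422297ebd3e151908b00271d8c347c09581c602ac02b6442d4e6874a84db416703158900853ecd2a157354fc8e80ab474a652aa61ea83c049acea35bd87e8c3aad0e2b76fbdc54813a12414cf41819a2be0dbbce4b3038390c7f4b1e47c7a7910dd65278a8c4f0904ac924cd078ada0d8180346e1e3ea65a8972c34c4a62))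
 (.leaf (nat_lit 0x42d5a725f40dd0e15b2e51c98453a964a566c0202d6493c970f85da79f2d353a41189b77acd9285459e546ec4b2d5c8db48aa128dc5125d9e9d7b1cd56e986c41490863409ff0f7e3c588a6864461d0a7ea81a4dd772bd84b161a18f6c0733516ebc49b7998cb43c4a0d097f2c1a3056bc1d9ceb641e952bf3fa3508743c1d4f87772a652a9c3f3c1f4d8442b1c09f7db5504df44ad1a08179ab8fae25eb15350460b9dea807bbd11e71419d98eed652a9c6d95d3694234221781652350f874080b89c1c0f318848e5a1c888ba3c36964c0542f9147e4d2a9289e0315904b02e261b0ca1a0389854370487c2416299ac862906804ae1837920d02d02890c83b3112ce04028958b810098782a1c211b85e28119184a320d8d82804060b03a063313866201892460672d9407a3530864223805008d200))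
)) (.node (.node (.leaf (nat_lit 0x110760f459ec641a103f0c0015f09c104c3a05d362d058714e1b64a35420528bf8788e462688c138412474481ca58501d32991621122838206a3417486c744c409a9d56279204030908df0231051daa43314c08e40b1e1d82278a48d65e5f8795af0148d0fe1f2ca01bab84fb380e261ab84ec1860b116ea005299ee092b220a8313e00806c61806574715813976e21988d027a5c9d4e62f1c214548474b807aa2863acdc5047bd5feb312b55c69c3baf5e82c7d328be7020a45a8a355a1a164a801487c3f770349e244c16c19066024d530d7c1b0aaf93932d4ab669ba842377437cc6c557b0cf2065a8b9a26d7339d147e15b35050f824148e992d161510179b48cf0388b6d2a872e25e1d09612a9b2695a41c96f68520de4d76837024b25e00190ae6d2519ede3ebf5983672c48aefb6c359de15))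
 (.leaf (nat_lit 0x414dc6787970e06825c28a4502893e250432160d2492d16dfa11788a154d24ca3db6a276b61f6f05431de69575af442335e031c6ca728a46a166fae0289a7aaad92f263039aab4463e16c8d6787414cc5d391b2a37735d8ab24330922c050835d4e702b2c04de573450ed44bb11622e57adc4a376d3e436ef080483834643d17e2f1c0d8581e02371ee315984dd818168a982247b0c1a0d3030ac640f5ab0cee7d001ece8803f9d50878411e8f27c429d8fc81399c4e50d23c44786c218f6030c88110a70320188c2572f908bb0e7f3fc8b02300e49a3f32c260f0883104aa4c858ee004837918b266359789c632a0f8d46d250e8ac9f56279c2a474225308e502c1269d45249c4fa038995a901108dd21a0aa719ca5548802e940cb803edd4b299f8a7443597ce601b34120813a2d769b05ae40283))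
) (.node (.leaf (nat_lit 0x185cd101c3d4ccf332bf2226a6e9b0c51270bb60eee713f8321b40270a8337bbd9c6845e2808c1a701789cc57285d584737c2576c98727912a986ba20281163686c23111f4ec5c1b95c40cd6cad12cb025338a0fb3705490287897cd6675f90d3f0c75b1d1c538404460ca6a87c523d2eb6cf8aa60ba5defd792994a2636ae5f2a7483fd84005f0c5b80342b4104d66926068bd7a2898cf087a92067f6b964128f1781d32c83a9e5287a1e2b44a123bacd10103c2c9b07034ae84e4055addce3231b7c826060136083b4ec003a56168b802cb49b50aaa10a1a0a2e42640a0a441a960b6ec6f30cf64f4dbe21706123459845323a9628b0333c181621148141e0981492ae1f9d0721851a28fc2b38a1c103e392d55e1c8523150c41d2451ab8419cc082a07808424b072692e0d4ab4cb4b64902d0cfa))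
 (.leaf (nat_lit 0xc898191c071ce82628cc2e6d273040420338c05e7a700ad74c30a18ce0a1138680266020585cde30904ac810f94180911da2c840d040e95cbb02a2494df2d8b5366827afc540f7732d6e5e3a34ca44957954fc80121a4307c0d919cc761b3d8580c549c590d904a0dee1e1bb95a0b551841f6730510090115295179075015c068a258fd100784b44430a21b35950d432c954da118484a7d3ca3d28ef3a97200130ec10e4932c230729c4391d56dc4a8f99e975a2652c7b7e0d620511a1ac2ae231375726563c1816c429ba1d460323c224295c2fa10847a0a06226719bcf0c276be50a6c4fba57ad72fa9078b0633c4b2fd533e9b04d7211162f34ea9dd86a7c235a8ce64bacb44547431c2fe812da0b0b8197524f5112a120ac871ddac3d3f9b9991179355449a878395a006da7930d280bfd6606))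
))) (.node (.node (.node (.leaf (nat_lit 0x211fb102a30158693e3151ec4642e914fb29af4321619871ccec809bdf8e178bd9df123185d4c607d2b5d2382fae5da9d00201d0ea73ae04ce34fb95e8376b3699eb05a8b056736a88cea2f3e8d4f0823f3604e61812f916b75faedee9c358549ca975b7c64e23d00502071802454713a2b8ca4052c361907343048cff501b614a383291bc67783447e0859094aed94a80a0066848e8984350a248449032210add66b383d112cb2d285e4dc212c562ab4c40926807d94ab7a9b19290288d178f2871b830c679be1507b610a01c795b0b862120620cee1b26a3986520d31c288d5a04c150f239c09e451e41522aa43844963b461401af91136d986a4f3905ab36a1c8fe363b0a4170b51188b8dc69091309a2d35c42fe2411208ee53904c9032c1287c5d0780c729358a180a1d1ea652e5b082bc08e0))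
 (.leaf (nat_lit 0x449bf1061b20c6ba279c0d23260411bd067c199cd0026bb178bf7da11f30335b157ac7003c870e4363a9bafe713b8dce533c05d0f071badc26188c15dab6413695c3641ad102d02db30b0d42bb386ed2658d5730e7a0d1ec5087b08a3077e1a9eafd29c31926232b7094d6188b9622c2d364349c52aa152aa4686d5614209ed42164009912ac22010fc7206805260c4a87522900c9f14e452311d3a134389052fa6bb6daa9f3fa64fa8e510a024763b9e0441f08a607b0a273a4a4ef7bafa124c73c096e6486ae1c05e19980542b69abc5ad167924aa545d9b582c4859bdfe6825ad4ac1c4522d189b139094640030f8e2181d0ec10f166b6194c62fc21663017ac8b2b02e1750a7a21a781486039d4421e3a0812448532b51e3c0ba802aa4441e4e60b0780d2e94080941239118fc049a070152cf3))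
) (.node (.leaf (nat_lit 0x300df1045864c28013bf1ce1754b99d0635db75c0324ebd9581b63a3ca84d28871509064311e2c98114a02ec5c2f9ea33361a4a6347eb09d6ed893e1de1303b6818b03c9c4f02b16b3da8b51a8b060d61bb6c2cba5e2398a7b61a2956df5fadc00fb0a3ccf8e17520402ae399d0e47d172082ae335c389ce90c299ee9e302b5f2287d17c4cf4350885e09058799c231b214349c4f9e972e41c389ca763f3341cbd5b2d1066e598c5b08d7931814753b849aa293f8a99870204307709608ea0c4486c11470b3311cce65521a00a3f250212cd36c890aaa1449314a918041dbcee498199648211194e5e84188db111015928a020a6c3f0f2492da48c8293d0e8608834b09568ac5643c323fd343e1e894ba5c08164b4fe85141544521bc1450302221323907a495e5701b5c041d6516c42dc4ba61a084))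
 (.leaf (nat_lit 0x3b5fe96583f930b47d435a4ce70c05cc9e5f2b11275483260ed568ac610a64d329eb025bb05b2b5522153a8f38b821ed088a8936f7823b0f89551bbdd6c6714159906892f574e36c309fab855235e11072be0ec866a3f196da78b75b67d3a1e180ee3faad7ea9403153e7b63a0908f37cb7d10875042d250959c3164d64a2ed9edc8029d388c56c395eb9749dd1503793219a8e49a0516794ca94e4b65e3a1e8a173ba9069762429bc737b34daeae61b91227e7d9e9505c1e8ecb2652485480232a838586f219a83a4633040626230138a633279b84c1100880c22d0b9103637360a4185d018e4a809040f8bc472b8f09a4a1101c346801190d23012078a2352d8e05014338706456128e8965f22940da5a15108303f0283cb0480f8182627051305c0b178645641359c00812068846c521a18c2c00))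
)) (.node (.node (.leaf (nat_lit 0x258605501994946a1eac4b22c00958cc586eb4048d68387c76095f05c0b095903886b713a9020bb4301c0c97779c6106f248fd80eb3438152b569c083c8e0d83ca8c10aa98f82559921107387bd8f0a109afc8f0b2f22410ff49100723e39251364480c013b044aa9d0ea5512413846863b1846d0693056642f808164e2585054531919cd2ea5714068195e849865135bd09a4127899bd032d418c6b9228111ea34622d5a523d310388a212e078188805922c846aa2145d2e3b96020429f5a2b416b3446ca6a1846ed976b6df41140bd4ec7f7e355b498733483ae149b2e22ce7f089b829360b9c436414486a5b18b5c70622bb31e6743cbc5ee9e86b3d407564ab132ab4d00100336c39d8c0a628a18e2f4220df6af10ba0c105063e1cadf791ec34bc3baa9d27071bc1fb0e7cad8dce44fae8fc3a))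
 (.leaf (nat_lit 0x3e0e30258bd20cff4d26d98b54eae1db04672e92a8d483b148c471359a6c761a5deabb759fda2be49b51808c5a1d1d2d873aa152f777a11588a6fa799ea76cb798482429dcf88357b48f67255320fc8051b9a1f03893f1d4c67236e1705802d9c311874415b0d55bc122f36e26192fd7cb9510bd50b755cca599cd24b0432596ea6703691e9c45b05a0783b21d1294719d6110c83b557efe8527e02b95132cf2fb773a1e509409e8fa8e78b35aeb27d3d94ac55026578642599816351504c283b2a9341c2d211bcd21c118f8622419040101d1306018452996cd06a2218cdc60311689e561e8e82a49009383c40010105859288e48c27068d8665d36148682e368a0e047108686e300501c06050c894402b04818364c2c1acbe481f90ca8612807cca4a078445267178e0243c2b904b85e1105c2c00))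
) (.leaf (nat_lit 0x1bc8110762b1ccfd32a99c0a3889a5ff0113419da604e919ea7074a00364d45bc618a83705582186e97a08515c1903233849853c3c47908c4e72717cce22693699e71128d53449158b0ac1e58030403d2e25192846429deec435baded127c8c9e8fa7443850c2840c5a8ce3c214b4d904b60f6ba7f271bebd0b28470de5ba8a14a0552260a9f20a1cea1d4932d987d2b809e4f3003c11ab962b89ca7e6ab400ac7598d85ebc0202994e4281e902833ba64ecaf6b8a55c54602404e660e112050b7798cd03a3611e1a3b5205c10961f0384859118fcaafc7c2fa1ead352a4a66d6b0dd6aa570aac8a4f4da288707688052a7c803a930481681c96345d94826d33c97494db1802c208c26050e65849844060610a1872c35f869f68e7731923035b1fdb87207ac454b406a20e82e4133564120fa5cb6e3))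
))) (.node (.node (.node (.node (.leaf (nat_lit 0x1387a552097cc436018a53c0b26b30d8c20a3744c6a81990ae563090805078402612ae3490c405b448ee0cd0548059423583fca6306c408ccce76ad0e2500cb8e1c9f05270d6a63b2a9fc8d7d3d02abd18b1cdae573930c0cd5ba295ee61926dbe335dc4854825f0e173103d06986e9632103f1132c153a7d4ba483a934c035a85d1aa91aceb58b5c50454729de6777a9fc5cde7409dd4ee42b85f0e4791ed10e062ae9eed950b555900689d1407e7db11e0fc409f0005c4a19c72400f0ea024a064107c861612cde5903840903c28848081b372cd205e3185c565227ae1de2d5e061f20523968b0242236c1cd2112895021859c868492323db40686ad6148b1795182c83aafc383f4b255328786094229a099e21ecb519a19eb2040dda6c07b058e09107a9556fd39bc55adc40324f283462d9d8e2))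
 (.leaf (nat_lit 0xec880f7f29cca8e6a3f2104a5f3b963002e9aa16964c43cf61b0a8f0e01d2322d1a1a46268a211301249eab1c8b450051928c1013488401c17341d0a4ac26c41126263a79210430c15db0d4e91cdef86014d0ea0280c582767babd8ab72a1718cc4049f0f22e5abd5ccff872c168c26caec44a2763c0bce44cbe5e22965ad97e781a168e4ad1bbce18d267405c2e875b6d02f25cacdb8d57b21564fa0044818185d0cd1e16372017075418bdc6bc3bb21fa2c4233dcaa1209144064240f936012610d0c5b138347424058fc7b063324cd902522a4aaa6019598688689b52e30714260e6b49294fe582c87da6ea6ec4606d768335ac1c20108280a01019544e0c9c4d28a7388c96040f0853edf132a06a670398d2a3885094f47e159cc242a4e3a57a576d33194de1b3d1287d2fb815cfb6c209dec9))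
) (.node (.leaf (nat_lit 0x41a05107f432020085c3e230886c11ff1282c260f0081c29208b5627ca24d35bf1d2c75d1154c8d361809cc3710ed509d3798ca6c47a10914a934be1ceb6583699c3d4d24d10566a3307c5b6b2b87e4b5ab6172f3718f08ca738189f2e66290554fd7432122c236a1c94576ba615e942d3651c9c2a1b8c2f572121569e35319eead4797d76fb292cdaa392eb3568db67a5d92bc7d280a0f27b11dca996e170161918830fc840504c461a0c0a044763b8bc24093c8b86cec6eaf4884050930ccbe76b7d3664602e1c03a523a9245924ac50cd14ab4caaa54499582f02799dbca36932da0f170afd18b721bacd0ef4b16194a22f3b9641c008d4e27b130c808203c020568212034041513850fe2d039cc1c1e3a0c0541b1c05900340b9f0f43340844ea290780c3a2c028943e723e8dd0a83108400d0e))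
 (.leaf (nat_lit 0x238f2873c2196c3f48c3c788808a941a994c03d8a122535d8073072c0007259a3c0a963eb0988d6649dd02f6049f2168a462f168978480c5c547911d40db3a3c40ebe5205c607a56ba068fa293358cee7d9755d01492c57a3a5122618166aae4cb051c9620f00283a97e298414c3e4c8190d6a2b41b48eaa34a305fa08643644a4b68abc0c5c6e34db082080bc6f0d109b52acb24809a05a8513cae5933bc176b775b84becf42bbc662c6f3fd70e02ab2a242a34394bca845b51207b531d836135608832a755a4c14c31dc3816c73faa5f82836120345100a35423d79bf882452227cd69a06368487e188f954700e3e4410602118b6f5422784e9d26a71ba1581051c861881a9c4710c398de8016b9df0e911bdc6cec71b3081045d1a4ac1d0f3b46ace7a0c84cdf4d9909c63301b885113119870b2))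
)) (.node (.node (.leaf (nat_lit 0x3d61910241861d09283d9f68e4e2f08e192fbe91ea05d95208fe88c08a2627e284ccdd201a21f0b7a11520c15228a250579ae93a6560385fe007eb797a561eb6926db2c3292c116b92db8736cac1aa2c43b5876e7361a956ee1c05186aa53319de69713996ec23e170ec231825c06b4171f6110d2318d3e67262fe1503488e94b008094d12e05c9287e390fa2128ae2bac8824e5490c2e6d62b9514cd0304962ed12331a3062cb2d2a9b27ba8b6862a8056a98680090470639bdc86e7885500a7543a518347193558c975b10ba1311015662567a04eef74f0a036270c21066f21b028f26b2122cbc3c56ba02cc84c8bc0e520d1e812ec4d0d5a4647c1ec5a7f6a074627141a141c44782e1a60467124b4b6491e010f90e181be3246a8d7c26100787c0b07840420c148dce8af6c1f81a2b151c8eb07))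
 (.leaf (nat_lit 0x26c3a9e7f068f63b498815eaa20bb8c403712814ee6449d888ab30234fee13a8f872433533934ed4933144967fc44e8f8109c84c23083953aa3429552e012283c9ef02dc008cdc68ac596d0041f0fc1f1200920be6327df30d66c0d0d0b53002100b4505d52a44a3f14ab94441a0e91411b558c9110a5e45d5a265a905690f4b80c141dc8e093e84462f32ba1cca0d17364d88e1e439f4b03cba184c52535d2aad2cba96a0e6a8dcb5016db616d0f29848f0fd1fb59642d46055bee47ba70bc40322de08ca138503080211c574041c199425619019bc8b883a4904e6e9e976e72630d820a2686cc2f5718cc6c0538204a0c75e424321e760a8d1025c3bd7f0a0e18ce63a69b81e86e67bac92580b04c6a833489458f159a10a407541bd1e5f2a1aca2bd6d43224347d8bd90c0620ac96305719dec98))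
) (.node (.leaf (nat_lit 0xb07a550f3b4e2400e8904602062553a7d130d5980e0a006084937939a0eb18170c267809a8ac3a1b0255c582f968ccff6cad184658394c9a4b6b11cae1b71b691ef4231b8a2d512a7026127aaf462f3438656eef700c96a681bb940ccf158a8c6e619b009ede173b106841c0602cba3e3f4c9026a2a5b1112196c7c424b9047e3b8338a0a6c06a854c8d1402950aa5611546df73981d42768be1141c559f8a1127b320a90935c3e1c52801b5ef0a8831586c4383c9f6966537420ce2c8a5b6054a01c721f6922560b13100c2a763c288082248044ee2d5c215961739209c208401d4e6204f218889205a9130934d1fd3e9b3a084f64a59bea185e5dac97e2f60b2502bc6e0d173082ec0c909963bf94e881e35d1cd366afa1aee57c2c98e878be5167a07b915a00783f18c8c749e540a50d2456c69))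
 (.leaf (nat_lit 0x1c95cb165b4dd4744ab01b6735b2c96a82419e122865fae200926a391bcd06ea4d9c8157c113ab779b3172893b21dd6976b40d86715dacd1a8e612d0eedf3f3a19af667a6516943eb9602bc549e950c84521136ee42bb2169669371c2983da8992f83faf9187c4828d4af9402aceaad779e5430883449aed9654320ad583ae96102623d110c75eb81cf0a6d27d8afb6c23da2f07e26982ed5243d8cf186bf538a7733c93ce271c261cfe7fbd622a07bba620a6562a9f4550f8c8b05a028109401170a4722c068a8163a098503c63158182c0c2901c244407890102d278d0200e1b8842e352d9309202288c096531f99c5e682c844384d208d8121d3500cbc22138f84c1a2386c30561e940c25735908d25f050649c6531190ba66228ec2a31101c0c03820118b86d129bc9043141b04633371507800))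
))) (.node (.node (.node (.leaf (nat_lit 0x37e231055aaa088051be5cc9b54b9df10d72bb5deee4f3dd50a179a7215057f295589f7dbc9d8e480c0204f170ba9c6de8342606f074b89d6dd893a1c0994ab6926cc3f1f4fed165b3da8cd69329a0d869b3918bc5d235867b62a2916c05fadd08c844b1cf4b85f20d0cb43a9c8e87157a0944f587c3a0efd50299ec9d85ab5f8a77a3fd48fa84269b8974c259b6946ca15228f481f18cc960b0976763cad524bd5b2b9030c6ab5dac8e622e50e733ba2166b13c2c96070201b882691c10cd844319844e6033908cc64131783a3e2d8843c371b080aa1b0a13c381a291386632060185a4623920506835188da6f1217046181d85c206b2c15c6a16269301401020349207158a454453297c443f1e894b4560f964ba512a140323c1d0d02a53088482639078385c4b010c4060516128102f0482c6000))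
 (.leaf (nat_lit 0x1bcd02f2e36cbe30288fdcef60b99c905214186108f78814b22c11a14b46e67ad45a3708268ac2530060bc497b9186af431ae15a1369a002ae021070640e35155df11123b52d043499080a3813ad3a441d09d66d81b08928da063e4564e04b8c400b4201cf06b458f6029e6a29836dd542a5aaca1c885ca5b41b2c04388503c0c730fb917e740b1612ea255adc86ea0a2842429669d9320a5727cf47d43105d8ce1f098e22a0ea553675021f998d03f9c9249c00a35be4b89175fa626cb261a54368cd8270298d1770c7e311eb0b23c3cca3b5230220b07d43894791e3a18e193630a122e632c82250503ed224c83c15dcd75e3151c087fbe0cc3174b21a4e66b2409abe832b14edc5d3c1a24f70ac48ade3e4011857579dd04b65ca21021a5a26006f243bf9550379a4c00bd71229860d3da95121e))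
) (.node (.leaf (nat_lit 0x44a231087c3a1b0c85c2a130883c1a0b0481c0a03007fbf9fafc7dbe9f2f87bbd9eaf479bc9e2f077bb9daec75ba9d2e873b99cae471b89c2e06fb79badc6db69b2d86bb59aad469b49a2d067b399acc65b2992c863b198ac461b0982c05faf97abc5dae972b85bad96ab459ac962b057ab95aac55aa952a853a994aa451a8942a04fa793a9c4da6932984ba592a9449a49229047a391a8c45a29128843a190a8441a0902803f9f8fa7c3d9e8f2783b9d8ea74399c8e270379b8da6c359a8d26833998ca6431988c2602f978ba5c2d968b2582b958aa5429948a250279389a4c259289248239188a442190882401f8f87a3c1d8e872381b8d86a34198c86230178b85a2c158a85228138984a241188842200f8783a1c0d86832180b8582a14098482210078381a0c058281208038180a04018080200))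
 (.leaf (nat_lit 0x1f16ad001304e21076ac4588319215e831181e104c23b36536a31d019a2a64393c8c0f36c1d2a97009a4fc98093a92cef76399870f6e3d952726b1a86e3b0e02030733405d22fd0708d3a2e481e580fc7c04d540312a85bca2328e03a26069f43e660da9ddc7f79a90f6190885050807a8d10c948315856592e32caa1e6616cb50469b69f24a6a26896e728830162d37b6cc8200219dae3d693746c05310d556a52289c8e3e1fc2cc641889608021241c126a8221b044ff3aa216ee059315728d15025cad55f3dd90005fad11eba62318e8535db2508893d2f5e05071205f4eb0a8ccee49272be10d8572ce24ce5c2c05eca718a58f00451515a434e3c9401646441581a70a39f70a80b34726045c3604cf292da1c922bc24bcfe6fc0d326b1e130840a82a7cbee978c31789e03934dc5d30b91d024))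
)) (.node (.node (.leaf (nat_lit 0x1856da1c094b0833486c48ef0f1706c371634060673ebd8150a021cca85752870fc751786586bc0098d9ac5411390e4b1f0fc0ec83ca515c86250316a161503c42030c008f46d278b8821706ac87409291c9f6116e27090aa2308d565b5fc1cec134aa651eb454940861f3e051ca97238417ad735888b2317ea98a2cc36211f2a859b59b07880bc8685f133a8520e2d308dcd53fbd1f4f3878f5b6a2141a914880d0e522b65c8f0169f872408ac63bab51d034694d307068a04805660b8040df16b2dcee624b3da70938b01bc272f0cd6e3202a8caaa165199ee8030a59b3040e9a1dcec1abc5c7126eb48ded4321950af588bb5d68b260215eba49c35409b4610a00741da2576e9832c0f660493109b0b5c2f9d0fe7e43134ac8131c00ce78055c8e188388c45d7fa9d490558911f0c94ea7a1012))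
 (.leaf (nat_lit 0x961264793fda26d77a8e223e2e2a8d30a87a99eed06c25c66033297518bd49178be3c283ac4e0d78960147a3586d486620328923a210f460205099c90b22a280aeac23be8129c52becfa99702212c8f030fc54f0228383a26511b84238079fc50682c808201c0f1f0ead5568dc24234a9197ce25bc15fd1081a79dc6c6f94882551dc089d084322a00b480b358b0d83aa49ec6301a91aea4dbb4b69872aac0e150b0443e4c47224c2290a111c21a298e4e8010bafd3ede74b11a4f553acdc62b3835c6ca86092cac7137b4daccf43b20f2f66ca51b48518bb0305a41a69e8247eb70fd0b892bd84c36a41a08e7730021cf8663e56a0540c3032341a810ee22040b0e62f401e0264d6eb1dd0bc582ed80932522d5c7b722c4c4b8168c816515cb245cb639211e6ba482759c827e32cc6916d830ec43))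
) (.leaf (nat_lit 0x4460f10878020d0e8442a030089409ff0982c36090b81bf9e8fc7ebcd42a452bd9f4fb7aa888c4533994cc48239a13e9d70375bca04e384c4632017cc2d76cb69ac956ab6db8961f8f4b2584a24d96ca2b15d4ea8563c1d8ad78bacd66f38110dce3743a5c8422f269a6d24c968bace4933d229060af5808f472fca2531d140a8b95d22576bc262210eb15912896ae580e588c764325183c45ae09ab6599243e80128d44419089cc58340a858f0133ba040808178140ea654aa9d4ed55bb9de6d349b0d44373b89cc9b7290530d068a5cb65c66334aaf97c28deef23237d3c606c3507cc56130d8c3b27a296e4e5aa19688d5f1495e38121f446281309cfe373f21440360f0843a7c0b8502430411d8040117018061c0d9ed087a1906034333ca0c620d078401c713a1d4e40b060ac120a148a85b0c))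
)))))
noncomputable def Tt1 : BT :=
(.node (.node (.node (.node (.node (.node (.leaf (nat_lit 0x415426538345883b8343e12c543834d2496cb0200d41fa8c8a7b7aa81e03578bf880110ec4620288638c2c4430bcd48e25ea49aaed219f53a8e758f5129a5d23014fb5524d56df639095099811d0009546a3cc05d19bf5e46c6915c784d64ba08eff58039305380be16ccf86c38188a6c2d1f827760950266102954e193591836a63e38002963c071ee7e6d22c268838aa462082a3986e6f5f35812791f3213ee1371dd3c15401fd3822133e9d21a119d55a84483380e64261a1aede7732cb051280148267588096eea83c21cf0a4196d23044ba195d0b174489e5c2d2c8aac225abca4c12b03c48327b0c1a03a61b4c0c6d159296aa27232828622f8a442bc63331703981b6dca386e87c900439a6de87a3b2fc3c342f21406595c9a82e2c16b70302f7c98c6c2a413bd9a0b5dacc9c104a048e4ac))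
 (.leaf (nat_lit 0x19a131035ab0c2fb13a862243701a484df75c095300713dc3254863e8364d7f295d2bd6429c90506e9789cc3818e9ea4720399128c553fd770782379de8103b68ae3d12b59103e2c0d8acd049ad12c710332834f3370548c457609870635f9a9e88070ae8f8144d84c02ce3f87c54230ea551d0e45b8e02a879299ec5f209ea14a047a7914005b8293209493355c7d67a5c2c844fab51ae455a75cad53f0780690020b1b8bc59a1d28b90c28844123b9d4ec39399c998703631cca6f87afa0c4c33c48da64600ce1a3b523b8ba202483460d36cb44aafc2991038f0193b5f0681a8dcb6f17431588528441546e71fb51b028303a8e8c12534896343113c6259088205a82122c4203c85b09ae2b581e40a5c592195e517cb25fa7b0ba458cb85b1e05e290782cb40c07269302e6db2c4283428096a9c))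
) (.node (.leaf (nat_lit 0x309131020c11cb075113c289181c1578de551888e5079bba0308272a546e3190e9bb068486c2ec5131e9d0650c8f1da8f5c3ad90c16031df45319af548d04a1555c0c430f49405011f4520d1636420d259209ec6973be4a451322a1d45f368a0d8ef7a44a1efd1a170b43612049aedb4192c8c612f37c844050910869f0b29498bf86a0218667832c0c990207cae9565046151131920e038341b9f65b2c084f06f15b6060e0101240e6b788703c3f6d34c6e2f2c8946ab74eb991a9e1da9c9ab9453891c7b7f80176c9481f0ec7257a1d30035a2c4ee6a8706216c3793e1eac66625c5c9b4e401fca00d2e918e11c87526ab72115b8be049c560a642311a80b5aacd0ad6070c4f28b0aab0029267258ea7444021026013bde04ec56951f8e92b0f99a7e0788814cf4d0b426d5118a8e6d13fad8ba67))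
 (.leaf (nat_lit 0x2d99cda6a335b6cf8933168d8572d560848735a03026aacd96d349a65f2fc3fb7d027e45bf9a49a79b1cf0ec56419b90d412fd3ee93aa221895482e990e4741c8e89857c0124be7c325628d70ab606b95c1dde2ab3cb5d0cd161b1506c05443d0ebc7d9ce14fd5ec2dd48e7941588b26322a22966e9d952e67bb4208d976b8ce2ca4a3e9c09c7a2153d08713ad3ae55dbfdcef63ec254cf577c1d1e975bb09e0a53da45188053a6d12a160aa9dca3501e944a46f440f82d1b888b64a1f1ac02350604c9231318bc0e592b9b8ba2905980b44d1c8a8a6581f9b0560a28848a84b171481c3630878ac6f1e88c9c2c2a9a8125c181a4be04220681070088701e0d109306816279147820331183a320f978c410210982a240d9200c38339004a19139040a283219476173680c8668238506618280087400))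
)) (.node (.node (.leaf (nat_lit 0x258605501994946a1eac4b22c00958cc586eb4048d68387c76095f05c0b095903886b713a9020bb4301c0c97779c6106f248fd80eb3438152b569c083c8e0d83ca8c10aa98f82559921107387bd8f0a109afc8f0b2f22410ff49100723e39251364480c013b044aa9d0ea5512413846863b1846d0693056642f808164e2585054531919cd2ea5714068195e849865135bd09a4127899bd032d418c6b9228111ea34622d5a523d310388a212e078188805922c846aa2145d2e3b96020429f5a2b416b3446ca6a1846ed976b6df41140bd4ec7f7e355b498733483ae149b2e22ce7f089b829360b9c436414486a5b18b5c70622bb31e6743cbc5ee9e86b3d407564ab132ab4d00100336c39d8c0a628a18e2f4220df6af10ba0c105063e1cadf791ec34bc3baa9d27071bc1fb0e7cad8dce44fae8fc3a))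
 (.leaf (nat_lit 0x371eca06bbf5790c85c294aa20021d22cb591cd28de5cb061cf57dbe8b82e1c445f8d56c9b4905066bb8ec560fa5ca84755b99ca68231f1769c034012d126db69e61287b59e8242c12986d0318b1deb5822fcc45708b19544568a61fc936500d110d70ae9fe394d92d98822cc0d629027a54be1973b14fa3f32a9a128e20c2143104785d3ae05b944cec2753755d01600ea0ab04fa90044c2022912bd83218d4232dad0cc61181a552e21d90cd83d29bb49c14811540270110bde47912a14fce44ca054e0f67b2500185697868f94196966d3643b0e4e93b88534f0579d4108c5b34808f17438d88053d059468b540acf03c3da4970f71b0dc265d0d074627f373e05ace1f0a8202813824d6d4421bca41b75878640a100cd58604f1082a741ab618e293202c1a0c070704c4d03b7c88495f234e307))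
) (.node (.leaf (nat_lit 0x2398c7705829c87f710a42a143d0a18e1a42234f69e4f9d1ae97599cc5d0e1c80d10123cac162db5caed229848309aaf52828178b408a3c00a264be8f8cd6183c9051182990c3b353f210177f2ad6ec5772fd262209ab80a3d048643ea739274f0814e264faf344b50828b00b7552a13086d989a578bc3031118090af43120820ca41ae954757296c5ae72726df2387bbb46c7e021c418ce0eb8d001e100ca0e87253d92cdc5a97182946c8b0ac246d0199704683988c5d22ad8bec40722879031a2b54853793ed19055eb86044c291b1d4be7890e2092541341a077405958eb3589c882a74885b0f85c1b866f032180383521099beb2859521ed68611c7e3a2c42600a532c05804b7fbf4b26d8534624687793e1a5a0433c4a576f3492ac81f0ada6632ac18de7034924811176178cc377019d4676))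
 (.leaf (nat_lit 0x2a5811045a01ba84193f0c6273798576e04eb99ce17743d98e1b482a142895287190ac47a45868e830ea12c5450ede6143319d487c7d91d846c8394cd27838b680e9309830f20600ab8943f411f448d918358f49f4e29c901a23108d64e531061cf4133e850e2369d840943f02c12360f88cf6bc60c3080ba0b1c0a24d26310a8347ab7866fd32a04e605040ad6035160b82ae37486140b91c188be22179581aaa440f424bd43844963c28114080a3b895ae0318808aebf6f800890455a8e1abe81404a50076baddeee7c3a8e4d34b1d1a8b56d8dcaaf94f26deead84445ca6a670799aec5c3c592b785b84d11216b2d9ee42f1810b0f43255688d8190d323e3f841a0d82da612e8c27c156c496920d62580734564fe85288dcf032319e4ff3aa69669207abc72ca0eb7042296616454d52d174b819))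
))) (.node (.node (.node (.leaf (nat_lit 0x4113903682d19cdf46afde67254c05120075a555d0072a649c3e330d966ff6e30d54ef84940085e7a29d290a6f0e8dc4d48439768c5e11c84638644150f738b69cc2c0d9a40c877638c8cf65d33c268f45a015f1269040944f87b09f30669968cec77c434a4b8489256ad9418c9460c64b005457443e9acbd79048d6265c9e94a1a039dd14fb569d502093e1f9c084560597cd84103564f05b14dd037629e0304b609bce0e912950326d1e0d0622b199e45e080e311fafe66328d43d2c25e0e9b6ec4482a28127926390a3903a764b2dc3ca130aad3a5b2aac50cee8436e0a4476b51967f7133486920fb851c9f00b54fa294c3a8e8482b3d480643142cb824168ed34e7289a00a032297c70a6118282a22139cd40596b974d8c60593042a4688c0408507808cab0070445c601abf0f6f11405c7ec8))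
 (.leaf (nat_lit 0x19cc3105fa7e0efa0bb15c10886939caed29aa602434491978487dc30a21450bc500c737059ec50601a2081b75948325f739020a28719088f09348ccde116db6994ae1781d321e180b00c493e8f47e0c2e36544bd7a246147a0e2e182ef878e990fd522a878c2518490c953c2c82094013611c9c55aea04840aa2ca8bb5bb25eea0872753cac1d9d9aa393a25968b0118258c90002b51a7c53229fe883aad40aa84192c4af5098299e8c0c310e6b33ba690e973c838e2386ebcc986335911beee89198bc323618a2241741943ecb2d8a494372b880aaa581ba9f2f027c184c6d41165a0fc70bf8346a80388c0e6668059cb94daf930702c0d46c346f19008d36b88448d215834b4e413935022d498885c562eb503ac376115d27b85bc94ef83fad9b8b1079c854cc059f924036b3450a31042bc7c8f))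
) (.node (.leaf (nat_lit 0x185cd101c3d4ccf332bf2226a6e9b0c51270bb60eee713f8321b40270a8337bbd9c6845e2808c1a701789cc57285d584737c2576c98727912a986ba20281163686c23111f4ec5c1b95c40cd6cad12cb025338a0fb3705490287897cd6675f90d3f0c75b1d1c538404460ca6a87c523d2eb6cf8aa60ba5defd792994a2636ae5f2a7483fd84005f0c5b80342b4104d66926068bd7a2898cf087a92067f6b964128f1781d32c83a9e5287a1e2b44a123bacd10103c2c9b07034ae84e4055addce3231b7c826060136083b4ec003a56168b802cb49b50aaa10a1a0a2e42640a0a441a960b6ec6f30cf64f4dbe21706123459845323a9628b0333c181621148141e0981492ae1f9d0721851a28fc2b38a1c103e392d55e1c8523150c41d2451ab8419cc082a07808424b072692e0d4ab4cb4b64902d0cfa))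
 (.leaf (nat_lit 0x3e1e4c4463dde10f7fc01d68d3e2f958a76444146ad76325a2c67da0d5ee97225deac33cb3e0ab66f1dcf70b5422a24d871214fd0e6a211faea7435984dc553b8fedf5a3bd569e81b49c27288be5cae64c3cd34d363ae8e9025d9c562a448ae180d97a3f16b064ec3536808225520ed672a614f150204f50959add64bd4921d1cd562b8d4cf65cbf932754e2894ad07d40510c150a3d170c84380f0bf4b22598e749a09b6d75e334fa73582b994866d1d9969f83a51ba5d321c05433290604e45068d01c4d368c4506034968dc1d0d0f89e471b9a84c680e1087613040c8de533304088501283ca83c0b1ac12652197836490a8e88c2e108d8d84b1a82c5a142d88cc4242a98c180a2f8acb0031c170ae2909104444c028bc6056010fca2192401822041c9000e20271843c593387c7a4a160042e00))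
)) (.node (.node (.leaf (nat_lit 0x110760f459ec641a103f0c0015f09c104c3a05d362d058714e1b64a35420528bf8788e462688c138412474481ca58501d32991621122838206a3417486c744c409a9d56279204030908df0231051daa43314c08e40b1e1d82278a48d65e5f8795af0148d0fe1f2ca01bab84fb380e261ab84ec1860b116ea005299ee092b220a8313e00806c61806574715813976e21988d027a5c9d4e62f1c214548474b807aa2863acdc5047bd5feb312b55c69c3baf5e82c7d328be7020a45a8a355a1a164a801487c3f770349e244c16c19066024d530d7c1b0aaf93932d4ab669ba842377437cc6c557b0cf2065a8b9a26d7339d147e15b35050f824148e992d161510179b48cf0388b6d2a872e25e1d09612a9b2695a41c96f68520de4d76837024b25e00190ae6d2519ede3ebf5983672c48aefb6c359de15))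
 (.leaf (nat_lit 0x31158a04d38dfa8764b3e1cb04ec15b30c6a9dd1eba7fbd5467b3f299e2f074a2d4e9250bdcf2d156bf1488c441d1e4c574441c08184b88f88a7dc011cec3c2a20cd86a234e2c75b43df102642f508eb60359830a6ba15ceaf72422169139b192ef65cb796eb25da0d70f459ad562c2892b8eaaa404453e997f279569886a5926e63ebe9129c70b49b4ed672412b0179ad196a24a1d994dc5e3960ecc8236d7c7a69ba986a53fb7d529b77335f28668375de82392fe06701e094c0280505484081f914765d0b194323304950626f1a9241c1334934a618010bc0a563417ca02e2d1449622231003a111195cc247061b87a5c310e458270e1ac1a0f36930c80b158c8683a290a860200d10c7c441306c6e6c0081ccc21240e0825e0b818061f02078485916840b667148d89c4f0918c9458351542800))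
) (.leaf (nat_lit 0x1be2510359ba050e35144d860271a4a70126984c6522f951e8f763ba5d8eb78be5f4e3640d1f8c46eaf9c0f6740c9eaf876bbd70c97e8cd76e760309ccb367369b035188d85e376a358602b6db3c5a2c5aac15aa85605438280d8994ca94589c32904f23c309d0b84c3c071102c122307031c8fb5faf5bef3790e186e2752e58ac65d385cabc5bb556c2a14b355ccc5a0b91a9c4f8682c8e55851140a090050a803c1c4f20040a0d047a3e1ecfe7e3b9d4e6743b1c8fb0f88c30c86638178cf0883424da65823fe1a683142cba5924968ac4a25970aa48211108c3c1d1008e3b1e8f87efe81c28a100264149f072d960ae452190472c169b49b2a75228c4a204d0412c941201410f077379aed06537162d157b2d64a152a3154a24da4540894c81110920787c1a950e844429749a193087018080c84))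
))) (.node (.node (.node (.node (.leaf (nat_lit 0x44a231087c3a1b0c85c2a130883c1a0b0481c0a03007fbf9fafc7dbe9f2f87bbd9eaf479bc9e2f077bb9daec75ba9d2e873b99cae471b89c2e06fb79badc6db69b2d86bb59aad469b49a2d067b399acc65b2992c863b198ac461b0982c05faf97abc5dae972b85bad96ab459ac962b057ab95aac55aa952a853a994aa451a8942a04fa793a9c4da6932984ba592a9449a49229047a391a8c45a29128843a190a8441a0902803f9f8fa7c3d9e8f2783b9d8ea74399c8e270379b8da6c359a8d26833998ca6431988c2602f978ba5c2d968b2582b958aa5429948a250279389a4c259289248239188a442190882401f8f87a3c1d8e872381b8d86a34198c86230178b85a2c158a85228138984a241188842200f8783a1c0d86832180b8582a14098482210078381a0c058281208038180a04018080200))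
 (.leaf (nat_lit 0x61c9101c1908a6a7a9218c6e0a8d028503128850f42f9444eec4d980e0de853dd6e5e1939d5663502e82cf672a0216f8463108504292e13aad48aed92560e83c542116a143c836e0b8e62f4b9693405098e4d26d2790038ef608cca87c233f42e3b7f8e8de47478904a022e08c580e2584222ea50931e0ee893c5f8e17d9857f0222415d70886160b635653543e5d58b6ccc6521bb4cf0787a90a659180459ea3030216b0065b4ce8e060435a2372a9247e954b36564c379105d27b7cb8cf49c0d2e508bc539351aa84f439980a020d8447605acceea6132a8364e0c8f18490018c424fe711adbaf34fc0d8e8e3fb5c526c5ebe87a8b3f2bce4e64532056751f1c50e093ca5018df003a19a814935126b6672655ca562c197d09562a602896808002576d1f5040d69219b0d64c221684a5801cf068))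
) (.node (.leaf (nat_lit 0x41c811060864cebd26295c03a60375bc665241a126544a8578517ea3c90622315174907aa8214a2869a208fe7fc2d3e5f319848e454e2760b0188b86041125b68589439ac10e562cb2996962b8f47e932c254a0fa7a245ecb97e2ed7f1287c2000fb29bcd1d038035c94d9442c962ae0fb5878e338200dee90aa2de2b82f231d816541089aac220104a0504125a4071aa4868c7643114ef035ba1d67840b4c730e6e36daa6e4d0899ec9722b45eb33b84d325a5b1759c38272a82ee7530edcc4f77bb56e9b36050d2414510c04061200d0cd13e804aac5611b5867c772a5c4ea410c1a01c1986cf664518984edf15880e27a192f81aab2e08d98c6729a8ecb5090b8b6b466a612e1830278ea2d06028421e070f83af97b8a1081a293c91af8189e5061007abd0a36059f812296c0dc547f3a1c9a90c))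
 (.leaf (nat_lit 0xd1e47770bede06e1540d5a2163230fee46e0688a5d5b3e17a337d3f5bc817417d08bc7ab584cd25ca14f64d1100d90253d311ae36541e4623c53acc31121c441e2a577950d8272f3b17d0b359c0dac3323e46b0c4020948075d9cd70153102120f417b1c96040599898fc319645a1c69920aeac71001409c67a29fe75493313cd8551f8150e57b7e22d166981fd0a7b8f994ba4f88d26ce21221350d8126c56196eb04dee3734254cb038a51c0406d39e0c202715916eb0b3cd647c238b91c29513241c722820c500d091686eea771609e6a879481e530887c28db58a4426105f9a088e56ac15681d4c2652e8d21c0156953a0e4b6c232bd8362c3c0158017338c064511d128487d04a1e02b7629a5a0a32e105a8894eb651eae010f4187630c1ddacb2a8052ca1032a47e49234203d045aa1876e9))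
)) (.node (.node (.leaf (nat_lit 0x1856da1c094b0833486c48ef0f1706c371634060673ebd8150a021cca85752870fc751786586bc0098d9ac5411390e4b1f0fc0ec83ca515c86250316a161503c42030c008f46d278b8821706ac87409291c9f6116e27090aa2308d565b5fc1cec134aa651eb454940861f3e051ca97238417ad735888b2317ea98a2cc36211f2a859b59b07880bc8685f133a8520e2d308dcd53fbd1f4f3878f5b6a2141a914880d0e522b65c8f0169f872408ac63bab51d034694d307068a04805660b8040df16b2dcee624b3da70938b01bc272f0cd6e3202a8caaa165199ee8030a59b3040e9a1dcec1abc5c7126eb48ded4321950af588bb5d68b260215eba49c35409b4610a00741da2576e9832c0f660493109b0b5c2f9d0fe7e43134ac8131c00ce78055c8e188388c45d7fa9d490558911f0c94ea7a1012))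
 (.leaf (nat_lit 0x429d80f68b714a87278f9870b55bf9e50f229c0a90046160eacb3f1ccb2f069ad5069a6a8a856920e3a9e2496218008b97cafd5a5a59b902c8b35a34a2957eb6800e9662e99f12832f5bf0264430c66e80aa164886b8859aaf2db190cc51f930141248a64723c2915e1afb25a2a0abc81c3810811b9fdf831588b4027b5f039a872110d1921322349ace17c30158907993530113c8b8ba0d250691c935a1b1702f6c27d5c781ab3908741482d04b03bb6c0ee80614d8ed06089536382b1a1eea3532856e6423289ec5e0c0e9bcef88bfc80694e4122006501b4b89721920a0415541e12243e2583a6513a9cd41b73199ea03770ec8e1e703d1c6023d42194e74a394ce8f27108be8519054e2ed400b04cdd4e9bdd6201807cec100b8240a286c88cfaa42a8cdc4fa310d976890caa5843d0a278c2b6))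
) (.node (.leaf (nat_lit 0x3e9211051291eaff60b191f0f553d1dabd77801faa6839f0c4a74f11c68dd470f113031305d926a5e06de6b980be5766f63864d8be29aa5cd0e421399003691dc7adb082513078598b0ec1258358f28218ad0ca5f75bb851083d19ca0e3793d9ca3384b88db1262a15ae7d59171a0d918362169d3d85150b81d24431042893d1a3b7c3020c8a61ac41c244321d984b38ad4c8de82a8dd4b76239cd2970120c94e8148d8124d3902c1841191480a5a2a8345cd4578ad5c1586384908056a953efe372708cbf7499958fc869512c113f965b87511a21b4a088bc5e0431c3edc0f765095aa8c2011536ec55c0838ba4d1cd2a6850c29a21a1101d9c5e309ac3e992e881025717b346e444598c7204498205a131f2d802e40b09c844c3818200df490843a5807b2c3c35699d07e5667828922a0316cfcc2))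
 (.leaf (nat_lit 0x2a8f275451f50ea662a60fcac51aad4af273281a2fd3d9f10c8f4a1c568bc3bb60f49e77a09109057b2118c674c34ecda4ca0da4fa3fa01829a6e3e5eec284a5d509354b9d48fb8730d22f86bbd5b2ee87a9d7acc4e2252a9f72b7d1b0a7fae936d071a89dafe7841e0ade7141a20a179c456073591c99ecd421d16a8b5b2f95a784b205e28564a39acc07431216d47b3f202b749381c2b96ab2dd89d754018eca81c11e8b35db6da6b85fb395d026ebad630c84449c8120500c1806118cc423c1f060381a2e06c4a11100c4320d239b0766d120a0e0022015c8626278747046209a48a09158382e54040886e0f1f8b84e010b180ca10258d8904e021b828421e99ca0642d988cc07178b41652028c09413379746839150b03c29249642a5e2f954744d29930c6583087c6a512b168d66a19110d000))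
))) (.node (.node (.node (.leaf (nat_lit 0x2a98f1062b7d5906783f9e68d4faea0ae3712f4007b44a861a1c362a5ee330dbe4ce4e73bba1e3b7d0a11ec161318ccf8372013c648205148907a989e8206c36818b42da090c8318b642276691c4feca4d0f546e63490d564f1c3948cfd531f20f111310136ff51344ea7d6826004950eb317cc0789850912192fdf85364c20a244813ad70dd0a925a874149e160ce1aac4c0e080ba96e65763853a0165b5420ef2e08c486f180b5b617341a86eb52a8792c0e2ca1458706442434fb619e9783c87065225074909508c81a9c1a99052bd10d749810eea5453ca144150271bc452b9f90e6b7422c98c447135c90c5b2055d000b2e524483c8d8966d238600c121f0844a946e00d2e521a2ec942f03b4cba1305acc0a547b09cc65e56c2c745f15b347e0907ac85ccf15160e4086b088b4560f8e4e6ed))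
 (.leaf (nat_lit 0x3e9d3103612120fe31435549e4fb1c346e1e2f21d0363139f8dd52a98de3477c4470f1359b5ccbe7e8990912793a182a7403d15a5e7b9e97200643c1c65911368fe791035d9a36690c504d86e2cd282f671d4d50f0d85d52ee338a1daf380b098a46512fe10c972929b6122e26052760826616c33187150703239e0c7b7c181be9b45861c90a5c0b47c0b10b316c9a022bc885155904a44f822451a862d8310af61b9e1a0ec15b4cfcea1928c48d4078796a726596906667a95148198497df6e1562f5c4338605538bb503fc062303975605744328ef074711cc24329a3ca089088f5684022c08984d4523084ba4992c143b0a41472e06b09502653e3ac607d4b07c58d56cac812276f311a2353995810714933c54c0348e942684ec016e162c0fc020e2a8b81a13028192eb143a543a49011d15cf9))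
) (.node (.leaf (nat_lit 0x37e231055aaa088051be5cc9b54b9df10d72bb5deee4f3dd50a179a7215057f295589f7dbc9d8e480c0204f170ba9c6de8342606f074b89d6dd893a1c0994ab6926cc3f1f4fed165b3da8cd69329a0d869b3918bc5d235867b62a2916c05fadd08c844b1cf4b85f20d0cb43a9c8e87157a0944f587c3a0efd50299ec9d85ab5f8a77a3fd48fa84269b8974c259b6946ca15228f481f18cc960b0976763cad524bd5b2b9030c6ab5dac8e622e50e733ba2166b13c2c96070201b882691c10cd844319844e6033908cc64131783a3e2d8843c371b080aa1b0a13c381a291386632060185a4623920506835188da6f1217046181d85c206b2c15c6a16269301401020349207158a454453297c443f1e894b4560f964ba512a140323c1d0d02a53088482639078385c4b010c4060516128102f0482c6000))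
 (.leaf (nat_lit 0x1009d101c2f4d2aa2186dda4f6fbbc4c6c1999ccc640a071390a71ae8a85f28bf93ebc748548c1830980c648311791eff80c089a3c482e0850437a7a1a0a2bb69982c3ab2808592e08c3c2d1e92c92071f0308af57e859d8a278b855711381a100ac82aa1184722094b03508874429507348a0f435a1224fa632fdeee535069f28d6414e06c729048622a1496c6cb46c041e4fb79bc0682887badf0833f8dc730c1133d350e17acd9ce456b25aadc3bad8265a4c975b6a6838656ee060931ba417339d361784a2a0c3a448ec04011580c0c2038a18aaa16f1954a7b13b0148a33eb4448c57130cf46d193097ca9680c1047c753b81a8b2b2c128a04ec2ce6cb43a487e934b01410b9842ececcd5722012b55792816f67e310008e8029d22e86ba04fc2e0787d0ad6591e162976cb5130793a1c9a66e))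
)) (.node (.node (.leaf (nat_lit 0x1009d101c2f4d2aa2186dda4f6fbbc4c6c1999ccc640a071390a71ae8a85f28bf93ebc748548c1830980c648311791eff80c089a3c482e0850437a7a1a0a2bb69982c3ab2808592e08c3c2d1e92c92071f0308af57e859d8a278b855711381a100ac82aa1184722094b03508874429507348a0f435a1224fa632fdeee535069f28d6414e06c729048622a1496c6cb46c041e4fb79bc0682887badf0833f8dc730c1133d350e17acd9ce456b25aadc3bad8265a4c975b6a6838656ee060931ba417339d361784a2a0c3a448ec04011580c0c2038a18aaa16f1954a7b13b0148a33eb4448c57130cf46d193097ca9680c1047c753b81a8b2b2c128a04ec2ce6cb43a487e934b01410b9842ececcd5722012b55792816f67e310008e8029d22e86ba04fc2e0787d0ad6591e162976cb5130793a1c9a66e))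
 (.leaf (nat_lit 0x3f5007708b6d202c5137178c979c31c2f5313e8dc34238892a784103134a43ca0cfad91a884ea08551ed582519bc128b8002a1f08567ba04cc874b79c62476b69810d6599c6ef1609014a70779bdf311763981c4b582616cb26bc150ebd188f0aecc61358b4ff791661e6c2e13ccb0185c4820073fa4d8eca02a64088946075027267279d63653a585a447706ccd046e979623d5a0a4ba0359c0c9a4a2c3f946d868c1856711034dbe0d492bd0c492ab507cbe6819212734788d229f178a1f67c5d0642ca07a27508ad728602eab7e1a08c3831bda201229b19aa2e22c38beb983944a8760a04c3e150d2edc89c5f920c23947140d47e0e39dc002453107ec55aba94c69851b4c0743d1080ca154879368b193dc4e880502d5c97468a812e21816c023b0790c990284334a43a2730d6e5620c00d6d2))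
) (.leaf (nat_lit 0x40a1b1045ae9c09f26429be608318d704e4539c809b2107218fc002b0a8bb7bbf98f0e48231e2ad84af8de484f42df6e189199fec6373e1491177c0cd888583699ccf5b24d342d6681da63e6508da24b2cb602a9c42311d8e461934d6dd5309d50bd713d08a5f321ccac7105248163515331408060b21ccbc0d1c14ae82f0f1f2f07e8ccc4aa368bcea08578812857410857219719ec307a1c3784c7e020acbaf559b58fefa3cb71a4a71a3c902223b8c44a856b80c6cbf30a3e00c0558ee090880aa488528394dda688290ce8495a8e47e864a96caaa14eadca28d1d1a428ea570043cc544919221751b949e6765818181619104050f4b2d1b68e759a826d46aac4603d2c25c1cc97711d324a6c84564374c17020f60d9f1e65032a8850c23b21cf00907814e42c1720c3a1f3eb4052120696848e9))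
)))) (.node (.node (.node (.node (.node (.leaf (nat_lit 0x414dc6787970e06825c28a4502893e250432160d2492d16dfa11788a154d24ca3db6a276b61f6f05431de69575af442335e031c6ca728a46a166fae0289a7aaad92f263039aab4463e16c8d6787414cc5d391b2a37735d8ab24330922c050835d4e702b2c04de573450ed44bb11622e57adc4a376d3e436ef080483834643d17e2f1c0d8581e02371ee315984dd818168a982247b0c1a0d3030ac640f5ab0cee7d001ece8803f9d50878411e8f27c429d8fc81399c4e50d23c44786c218f6030c88110a70320188c2572f908bb0e7f3fc8b02300e49a3f32c260f0883104aa4c858ee004837918b266359789c632a0f8d46d250e8ac9f56279c2a474225308e502c1269d45249c4fa038995a901108dd21a0aa719ca5548802e940cb803edd4b299f8a7443597ce601b34120813a2d769b05ae40283))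
 (.leaf (nat_lit 0x19cc3105fa7e0efa0bb15c10886939caed29aa602434491978487dc30a21450bc500c737059ec50601a2081b75948325f739020a28719088f09348ccde116db6994ae1781d321e180b00c493e8f47e0c2e36544bd7a246147a0e2e182ef878e990fd522a878c2518490c953c2c82094013611c9c55aea04840aa2ca8bb5bb25eea0872753cac1d9d9aa393a25968b0118258c90002b51a7c53229fe883aad40aa84192c4af5098299e8c0c310e6b33ba690e973c838e2386ebcc986335911beee89198bc323618a2241741943ecb2d8a494372b880aaa581ba9f2f027c184c6d41165a0fc70bf8346a80388c0e6668059cb94daf930702c0d46c346f19008d36b88448d215834b4e413935022d498885c562eb503ac376115d27b85bc94ef83fad9b8b1079c854cc059f924036b3450a31042bc7c8f))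
) (.node (.leaf (nat_lit 0x35858555ab9928e042a599c08679c5fed94eac046095d959de2b8098c48c2250de24c0349a8b23a6d968963029839ba26690d88e6533134be071ebac6af67eb69909076210a8313c3d166137d06444f512c30daa98342c7cbe6a3e1a6d81f82e0511744244ea42ea98f30e7e2b588e953ab02e4e2e41018ed190b43cb8081a0925e20188666102b048c18648bd1e807185546e786980770810278848b7ba68686c87aa0d6672886cdc5232111f21c881c0903c788a18ed04141ce4cc008b968b24aab854b13eb78ae037087d72dc439f0e6d54e204eecd45261a3004ba4dc492001f910cb728196e021ca243aca3a9d9749b579d14058093cd7aea8183586b652bc9aefb3fa388a4f148517e835e0e144040b044a0862d905beee1090c990562aae149107b191aaa3dbf8347a4fa65e0a172230146f))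
 (.leaf (nat_lit 0x37132da2ba7110c868250fc06091d48c048521c4a3e52a55f4b4873ed94fe498d9e6bc37445b30d6b96c22d23817000f73b1fc9104402ae1e794d3e50703281dc34a072bc88e1d57bc1302153a312ea208244cce95d41c46e6660e1043125b45faf461a41dec1123fc06456f1b49e7c4d86212ac1ea7c14e36f9f5b0c51019c18a947a8436a843224844320834787a46a8c9cbd0c9a4810638a98388a13009dcf531319f0c782a78506c76b9dc43388051483b61190f6ce40c319ad567960444a17ad86ecb59afc26967b34e001f1c979645a569c81ed62a15858632c9cdd8b55c8a810ae3581e02491fa2c3c7804a482ce0008ac74db2eb9193127e0b5c22e5d9a9623442c2cd0616a3c5d029473ae10742901488b01ac0908dd181bd80512697ca64c2a994c0155ba744ebe6202c64b87505c1caa))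
)) (.node (.node (.leaf (nat_lit 0x3a5f71078c3559117829618ad00201d0fd523e93ea070bf1bef784c0838332a42a24ef73930d6275eb1108382f9e8cc42642e9146d31aedc49c0cb79e8d16c3699e0769b299a2f128d502732b88d10823f358c04037af9165e60ae1d8e353055bb067fb9936265c880eab02ca490ace04250866162b011e67342fd42eb0b3a9ed005494dcb073e0dc7e7459354fa956c87d46ed80c202e65232253a96659e0544e159c4ac69180195cb7190e8921e2aad40209680085870371b118c72431978f2543d5c834553e21c1a81914bab63c884fed749b70eefe4f0f1f30b3da40c4a769268450f82aaddc284711d22f34c845b64464a8930c30512c6c64268605ab31f2bc62cc0200c165228050b0835a16c1a134b8485c1b288ee084f46904d4c22e219a80e078a40a0c08128721d1ea1cb424589c8ece0))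
 (.leaf (nat_lit 0x44a231087c3a1b0c85c2a130883c1a0b0481c0a03007fbf9fafc7dbe9f2f87bbd9eaf479bc9e2f077bb9daec75ba9d2e873b99cae471b89c2e06fb79badc6db69b2d86bb59aad469b49a2d067b399acc65b2992c863b198ac461b0982c05faf97abc5dae972b85bad96ab459ac962b057ab95aac55aa952a853a994aa451a8942a04fa793a9c4da6932984ba592a9449a49229047a391a8c45a29128843a190a8441a0902803f9f8fa7c3d9e8f2783b9d8ea74399c8e270379b8da6c359a8d26833998ca6431988c2602f978ba5c2d968b2582b958aa5429948a250279389a4c259289248239188a442190882401f8f87a3c1d8e872381b8d86a34198c86230178b85a2c158a85228138984a241188842200f8783a1c0d86832180b8582a14098482210078381a0c058281208038180a04018080200))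
) (.node (.leaf (nat_lit 0x412131045b8dbebc2086dccb7809009a6144939ba5e4f3f9510a6400142427bbda1c8f8629d868c54c0204485d8e954de34c45d6507abfe06ef3311e0e99573699e7143a5166560324c7c961b329a03d2c2d1c8805d235d8182327556635fa6d20f3729b94414350103cce3b1c872cc0e8b0f4e935ab1c019502994a8a13a38a8f25eb88befa21829029204b340e7d2b80c2c9f422e42a1a1c099c275110052ef409a55b8fb44095acad229f0fc733bb54fe2a0907c467073b1d470660c20de5260436163b33c162464613b95ed4248150c4a69170aaf95c0c8a2c9223b4c44f0632c5ac5743c4784c5f0ccca6c15881607b3005c530f69b6496917c1a134b541968b6db1204162c436a90f23f6c35c1ad1590c0ba1c7e3c1fa28750d18c53179e16c740782c1035010c50a21410dc5c114c038b29c))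
 (.leaf (nat_lit 0x1009d101c2f4d2aa2186dda4f6fbbc4c6c1999ccc640a071390a71ae8a85f28bf93ebc748548c1830980c648311791eff80c089a3c482e0850437a7a1a0a2bb69982c3ab2808592e08c3c2d1e92c92071f0308af57e859d8a278b855711381a100ac82aa1184722094b03508874429507348a0f435a1224fa632fdeee535069f28d6414e06c729048622a1496c6cb46c041e4fb79bc0682887badf0833f8dc730c1133d350e17acd9ce456b25aadc3bad8265a4c975b6a6838656ee060931ba417339d361784a2a0c3a448ec04011580c0c2038a18aaa16f1954a7b13b0148a33eb4448c57130cf46d193097ca9680c1047c753b81a8b2b2c128a04ec2ce6cb43a487e934b01410b9842ececcd5722012b55792816f67e310008e8029d22e86ba04fc2e0787d0ad6591e162976cb5130793a1c9a66e))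
))) (.node (.node (.node (.leaf (nat_lit 0x3d101102419d54a9142851e7a5427c84190a31df6915207222f9823bc706260bd8dedd319a1ee9b7a861d2fc5db91dae571bf5bc32702e1f0005d27508241b36928ca0f36da62f3b08d34736ca0906353f1c4db072719215082897d4d0e61b1a046961419d4e26216dae4b1825c16d8012b9dd0d3810178610bbc5569e5009d16a36f8cdd0c03d8800c21029e5267d061d0826c84948983b62c1514861f8290b122b3316ae616b2d9f0b302dcb8cd2a8ada2af6a0b960467d199446e5f8d218a74e2415a157989990f0759f020250207cfe134a9e0ef0f81940d63a22af4a68d1e849101b23a94881a462242cac4c8440e431e2381aec6e0b19c6a7fae4b2b36816862d66aac4545e64b852c22690dc3a753920410fe2a13e0265794017c4d251607c030797472571492564985a21c1201072496ce7))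
 (.leaf (nat_lit 0x29d5b1045978f49b74bdc309c460693ce4212802a805d9217ca5518e8d6e87b3b21700221bd4ca9622a11cfc4eab0da26790d1d7113511d487c143e08ad34903ce4091f0212c223f02cf2134287c4a5d3fa5dba3220c2436e638135867b5086476646f3b8cce27a88102052b1c526031b075c017789482c6031950388a4240956ef2197dc2687db343c07679cce82a1088dbe4c5b900c2e71c0cc280616829ac656a03448ea1f8dc1cc0361a456012a960607d688d45cf95cc21903c23431920046a45210e7840d44fa7fbd128b34cb39109a08370eec144b8dfd0463940c4aa57810ed0a5c2fe1a9f47b94dcc63a8bc724e5e2e9950f3c1693106613cc948768349aeb118b647b017e94d6ab659165b0124ab55b6c52899c9f125ebb60f05659250cae6d2c018292b97058820120d985b25ad02227))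
) (.node (.leaf (nat_lit 0x412131045b8dbebc2086dccb7809009a6144939ba5e4f3f9510a6400142427bbda1c8f8629d868c54c0204485d8e954de34c45d6507abfe06ef3311e0e99573699e7143a5166560324c7c961b329a03d2c2d1c8805d235d8182327556635fa6d20f3729b94414350103cce3b1c872cc0e8b0f4e935ab1c019502994a8a13a38a8f25eb88befa21829029204b340e7d2b80c2c9f422e42a1a1c099c275110052ef409a55b8fb44095acad229f0fc733bb54fe2a0907c467073b1d470660c20de5260436163b33c162464613b95ed4248150c4a69170aaf95c0c8a2c9223b4c44f0632c5ac5743c4784c5f0ccca6c15881607b3005c530f69b6496917c1a134b541968b6db1204162c436a90f23f6c35c1ad1590c0ba1c7e3c1fa28750d18c53179e16c740782c1035010c50a21410dc5c114c038b29c))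
 (.leaf (nat_lit 0x2a5811045a01ba84193f0c6273798576e04eb99ce17743d98e1b482a142895287190ac47a45868e830ea12c5450ede6143319d487c7d91d846c8394cd27838b680e9309830f20600ab8943f411f448d918358f49f4e29c901a23108d64e531061cf4133e850e2369d840943f02c12360f88cf6bc60c3080ba0b1c0a24d26310a8347ab7866fd32a04e605040ad6035160b82ae37486140b91c188be22179581aaa440f424bd43844963c28114080a3b895ae0318808aebf6f800890455a8e1abe81404a50076baddeee7c3a8e4d34b1d1a8b56d8dcaaf94f26deead84445ca6a670799aec5c3c592b785b84d11216b2d9ee42f1810b0f43255688d8190d323e3f841a0d82da612e8c27c156c496920d62580734564fe85288dcf032319e4ff3aa69669207abc72ca0eb7042296616454d52d174b819))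
)) (.node (.node (.leaf (nat_lit 0x198d91087ab180c71dbf20cbe769bdf10d29aa6044452071ea1b79af4a84752bf954fa3711586348393dde48819a8324d73101c21a7489828dd319889c115a369a4d6188f4fe3e2512c48594981c022316a09190c641f1d8a7233fd83045f8e9e8ba44a002abb4d84d2c95442c42071043391ca855bf6030e1e298a2c285b19f27b422293c9f0b9e56c0e4c219b6b00602d928f002355a9145a7570784d2d4069c6e0b008bc0908998a20c2e50eb33b9d4e6723b0e5287084becca693590e22ee8919cc86d308cdbe27711301ad11b974605b1a880aaa175c01eef03438084326c925a6c582bc45052753a0c0e76a0fdb0c451c20e8382c15c6c506f1784ad0408740cca2b07c54f22097dae5c3e8285c2b14b3442f685059c6a05bb90f4e54cb5506b207a5cb4cf049f924055732d5e2f012143c90))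
 (.leaf (nat_lit 0x2bd54e669425470460b21c6c244b660c8738b4128de7fa9e1aee6fa78f2d1792f1fcb449ba5f2f83a9ed30dc66209eee762a8114c38738936e53f2e8ec8c432660ad863b2a06d741a69e0778525cf48848a3616cf6a2f9d11240ac192cb392159c8b5bc0176b55cb4d649259ae16308622b9df1152ab0fada7abe900ed7ea41e71054a9a0e9c3e43d50a45ea892a8f50bd1809680b75acec7b3813aeb861e18ccd5b1d1c8ab3fbed3ee17e211e2db812395aea5f9cdaa702e0f866201b00cae4f06074c431030ec826d27060c83c0692c200421140045e2a8ac944d04024ac3224814b41b2011ccc24131a43246338947a6f328b0741a10828b62d300b8ba29291301e39178a8166c1c08cdc112192038280a0488a371109cc2540b98cd4012c01c880e1a1646a3f181acbe680f058a2130a94c3e00))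
) (.leaf (nat_lit 0x3020f1028ae8c2f534285ceb7204093aed0a1a6083b82aae18540caf17e5362b05fabd48245ec8e3385e030f610e9f6bb70435127c002288f0954a91de111636960ae3992d0eb51836c7e866cad00c954b1f592c74205916c40e2e1e26f0d949508019ab118eb5184c920c418141ccf3a1c4a10e2327c9cf463428905f842894ca04e395feaa21b54ec39011707aca11a5c2a6e718611a287b9093c0a4d07964c83c01cf2fa09221283c569e85eb33b9d5320912841b0fc893cc98636193e0c656e9b216ea33385cd006f3b85ccb00ac4b02449b44aa70268c9d87b2237df0271a8b5a838313f88a6a20b8937112b16d98e4301903aa525209ac34742f96c2b408206ed269834e4b936c0dae592bb703ecd01b41306b7c869d2f02f29de4261881044290796816ce151f95e5d1b0810a7f10a487c8f))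
))) (.node (.node (.node (.node (.leaf (nat_lit 0x2e958b40eb6466231d8c5eaf77c3b554667fb88d27c7334418743bb3c92894084d26ce4aa1c147526a31be014e235608f63b0190886d00114845ea420408210d500e34d274fca10a900f6ec0cb8189060e3a40c2c652bd067658c105a14152dd984b5da096a4e6180864de2b06136e760bd0127d06b49d63d4b3501c9e0d8f8fe796c42552d65f0804aa35389c4c6f5229820551b25da00318309de851219116ae022e0e607491e15072432cc0a1e4a34c567a058e9ba113095d93056ac01e61a3738556fe29c35f6c587151407078118c0457ebf2202e72940b6dc27c4a0ec6311a0705d238dd3043793ea1e6c14196225c771a8dab60b4313e395e2fd96e417a44986328ae61499474044444740fc78f1569ad4a292c2c9b64a290499b030f968425e0790544678435dec172f8d0905985be5d471))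
 (.leaf (nat_lit 0x3b1ed1064406146356a70d6b92a294748b801197e162f431defd34c4800a371a10dee6603ade8de7bb118280191f222ea533c56e9d6e994d0385089df8cf5ab6856d06b0dc58783f34c4a810f32daa963995970df833fd7a26562f9d21c5d3c0cd0230101c29b0aa54ea49670a8105949005ca6747c258aa9743e9f66d3d2ec325f83c202e61502515cb2048bc0ccd1f87d150d2714d12424f90c985703a210aed38b446ae76c9f4603352389b0822aac19402119d040a87cc11e50f79b243618619c068a755c2ca2a235390b4b3439c9b8132c0881e6e27a35204d463f888451f2d8090e292f08e91281051c480926495031e06872f541b5048f8321eda43166039342d3f87562c2143b86c792e36d2ed7171d80aaa63c14d89e63050c43b062d096af3b8401a864c0f452212d82816932e80c22e0))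
) (.node (.leaf (nat_lit 0x301bf105fa11de00753c602be89409c2ed5c375c0b775bb1f6c35e32038140db15e6c75d0594a8c3393ccca144931508a361a4667b56135bd09204160c834136968075b2b9020143254b0493e9c4563568b48f88f480d0a88e2894e1f07608ea18fd613d588a4329cc602c3c2c962d6072c0f49c1c1b89c9f469ae150321bc1fcf274899c4e3321fcea2a14b4194d8662498cf47d2e42aa25317dfeb36a9641a190892d0eaa02028ae50228f024883b8c44a036b8087aab54a00a463458c8c2ee86c12004473be1cc277428ce437169d1a6cb67b50aaf65d85df8c9341bd3b0b6dad52cf972bddc89b2f278c111668799cad354210a70030312691238ec264a3c8b848d91f814101a20909325b1b1f8423e578803a48230621c2836a814e623b0bdb8100787c72230588812974a171309a2d174acbd))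
 (.leaf (nat_lit 0x3a59f02863916c8c762b5508b39ae1e2b369b11250a85a69c2ba7da4d9d1287271eabb65445590d6b36960ff84b81f0df423319af74f39da28a6c3bce2dc409dd78e84037940e364349fa94792bcfc853a9e5fd0363bf13f107a37520bd44419487f61b1936be533c172d753a95827b7c9ea01056ab6d5ceb822752ac080a591eab3a3516e975ab2532cb7b21d647241a8d7eb147286110f46ba90c91511e1cce27d20954b46cb94fb0776aa5e689771d930c53e341846e26974c63521158be540392c806f150b41460138f8e022179781025108605645261ac2a482c82cc81c1a01078132c0e4d0491f9483c0e0b1680a44288e81e232b8d8666636138c4190d0e06203131b44061349548e2c170746e0c03024b8531e96c286a0090c76302807c224a23194ce29190a0824f0684836101205c0400))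
)) (.node (.node (.leaf (nat_lit 0x44a231087c3a1b0c85c2a130883c1a0b0481c0a03007fbf9fafc7dbe9f2f87bbd9eaf479bc9e2f077bb9daec75ba9d2e873b99cae471b89c2e06fb79badc6db69b2d86bb59aad469b49a2d067b399acc65b2992c863b198ac461b0982c05faf97abc5dae972b85bad96ab459ac962b057ab95aac55aa952a853a994aa451a8942a04fa793a9c4da6932984ba592a9449a49229047a391a8c45a29128843a190a8441a0902803f9f8fa7c3d9e8f2783b9d8ea74399c8e270379b8da6c359a8d26833998ca6431988c2602f978ba5c2d968b2582b958aa5429948a250279389a4c259289248239188a442190882401f8f87a3c1d8e872381b8d86a34198c86230178b85a2c158a85228138984a241188842200f8783a1c0d86832180b8582a14098482210078381a0c058281208038180a04018080200))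
 (.leaf (nat_lit 0x350b655822b96ace8444892322534d625657b4197002d419b6a95a031ce97349847a3649c15daf82e0ec49110ebb9b074180fc5ce21a835303768974410e3b368268363a65e6a17ba6a1e706a9f98ad77e0c53acf38b0980eb84814de967328da4b004b59d08532801ec8771b254e7862205ca958392c0cca2119e1a1034188cc53410083e5736bd1749128119b82f443c1769416225bcff702c810c886304507d7a9e55823553ec2247520cd1e803b865fa7c7d2804b020f330a4866f904b06a168f888646682c02ea149811a5161b91f2fe5b1ac1f01392ddba4d858ad24be59a2dd84e1c98e069b278a898595fc2808b81d179726c55828fe9e0709d501b422394c2278bc8f61421884dc480927d8c1c0d0e08aef202280e5f0bb844c034e2f120188828918733d2f42cad3a9502ae91e0d14ad9))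
) (.leaf (nat_lit 0x21150773f1f432350b1e1002871a7d3afd132b1e67b740895c0a388d8248a3ca0d9ed8661c8260b640621cb67c2340e1447af1840e6da789ac7482e0dc2b34b69cea90f37da8ab0e18d16f9601b03701289bc5c8211824ec743ab945eba188699c2c19ac05253648058ae61b8c8c0610bbb41a9343a51549510a6408424896934051e91e0ad21e0fc4841519c20c672011004576c875300808a24c42065918a4b45a9385a4b1f21a08af1c8400c5b2a970943b2493e1a737db58f49c3fbc800c47a3a5c8ad5e97dea8e758d04ef6533a8d6ec6ebc62081711f1aa855cbe9c215700e1f8256f35d244553a91450c50a96221f503c0cab361bbe042a5db199af7182dca9125faf8d4974640da70a8496074483243e16886e00d94b2282c4baff68b40ac6d07c01370721a59dc4c33304d0592f421fc0c))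
)) (.node (.node (.node (.leaf (nat_lit 0x44a231087c3a1b0c85c2a130883c1a0b0481c0a03007fbf9fafc7dbe9f2f87bbd9eaf479bc9e2f077bb9daec75ba9d2e873b99cae471b89c2e06fb79badc6db69b2d86bb59aad469b49a2d067b399acc65b2992c863b198ac461b0982c05faf97abc5dae972b85bad96ab459ac962b057ab95aac55aa952a853a994aa451a8942a04fa793a9c4da6932984ba592a9449a49229047a391a8c45a29128843a190a8441a0902803f9f8fa7c3d9e8f2783b9d8ea74399c8e270379b8da6c359a8d26833998ca6431988c2602f978ba5c2d968b2582b958aa5429948a250279389a4c259289248239188a442190882401f8f87a3c1d8e872381b8d86a34198c86230178b85a2c158a85228138984a241188842200f8783a1c0d86832180b8582a14098482210078381a0c058281208038180a04018080200))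
 (.leaf (nat_lit 0x149e4f1852c966ef2a172125e2fc2e245815b3d6f015e3d98cad6c1e81eb64c90df62175315eef9051adc8ab6f980f2be2ea385237773a1089e6a1b04e121525e06af36a29cb001f30e1c415a1c8122e350d97e86698be110d1f93091020f22dce3003b6c2e2d30ad472ae03138c6bb25154ea006ab5d24d152a814ce97f0e222fa42a05c27d11371a0b92ba7198036b398b2736538196da4b2c1ba948395834742d82d527f3f261c49f7e081109b4107cecce11805270f4620c78c45185a0a6e322a22070070d1d6c91986d90502d13c30696111c9a8f5c124d06728815806f258ea08255ea89faec71b48caf57fa1dbcc186100582846835f01c6391122420814c26141d83064f0561ed54453b9f062a713075e69a509e148110abb500354a809e804232ea0cb1043651290388f4cc240c9893acd))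
) (.node (.leaf (nat_lit 0x44a231087c3a1b0c85c2a130883c1a0b0481c0a03007fbf9fafc7dbe9f2f87bbd9eaf479bc9e2f077bb9daec75ba9d2e873b99cae471b89c2e06fb79badc6db69b2d86bb59aad469b49a2d067b399acc65b2992c863b198ac461b0982c05faf97abc5dae972b85bad96ab459ac962b057ab95aac55aa952a853a994aa451a8942a04fa793a9c4da6932984ba592a9449a49229047a391a8c45a29128843a190a8441a0902803f9f8fa7c3d9e8f2783b9d8ea74399c8e270379b8da6c359a8d26833998ca6431988c2602f978ba5c2d968b2582b958aa5429948a250279389a4c259289248239188a442190882401f8f87a3c1d8e872381b8d86a34198c86230178b85a2c158a85228138984a241188842200f8783a1c0d86832180b8582a14098482210078381a0c058281208038180a04018080200))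
 (.leaf (nat_lit 0x289629a39a15e8cc651fdaa7772319b8d77aa0d2eb33b36d36b87627548c13c249967b85a592a9050c31228643a31daff784214ed24c326088d87bfa0add6f3a9727c70adce4b25ec1d7e8e68309d6ee81bcd28a67ea015a7578a813f0a5423d571171be53caa4cbbcf4f63ea7178e57d3c8e2b569bf188d1581d204ba4424d6cce7c3655ed463a09acbb40ab986e2892d1d2e73f33cf2da6c3de1c8466bed12a352c420306602fa008b86ab1c08a733a152c86fc258a59010902a68070141e0422944721132188b4100e8f4581f1a00c2858350a4a01e0c0944222240a0b86e1c17c24352b02c5a4b098c4ba5b150c05c23178286c441d1949e40230f02e1613178ce412186c8e08248ec024c19154cc5326834941c1f9bcc020210f818701589cc61903818a86d198dc124e349acae6c30868a400))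
)) (.node (.node (.leaf (nat_lit 0x1089a776782066af641c5f0e97fa2830b84637976ba6212c12570e9740e161ab38b4921c84c6c0a759b8beae722701a1a1314c2a0405914a0e20a23606492f154c0271f400ac636f948d30219130cc3a271905e7410894467e4aab5b0e5653ed2e1078009107a7a019c06869bde146d0e26d022e16039c2725b35968f2422cd9831018d172b15e8ac5a54764496ebe27b0ceab242b70e683411f18cd15abbcd61f0f10cb6292c004d4d5091fc6ecd079646038682fdd40c74015584749c313ae34f4161ca8448f0c41953b1ce06f2022e13041dc1a20d950201289a47a9122aa51c35ced264ac10ebc7a9ed20c27330216797e801823d3091082991427c7f1110118cf0854a84902279a39a90132928366c7f374a27d6d84530787d1d9aea265a58b8f16d3d9561752891f8c5773b5f28687a9a0e2a))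
 (.leaf (nat_lit 0x2b998555a939b106578ace20b25a0984944503160025c21a245b34c099ae50f15a086383adda8ea67a5db6cb4e8b9bee21b328be416e8520a353eb79270a87369e88461ae8a2763f001067371a7c14bc6baa210e0549486032032eda6d91f9d181092119c98e802b145e8f45b1122c73d064c0ed2e3bc46e64d8b5a2f842c2c486436278c44010be54cc60c269fae9551ecdb0d378ec2ea3100cd481c609e5c8617b3ed4311558e1ea687709deefc88121e2283828100d06740454b4008e4585a6b25562722bc0c7a2926a491ab3092e56c875e810ee4929824943a5901d120d64220f03e7f9649e980709806d2189d520be0802078586aa71e7007587d7e1335941330c408591c6a0eb85d8dc373f9e47f2288944374b10ccc5e2e9948847231521ead07b24f8fa0d06c2af0560954ea5460d022e7))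
) (.leaf (nat_lit 0x41e251087c3204008042a090b88c3607017fc1a130882bf9f6fc7a3d4a85328bd9e6fd7d14186c6349a8d8c5611b574bb31984beb95e189c4e727395ccd56b369b64b6e365ae4a5aad0b65c572c0ac5766b311c8f4811490912311d56a9530ed549c4ea7d408a20a207e3d43a5d30931ca5188c7359b8dec8649c1eef8293c9f2e474935d0e3302d9665d2d351b0cf672bd5aac5429c788d459093c9a4c8f85c190908cec84188bc6c280d06026793b888140b3f02418bf602f4d06660994ceea77bb5dc4f70385ba4c6f2dd62582cac9a2d06532caaa1520e94aa221901129b4aa590cec75bc5e0be322e0bcdf69925a48c2228d2438180b1047c0a05c22243987c027d030080634190cd06371aa04542d428ac521c0d8550016139e8f6263c094fe0e078342007040100a7438878e4750e884410e))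
)))))
noncomputable def Tt : BT :=
(.node Tt0 Tt1)

/-- The tables of the letters on 275 points. -/
noncomputable def Ts : ℕ → ℕ → ℕ := tabS Tt (nat_lit 9) (nat_lit 511)

/-- The shifts of the six generators. -/
def ks : ℕ → ℕ := (getP (nat_lit 2) (nat_lit 3) (nat_lit 0x612))

/-- The monomial tables of the six generators. -/
noncomputable def Wb (x c : ℕ) : ℕ := Bool.rec c (MX.mcl3_W x c) (blt x (nat_lit 4))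

/-- The generators on the points from 275 on. -/
noncomputable def Tb (x p : ℕ) : ℕ :=
  force (Nat.sub p (nat_lit 275)) fun s => force (Nat.div s (nat_lit 3)) fun c => force (Wb x c) fun w =>
    Nat.add (Nat.add (nat_lit 275) (Nat.mul (nat_lit 3) (Nat.land w (nat_lit 32767))))
      (Nat.mod (Nat.add (Nat.add (Nat.shiftRight w (nat_lit 15)) (ks x)) s) (nat_lit 3))

/-- The tables of the generators. -/
noncomputable def T0 (x p : ℕ) : ℕ := force p fun p => Bool.rec (Tb x p) (Ts x p) (blt p (nat_lit 275))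

/-- The letters as words in the generators. -/
noncomputable def ex : LT :=
(.node (.node (.node (.node (.node (.node (.node (.leaf [nat_lit 0])
 (.leaf [nat_lit 3,nat_lit 1,nat_lit 3,nat_lit 0,nat_lit 0,nat_lit 3,nat_lit 1,nat_lit 3,nat_lit 0,nat_lit 3,nat_lit 1,nat_lit 1,nat_lit 3,nat_lit 0,nat_lit 3])
) (.node (.leaf [nat_lit 1,nat_lit 2,nat_lit 3,nat_lit 0,nat_lit 0,nat_lit 2,nat_lit 1,nat_lit 1,nat_lit 1,nat_lit 2,nat_lit 1,nat_lit 2,nat_lit 1,nat_lit 1,nat_lit 1,nat_lit 3,nat_lit 2,nat_lit 3,nat_lit 0])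
 (.leaf [nat_lit 0,nat_lit 2,nat_lit 1,nat_lit 2,nat_lit 1,nat_lit 2,nat_lit 1,nat_lit 3,nat_lit 2,nat_lit 1,nat_lit 3,nat_lit 0,nat_lit 3,nat_lit 1,nat_lit 2,nat_lit 3,nat_lit 1,nat_lit 2])
)) (.node (.node (.leaf [nat_lit 5])
 (.leaf [nat_lit 1])
) (.node (.leaf [nat_lit 4,nat_lit 3,nat_lit 1,nat_lit 2,nat_lit 3,nat_lit 0,nat_lit 0,nat_lit 3,nat_lit 1,nat_lit 1,nat_lit 2,nat_lit 3,nat_lit 0,nat_lit 0,nat_lit 0,nat_lit 3,nat_lit 1,nat_lit 1,nat_lit 2,nat_lit 0])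
 (.leaf [nat_lit 0,nat_lit 0,nat_lit 3,nat_lit 1,nat_lit 3,nat_lit 0,nat_lit 2,nat_lit 1,nat_lit 2,nat_lit 1,nat_lit 3,nat_lit 0,nat_lit 3,nat_lit 0,nat_lit 2,nat_lit 0,nat_lit 2,nat_lit 0,nat_lit 0,nat_lit 0,nat_lit 5])
))) (.node (.node (.node (.leaf [nat_lit 2,nat_lit 0,nat_lit 0,nat_lit 2,nat_lit 0,nat_lit 2,nat_lit 3,nat_lit 2,nat_lit 3,nat_lit 1,nat_lit 3,nat_lit 0,nat_lit 2,nat_lit 1,nat_lit 1,nat_lit 1])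
 (.leaf [nat_lit 5,nat_lit 1,nat_lit 3,nat_lit 0,nat_lit 3,nat_lit 2,nat_lit 0,nat_lit 0,nat_lit 3,nat_lit 0,nat_lit 3,nat_lit 1,nat_lit 3,nat_lit 2,nat_lit 0,nat_lit 2,nat_lit 3,nat_lit 0,nat_lit 2,nat_lit 0])
) (.node (.leaf [nat_lit 2,nat_lit 3,nat_lit 0,nat_lit 3,nat_lit 1,nat_lit 3,nat_lit 1,nat_lit 3,nat_lit 2,nat_lit 0,nat_lit 2,nat_lit 3,nat_lit 0,nat_lit 3,nat_lit 2,nat_lit 1,nat_lit 2,nat_lit 1,nat_lit 1])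
 (.leaf [nat_lit 4,nat_lit 0,nat_lit 3,nat_lit 0,nat_lit 2,nat_lit 0,nat_lit 0,nat_lit 0,nat_lit 2,nat_lit 1,nat_lit 3,nat_lit 2,nat_lit 1,nat_lit 3,nat_lit 0,nat_lit 0,nat_lit 2,nat_lit 0,nat_lit 0,nat_lit 3])
)) (.node (.node (.leaf [nat_lit 5,nat_lit 2,nat_lit 1,nat_lit 3,nat_lit 0,nat_lit 3,nat_lit 2,nat_lit 0,nat_lit 3,nat_lit 2,nat_lit 1,nat_lit 1,nat_lit 2,nat_lit 1,nat_lit 1,nat_lit 3,nat_lit 2])
 (.leaf [nat_lit 1,nat_lit 1,nat_lit 3,nat_lit 0,nat_lit 0,nat_lit 0,nat_lit 2,nat_lit 3,nat_lit 1,nat_lit 2,nat_lit 1,nat_lit 3,nat_lit 1,nat_lit 1,nat_lit 1,nat_lit 3,nat_lit 2,nat_lit 3])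
) (.leaf [nat_lit 3,nat_lit 0,nat_lit 0,nat_lit 0,nat_lit 3,nat_lit 1,nat_lit 1,nat_lit 1,nat_lit 3,nat_lit 0,nat_lit 0,nat_lit 0,nat_lit 2,nat_lit 0,nat_lit 0,nat_lit 3,nat_lit 2,nat_lit 3])
))) (.node (.node (.node (.node (.leaf [nat_lit 4])
 (.leaf [nat_lit 4,nat_lit 1,nat_lit 1,nat_lit 3,nat_lit 0,nat_lit 2,nat_lit 1,nat_lit 1,nat_lit 3,nat_lit 0,nat_lit 0,nat_lit 2,nat_lit 1,nat_lit 3,nat_lit 0,nat_lit 0])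
) (.node (.leaf [nat_lit 1,nat_lit 3,nat_lit 2,nat_lit 0,nat_lit 2,nat_lit 3,nat_lit 0,nat_lit 2,nat_lit 1,nat_lit 1,nat_lit 1,nat_lit 2,nat_lit 1,nat_lit 3,nat_lit 1,nat_lit 2])
 (.leaf [nat_lit 4,nat_lit 2,nat_lit 3,nat_lit 1,nat_lit 3,nat_lit 1,nat_lit 2,nat_lit 3,nat_lit 1,nat_lit 1,nat_lit 2,nat_lit 0,nat_lit 0,nat_lit 0,nat_lit 3,nat_lit 1,nat_lit 1,nat_lit 1,nat_lit 2])
)) (.node (.node (.leaf [nat_lit 0,nat_lit 2,nat_lit 1,nat_lit 2,nat_lit 3,nat_lit 0,nat_lit 0,nat_lit 3,nat_lit 0,nat_lit 0,nat_lit 0,nat_lit 3,nat_lit 1,nat_lit 3,nat_lit 1,nat_lit 1,nat_lit 1,nat_lit 4])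
 (.leaf [nat_lit 5])
) (.node (.leaf [nat_lit 5,nat_lit 3,nat_lit 0,nat_lit 2,nat_lit 0,nat_lit 2,nat_lit 1,nat_lit 3,nat_lit 2,nat_lit 1,nat_lit 2,nat_lit 0,nat_lit 3,nat_lit 0,nat_lit 3,nat_lit 2,nat_lit 3])
 (.leaf [nat_lit 0,nat_lit 3,nat_lit 0,nat_lit 3,nat_lit 1,nat_lit 3,nat_lit 0,nat_lit 2,nat_lit 0,nat_lit 2,nat_lit 3,nat_lit 1,nat_lit 1,nat_lit 2,nat_lit 1,nat_lit 1,nat_lit 3,nat_lit 0,nat_lit 0])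
))) (.node (.node (.node (.leaf [nat_lit 0,nat_lit 2,nat_lit 0,nat_lit 0,nat_lit 0,nat_lit 2,nat_lit 1,nat_lit 3,nat_lit 1,nat_lit 1,nat_lit 2,nat_lit 1])
 (.leaf [nat_lit 0,nat_lit 0,nat_lit 2,nat_lit 0,nat_lit 2,nat_lit 1,nat_lit 1,nat_lit 3,nat_lit 2,nat_lit 3,nat_lit 2,nat_lit 0,nat_lit 2,nat_lit 1,nat_lit 1,nat_lit 3,nat_lit 2,nat_lit 1,nat_lit 2,nat_lit 1])
) (.node (.leaf [nat_lit 2,nat_lit 1,nat_lit 1,nat_lit 1,nat_lit 2,nat_lit 0,nat_lit 2,nat_lit 1,nat_lit 3,nat_lit 1,nat_lit 2,nat_lit 1,nat_lit 1,nat_lit 1,nat_lit 2,nat_lit 3,nat_lit 0])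
 (.leaf [nat_lit 5,nat_lit 0,nat_lit 3,nat_lit 2,nat_lit 0,nat_lit 0,nat_lit 0,nat_lit 3,nat_lit 0,nat_lit 3,nat_lit 1,nat_lit 3,nat_lit 0,nat_lit 2,nat_lit 3,nat_lit 0,nat_lit 2,nat_lit 0,nat_lit 3,nat_lit 2])
)) (.node (.node (.leaf [nat_lit 5])
 (.leaf [nat_lit 0,nat_lit 2,nat_lit 0,nat_lit 0,nat_lit 3,nat_lit 1,nat_lit 3,nat_lit 0,nat_lit 2,nat_lit 3,nat_lit 2,nat_lit 0,nat_lit 3,nat_lit 1,nat_lit 2,nat_lit 3,nat_lit 2,nat_lit 0,nat_lit 0,nat_lit 2,nat_lit 5])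
) (.leaf [nat_lit 1,nat_lit 2,nat_lit 0,nat_lit 2,nat_lit 3,nat_lit 0,nat_lit 0,nat_lit 0,nat_lit 2,nat_lit 3,nat_lit 2,nat_lit 3,nat_lit 1,nat_lit 2,nat_lit 1,nat_lit 2,nat_lit 0,nat_lit 0,nat_lit 2])
)))) (.node (.node (.node (.node (.node (.leaf [nat_lit 2])
 (.leaf [nat_lit 4,nat_lit 2,nat_lit 1,nat_lit 2,nat_lit 1,nat_lit 1,nat_lit 2,nat_lit 1,nat_lit 1,nat_lit 2,nat_lit 1,nat_lit 2,nat_lit 0,nat_lit 0,nat_lit 0])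
) (.node (.leaf [nat_lit 2,nat_lit 0,nat_lit 2,nat_lit 3,nat_lit 1,nat_lit 3,nat_lit 1,nat_lit 2,nat_lit 1,nat_lit 2,nat_lit 0,nat_lit 0,nat_lit 3,nat_lit 1,nat_lit 1,nat_lit 5])
 (.leaf [nat_lit 0,nat_lit 2,nat_lit 3,nat_lit 2,nat_lit 0,nat_lit 3,nat_lit 0,nat_lit 2,nat_lit 1,nat_lit 1,nat_lit 3,nat_lit 1,nat_lit 2,nat_lit 1,nat_lit 1,nat_lit 2,nat_lit 3,nat_lit 1,nat_lit 4])
)) (.node (.node (.leaf [nat_lit 5,nat_lit 0,nat_lit 2,nat_lit 1,nat_lit 3,nat_lit 0,nat_lit 0,nat_lit 3,nat_lit 2,nat_lit 1,nat_lit 3,nat_lit 0,nat_lit 0,nat_lit 3,nat_lit 0,nat_lit 0,nat_lit 2,nat_lit 1,nat_lit 3,nat_lit 0])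
 (.leaf [nat_lit 3])
) (.node (.leaf [nat_lit 5,nat_lit 1,nat_lit 1,nat_lit 2,nat_lit 0,nat_lit 3,nat_lit 1,nat_lit 3,nat_lit 0,nat_lit 2,nat_lit 3,nat_lit 2,nat_lit 1,nat_lit 3,nat_lit 2,nat_lit 3,nat_lit 1,nat_lit 1])
 (.leaf [nat_lit 1,nat_lit 1,nat_lit 3,nat_lit 0,nat_lit 0,nat_lit 2,nat_lit 0,nat_lit 0,nat_lit 3,nat_lit 2,nat_lit 1,nat_lit 2,nat_lit 1,nat_lit 3,nat_lit 0,nat_lit 3,nat_lit 1,nat_lit 3,nat_lit 1])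
))) (.node (.node (.node (.leaf [nat_lit 2,nat_lit 0,nat_lit 2,nat_lit 3,nat_lit 0,nat_lit 0,nat_lit 2,nat_lit 1,nat_lit 2,nat_lit 1,nat_lit 1,nat_lit 3,nat_lit 0,nat_lit 0,nat_lit 3,nat_lit 0,nat_lit 0,nat_lit 0])
 (.leaf [nat_lit 1,nat_lit 1,nat_lit 3,nat_lit 0,nat_lit 2,nat_lit 1,nat_lit 1,nat_lit 3,nat_lit 0,nat_lit 0,nat_lit 2,nat_lit 1,nat_lit 3,nat_lit 0,nat_lit 0,nat_lit 5])
) (.node (.leaf [nat_lit 1,nat_lit 3,nat_lit 2,nat_lit 0,nat_lit 0,nat_lit 0,nat_lit 2,nat_lit 0,nat_lit 3,nat_lit 0,nat_lit 2,nat_lit 1,nat_lit 2,nat_lit 0,nat_lit 0,nat_lit 0,nat_lit 2])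
 (.leaf [nat_lit 3,nat_lit 1,nat_lit 1,nat_lit 2,nat_lit 1,nat_lit 1,nat_lit 3,nat_lit 0,nat_lit 2,nat_lit 3,nat_lit 0,nat_lit 2,nat_lit 1,nat_lit 1,nat_lit 1,nat_lit 2,nat_lit 1,nat_lit 3,nat_lit 1,nat_lit 5])
)) (.node (.node (.leaf [nat_lit 5,nat_lit 0,nat_lit 0,nat_lit 0,nat_lit 3,nat_lit 0,nat_lit 3,nat_lit 1,nat_lit 1,nat_lit 1,nat_lit 3,nat_lit 1,nat_lit 1,nat_lit 3,nat_lit 2,nat_lit 0,nat_lit 2,nat_lit 1])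
 (.leaf [nat_lit 4,nat_lit 2,nat_lit 1,nat_lit 1,nat_lit 2,nat_lit 3,nat_lit 2,nat_lit 0,nat_lit 3,nat_lit 1,nat_lit 2,nat_lit 3,nat_lit 2,nat_lit 1,nat_lit 3,nat_lit 0,nat_lit 3,nat_lit 1,nat_lit 1,nat_lit 2,nat_lit 1])
) (.leaf [nat_lit 1,nat_lit 3,nat_lit 2,nat_lit 1,nat_lit 1,nat_lit 2,nat_lit 0,nat_lit 2,nat_lit 1,nat_lit 2,nat_lit 1,nat_lit 1,nat_lit 3,nat_lit 1,nat_lit 1,nat_lit 1,nat_lit 3,nat_lit 0])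
))) (.node (.node (.node (.node (.leaf [nat_lit 4,nat_lit 2,nat_lit 0,nat_lit 3,nat_lit 1,nat_lit 1,nat_lit 2,nat_lit 1,nat_lit 3,nat_lit 0,nat_lit 3,nat_lit 2,nat_lit 3,nat_lit 1,nat_lit 1,nat_lit 1,nat_lit 2,nat_lit 0,nat_lit 0])
 (.leaf [nat_lit 0,nat_lit 2,nat_lit 0,nat_lit 2,nat_lit 3,nat_lit 0,nat_lit 0,nat_lit 2,nat_lit 1,nat_lit 2,nat_lit 3,nat_lit 2,nat_lit 3,nat_lit 0,nat_lit 0,nat_lit 2,nat_lit 1,nat_lit 2,nat_lit 1,nat_lit 1])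
) (.node (.leaf [nat_lit 0,nat_lit 0,nat_lit 2,nat_lit 0,nat_lit 2,nat_lit 3,nat_lit 1,nat_lit 3,nat_lit 2,nat_lit 1,nat_lit 2,nat_lit 3,nat_lit 0,nat_lit 3,nat_lit 0,nat_lit 3,nat_lit 1,nat_lit 3,nat_lit 2])
 (.leaf [nat_lit 2,nat_lit 0,nat_lit 0,nat_lit 0,nat_lit 3,nat_lit 1,nat_lit 1,nat_lit 1,nat_lit 2,nat_lit 0,nat_lit 0,nat_lit 3,nat_lit 2,nat_lit 0,nat_lit 3,nat_lit 0,nat_lit 3,nat_lit 2,nat_lit 5])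
)) (.node (.node (.leaf [nat_lit 1,nat_lit 2,nat_lit 3,nat_lit 0,nat_lit 3,nat_lit 1,nat_lit 3,nat_lit 0,nat_lit 0,nat_lit 3,nat_lit 1,nat_lit 2,nat_lit 3,nat_lit 0,nat_lit 0,nat_lit 0,nat_lit 3,nat_lit 2,nat_lit 1,nat_lit 1,nat_lit 5])
 (.leaf [nat_lit 3,nat_lit 2,nat_lit 3,nat_lit 0,nat_lit 0,nat_lit 0,nat_lit 3,nat_lit 0,nat_lit 2,nat_lit 0,nat_lit 3,nat_lit 2,nat_lit 1,nat_lit 1,nat_lit 1,nat_lit 3,nat_lit 0,nat_lit 0])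
) (.node (.leaf [nat_lit 5,nat_lit 3,nat_lit 0,nat_lit 0,nat_lit 2,nat_lit 0,nat_lit 3,nat_lit 1,nat_lit 1,nat_lit 2,nat_lit 3,nat_lit 1,nat_lit 3,nat_lit 2,nat_lit 0,nat_lit 2,nat_lit 3,nat_lit 2,nat_lit 0,nat_lit 0])
 (.leaf [nat_lit 2,nat_lit 1,nat_lit 1,nat_lit 1,nat_lit 2,nat_lit 3,nat_lit 2,nat_lit 3,nat_lit 0,nat_lit 0,nat_lit 2,nat_lit 0,nat_lit 3,nat_lit 1,nat_lit 1,nat_lit 2,nat_lit 3,nat_lit 0,nat_lit 2])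
))) (.node (.node (.node (.leaf [nat_lit 1,nat_lit 2,nat_lit 0,nat_lit 0,nat_lit 3,nat_lit 0,nat_lit 2,nat_lit 3,nat_lit 1,nat_lit 2,nat_lit 0,nat_lit 3,nat_lit 2,nat_lit 1,nat_lit 3,nat_lit 1,nat_lit 1,nat_lit 2,nat_lit 0])
 (.leaf [nat_lit 1,nat_lit 2,nat_lit 1,nat_lit 3,nat_lit 2,nat_lit 1,nat_lit 2,nat_lit 3,nat_lit 0,nat_lit 3,nat_lit 1,nat_lit 3,nat_lit 1,nat_lit 1,nat_lit 2,nat_lit 3,nat_lit 1,nat_lit 3,nat_lit 0,nat_lit 4])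
) (.node (.leaf [nat_lit 4])
 (.leaf [nat_lit 2,nat_lit 3,nat_lit 1,nat_lit 2,nat_lit 1,nat_lit 3,nat_lit 2,nat_lit 1,nat_lit 3,nat_lit 0,nat_lit 3,nat_lit 1,nat_lit 3,nat_lit 1,nat_lit 1,nat_lit 1,nat_lit 2,nat_lit 3,nat_lit 1,nat_lit 4])
)) (.node (.node (.leaf [nat_lit 1,nat_lit 3,nat_lit 0,nat_lit 2,nat_lit 1,nat_lit 1,nat_lit 3,nat_lit 1,nat_lit 1,nat_lit 3,nat_lit 0,nat_lit 2,nat_lit 3,nat_lit 1,nat_lit 1,nat_lit 3,nat_lit 0,nat_lit 2,nat_lit 1,nat_lit 4])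
 (.leaf [nat_lit 2,nat_lit 0,nat_lit 3,nat_lit 2,nat_lit 0,nat_lit 3,nat_lit 1,nat_lit 3,nat_lit 0,nat_lit 2,nat_lit 3,nat_lit 0,nat_lit 2,nat_lit 0,nat_lit 2,nat_lit 0,nat_lit 2,nat_lit 1])
) (.leaf [nat_lit 4,nat_lit 3,nat_lit 1,nat_lit 1,nat_lit 2,nat_lit 0,nat_lit 3,nat_lit 2,nat_lit 3,nat_lit 0,nat_lit 2,nat_lit 1,nat_lit 3,nat_lit 2,nat_lit 0,nat_lit 2,nat_lit 3,nat_lit 0,nat_lit 0])
))))) (.node (.node (.node (.node (.node (.node (.leaf [nat_lit 1])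
 (.leaf [nat_lit 1,nat_lit 2,nat_lit 0,nat_lit 2,nat_lit 0,nat_lit 0,nat_lit 0,nat_lit 2,nat_lit 1,nat_lit 1,nat_lit 1,nat_lit 2,nat_lit 1,nat_lit 2,nat_lit 0])
) (.node (.leaf [nat_lit 4,nat_lit 0,nat_lit 0,nat_lit 3,nat_lit 1,nat_lit 1,nat_lit 2,nat_lit 0,nat_lit 2,nat_lit 0,nat_lit 3,nat_lit 0,nat_lit 3,nat_lit 2,nat_lit 1,nat_lit 2])
 (.leaf [nat_lit 5,nat_lit 0,nat_lit 3,nat_lit 2,nat_lit 0,nat_lit 0,nat_lit 2,nat_lit 0,nat_lit 3,nat_lit 0,nat_lit 0,nat_lit 2,nat_lit 1,nat_lit 3,nat_lit 1,nat_lit 2,nat_lit 3,nat_lit 2,nat_lit 1])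
)) (.node (.node (.leaf [nat_lit 5,nat_lit 0,nat_lit 0,nat_lit 0,nat_lit 3,nat_lit 0,nat_lit 3,nat_lit 1,nat_lit 1,nat_lit 1,nat_lit 3,nat_lit 1,nat_lit 1,nat_lit 3,nat_lit 2,nat_lit 0,nat_lit 2,nat_lit 1])
 (.leaf [nat_lit 2])
) (.node (.leaf [nat_lit 1,nat_lit 2,nat_lit 0,nat_lit 0,nat_lit 3,nat_lit 1,nat_lit 1,nat_lit 1,nat_lit 3,nat_lit 2,nat_lit 0,nat_lit 0,nat_lit 3,nat_lit 1,nat_lit 1,nat_lit 3,nat_lit 2,nat_lit 0,nat_lit 3,nat_lit 5])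
 (.leaf [nat_lit 5,nat_lit 2,nat_lit 1,nat_lit 3,nat_lit 0,nat_lit 3,nat_lit 2,nat_lit 0,nat_lit 3,nat_lit 2,nat_lit 1,nat_lit 1,nat_lit 2,nat_lit 1,nat_lit 1,nat_lit 3,nat_lit 2])
))) (.node (.node (.node (.leaf [nat_lit 0,nat_lit 0,nat_lit 0,nat_lit 2,nat_lit 1,nat_lit 3,nat_lit 0,nat_lit 3,nat_lit 2,nat_lit 3,nat_lit 2,nat_lit 1,nat_lit 2,nat_lit 1,nat_lit 1,nat_lit 2])
 (.leaf [nat_lit 0,nat_lit 0,nat_lit 0,nat_lit 2,nat_lit 1,nat_lit 2,nat_lit 1,nat_lit 3,nat_lit 2,nat_lit 1,nat_lit 2,nat_lit 1,nat_lit 3,nat_lit 2,nat_lit 1,nat_lit 2,nat_lit 0,nat_lit 5])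
) (.node (.leaf [nat_lit 1,nat_lit 1,nat_lit 2,nat_lit 0,nat_lit 3,nat_lit 1,nat_lit 3,nat_lit 0,nat_lit 2,nat_lit 3,nat_lit 2,nat_lit 1,nat_lit 3,nat_lit 2,nat_lit 3,nat_lit 1,nat_lit 1])
 (.leaf [nat_lit 3,nat_lit 0,nat_lit 0,nat_lit 0,nat_lit 3,nat_lit 0,nat_lit 2,nat_lit 3,nat_lit 1,nat_lit 2,nat_lit 1,nat_lit 3,nat_lit 2,nat_lit 0,nat_lit 0,nat_lit 0,nat_lit 2,nat_lit 3,nat_lit 4])
)) (.node (.node (.leaf [nat_lit 5,nat_lit 0,nat_lit 2,nat_lit 1,nat_lit 3,nat_lit 0,nat_lit 0,nat_lit 3,nat_lit 2,nat_lit 1,nat_lit 3,nat_lit 0,nat_lit 0,nat_lit 3,nat_lit 0,nat_lit 0,nat_lit 2,nat_lit 1,nat_lit 3,nat_lit 0])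
 (.leaf [nat_lit 1,nat_lit 3,nat_lit 2,nat_lit 0,nat_lit 3,nat_lit 0,nat_lit 2,nat_lit 1,nat_lit 1,nat_lit 2,nat_lit 3,nat_lit 2,nat_lit 3,nat_lit 1,nat_lit 1,nat_lit 3,nat_lit 1,nat_lit 3,nat_lit 1])
) (.leaf [nat_lit 3,nat_lit 2,nat_lit 3,nat_lit 1,nat_lit 1,nat_lit 2,nat_lit 1,nat_lit 1,nat_lit 1,nat_lit 3,nat_lit 0,nat_lit 0,nat_lit 0,nat_lit 3,nat_lit 1,nat_lit 1,nat_lit 1,nat_lit 3])
))) (.node (.node (.node (.node (.leaf [nat_lit 5])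
 (.leaf [nat_lit 4,nat_lit 2,nat_lit 0,nat_lit 2,nat_lit 3,nat_lit 0,nat_lit 2,nat_lit 1,nat_lit 3,nat_lit 2,nat_lit 3,nat_lit 1,nat_lit 1,nat_lit 1,nat_lit 3,nat_lit 1,nat_lit 2])
) (.node (.leaf [nat_lit 4,nat_lit 2,nat_lit 1,nat_lit 3,nat_lit 0,nat_lit 0,nat_lit 3,nat_lit 2,nat_lit 3,nat_lit 1,nat_lit 2,nat_lit 3,nat_lit 2,nat_lit 3,nat_lit 0,nat_lit 0,nat_lit 0,nat_lit 2,nat_lit 1,nat_lit 3])
 (.leaf [nat_lit 0,nat_lit 3,nat_lit 0,nat_lit 2,nat_lit 0,nat_lit 3,nat_lit 1,nat_lit 2,nat_lit 3,nat_lit 0,nat_lit 2,nat_lit 0,nat_lit 2,nat_lit 3,nat_lit 0,nat_lit 2,nat_lit 3,nat_lit 0,nat_lit 4])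
)) (.node (.node (.leaf [nat_lit 1,nat_lit 3,nat_lit 0,nat_lit 2,nat_lit 1,nat_lit 1,nat_lit 3,nat_lit 1,nat_lit 1,nat_lit 3,nat_lit 0,nat_lit 2,nat_lit 3,nat_lit 1,nat_lit 1,nat_lit 3,nat_lit 0,nat_lit 2,nat_lit 1,nat_lit 4])
 (.leaf [nat_lit 4,nat_lit 0,nat_lit 0,nat_lit 0,nat_lit 3,nat_lit 2,nat_lit 3,nat_lit 1,nat_lit 1,nat_lit 1,nat_lit 2,nat_lit 1,nat_lit 3,nat_lit 0,nat_lit 3,nat_lit 0,nat_lit 3,nat_lit 1,nat_lit 1,nat_lit 3])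
) (.node (.leaf [nat_lit 3,nat_lit 2,nat_lit 3,nat_lit 1,nat_lit 3,nat_lit 1,nat_lit 2,nat_lit 0,nat_lit 2,nat_lit 3,nat_lit 0,nat_lit 2,nat_lit 1,nat_lit 2,nat_lit 1,nat_lit 3,nat_lit 4])
 (.leaf [nat_lit 2,nat_lit 1,nat_lit 3,nat_lit 2,nat_lit 0,nat_lit 0,nat_lit 3,nat_lit 1,nat_lit 2,nat_lit 1,nat_lit 1,nat_lit 3,nat_lit 2,nat_lit 3,nat_lit 2,nat_lit 0,nat_lit 0,nat_lit 0,nat_lit 2])
))) (.node (.node (.node (.leaf [nat_lit 0,nat_lit 2,nat_lit 0,nat_lit 0,nat_lit 3,nat_lit 0,nat_lit 2,nat_lit 1,nat_lit 1,nat_lit 1,nat_lit 2,nat_lit 1])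
 (.leaf [nat_lit 2,nat_lit 0,nat_lit 0,nat_lit 3,nat_lit 1,nat_lit 3,nat_lit 1,nat_lit 1,nat_lit 2,nat_lit 3,nat_lit 2,nat_lit 0,nat_lit 3,nat_lit 2,nat_lit 1,nat_lit 1,nat_lit 2,nat_lit 1,nat_lit 3])
) (.node (.leaf [nat_lit 1,nat_lit 2,nat_lit 0,nat_lit 0,nat_lit 3,nat_lit 0,nat_lit 2,nat_lit 3,nat_lit 1,nat_lit 2,nat_lit 0,nat_lit 3,nat_lit 2,nat_lit 1,nat_lit 3,nat_lit 1,nat_lit 1,nat_lit 2,nat_lit 0])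
 (.leaf [nat_lit 2,nat_lit 3,nat_lit 0,nat_lit 0,nat_lit 2,nat_lit 0,nat_lit 0,nat_lit 2,nat_lit 3,nat_lit 1,nat_lit 2,nat_lit 3,nat_lit 1,nat_lit 3,nat_lit 0,nat_lit 2,nat_lit 4])
)) (.node (.node (.leaf [nat_lit 2,nat_lit 3,nat_lit 0,nat_lit 0,nat_lit 2,nat_lit 0,nat_lit 0,nat_lit 2,nat_lit 3,nat_lit 1,nat_lit 2,nat_lit 3,nat_lit 1,nat_lit 3,nat_lit 0,nat_lit 2,nat_lit 4])
 (.leaf [nat_lit 5,nat_lit 1,nat_lit 3,nat_lit 0,nat_lit 2,nat_lit 0,nat_lit 3,nat_lit 2,nat_lit 0,nat_lit 2,nat_lit 1,nat_lit 3,nat_lit 0,nat_lit 3,nat_lit 2,nat_lit 1,nat_lit 1,nat_lit 2,nat_lit 1])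
) (.leaf [nat_lit 2,nat_lit 1,nat_lit 1,nat_lit 2,nat_lit 0,nat_lit 2,nat_lit 0,nat_lit 3,nat_lit 2,nat_lit 3,nat_lit 2,nat_lit 1,nat_lit 1,nat_lit 1,nat_lit 3,nat_lit 2,nat_lit 1,nat_lit 2,nat_lit 0])
)))) (.node (.node (.node (.node (.node (.leaf [nat_lit 3])
 (.leaf [nat_lit 4,nat_lit 1,nat_lit 2,nat_lit 0,nat_lit 2,nat_lit 3,nat_lit 0,nat_lit 2,nat_lit 0,nat_lit 2,nat_lit 3,nat_lit 0,nat_lit 2,nat_lit 0,nat_lit 2,nat_lit 1,nat_lit 1,nat_lit 1])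
) (.node (.leaf [nat_lit 2,nat_lit 0,nat_lit 3,nat_lit 0,nat_lit 2,nat_lit 0,nat_lit 0,nat_lit 0,nat_lit 2,nat_lit 1,nat_lit 3,nat_lit 2,nat_lit 1,nat_lit 2,nat_lit 3,nat_lit 0])
 (.leaf [nat_lit 5,nat_lit 1,nat_lit 3,nat_lit 2,nat_lit 1,nat_lit 3,nat_lit 2,nat_lit 1,nat_lit 2,nat_lit 1,nat_lit 3,nat_lit 2,nat_lit 0,nat_lit 3,nat_lit 1,nat_lit 2,nat_lit 1,nat_lit 3,nat_lit 1])
)) (.node (.node (.leaf [nat_lit 4,nat_lit 0,nat_lit 0,nat_lit 2,nat_lit 3,nat_lit 1,nat_lit 1,nat_lit 1,nat_lit 3,nat_lit 2,nat_lit 0,nat_lit 3,nat_lit 1,nat_lit 1,nat_lit 3,nat_lit 0,nat_lit 3,nat_lit 1,nat_lit 3,nat_lit 2,nat_lit 0])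
 (.leaf [nat_lit 4])
) (.node (.leaf [nat_lit 0,nat_lit 0,nat_lit 3,nat_lit 2,nat_lit 3,nat_lit 0,nat_lit 2,nat_lit 3,nat_lit 2,nat_lit 1,nat_lit 3,nat_lit 0,nat_lit 3,nat_lit 1,nat_lit 2,nat_lit 0,nat_lit 0,nat_lit 4])
 (.leaf [nat_lit 2,nat_lit 3,nat_lit 0,nat_lit 0,nat_lit 2,nat_lit 0,nat_lit 0,nat_lit 2,nat_lit 3,nat_lit 1,nat_lit 2,nat_lit 3,nat_lit 1,nat_lit 3,nat_lit 0,nat_lit 2,nat_lit 4])
))) (.node (.node (.node (.leaf [nat_lit 1,nat_lit 1,nat_lit 1,nat_lit 3,nat_lit 1,nat_lit 1,nat_lit 3,nat_lit 0,nat_lit 0,nat_lit 2,nat_lit 0,nat_lit 2,nat_lit 1,nat_lit 1,nat_lit 3,nat_lit 2,nat_lit 1,nat_lit 2])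
 (.leaf [nat_lit 2,nat_lit 0,nat_lit 3,nat_lit 0,nat_lit 0,nat_lit 0,nat_lit 3,nat_lit 2,nat_lit 3,nat_lit 0,nat_lit 2,nat_lit 1,nat_lit 3,nat_lit 2,nat_lit 1,nat_lit 2,nat_lit 5])
) (.node (.leaf [nat_lit 0,nat_lit 0,nat_lit 3,nat_lit 2,nat_lit 3,nat_lit 0,nat_lit 2,nat_lit 3,nat_lit 2,nat_lit 1,nat_lit 3,nat_lit 0,nat_lit 3,nat_lit 1,nat_lit 2,nat_lit 0,nat_lit 0])
 (.leaf [nat_lit 5,nat_lit 2,nat_lit 1,nat_lit 3,nat_lit 0,nat_lit 3,nat_lit 2,nat_lit 0,nat_lit 3,nat_lit 2,nat_lit 1,nat_lit 1,nat_lit 2,nat_lit 1,nat_lit 1,nat_lit 3,nat_lit 2])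
)) (.node (.node (.leaf [nat_lit 1,nat_lit 3,nat_lit 2,nat_lit 3,nat_lit 0,nat_lit 0,nat_lit 0,nat_lit 2,nat_lit 0,nat_lit 2,nat_lit 0,nat_lit 0,nat_lit 0,nat_lit 2,nat_lit 1,nat_lit 1,nat_lit 3,nat_lit 2,nat_lit 0])
 (.leaf [nat_lit 0,nat_lit 3,nat_lit 0,nat_lit 3,nat_lit 0,nat_lit 0,nat_lit 3,nat_lit 2,nat_lit 3,nat_lit 2,nat_lit 0,nat_lit 0,nat_lit 2,nat_lit 1,nat_lit 3,nat_lit 1,nat_lit 2,nat_lit 3,nat_lit 0])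
) (.leaf [nat_lit 1,nat_lit 3,nat_lit 0,nat_lit 0,nat_lit 0,nat_lit 3,nat_lit 0,nat_lit 0,nat_lit 2,nat_lit 0,nat_lit 2,nat_lit 1,nat_lit 2,nat_lit 0,nat_lit 0,nat_lit 2,nat_lit 3,nat_lit 0])
))) (.node (.node (.node (.node (.leaf [nat_lit 1,nat_lit 1,nat_lit 2,nat_lit 0,nat_lit 0,nat_lit 0,nat_lit 3,nat_lit 2,nat_lit 3,nat_lit 1,nat_lit 3,nat_lit 0,nat_lit 2,nat_lit 0,nat_lit 0,nat_lit 3,nat_lit 1,nat_lit 2,nat_lit 5])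
 (.leaf [nat_lit 3,nat_lit 0,nat_lit 2,nat_lit 0,nat_lit 0,nat_lit 2,nat_lit 3,nat_lit 1,nat_lit 2,nat_lit 3,nat_lit 2,nat_lit 0,nat_lit 0,nat_lit 3,nat_lit 0,nat_lit 3,nat_lit 1,nat_lit 1,nat_lit 2])
) (.node (.leaf [nat_lit 3,nat_lit 0,nat_lit 2,nat_lit 1,nat_lit 1,nat_lit 1,nat_lit 3,nat_lit 2,nat_lit 3,nat_lit 2,nat_lit 0,nat_lit 3,nat_lit 2,nat_lit 3,nat_lit 1,nat_lit 1,nat_lit 3,nat_lit 0,nat_lit 2,nat_lit 5])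
 (.leaf [nat_lit 5,nat_lit 3,nat_lit 2,nat_lit 1,nat_lit 1,nat_lit 1,nat_lit 2,nat_lit 3,nat_lit 0,nat_lit 2,nat_lit 0,nat_lit 3,nat_lit 2,nat_lit 1,nat_lit 3,nat_lit 1,nat_lit 1,nat_lit 1,nat_lit 3])
)) (.node (.node (.leaf [nat_lit 4])
 (.leaf [nat_lit 3,nat_lit 0,nat_lit 0,nat_lit 3,nat_lit 1,nat_lit 3,nat_lit 1,nat_lit 3,nat_lit 0,nat_lit 2,nat_lit 0,nat_lit 0,nat_lit 0,nat_lit 3,nat_lit 2,nat_lit 3,nat_lit 1,nat_lit 1,nat_lit 1,nat_lit 5])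
) (.leaf [nat_lit 1,nat_lit 1,nat_lit 2,nat_lit 3,nat_lit 2,nat_lit 1,nat_lit 2,nat_lit 3,nat_lit 0,nat_lit 3,nat_lit 2,nat_lit 0,nat_lit 0,nat_lit 3,nat_lit 1,nat_lit 2,nat_lit 1,nat_lit 1,nat_lit 3,nat_lit 4])
)) (.node (.node (.node (.leaf [nat_lit 4])
 (.leaf [nat_lit 0])
) (.node (.leaf [nat_lit 5])
 (.leaf [nat_lit 4,nat_lit 1,nat_lit 1,nat_lit 1,nat_lit 2,nat_lit 1,nat_lit 2,nat_lit 1,nat_lit 3,nat_lit 1,nat_lit 3,nat_lit 0,nat_lit 2,nat_lit 0,nat_lit 2,nat_lit 1,nat_lit 3,nat_lit 0,nat_lit 3,nat_lit 1,nat_lit 1])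
)) (.node (.node (.leaf [nat_lit 0,nat_lit 2,nat_lit 1,nat_lit 2,nat_lit 3,nat_lit 0,nat_lit 0,nat_lit 3,nat_lit 0,nat_lit 0,nat_lit 0,nat_lit 3,nat_lit 1,nat_lit 3,nat_lit 1,nat_lit 1,nat_lit 1,nat_lit 4])
 (.leaf [nat_lit 0,nat_lit 2,nat_lit 0,nat_lit 0,nat_lit 2,nat_lit 3,nat_lit 1,nat_lit 3,nat_lit 0,nat_lit 2,nat_lit 1,nat_lit 2,nat_lit 3,nat_lit 1,nat_lit 2,nat_lit 1,nat_lit 3,nat_lit 0,nat_lit 4])
) (.leaf [nat_lit 1,nat_lit 1,nat_lit 3,nat_lit 2,nat_lit 1,nat_lit 2,nat_lit 3,nat_lit 0,nat_lit 2,nat_lit 1,nat_lit 3,nat_lit 2,nat_lit 3,nat_lit 1,nat_lit 2,nat_lit 0,nat_lit 0,nat_lit 3,nat_lit 5])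
))))))
/-- The tables of the letters. -/
noncomputable def T (x p : ℕ) : ℕ := force p fun p => Bool.rec (traceP T0 (ex.get x) p) (Ts x p) (blt p (nat_lit 275))

/-- Inverse letters. -/
noncomputable def inv : ℕ → ℕ := (getP (nat_lit 7) (nat_lit 127) (nat_lit 0x1d7b72e3d39efe1b35eedba33ead3931e6cb8715ebb82fdab372dd6ab62bd3a94a8cfa1223c68b121ce9b325ca930a0c07cfde3d74edc396cdda3564cd8315cbd6aa52b15a64aa13a3488511b3464c17407cf1d384c9112c54a0f203860d142c4090c1c2050608001))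

/-- The definitions of the letters. -/
noncomputable def defs : LT :=
(.node (.node (.node (.node (.node (.node (.node (.leaf [])
 (.leaf [])
) (.node (.leaf [nat_lit 1,nat_lit 27])
 (.leaf [nat_lit 1,nat_lit 94])
)) (.node (.node (.leaf [nat_lit 1,nat_lit 15])
 (.leaf [nat_lit 1,nat_lit 79])
) (.node (.leaf [])
 (.leaf [nat_lit 1,nat_lit 111])
))) (.node (.node (.node (.leaf [])
 (.leaf [])
) (.node (.leaf [nat_lit 1,nat_lit 38])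
 (.leaf [nat_lit 0,nat_lit 99,nat_lit 99,nat_lit 102,nat_lit 101,nat_lit 100,nat_lit 101])
)) (.node (.node (.leaf [])
 (.leaf [nat_lit 1,nat_lit 86])
) (.leaf [])
))) (.node (.node (.node (.node (.leaf [])
 (.leaf [])
) (.node (.leaf [nat_lit 1,nat_lit 35])
 (.leaf [])
)) (.node (.node (.leaf [nat_lit 1,nat_lit 17])
 (.leaf [nat_lit 1,nat_lit 83])
) (.node (.leaf [])
 (.leaf [nat_lit 1,nat_lit 114])
))) (.node (.node (.node (.leaf [])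
 (.leaf [nat_lit 1,nat_lit 70])
) (.node (.leaf [nat_lit 1,nat_lit 42])
 (.leaf [])
)) (.node (.node (.leaf [nat_lit 1,nat_lit 23])
 (.leaf [nat_lit 1,nat_lit 90])
) (.leaf [])
)))) (.node (.node (.node (.node (.node (.leaf [])
 (.leaf [])
) (.node (.leaf [nat_lit 1,nat_lit 33])
 (.leaf [nat_lit 1,nat_lit 97])
)) (.node (.node (.leaf [])
 (.leaf [nat_lit 0,nat_lit 78,nat_lit 73,nat_lit 77,nat_lit 76,nat_lit 72,nat_lit 73,nat_lit 75,nat_lit 73,nat_lit 78,nat_lit 75,nat_lit 72])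
) (.node (.leaf [])
 (.leaf [])
))) (.node (.node (.node (.leaf [])
 (.leaf [nat_lit 1,nat_lit 68])
) (.node (.leaf [nat_lit 0,nat_lit 31,nat_lit 31,nat_lit 32,nat_lit 31,nat_lit 32,nat_lit 31,nat_lit 31])
 (.leaf [nat_lit 1,nat_lit 104])
)) (.node (.node (.leaf [])
 (.leaf [nat_lit 0,nat_lit 86,nat_lit 85,nat_lit 86,nat_lit 87,nat_lit 88,nat_lit 88,nat_lit 85])
) (.leaf [])
))) (.node (.node (.node (.node (.leaf [])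
 (.leaf [])
) (.node (.leaf [nat_lit 0,nat_lit 31,nat_lit 31,nat_lit 27,nat_lit 26,nat_lit 26])
 (.leaf [nat_lit 1,nat_lit 100])
)) (.node (.node (.leaf [nat_lit 1,nat_lit 19])
 (.leaf [])
) (.node (.leaf [])
 (.leaf [nat_lit 1,nat_lit 117])
))) (.node (.node (.node (.leaf [])
 (.leaf [nat_lit 1,nat_lit 72])
) (.node (.leaf [nat_lit 0,nat_lit 23])
 (.leaf [nat_lit 1,nat_lit 108])
)) (.node (.node (.leaf [nat_lit 1,nat_lit 25])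
 (.leaf [])
) (.leaf [])
))))) (.node (.node (.node (.node (.node (.node (.leaf [])
 (.leaf [])
) (.node (.leaf [nat_lit 0,nat_lit 27,nat_lit 31,nat_lit 25,nat_lit 26])
 (.leaf [nat_lit 0,nat_lit 95,nat_lit 95,nat_lit 94,nat_lit 95])
)) (.node (.node (.leaf [])
 (.leaf [nat_lit 0,nat_lit 70,nat_lit 77,nat_lit 76,nat_lit 77,nat_lit 78,nat_lit 77,nat_lit 72,nat_lit 77,nat_lit 76,nat_lit 71])
) (.node (.leaf [nat_lit 1,nat_lit 48])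
 (.leaf [])
))) (.node (.node (.node (.leaf [nat_lit 1,nat_lit 8])
 (.leaf [nat_lit 1,nat_lit 67])
) (.node (.leaf [nat_lit 0,nat_lit 31,nat_lit 32,nat_lit 26,nat_lit 27,nat_lit 26,nat_lit 32,nat_lit 31,nat_lit 24])
 (.leaf [nat_lit 1,nat_lit 103])
)) (.node (.node (.leaf [])
 (.leaf [nat_lit 0,nat_lit 88,nat_lit 85,nat_lit 85,nat_lit 86,nat_lit 85,nat_lit 88,nat_lit 87])
) (.leaf [nat_lit 1,nat_lit 56])
))) (.node (.node (.node (.node (.leaf [])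
 (.leaf [])
) (.node (.leaf [nat_lit 0,nat_lit 26,nat_lit 27,nat_lit 31,nat_lit 29])
 (.leaf [nat_lit 1,nat_lit 99])
)) (.node (.node (.leaf [nat_lit 1,nat_lit 18])
 (.leaf [])
) (.node (.leaf [nat_lit 1,nat_lit 52])
 (.leaf [nat_lit 0,nat_lit 115,nat_lit 114,nat_lit 113,nat_lit 116,nat_lit 113])
))) (.node (.node (.node (.leaf [nat_lit 1,nat_lit 12])
 (.leaf [nat_lit 1,nat_lit 71])
) (.node (.leaf [nat_lit 0,nat_lit 27,nat_lit 31,nat_lit 32,nat_lit 26,nat_lit 26,nat_lit 32,nat_lit 25,nat_lit 26,nat_lit 25,nat_lit 24,nat_lit 23])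
 (.leaf [nat_lit 1,nat_lit 107])
)) (.node (.node (.leaf [nat_lit 1,nat_lit 24])
 (.leaf [])
) (.leaf [nat_lit 1,nat_lit 60])
)))) (.node (.node (.node (.node (.node (.leaf [])
 (.leaf [])
) (.node (.leaf [nat_lit 0,nat_lit 25,nat_lit 31,nat_lit 31,nat_lit 32,nat_lit 25])
 (.leaf [])
)) (.node (.node (.leaf [])
 (.leaf [nat_lit 0,nat_lit 67,nat_lit 67])
) (.node (.leaf [nat_lit 1,nat_lit 50])
 (.leaf [nat_lit 1,nat_lit 113])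
))) (.node (.node (.node (.leaf [nat_lit 1,nat_lit 10])
 (.leaf [nat_lit 1,nat_lit 69])
) (.node (.leaf [nat_lit 1,nat_lit 41])
 (.leaf [])
)) (.node (.node (.leaf [])
 (.leaf [nat_lit 1,nat_lit 89])
) (.leaf [nat_lit 1,nat_lit 58])
))) (.node (.node (.node (.node (.leaf [nat_lit 1,nat_lit 6])
 (.leaf [])
) (.node (.leaf [nat_lit 1,nat_lit 37])
 (.leaf [nat_lit 0,nat_lit 102,nat_lit 102,nat_lit 101,nat_lit 100,nat_lit 99,nat_lit 102])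
)) (.node (.node (.leaf [])
 (.leaf [nat_lit 1,nat_lit 85])
) (.leaf [nat_lit 1,nat_lit 54])
)) (.node (.node (.node (.leaf [])
 (.leaf [nat_lit 0,nat_lit 77,nat_lit 76,nat_lit 72,nat_lit 70,nat_lit 69,nat_lit 68,nat_lit 75,nat_lit 75,nat_lit 72,nat_lit 77,nat_lit 74])
) (.node (.leaf [nat_lit 1,nat_lit 46])
 (.leaf [nat_lit 0,nat_lit 108,nat_lit 109,nat_lit 108,nat_lit 109,nat_lit 110,nat_lit 107,nat_lit 110])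
)) (.node (.node (.leaf [nat_lit 1,nat_lit 26])
 (.leaf [nat_lit 1,nat_lit 93])
) (.leaf [nat_lit 1,nat_lit 62])
))))))
/-- The base. -/
def B : List ℕ := [nat_lit 15,nat_lit 218,nat_lit 272,nat_lit 112,nat_lit 0,nat_lit 1,nat_lit 275]

/-- The total shift of a word. -/
noncomputable def ksum (w : List ℕ) : ℕ := List.rec 0 (fun x _ ih => Nat.add (ks x) ih) w

/-- A relator of the quotient with the central correction. -/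
noncomputable def fw (w : List ℕ) : List ℕ :=
  Nat.rec w (fun k _ => Nat.add (nat_lit 4) k :: w) (Nat.mod (Nat.add (Nat.shiftRight
    (Nat.mod (MX.traceM MX.mcl3_W (nat_lit 32767) w 0) (nat_lit 98304)) (nat_lit 15)) (ksum w)) (nat_lit 3))

/-- Apply a function to all words. -/
noncomputable def mapW (f : List ℕ → List ℕ) (t : LT) : LT :=
  LT.rec (fun l => .leaf (f l)) (fun _ _ a b => .node a b) t

/-- The central relators. -/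
noncomputable def R2 : LT :=
(.node (.node (.node (.leaf [nat_lit 4,nat_lit 5])
 (.leaf [nat_lit 4,nat_lit 3,nat_lit 5,nat_lit 3])
) (.node (.leaf [nat_lit 4,nat_lit 0,nat_lit 5,nat_lit 1])
 (.leaf [nat_lit 2,nat_lit 2])
)) (.node (.node (.leaf [nat_lit 4,nat_lit 4,nat_lit 4])
 (.leaf [nat_lit 0,nat_lit 1])
) (.node (.leaf [nat_lit 4,nat_lit 2,nat_lit 5,nat_lit 2])
 (.leaf [nat_lit 3,nat_lit 3])
)))
/-- The relators. -/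
noncomputable def RH : LT := .node (mapW fw MX.mcl_rels) R2

noncomputable def Et : BT :=
(.node (.node (.node (.node (.node (.leaf (nat_lit 0x340403008040606068380402060040e0d01828040301818000b00020000306034120306824040001004000d040341c0b05818060d010301c0a03828100a0681800070080c1a0e03824120e0683010060480c02000182c1406010341a0c04024040804024060d0680c1c0c040081a0b0601c1c030480c160000004140300004120701830020a05028180b0180412010482806090182402090602c18030601c0c080500c12010600c140903020000b03838160606834040b0301816020402c1402000180e0207004180e068200c020001c1a0e018200e0d058001a0c0082c0c07030080c0e000040607000001a02048180c0006030180a030080c090382812060082c0c0d008200e0005004020b0582c1c01050340e030503814090401814070481c1808ff8180e070700c02090180c1a020081c1800))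
 (.leaf (nat_lit 0x19ccfff34190ca6334198d4683519bfe69327fcc86833994c864351a0cc69321a8c9ff339a7fe6534ffccc63331a0c66434ffcce66331a0c66a3218cd26634ffffe653519cc66931990c865351a4c9ff34194d46332994cfffff9a0d46a3518cc9ffff98cd266331a8d46931990ce68351a0cdff32994d469329a0d26331ffcd46a32998d06732998d466357fcce6434194c864329a8d065349a8c864ff9a3fe67341a0ce66ff9a0d46833198d264ff998cc6931990cc633199cca6631990ce63ff9a0c66934994c7ff321a0c868ff9a4c66332997fe6532190cc6531990cc6933998c869327fcc66a34198cc6a31998cc6832ffffe6332194c863331a8d068ff9a8d063ff98cce6532ffcc666329a8c66631994c667347fcca643218cca6533190c666ff997fe6a351a8ce69ff994ca6932990c9ff))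
) (.leaf (nat_lit 0x7ffffffffffffffffffffffffffffffffffffffffffffffffffffffffffffffffffffffffffffffffffffffffffffffffffffffffffffffffffffffffffffffffffffffffffffffffffffffffffffffffffffffffffffffffffffffffffffffffffffffffffffffffffffffffffffffffffffffffffffffffffffffffffffffffffffffffffffffffffffffffffffffffffffffffffffffffffffffffffffffffffffffffffffffffffffffffffff11ffffffffffffffffffffffffffffffffffffffffffffffffffffffffffffffffffffffffffc49fffffffffffffffffffffffffffffffffffffffffffffffffffffffffffffffffffffffffffffffffffffffffffffffffffffffffffffffffffffffffffffffffffffffffffffffffffffffffffffffffffffffffffffffffffffffffffffff))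
) (.node (.node (.leaf (nat_lit 0x7ffffffffffffffffffffffff06fffffffff8381bfffffffffffff833ffffffffffe0efffffffff077fc19ffffffffffffffffffffffffffe0dffffc1dfffffffffffffffffffffffffffffffffffffffffffffffffffffffffffffffffffffc19ffffffffffffffffffffffffffffffffffffffffffc1bffffffffffffffffffff06ffffe0effffffffffffffffffffffffe0e06ffffffffffffffffffffffe0dfffffffffffffffffffffffffffffffffffffffffffffffffffffffffffffffffffffffffffffffffffffffffffffffffffffffffffffffffffffff837fffffffffffffffffffffffffffffffffffffffffffffffffffffffffffffffffffffffffffffffffffffffffffffffffffffffffffffffffffffffffffffffffffffffffffffffffffffffffffffffffffffffffffffff))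
 (.leaf (nat_lit 0x1d3fe72ffffcec7638ffffe72ffffce473ffffce9ff3a7ffffff38ffce87239ffffe75ff9cbfe75ffffffe72ff9d3fe76397ffffff397fffe71ff9cce5ffff9d3ffff399c7fe71ffffce6743a7ffffffff9cbffffff9cce3fffffffffff39ffffe713afffffff3b7fce672ffffcea75ffffce473ff9d4e7ff3a1d0e3ffffffce5ffff9d3ffffff9cce9ff38ffcea75ffffcec74ff9cbffffffffce9ff397fffe76ff9c4edff3b7ffffff3a7ffffff3a7fcec73391cffe75ff9c4e475ffffcedffff9dbfffffffffffff3a1c4ebffff9d8e672ffffcec7538ffcec74397ffffffff9c7fe72ffffffe713affffe713a7fce5ff3b7ffffffff9c8e9ffff9d4e9ff3affce5ffffffce7ff3b1d7ffffffffce274ff9dbffffffffce675ff9d4e674389cbffff3a7fffe76ffffcea72ff9d3ffff3b1c7ffff))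
) (.leaf (nat_lit 0x164b3ff2c170b4572a96cac5c2a96cb2552c7fcafff2c15cb4582bffcb6552a968aa592c15cb25c2b164b6552e15cae5c2c7fcac5a2e160ae562b7fcb0582d7fcaa572e7fcae5a2c960b7ff2a968aa582bffcaa562b16cac5c2e170aa59ff958b45b2affcac562d15cb45a2a968aa562e170ac5c2c16cabff2bffcb4592a960b7ff2c7fcb0572c963fe582b154b05b2a958aa592a973fe562b15cac572a96cb2572d95cae552c154b25b2d958ac5cff954ac59ffffcadff2c170aa582b160b65bff954afff2d160b45c2b163fe582d168b0592b96ffe58ff970ae5c2c170ae572b15cb4552c160b05c2b964ae57ff968aa582a95cb0572b954b9ff2c163fe582c96ffe552b154ae552a970aa552c958ae562b164aa5a2d95cae56ff95cae5c2a96cb255ff96cb3ff2a95cac592d154aa5b2cffcb5ff))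
)) (.node (.node (.node (.leaf (nat_lit 0x7ffffffffffffffffffffffffffffc11ff047ffffff04fffffffffffffe0bfffffffffffffffffffffffffff04ffffe0effffc17ffff8301dffff827ffffffffffffffffffffffffffffffffffffffffffffffffffffffffffff833fffffffffffff057fffe0cffffffffffffffffffffffffffffffffffffffffffe0efffffffffff83415ffffffffffffffffffffffffffffffffffffffff8201bffffffffffffffffffffffffffffffffffffff047ffffffffffffffffffffffffffffffffffffffffffff833ffff06ffffffffffffffffffffc13ff05fffffffffffc1bfffffffffff06fffffffff837fffffffffffffffffffffffffffffff077ffffffffffffffffffffffffff82bfffffffffffffffffffffffffffffffffffffe0afffffffffffffffffffffffffffffffffffffffffffff))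
 (.leaf (nat_lit 0x7fcd66cffffcda6eff9c3fe6effffcdbffff9bcd9ffff9affe6c377ffffff371c3fe6bffffffe6fff9b7fe70361b7ffff361c3ffff361c3ffffff9b8d66e361bcdffffffffffffffffffe6e36ffcd66fffffcdfffffffcd9ffffffffe6cffffffe6d387fcdc6bffffce06effffcddffffffcd86eff9afffffffffce1ff37fffffffff9c3ffffff9b7fe6b36ffffe6dff9bffe6dff9b3fe70ff9b3fe6c379bbfe70359acd7ff37fffffff369bffe6b367ffffffffffcd7ffff9afffffff9bcd9ff371b7ffffff9affe6eff9b3ffffffffffe6b381bce1ff35ffcd86f381b7fe6fffffcda6e387fcd9fffffffffff37ffce1ff359afffff37ffcd7fffffffffff381bcd9ffff9b4d86d379bbfe6cff9b4d86effffffe6d387fcda6efffffffffff9bbfe6f387ffffffff9b0dc6b37ffcddfffffffffff))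
) (.leaf (nat_lit 0x7fffffffffffffffffffffffffffffffffffffffffffffffffffff8afffffffffffe29fffffffffffffffffffffffffffffffffffffffffffffffffffffffffffffffffffffffffffffffffffffffffffffffffffffffffffffffffffffffffc55fffffffffffffffffffffffffffffffffffffffffffffffffffffffffffffffff157fffe29ffffffffffffffffffffffffe2a167fffffffffffffffffffffe2cfffffffffffffffffffffffffffffffffffffffffffffffffffffffffffffffffffffffffffffffffffffffffffffffffffffffffffffffffffffffffffffffffffffffffffffffffffffffffffffffffffffffffffffffffffffffffffffffffffffffffffffffffffffffffffffffffffffffffffffffffffffffffffffffffffffffffffffffffffffffffffffffffffffffff))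
) (.node (.leaf (nat_lit 0x7fffe19fffffffffffffffffffffffffffffffffffffffffffffffffffffffffffffffffffffffffffffffffffffffffffffffffffffffffffffffffffffff87bffffffffffffffffffffffffffffffffffffffffffffffffffffffffffffffffffffffffffffffffffffffffffffffffffffffffffffffffffffffffffffffffffffffffffffffffffffffffffffffffffffffffffffffffffffffffffffffffffffffffffffffffffffffffffff0fffffffffffffffffffffffffffffffffffffffffffffffffffffffffffffffffffffffffffc35fffffffffffffffffffffffffffffffffffffffffffffffffffffffffffffffffffffffffffffffffffffffffffffffffffffffffffffffffffffffffffffffffffffffffffffffffffffffffffffffffffffffffffffffffffffffffffffff))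
 (.leaf (nat_lit 0x188c3ff30980ba5e30178c45e3017cbc612f7fcc1ff30184bc5f307fcc06131188be5e31180c25d2f180c2602f184be5f2effcbc5e30978c25e30ffcbc602fffcc262317fcbc603117cc3ff31180c45d2fffcc4622f178c4622f17cc25eff988bc5e30ffcc05d31184bc5e30174c06230988bc5e30974c1ff307fcc46231188bdff2effcba5f2e983fe6130984ba6031188c25d3117bfe5f30984bc6230184c0602f188c05f30180bc5f3117cc05eff974ba60ffffcbdff2f980bc6230988ba62ff988c1ff30184be613118bfe5f31188c05f30987fe5dff97cba5d30184c06230984c25f3097cc45d30174c45fff978c45f2e984ba612f974c3ff30983fe5e2f97bfe6230974be5f30174c46131178c45e2e97cba623017cbe62ff984ba5d30978c061ff974bdff30980c25e31184c45e307fcbbff))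
))) (.node (.node (.node (.node (.leaf (nat_lit 0x241807ff8241c0cffffc13ff068380e0d060300fff057fc17ff05823fe0dffffc0e0e06fffffff067fc17ff037fc1c06058200fff0381c0c0a0501c1dff06ffc1807ff833ffffff827ffff0682bfe0bff82bfe0e04fffffffff81ffe09ffffc0e0805837fe06ffffffe0cffffffe0bff837fe0aff81c1608ffffffe06fffffffff0302c0e08fffffffffffffc120d06ffffe09047ffffffff81c15ffffffffe06ff82ffe09ffffc1bfffffffffff04fffffffffffc19ff07033fe06ffffc15ff0381bffff0401813ff037fffffffffffffff06ffc0dff037ffffffff8241dff067ffffff067ffffffff81bfe08ffffc17fffffffffffff82c0dff03fffffffffffffe08fffffffffff81bffff05ffffffffffffffffffffc15ffffffffe08fffffffffffffffe0afffffffff04fffffffffffffe0b))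
 (.leaf (nat_lit 0x7fccffffffffffff347ffffffffffffffffffffffff33fffffffff9a7fffffffffffffff9a7ffffffffffe69fffffffff347ffffffff9a3fffffffffffff33fffffffffffffffffffffffff357ffffffffffffffffffffffffffffcd5fffffffffffffffffffffffffffffffffcd3fffffffffffff9a7fffffffffffffffffcd3fffffffffffffffffffffffffffff33ffffe6a339abfffffffffffffffffffe6a347ffffffffffffffffffffffffffffffffffffffffffffffffffffffffffffffffffffffffffffffffffffffffffffffffffffffffffffffffffffffffffffffffffffffffffffffffffffffffffffffffffffffffffffffffffffffffffffffffffffffffffffffffffffffffffffffffffffffffffffffffffffffffffffffffffffffffffffffffffffffffffffffffffffff))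
) (.leaf (nat_lit 0x7ffffff167ffffffff8afffffffffffffffffffffffff89ffe27ffffc4fff138abffffffffc5bffffffffe28fffffffffffffffffffffffffffffffffffffffffffffffffffffffffffffffffffffffffffffffffffffc57ff137fc57ff12fffffffffffffffffffffffffffffffffffffffffff12fffffffff8944dffffffc4bfffffffffffffffffffffffffffffffffffffffffffffff15ffffffffffffffffffffffffffffffffffffffffffffffffffffffffffffffffffffff16fffffffffffffffffffffffffffffffffffffffffffffffffe28ffffc4bfffffffffffffffffe29ff8a7ffffffffffffffffffffffffffffe27ffffffffffffffffffffffffffffffffffffffffffffffffffffffffffffe28137ffffffffffffffffffffffffffffffffffffffffffffffffffffffffffff))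
) (.node (.node (.leaf (nat_lit 0x7fffffffffffffffffffffffffffffffffffffffffffffffffffffffffffffffffffffffffffffffffffffffffffffffffffffffffffffffffffffffffffffffffffffffffffffffffffffffffffffffffffffffffffffffffffffffffffffffffffffffffffffffffffffffffffffffffffffffffffffffffffffffffffffffffffffffffffffffffffffffffffffffffffffffffffffffffffffffffffffffffffffffffffffffffffffffffffffffffffffffffffffffffffffffffffffffffffffffffffffffffffffffffffffffffffffffffffffffffffffffffffffffffffffffffffffffffffffffffffffffffffffffffffffffffffffffffffe0effffffffffffffffffffffffffffffffffffffffffffffffffffffffffffffffffffffffffffffffffffffffffffffffffffffffffff))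
 (.leaf (nat_lit 0x7ffffffffffffffffffffffffffffffffffffffffffffffffffffffffffffffffffffffffffffffff9d7fffffffffffffffffffffffffffffffffffffffffffffffffffffffffffffffffffffffffe76fffffffffffffffffffffffffffffffffffffffffffffffffffffffffffffffffffffffffffffffffffffffffffffffffffffffffffffffffffffffffffffffffffffffffffffffffffffffffffffffffffffffffffffffffffffffffffffffffffffffffffffffffffffffffffffffffffffffffffffffffffffffffffffffffffffffffffffffffffffffffffffffffffffffffffffffffffffffffffffffffffffffffffffffffffffffffffffffffffffffffffffffffffffffffffffffffffffffffffffffffffffffffffffffffffffffffffffffffffffffffffffffffffffffffff))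
) (.leaf (nat_lit 0x16fffffffffffffffffffffffffffffffffffffffffffffffe59ffffcb65afffffffffffffcb259ff96bfffffffffffffffffffffffffffffffffffffffffffffffff2e7fffe5b2e7fcb9ffffffffffffffffffff2c967fe59fffffffffff96ffffffffffffffff96ffffffffffffff2d7fffffffffffffffffffffffffffffffffffffffffffffffffffffffffffffffffffffffffffffffffffffffffffcb5ff2cffffffffffffffff2d7ffffffffffffffffffffffffffffffffffffffffffffffffffffffffffffffffffffffffffffffffffffffffffffffffffffffffffffffffffffffffffffffffffffffffffffffffffffffffffffffffffffffffffffffffffffffffffffffffffffffffffffffffffffffffffffffffffffffffffffffffffffffffffffffffffffffffffffffffffff))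
)) (.node (.node (.node (.leaf (nat_lit 0x7ffffff077ffffffff82bffffffffffffffffffffffff833fe0cffffc15ff0503bffffffffc19ffffffffe0efffffffffffffffffffffffffffffffffffffffffffffffffffffffffffffffffffffffffffffffffffffc1bff077fc1bff05fffffffffffffffffffffffffffffffffffffffffff05fffffffff82c17ffffffc17fffffffffffffffffffffffffffffffffffffffffffffff067fffffffffffffffffffffffffffffffffffffffffffffffffffffffffffffffffffff067ffffffffffffffffffffffffffffffffffffffffffffffffe0dffffc1bfffffffffffffffffe0eff82bffffffffffffffffffffffffffffe0dffffffffffffffffffffffffffffffffffffffffffffffffffffffffffffe0d057ffffffffffffffffffffffffffffffffffffffffffffffffffffffffffff))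
 (.leaf (nat_lit 0x7ffffffffffffffffffffffffffffcdffffffffffffffffffffffffffffffffffffffffffffffffffffffffffffffffffffffffffffffffffffffffce1fffffffffffffffffffffffffffffffffffffffffffffffffffffffffffffffffffffffffffffffffffffffffffffffffffffffffffffffffffffffffffffffffffffffffffffffffffffffffffffffffffffffffffffffffffffffffffffffffffffffffffffffffffffffffffffffffffffffffffffffffffffffffffffffffffffffffffffffffffffffffffffffffffffffffffffffffffffffffffffffffffffffffffffffffffffffffffffffffffffffffffffffffffffffffffffffffffffffffffffffffffffffffffffffffffffffffffffffffffffffffffffffffffffffffffffffffffffffffffffffffffffffffffffffff))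
) (.leaf (nat_lit 0x7fffffffffffffffffffffffffffffffffffffffffffffffffffffffffffffffffffffffffffffffffffffffffffffffffffffffffffffffffffffffffffffffffffffffffffffffffffffffffffffffffffffffffffffffffffffffffffffffffffffffffffffffffffffffffffffffffffffffffffffffffffffffffffffffffffffffffffffffffffffffffffffffffffffffffffffffffffffffffffffffffffffffffffffffffffffffffffffffffffffffffffffffffffffffffffffffffffffffffffffffffffffffffffffffffffffffffffffffffffffffffffffffffffffffffffffffffffffffffffffffffffffffffffffffffffffffffffe2dffffffffffffffffffffffffffffffffffffffffffffffffffffffffffffffffffffffffffffffffffffffffffffffffffffffffffff))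
) (.node (.leaf (nat_lit 0x7fffe23ffffffffffffffffffffffffffffffffffffffffffffffffffffffffffffffffffffffffffffffffffffffffffffffffffffffffffffffffffffffffffffffffffffffffffffffffffffffffffffffffffffffffffffffffffffffffffffffffffffffffffffffffffffffffffffffffffffffffffffffffffffffffffffffffffffffffffffffffffffffffffffffffffffffffffffffffffffffffffffffffffffffffffffffffffffff10ffffffffffffffffffffffffffffffffffffffffffffffffffffffffffffffffffffffffffc45fffffffffffffffffffffffffffffffffffffffffffffffffffffffffffffffffffffffffffffffffffffffffffffffffffffffffffffffffffffffffffffffffffffffffffffffffffffffffffffffffffffffffffffffffffffffffffffff))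
 (.leaf (nat_lit 0x7fffffffffffffffffffffffffffffffffffffffffffffffffffffffffffffffffffffffffffffffffffffffffffcc3ffffffffe62fffffffffffffffffffffffffffffffffffffffffffffffffffffffffffffffffffffffffffffffffffffffffffffffffffffffffffffffffffffffffffffffffffffffffffffffffffffffffffffffffffffffffffffffffffffffffffffffffffffffffffffffffffffffffffffffffffffffffffffffffffffffffffffffffffffffffffffffffffffffffffffffffffffffffffffffffffffffffffffffffffffffffffffffffffffffffffffffffffffffffffffffffffffffffffffffffffffffffffffffffffffffffffffffffffffffffffffffffffffffffffffffffffffffffffffffffffffffffffffffffffffffffffffffffffffffffffffffff))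
))))

/-- Orbit labels. -/
noncomputable def E : ℕ → ℕ → ℕ := tabS Et (nat_lit 9) (nat_lit 511)

/-- Labels for the centre. -/
noncomputable def Ez (x p : ℕ) : ℕ :=
  Bool.rec (Bool.rec (nat_lit 511) (Nat.succ x) (Nat.beq p (nat_lit 277))) x (Nat.beq p (nat_lit 276))

/-- The nodes. -/
noncomputable def M : Mod where
  N := (nat_lit 8)
  R := (nat_lit 169)
  src := fun _ => 0
  tgt := fun _ => 0
  h := .leaf []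
  c := .leaf []
  lo := (getP (nat_lit 7) (nat_lit 127) (nat_lit 0xe3af1ddab0cb80))
  k := (getP (nat_lit 3) (nat_lit 7) (nat_lit 0x4925ae))
  hi := (getP (nat_lit 7) (nat_lit 127) (nat_lit 0xefc75e3bb55806))
  E := E
  S := fun _ _ _ => 0
  nl := 0

noncomputable def Fi0 : LT :=
(.node (.node (.node (.node (.node (.node (.node (.node (.leaf [nat_lit 0,nat_lit 0,nat_lit 0,nat_lit 0,nat_lit 3])
 (.leaf [nat_lit 2,nat_lit 1,nat_lit 7,nat_lit 7,nat_lit 511])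
) (.node (.leaf [nat_lit 0,nat_lit 1,nat_lit 6,nat_lit 6,nat_lit 7])
 (.leaf [nat_lit 0,nat_lit 1,nat_lit 6,nat_lit 3,nat_lit 1])
)) (.node (.node (.leaf [nat_lit 2,nat_lit 1,nat_lit 6,nat_lit 6,nat_lit 127])
 (.leaf [nat_lit 0,nat_lit 1,nat_lit 4,nat_lit 4,nat_lit 1])
) (.leaf [nat_lit 0,nat_lit 1,nat_lit 7,nat_lit 6,nat_lit 1])
)) (.node (.node (.node (.leaf [nat_lit 2,nat_lit 1,nat_lit 5,nat_lit 4,nat_lit 63])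
 (.leaf [nat_lit 0,nat_lit 1,nat_lit 3,nat_lit 4,nat_lit 1])
) (.node (.leaf [nat_lit 2,nat_lit 1,nat_lit 7,nat_lit 4,nat_lit 319])
 (.leaf [nat_lit 0,nat_lit 1,nat_lit 7,nat_lit 7,nat_lit 1])
)) (.node (.node (.leaf [nat_lit 2,nat_lit 1,nat_lit 6,nat_lit 4,nat_lit 191])
 (.leaf [nat_lit 0,nat_lit 1,nat_lit 6,nat_lit 7,nat_lit 1])
) (.leaf [nat_lit 0,nat_lit 1,nat_lit 7,nat_lit 7,nat_lit 7])
))) (.node (.node (.node (.node (.leaf [nat_lit 0,nat_lit 0,nat_lit 3,nat_lit 3,nat_lit 0])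
 (.leaf [nat_lit 0,nat_lit 1,nat_lit 0,nat_lit 1,nat_lit 1])
) (.node (.leaf [nat_lit 2,nat_lit 1,nat_lit 7,nat_lit 6,nat_lit 287])
 (.leaf [nat_lit 0,nat_lit 1,nat_lit 7,nat_lit 6,nat_lit 1])
)) (.node (.node (.leaf [nat_lit 0,nat_lit 1,nat_lit 6,nat_lit 6,nat_lit 7])
 (.leaf [nat_lit 0,nat_lit 1,nat_lit 6,nat_lit 7,nat_lit 1])
) (.leaf [nat_lit 2,nat_lit 1,nat_lit 7,nat_lit 6,nat_lit 415])
)) (.node (.node (.node (.leaf [nat_lit 0,nat_lit 1,nat_lit 6,nat_lit 4,nat_lit 1])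
 (.leaf [nat_lit 0,nat_lit 1,nat_lit 4,nat_lit 4,nat_lit 1])
) (.node (.leaf [nat_lit 0,nat_lit 1,nat_lit 6,nat_lit 7,nat_lit 7])
 (.leaf [nat_lit 0,nat_lit 1,nat_lit 7,nat_lit 6,nat_lit 1])
)) (.node (.node (.leaf [nat_lit 0,nat_lit 1,nat_lit 4,nat_lit 5,nat_lit 7])
 (.leaf [nat_lit 0,nat_lit 1,nat_lit 6,nat_lit 4,nat_lit 1])
) (.leaf [nat_lit 0,nat_lit 1,nat_lit 4,nat_lit 7,nat_lit 1])
)))) (.node (.node (.node (.node (.node (.leaf [nat_lit 0,nat_lit 0,nat_lit 2,nat_lit 2,nat_lit 2])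
 (.leaf [nat_lit 0,nat_lit 1,nat_lit 7,nat_lit 7,nat_lit 1])
) (.node (.leaf [nat_lit 0,nat_lit 1,nat_lit 5,nat_lit 7,nat_lit 7])
 (.leaf [nat_lit 0,nat_lit 1,nat_lit 7,nat_lit 4,nat_lit 1])
)) (.node (.node (.leaf [nat_lit 0,nat_lit 1,nat_lit 6,nat_lit 6,nat_lit 1])
 (.leaf [nat_lit 0,nat_lit 1,nat_lit 5,nat_lit 5,nat_lit 1])
) (.leaf [nat_lit 0,nat_lit 1,nat_lit 6,nat_lit 7,nat_lit 7])
)) (.node (.node (.node (.leaf [nat_lit 0,nat_lit 1,nat_lit 6,nat_lit 6,nat_lit 1])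
 (.leaf [nat_lit 0,nat_lit 1,nat_lit 4,nat_lit 4,nat_lit 1])
) (.node (.leaf [nat_lit 0,nat_lit 1,nat_lit 7,nat_lit 4,nat_lit 1])
 (.leaf [nat_lit 0,nat_lit 1,nat_lit 7,nat_lit 7,nat_lit 1])
)) (.node (.node (.leaf [nat_lit 0,nat_lit 1,nat_lit 6,nat_lit 4,nat_lit 1])
 (.leaf [nat_lit 0,nat_lit 1,nat_lit 6,nat_lit 6,nat_lit 1])
) (.leaf [nat_lit 2,nat_lit 1,nat_lit 7,nat_lit 7,nat_lit 463])
))) (.node (.node (.node (.node (.leaf [nat_lit 0,nat_lit 1,nat_lit 4,nat_lit 4,nat_lit 7])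
 (.leaf [nat_lit 0,nat_lit 1,nat_lit 3,nat_lit 7,nat_lit 1])
) (.node (.leaf [nat_lit 2,nat_lit 1,nat_lit 7,nat_lit 5,nat_lit 303])
 (.leaf [nat_lit 0,nat_lit 1,nat_lit 7,nat_lit 6,nat_lit 1])
)) (.node (.node (.leaf [nat_lit 0,nat_lit 1,nat_lit 3,nat_lit 4,nat_lit 7])
 (.leaf [nat_lit 0,nat_lit 1,nat_lit 6,nat_lit 4,nat_lit 1])
) (.leaf [nat_lit 0,nat_lit 1,nat_lit 7,nat_lit 6,nat_lit 1])
)) (.node (.node (.node (.leaf [nat_lit 0,nat_lit 1,nat_lit 4,nat_lit 6,nat_lit 7])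
 (.leaf [nat_lit 0,nat_lit 1,nat_lit 4,nat_lit 4,nat_lit 1])
) (.node (.leaf [nat_lit 2,nat_lit 1,nat_lit 7,nat_lit 6,nat_lit 367])
 (.leaf [nat_lit 0,nat_lit 1,nat_lit 7,nat_lit 6,nat_lit 1])
)) (.node (.node (.leaf [nat_lit 2,nat_lit 1,nat_lit 5,nat_lit 4,nat_lit 239])
 (.leaf [nat_lit 0,nat_lit 1,nat_lit 6,nat_lit 4,nat_lit 1])
) (.leaf [nat_lit 0,nat_lit 1,nat_lit 7,nat_lit 4,nat_lit 7])
))))) (.node (.node (.node (.node (.node (.node (.leaf [nat_lit 0,nat_lit 0,nat_lit 1,nat_lit 1,nat_lit 2])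
 (.leaf [nat_lit 0,nat_lit 1,nat_lit 7,nat_lit 4,nat_lit 7])
) (.node (.leaf [nat_lit 0,nat_lit 1,nat_lit 4,nat_lit 6,nat_lit 1])
 (.leaf [nat_lit 0,nat_lit 1,nat_lit 7,nat_lit 4,nat_lit 1])
)) (.node (.node (.leaf [nat_lit 0,nat_lit 1,nat_lit 6,nat_lit 6,nat_lit 7])
 (.leaf [nat_lit 0,nat_lit 1,nat_lit 5,nat_lit 7,nat_lit 1])
) (.leaf [nat_lit 2,nat_lit 1,nat_lit 7,nat_lit 6,nat_lit 391])
)) (.node (.node (.node (.leaf [nat_lit 2,nat_lit 1,nat_lit 6,nat_lit 1,nat_lit 71])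
 (.leaf [nat_lit 0,nat_lit 1,nat_lit 4,nat_lit 7,nat_lit 1])
) (.node (.leaf [nat_lit 0,nat_lit 1,nat_lit 4,nat_lit 7,nat_lit 7])
 (.leaf [nat_lit 0,nat_lit 1,nat_lit 7,nat_lit 6,nat_lit 1])
)) (.node (.node (.leaf [nat_lit 0,nat_lit 1,nat_lit 4,nat_lit 4,nat_lit 7])
 (.leaf [nat_lit 0,nat_lit 1,nat_lit 6,nat_lit 6,nat_lit 1])
) (.leaf [nat_lit 0,nat_lit 1,nat_lit 7,nat_lit 7,nat_lit 1])
))) (.node (.node (.node (.node (.leaf [nat_lit 2,nat_lit 1,nat_lit 4,nat_lit 1,nat_lit 39])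
 (.leaf [nat_lit 0,nat_lit 1,nat_lit 1,nat_lit 6,nat_lit 1])
) (.node (.leaf [nat_lit 0,nat_lit 1,nat_lit 7,nat_lit 6,nat_lit 7])
 (.leaf [nat_lit 0,nat_lit 1,nat_lit 7,nat_lit 4,nat_lit 1])
)) (.node (.node (.leaf [nat_lit 2,nat_lit 1,nat_lit 4,nat_lit 6,nat_lit 167])
 (.leaf [nat_lit 0,nat_lit 1,nat_lit 6,nat_lit 6,nat_lit 1])
) (.leaf [nat_lit 0,nat_lit 1,nat_lit 6,nat_lit 7,nat_lit 7])
)) (.node (.node (.node (.leaf [nat_lit 2,nat_lit 1,nat_lit 6,nat_lit 4,nat_lit 103])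
 (.leaf [nat_lit 0,nat_lit 1,nat_lit 4,nat_lit 7,nat_lit 1])
) (.node (.leaf [nat_lit 0,nat_lit 1,nat_lit 7,nat_lit 6,nat_lit 1])
 (.leaf [nat_lit 0,nat_lit 1,nat_lit 7,nat_lit 4,nat_lit 1])
)) (.node (.node (.leaf [nat_lit 0,nat_lit 1,nat_lit 4,nat_lit 4,nat_lit 1])
 (.leaf [nat_lit 0,nat_lit 1,nat_lit 6,nat_lit 6,nat_lit 1])
) (.leaf [nat_lit 2,nat_lit 1,nat_lit 7,nat_lit 7,nat_lit 487])
)))) (.node (.node (.node (.node (.node (.leaf [nat_lit 2,nat_lit 1,nat_lit 3,nat_lit 1,nat_lit 23])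
 (.leaf [nat_lit 0,nat_lit 0,nat_lit 0,nat_lit 0,nat_lit 9])
) (.node (.leaf [nat_lit 0,nat_lit 1,nat_lit 7,nat_lit 6,nat_lit 1])
 (.leaf [nat_lit 0,nat_lit 1,nat_lit 7,nat_lit 6,nat_lit 1])
)) (.node (.node (.leaf [nat_lit 2,nat_lit 1,nat_lit 6,nat_lit 6,nat_lit 151])
 (.leaf [nat_lit 0,nat_lit 1,nat_lit 5,nat_lit 1,nat_lit 1])
) (.leaf [nat_lit 0,nat_lit 1,nat_lit 7,nat_lit 6,nat_lit 1])
)) (.node (.node (.node (.leaf [nat_lit 2,nat_lit 1,nat_lit 4,nat_lit 6,nat_lit 87])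
 (.leaf [nat_lit 0,nat_lit 1,nat_lit 4,nat_lit 6,nat_lit 1])
) (.node (.leaf [nat_lit 2,nat_lit 1,nat_lit 7,nat_lit 4,nat_lit 343])
 (.leaf [nat_lit 0,nat_lit 1,nat_lit 7,nat_lit 7,nat_lit 1])
)) (.node (.node (.leaf [nat_lit 2,nat_lit 1,nat_lit 6,nat_lit 4,nat_lit 215])
 (.leaf [nat_lit 0,nat_lit 1,nat_lit 6,nat_lit 6,nat_lit 1])
) (.leaf [nat_lit 0,nat_lit 1,nat_lit 7,nat_lit 7,nat_lit 7])
))) (.node (.node (.node (.node (.leaf [nat_lit 0,nat_lit 1,nat_lit 5,nat_lit 1,nat_lit 1])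
 (.leaf [nat_lit 0,nat_lit 1,nat_lit 3,nat_lit 4,nat_lit 1])
) (.node (.leaf [nat_lit 0,nat_lit 1,nat_lit 7,nat_lit 3,nat_lit 1])
 (.leaf [nat_lit 0,nat_lit 1,nat_lit 7,nat_lit 7,nat_lit 1])
)) (.node (.node (.leaf [nat_lit 0,nat_lit 1,nat_lit 4,nat_lit 3,nat_lit 1])
 (.leaf [nat_lit 0,nat_lit 1,nat_lit 6,nat_lit 7,nat_lit 1])
) (.leaf [nat_lit 2,nat_lit 1,nat_lit 7,nat_lit 6,nat_lit 439])
)) (.node (.node (.node (.leaf [nat_lit 0,nat_lit 1,nat_lit 5,nat_lit 6,nat_lit 1])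
 (.leaf [nat_lit 0,nat_lit 1,nat_lit 4,nat_lit 7,nat_lit 1])
) (.leaf [nat_lit 0,nat_lit 1,nat_lit 6,nat_lit 7,nat_lit 7])
) (.node (.node (.leaf [nat_lit 0,nat_lit 1,nat_lit 6,nat_lit 4,nat_lit 7])
 (.leaf [nat_lit 0,nat_lit 1,nat_lit 6,nat_lit 6,nat_lit 1])
) (.leaf [nat_lit 0,nat_lit 1,nat_lit 4,nat_lit 7,nat_lit 1])
)))))) (.node (.node (.node (.node (.node (.node (.node (.leaf [nat_lit 1,nat_lit 1,nat_lit 0,nat_lit 1,nat_lit 0])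
 (.leaf [nat_lit 0,nat_lit 1,nat_lit 7,nat_lit 7,nat_lit 1])
) (.node (.leaf [nat_lit 2,nat_lit 1,nat_lit 6,nat_lit 6,nat_lit 259])
 (.leaf [nat_lit 0,nat_lit 1,nat_lit 6,nat_lit 4,nat_lit 1])
)) (.node (.node (.leaf [nat_lit 0,nat_lit 1,nat_lit 6,nat_lit 6,nat_lit 1])
 (.leaf [nat_lit 0,nat_lit 1,nat_lit 4,nat_lit 4,nat_lit 1])
) (.leaf [nat_lit 0,nat_lit 1,nat_lit 6,nat_lit 7,nat_lit 7])
)) (.node (.node (.node (.leaf [nat_lit 0,nat_lit 1,nat_lit 5,nat_lit 3,nat_lit 7])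
 (.leaf [nat_lit 0,nat_lit 1,nat_lit 4,nat_lit 6,nat_lit 1])
) (.node (.leaf [nat_lit 0,nat_lit 1,nat_lit 7,nat_lit 4,nat_lit 1])
 (.leaf [nat_lit 0,nat_lit 1,nat_lit 7,nat_lit 4,nat_lit 1])
)) (.node (.node (.leaf [nat_lit 0,nat_lit 1,nat_lit 4,nat_lit 4,nat_lit 1])
 (.leaf [nat_lit 0,nat_lit 1,nat_lit 6,nat_lit 6,nat_lit 1])
) (.leaf [nat_lit 2,nat_lit 1,nat_lit 7,nat_lit 7,nat_lit 451])
))) (.node (.node (.node (.node (.leaf [nat_lit 0,nat_lit 0,nat_lit 4,nat_lit 4,nat_lit 2])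
 (.leaf [nat_lit 0,nat_lit 1,nat_lit 1,nat_lit 3,nat_lit 1])
) (.node (.leaf [nat_lit 0,nat_lit 1,nat_lit 4,nat_lit 7,nat_lit 1])
 (.leaf [nat_lit 0,nat_lit 1,nat_lit 7,nat_lit 6,nat_lit 1])
)) (.node (.node (.leaf [nat_lit 2,nat_lit 1,nat_lit 4,nat_lit 6,nat_lit 163])
 (.leaf [nat_lit 0,nat_lit 1,nat_lit 6,nat_lit 6,nat_lit 1])
) (.leaf [nat_lit 0,nat_lit 1,nat_lit 7,nat_lit 6,nat_lit 1])
)) (.node (.node (.node (.leaf [nat_lit 0,nat_lit 1,nat_lit 3,nat_lit 6,nat_lit 7])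
 (.leaf [nat_lit 0,nat_lit 1,nat_lit 4,nat_lit 6,nat_lit 1])
) (.node (.leaf [nat_lit 2,nat_lit 1,nat_lit 7,nat_lit 6,nat_lit 355])
 (.leaf [nat_lit 0,nat_lit 1,nat_lit 7,nat_lit 6,nat_lit 1])
)) (.node (.node (.leaf [nat_lit 2,nat_lit 1,nat_lit 3,nat_lit 4,nat_lit 227])
 (.leaf [nat_lit 0,nat_lit 1,nat_lit 6,nat_lit 7,nat_lit 1])
) (.leaf [nat_lit 0,nat_lit 1,nat_lit 7,nat_lit 7,nat_lit 7])
)))) (.node (.node (.node (.node (.node (.leaf [nat_lit 2,nat_lit 1,nat_lit 2,nat_lit 1,nat_lit 19])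
 (.leaf [nat_lit 2,nat_lit 1,nat_lit 7,nat_lit 7,nat_lit 531])
) (.node (.leaf [nat_lit 2,nat_lit 1,nat_lit 7,nat_lit 6,nat_lit 275])
 (.leaf [nat_lit 0,nat_lit 1,nat_lit 7,nat_lit 7,nat_lit 1])
)) (.node (.node (.leaf [nat_lit 0,nat_lit 1,nat_lit 6,nat_lit 4,nat_lit 7])
 (.leaf [nat_lit 0,nat_lit 1,nat_lit 5,nat_lit 4,nat_lit 1])
) (.leaf [nat_lit 2,nat_lit 1,nat_lit 7,nat_lit 6,nat_lit 403])
)) (.node (.node (.node (.leaf [nat_lit 0,nat_lit 1,nat_lit 6,nat_lit 6,nat_lit 7])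
 (.leaf [nat_lit 0,nat_lit 1,nat_lit 4,nat_lit 7,nat_lit 1])
) (.node (.leaf [nat_lit 0,nat_lit 1,nat_lit 4,nat_lit 7,nat_lit 7])
 (.leaf [nat_lit 0,nat_lit 1,nat_lit 7,nat_lit 6,nat_lit 1])
)) (.node (.node (.leaf [nat_lit 0,nat_lit 1,nat_lit 4,nat_lit 6,nat_lit 7])
 (.leaf [nat_lit 0,nat_lit 1,nat_lit 6,nat_lit 7,nat_lit 1])
) (.leaf [nat_lit 0,nat_lit 1,nat_lit 7,nat_lit 7,nat_lit 1])
))) (.node (.node (.node (.node (.leaf [nat_lit 0,nat_lit 0,nat_lit 5,nat_lit 5,nat_lit 2])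
 (.leaf [nat_lit 0,nat_lit 1,nat_lit 3,nat_lit 4,nat_lit 1])
) (.node (.leaf [nat_lit 2,nat_lit 1,nat_lit 4,nat_lit 7,nat_lit 307])
 (.leaf [nat_lit 0,nat_lit 1,nat_lit 7,nat_lit 6,nat_lit 1])
)) (.node (.node (.leaf [nat_lit 2,nat_lit 1,nat_lit 4,nat_lit 3,nat_lit 179])
 (.leaf [nat_lit 0,nat_lit 1,nat_lit 6,nat_lit 6,nat_lit 1])
) (.leaf [nat_lit 0,nat_lit 1,nat_lit 6,nat_lit 7,nat_lit 7])
)) (.node (.node (.node (.leaf [nat_lit 2,nat_lit 1,nat_lit 1,nat_lit 6,nat_lit 115])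
 (.leaf [nat_lit 0,nat_lit 1,nat_lit 4,nat_lit 3,nat_lit 1])
) (.leaf [nat_lit 0,nat_lit 1,nat_lit 7,nat_lit 6,nat_lit 1])
) (.node (.node (.leaf [nat_lit 0,nat_lit 1,nat_lit 5,nat_lit 4,nat_lit 1])
 (.leaf [nat_lit 0,nat_lit 1,nat_lit 6,nat_lit 7,nat_lit 1])
) (.leaf [nat_lit 2,nat_lit 1,nat_lit 7,nat_lit 7,nat_lit 499])
))))) (.node (.node (.node (.node (.node (.node (.leaf [nat_lit 1,nat_lit 1,nat_lit 1,nat_lit 2,nat_lit 0])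
 (.leaf [nat_lit 2,nat_lit 1,nat_lit 7,nat_lit 7,nat_lit 523])
) (.node (.leaf [nat_lit 0,nat_lit 0,nat_lit 7,nat_lit 7,nat_lit 2])
 (.leaf [nat_lit 0,nat_lit 1,nat_lit 7,nat_lit 6,nat_lit 1])
)) (.node (.node (.leaf [nat_lit 2,nat_lit 1,nat_lit 6,nat_lit 6,nat_lit 139])
 (.leaf [nat_lit 0,nat_lit 1,nat_lit 5,nat_lit 7,nat_lit 1])
) (.leaf [nat_lit 0,nat_lit 1,nat_lit 7,nat_lit 6,nat_lit 1])
)) (.node (.node (.node (.leaf [nat_lit 2,nat_lit 1,nat_lit 3,nat_lit 6,nat_lit 75])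
 (.leaf [nat_lit 0,nat_lit 1,nat_lit 4,nat_lit 7,nat_lit 1])
) (.node (.leaf [nat_lit 2,nat_lit 1,nat_lit 7,nat_lit 4,nat_lit 331])
 (.leaf [nat_lit 0,nat_lit 1,nat_lit 7,nat_lit 6,nat_lit 1])
)) (.node (.node (.leaf [nat_lit 2,nat_lit 1,nat_lit 6,nat_lit 4,nat_lit 203])
 (.leaf [nat_lit 0,nat_lit 1,nat_lit 6,nat_lit 6,nat_lit 1])
) (.leaf [nat_lit 0,nat_lit 1,nat_lit 7,nat_lit 7,nat_lit 7])
))) (.node (.node (.node (.node (.leaf [nat_lit 0,nat_lit 1,nat_lit 4,nat_lit 4,nat_lit 1])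
 (.leaf [nat_lit 0,nat_lit 1,nat_lit 1,nat_lit 1,nat_lit 1])
) (.node (.leaf [nat_lit 2,nat_lit 1,nat_lit 6,nat_lit 7,nat_lit 299])
 (.leaf [nat_lit 0,nat_lit 1,nat_lit 7,nat_lit 6,nat_lit 1])
)) (.node (.node (.leaf [nat_lit 0,nat_lit 1,nat_lit 5,nat_lit 6,nat_lit 1])
 (.leaf [nat_lit 0,nat_lit 1,nat_lit 6,nat_lit 6,nat_lit 1])
) (.leaf [nat_lit 2,nat_lit 1,nat_lit 7,nat_lit 6,nat_lit 427])
)) (.node (.node (.node (.leaf [nat_lit 0,nat_lit 1,nat_lit 5,nat_lit 4,nat_lit 1])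
 (.leaf [nat_lit 0,nat_lit 1,nat_lit 4,nat_lit 6,nat_lit 1])
) (.node (.leaf [nat_lit 0,nat_lit 1,nat_lit 6,nat_lit 7,nat_lit 7])
 (.leaf [nat_lit 0,nat_lit 1,nat_lit 7,nat_lit 6,nat_lit 1])
)) (.node (.node (.leaf [nat_lit 0,nat_lit 1,nat_lit 4,nat_lit 3,nat_lit 7])
 (.leaf [nat_lit 0,nat_lit 1,nat_lit 6,nat_lit 7,nat_lit 1])
) (.leaf [nat_lit 0,nat_lit 1,nat_lit 7,nat_lit 7,nat_lit 1])
)))) (.node (.node (.node (.node (.node (.leaf [nat_lit 0,nat_lit 1,nat_lit 3,nat_lit 1,nat_lit 7])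
 (.leaf [nat_lit 0,nat_lit 0,nat_lit 0,nat_lit 0,nat_lit 11])
) (.node (.leaf [nat_lit 0,nat_lit 1,nat_lit 6,nat_lit 7,nat_lit 7])
 (.leaf [nat_lit 0,nat_lit 1,nat_lit 7,nat_lit 7,nat_lit 1])
)) (.node (.node (.leaf [nat_lit 0,nat_lit 1,nat_lit 4,nat_lit 6,nat_lit 1])
 (.leaf [nat_lit 0,nat_lit 1,nat_lit 6,nat_lit 5,nat_lit 1])
) (.leaf [nat_lit 0,nat_lit 1,nat_lit 6,nat_lit 7,nat_lit 7])
)) (.node (.node (.node (.leaf [nat_lit 0,nat_lit 0,nat_lit 6,nat_lit 6,nat_lit 2])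
 (.leaf [nat_lit 0,nat_lit 1,nat_lit 4,nat_lit 7,nat_lit 1])
) (.node (.leaf [nat_lit 0,nat_lit 1,nat_lit 7,nat_lit 5,nat_lit 1])
 (.leaf [nat_lit 0,nat_lit 1,nat_lit 7,nat_lit 6,nat_lit 1])
)) (.node (.node (.leaf [nat_lit 0,nat_lit 1,nat_lit 6,nat_lit 4,nat_lit 1])
 (.leaf [nat_lit 0,nat_lit 1,nat_lit 6,nat_lit 4,nat_lit 1])
) (.leaf [nat_lit 2,nat_lit 1,nat_lit 7,nat_lit 7,nat_lit 475])
))) (.node (.node (.node (.node (.leaf [nat_lit 0,nat_lit 0,nat_lit 5,nat_lit 5,nat_lit 2])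
 (.leaf [nat_lit 0,nat_lit 1,nat_lit 3,nat_lit 4,nat_lit 1])
) (.node (.leaf [nat_lit 0,nat_lit 1,nat_lit 3,nat_lit 7,nat_lit 7])
 (.leaf [nat_lit 0,nat_lit 1,nat_lit 7,nat_lit 7,nat_lit 1])
)) (.node (.node (.leaf [nat_lit 0,nat_lit 1,nat_lit 4,nat_lit 6,nat_lit 7])
 (.leaf [nat_lit 0,nat_lit 1,nat_lit 6,nat_lit 7,nat_lit 1])
) (.leaf [nat_lit 0,nat_lit 1,nat_lit 7,nat_lit 6,nat_lit 1])
)) (.node (.node (.node (.leaf [nat_lit 0,nat_lit 1,nat_lit 6,nat_lit 6,nat_lit 7])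
 (.leaf [nat_lit 0,nat_lit 1,nat_lit 4,nat_lit 5,nat_lit 1])
) (.leaf [nat_lit 2,nat_lit 1,nat_lit 7,nat_lit 6,nat_lit 379])
) (.node (.node (.leaf [nat_lit 2,nat_lit 1,nat_lit 6,nat_lit 6,nat_lit 251])
 (.leaf [nat_lit 0,nat_lit 1,nat_lit 6,nat_lit 5,nat_lit 1])
) (.leaf [nat_lit 0,nat_lit 1,nat_lit 7,nat_lit 6,nat_lit 7])
)))))))
noncomputable def Fi1 : LT :=
(.node (.node (.node (.node (.node (.node (.node (.node (.leaf [nat_lit 0,nat_lit 0,nat_lit 0,nat_lit 0,nat_lit 4])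
 (.leaf [nat_lit 0,nat_lit 1,nat_lit 7,nat_lit 7,nat_lit 1])
) (.node (.leaf [nat_lit 2,nat_lit 1,nat_lit 6,nat_lit 6,nat_lit 256])
 (.leaf [nat_lit 0,nat_lit 1,nat_lit 6,nat_lit 5,nat_lit 1])
)) (.node (.node (.leaf [nat_lit 0,nat_lit 1,nat_lit 6,nat_lit 6,nat_lit 1])
 (.leaf [nat_lit 0,nat_lit 1,nat_lit 4,nat_lit 4,nat_lit 1])
) (.leaf [nat_lit 0,nat_lit 1,nat_lit 6,nat_lit 7,nat_lit 7])
)) (.node (.node (.node (.leaf [nat_lit 0,nat_lit 0,nat_lit 5,nat_lit 5,nat_lit 2])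
 (.leaf [nat_lit 0,nat_lit 1,nat_lit 3,nat_lit 4,nat_lit 1])
) (.node (.leaf [nat_lit 0,nat_lit 1,nat_lit 7,nat_lit 4,nat_lit 1])
 (.leaf [nat_lit 0,nat_lit 1,nat_lit 7,nat_lit 6,nat_lit 1])
)) (.node (.node (.leaf [nat_lit 0,nat_lit 1,nat_lit 6,nat_lit 4,nat_lit 1])
 (.leaf [nat_lit 0,nat_lit 1,nat_lit 6,nat_lit 6,nat_lit 1])
) (.leaf [nat_lit 2,nat_lit 1,nat_lit 7,nat_lit 7,nat_lit 448])
))) (.node (.node (.node (.node (.leaf [nat_lit 1,nat_lit 1,nat_lit 3,nat_lit 4,nat_lit 0])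
 (.leaf [nat_lit 0,nat_lit 1,nat_lit 0,nat_lit 1,nat_lit 1])
) (.node (.leaf [nat_lit 0,nat_lit 1,nat_lit 7,nat_lit 6,nat_lit 1])
 (.leaf [nat_lit 0,nat_lit 1,nat_lit 7,nat_lit 7,nat_lit 1])
)) (.node (.node (.leaf [nat_lit 2,nat_lit 1,nat_lit 6,nat_lit 6,nat_lit 160])
 (.leaf [nat_lit 0,nat_lit 1,nat_lit 6,nat_lit 6,nat_lit 1])
) (.leaf [nat_lit 0,nat_lit 1,nat_lit 7,nat_lit 6,nat_lit 1])
)) (.node (.node (.node (.leaf [nat_lit 0,nat_lit 1,nat_lit 6,nat_lit 6,nat_lit 7])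
 (.leaf [nat_lit 0,nat_lit 1,nat_lit 4,nat_lit 4,nat_lit 1])
) (.node (.leaf [nat_lit 2,nat_lit 1,nat_lit 7,nat_lit 6,nat_lit 352])
 (.leaf [nat_lit 0,nat_lit 1,nat_lit 7,nat_lit 7,nat_lit 1])
)) (.node (.node (.leaf [nat_lit 2,nat_lit 1,nat_lit 5,nat_lit 4,nat_lit 224])
 (.leaf [nat_lit 0,nat_lit 1,nat_lit 6,nat_lit 4,nat_lit 1])
) (.leaf [nat_lit 0,nat_lit 1,nat_lit 7,nat_lit 4,nat_lit 7])
)))) (.node (.node (.node (.node (.node (.leaf [nat_lit 0,nat_lit 0,nat_lit 2,nat_lit 2,nat_lit 2])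
 (.leaf [nat_lit 0,nat_lit 1,nat_lit 7,nat_lit 7,nat_lit 7])
) (.node (.leaf [nat_lit 2,nat_lit 1,nat_lit 7,nat_lit 5,nat_lit 272])
 (.leaf [nat_lit 0,nat_lit 1,nat_lit 7,nat_lit 4,nat_lit 1])
)) (.node (.node (.leaf [nat_lit 0,nat_lit 1,nat_lit 6,nat_lit 6,nat_lit 7])
 (.leaf [nat_lit 0,nat_lit 1,nat_lit 5,nat_lit 3,nat_lit 1])
) (.leaf [nat_lit 2,nat_lit 1,nat_lit 7,nat_lit 6,nat_lit 400])
)) (.node (.node (.node (.leaf [nat_lit 0,nat_lit 1,nat_lit 5,nat_lit 6,nat_lit 7])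
 (.leaf [nat_lit 0,nat_lit 1,nat_lit 4,nat_lit 4,nat_lit 1])
) (.node (.leaf [nat_lit 0,nat_lit 1,nat_lit 4,nat_lit 7,nat_lit 7])
 (.leaf [nat_lit 0,nat_lit 1,nat_lit 7,nat_lit 6,nat_lit 1])
)) (.node (.node (.leaf [nat_lit 0,nat_lit 1,nat_lit 4,nat_lit 6,nat_lit 7])
 (.leaf [nat_lit 0,nat_lit 1,nat_lit 6,nat_lit 7,nat_lit 1])
) (.leaf [nat_lit 0,nat_lit 1,nat_lit 7,nat_lit 7,nat_lit 1])
))) (.node (.node (.node (.node (.leaf [nat_lit 1,nat_lit 1,nat_lit 4,nat_lit 5,nat_lit 0])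
 (.leaf [nat_lit 0,nat_lit 1,nat_lit 3,nat_lit 6,nat_lit 1])
) (.node (.leaf [nat_lit 0,nat_lit 0,nat_lit 7,nat_lit 7,nat_lit 2])
 (.leaf [nat_lit 0,nat_lit 1,nat_lit 7,nat_lit 7,nat_lit 1])
)) (.node (.node (.leaf [nat_lit 2,nat_lit 1,nat_lit 4,nat_lit 3,nat_lit 176])
 (.leaf [nat_lit 0,nat_lit 1,nat_lit 6,nat_lit 4,nat_lit 1])
) (.leaf [nat_lit 0,nat_lit 1,nat_lit 6,nat_lit 7,nat_lit 7])
)) (.node (.node (.node (.leaf [nat_lit 2,nat_lit 1,nat_lit 6,nat_lit 4,nat_lit 112])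
 (.leaf [nat_lit 0,nat_lit 1,nat_lit 4,nat_lit 4,nat_lit 1])
) (.node (.leaf [nat_lit 0,nat_lit 1,nat_lit 7,nat_lit 6,nat_lit 1])
 (.leaf [nat_lit 0,nat_lit 1,nat_lit 7,nat_lit 7,nat_lit 1])
)) (.node (.node (.leaf [nat_lit 0,nat_lit 1,nat_lit 5,nat_lit 4,nat_lit 1])
 (.leaf [nat_lit 0,nat_lit 1,nat_lit 6,nat_lit 4,nat_lit 1])
) (.leaf [nat_lit 2,nat_lit 1,nat_lit 4,nat_lit 7,nat_lit 496])
))))) (.node (.node (.node (.node (.node (.node (.leaf [nat_lit 0,nat_lit 0,nat_lit 1,nat_lit 1,nat_lit 2])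
 (.leaf [nat_lit 2,nat_lit 1,nat_lit 4,nat_lit 7,nat_lit 520])
) (.node (.leaf [nat_lit 1,nat_lit 1,nat_lit 1,nat_lit 7,nat_lit 0])
 (.leaf [nat_lit 0,nat_lit 1,nat_lit 7,nat_lit 4,nat_lit 1])
)) (.node (.node (.leaf [nat_lit 2,nat_lit 1,nat_lit 6,nat_lit 6,nat_lit 136])
 (.leaf [nat_lit 0,nat_lit 1,nat_lit 5,nat_lit 6,nat_lit 1])
) (.leaf [nat_lit 0,nat_lit 1,nat_lit 7,nat_lit 6,nat_lit 1])
)) (.node (.node (.node (.leaf [nat_lit 0,nat_lit 0,nat_lit 6,nat_lit 6,nat_lit 2])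
 (.leaf [nat_lit 0,nat_lit 1,nat_lit 4,nat_lit 6,nat_lit 1])
) (.node (.leaf [nat_lit 2,nat_lit 1,nat_lit 7,nat_lit 4,nat_lit 328])
 (.leaf [nat_lit 0,nat_lit 1,nat_lit 7,nat_lit 7,nat_lit 1])
)) (.node (.node (.leaf [nat_lit 2,nat_lit 1,nat_lit 4,nat_lit 4,nat_lit 200])
 (.leaf [nat_lit 0,nat_lit 1,nat_lit 6,nat_lit 7,nat_lit 1])
) (.leaf [nat_lit 0,nat_lit 1,nat_lit 7,nat_lit 4,nat_lit 7])
))) (.node (.node (.node (.node (.leaf [nat_lit 0,nat_lit 1,nat_lit 4,nat_lit 1,nat_lit 1])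
 (.leaf [nat_lit 0,nat_lit 1,nat_lit 1,nat_lit 7,nat_lit 1])
) (.node (.leaf [nat_lit 2,nat_lit 1,nat_lit 6,nat_lit 7,nat_lit 296])
 (.leaf [nat_lit 0,nat_lit 1,nat_lit 7,nat_lit 4,nat_lit 1])
)) (.node (.node (.leaf [nat_lit 0,nat_lit 1,nat_lit 4,nat_lit 6,nat_lit 1])
 (.leaf [nat_lit 0,nat_lit 1,nat_lit 6,nat_lit 7,nat_lit 1])
) (.leaf [nat_lit 2,nat_lit 1,nat_lit 7,nat_lit 6,nat_lit 424])
)) (.node (.node (.node (.leaf [nat_lit 0,nat_lit 1,nat_lit 6,nat_lit 4,nat_lit 1])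
 (.leaf [nat_lit 0,nat_lit 1,nat_lit 4,nat_lit 6,nat_lit 1])
) (.node (.leaf [nat_lit 0,nat_lit 1,nat_lit 6,nat_lit 7,nat_lit 7])
 (.leaf [nat_lit 0,nat_lit 1,nat_lit 7,nat_lit 4,nat_lit 1])
)) (.node (.node (.leaf [nat_lit 0,nat_lit 1,nat_lit 4,nat_lit 5,nat_lit 7])
 (.leaf [nat_lit 0,nat_lit 1,nat_lit 6,nat_lit 7,nat_lit 1])
) (.leaf [nat_lit 0,nat_lit 1,nat_lit 7,nat_lit 7,nat_lit 1])
)))) (.node (.node (.node (.node (.node (.leaf [nat_lit 0,nat_lit 0,nat_lit 3,nat_lit 3,nat_lit 2])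
 (.leaf [nat_lit 0,nat_lit 0,nat_lit 1,nat_lit 1,nat_lit 2])
) (.node (.leaf [nat_lit 0,nat_lit 1,nat_lit 6,nat_lit 7,nat_lit 7])
 (.leaf [nat_lit 0,nat_lit 1,nat_lit 7,nat_lit 7,nat_lit 1])
)) (.node (.node (.leaf [nat_lit 0,nat_lit 1,nat_lit 6,nat_lit 6,nat_lit 1])
 (.leaf [nat_lit 0,nat_lit 1,nat_lit 5,nat_lit 1,nat_lit 1])
) (.leaf [nat_lit 0,nat_lit 1,nat_lit 6,nat_lit 7,nat_lit 7])
)) (.node (.node (.node (.leaf [nat_lit 0,nat_lit 1,nat_lit 4,nat_lit 6,nat_lit 1])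
 (.leaf [nat_lit 0,nat_lit 1,nat_lit 4,nat_lit 7,nat_lit 1])
) (.node (.leaf [nat_lit 0,nat_lit 1,nat_lit 7,nat_lit 4,nat_lit 1])
 (.leaf [nat_lit 0,nat_lit 1,nat_lit 7,nat_lit 6,nat_lit 1])
)) (.node (.node (.leaf [nat_lit 0,nat_lit 1,nat_lit 6,nat_lit 4,nat_lit 1])
 (.leaf [nat_lit 0,nat_lit 1,nat_lit 6,nat_lit 7,nat_lit 1])
) (.leaf [nat_lit 2,nat_lit 1,nat_lit 7,nat_lit 7,nat_lit 472])
))) (.node (.node (.node (.node (.leaf [nat_lit 0,nat_lit 1,nat_lit 5,nat_lit 4,nat_lit 7])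
 (.leaf [nat_lit 0,nat_lit 1,nat_lit 3,nat_lit 4,nat_lit 1])
) (.node (.leaf [nat_lit 0,nat_lit 1,nat_lit 3,nat_lit 7,nat_lit 7])
 (.leaf [nat_lit 0,nat_lit 1,nat_lit 7,nat_lit 6,nat_lit 1])
)) (.node (.node (.leaf [nat_lit 0,nat_lit 1,nat_lit 3,nat_lit 4,nat_lit 7])
 (.leaf [nat_lit 0,nat_lit 1,nat_lit 6,nat_lit 6,nat_lit 1])
) (.leaf [nat_lit 0,nat_lit 1,nat_lit 7,nat_lit 6,nat_lit 1])
)) (.node (.node (.node (.leaf [nat_lit 0,nat_lit 1,nat_lit 6,nat_lit 6,nat_lit 7])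
 (.leaf [nat_lit 0,nat_lit 1,nat_lit 4,nat_lit 6,nat_lit 1])
) (.leaf [nat_lit 2,nat_lit 1,nat_lit 7,nat_lit 6,nat_lit 376])
) (.node (.node (.leaf [nat_lit 2,nat_lit 1,nat_lit 4,nat_lit 6,nat_lit 248])
 (.leaf [nat_lit 0,nat_lit 1,nat_lit 6,nat_lit 7,nat_lit 1])
) (.leaf [nat_lit 0,nat_lit 1,nat_lit 7,nat_lit 4,nat_lit 7])
)))))) (.node (.node (.node (.node (.node (.node (.node (.leaf [nat_lit 2,nat_lit 1,nat_lit 1,nat_lit 0,nat_lit 4])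
 (.leaf [nat_lit 0,nat_lit 1,nat_lit 7,nat_lit 4,nat_lit 7])
) (.node (.leaf [nat_lit 0,nat_lit 1,nat_lit 6,nat_lit 6,nat_lit 1])
 (.leaf [nat_lit 0,nat_lit 1,nat_lit 6,nat_lit 4,nat_lit 1])
)) (.node (.node (.leaf [nat_lit 0,nat_lit 1,nat_lit 6,nat_lit 6,nat_lit 7])
 (.leaf [nat_lit 0,nat_lit 1,nat_lit 4,nat_lit 4,nat_lit 1])
) (.leaf [nat_lit 2,nat_lit 1,nat_lit 7,nat_lit 6,nat_lit 388])
)) (.node (.node (.node (.leaf [nat_lit 2,nat_lit 1,nat_lit 3,nat_lit 5,nat_lit 68])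
 (.leaf [nat_lit 0,nat_lit 1,nat_lit 4,nat_lit 7,nat_lit 1])
) (.node (.leaf [nat_lit 0,nat_lit 1,nat_lit 4,nat_lit 7,nat_lit 7])
 (.leaf [nat_lit 0,nat_lit 1,nat_lit 7,nat_lit 4,nat_lit 1])
)) (.node (.node (.leaf [nat_lit 0,nat_lit 1,nat_lit 4,nat_lit 4,nat_lit 7])
 (.leaf [nat_lit 0,nat_lit 1,nat_lit 6,nat_lit 7,nat_lit 1])
) (.leaf [nat_lit 0,nat_lit 1,nat_lit 7,nat_lit 7,nat_lit 1])
))) (.node (.node (.node (.node (.leaf [nat_lit 0,nat_lit 0,nat_lit 4,nat_lit 4,nat_lit 2])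
 (.leaf [nat_lit 0,nat_lit 1,nat_lit 1,nat_lit 5,nat_lit 1])
) (.node (.leaf [nat_lit 0,nat_lit 1,nat_lit 7,nat_lit 5,nat_lit 7])
 (.leaf [nat_lit 0,nat_lit 1,nat_lit 7,nat_lit 7,nat_lit 1])
)) (.node (.node (.leaf [nat_lit 0,nat_lit 1,nat_lit 4,nat_lit 6,nat_lit 1])
 (.leaf [nat_lit 0,nat_lit 1,nat_lit 6,nat_lit 7,nat_lit 1])
) (.leaf [nat_lit 0,nat_lit 1,nat_lit 6,nat_lit 7,nat_lit 7])
)) (.node (.node (.node (.leaf [nat_lit 2,nat_lit 1,nat_lit 6,nat_lit 3,nat_lit 100])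
 (.leaf [nat_lit 0,nat_lit 1,nat_lit 4,nat_lit 7,nat_lit 1])
) (.node (.leaf [nat_lit 0,nat_lit 1,nat_lit 7,nat_lit 6,nat_lit 1])
 (.leaf [nat_lit 0,nat_lit 1,nat_lit 7,nat_lit 7,nat_lit 1])
)) (.node (.node (.leaf [nat_lit 0,nat_lit 1,nat_lit 3,nat_lit 4,nat_lit 1])
 (.leaf [nat_lit 0,nat_lit 1,nat_lit 6,nat_lit 6,nat_lit 1])
) (.leaf [nat_lit 2,nat_lit 1,nat_lit 7,nat_lit 7,nat_lit 484])
)))) (.node (.node (.node (.node (.node (.leaf [nat_lit 0,nat_lit 0,nat_lit 2,nat_lit 2,nat_lit 2])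
 (.leaf [nat_lit 0,nat_lit 1,nat_lit 7,nat_lit 7,nat_lit 1])
) (.node (.leaf [nat_lit 0,nat_lit 1,nat_lit 7,nat_lit 6,nat_lit 1])
 (.leaf [nat_lit 0,nat_lit 1,nat_lit 7,nat_lit 6,nat_lit 1])
)) (.node (.node (.leaf [nat_lit 2,nat_lit 1,nat_lit 4,nat_lit 6,nat_lit 148])
 (.leaf [nat_lit 0,nat_lit 1,nat_lit 5,nat_lit 4,nat_lit 1])
) (.leaf [nat_lit 0,nat_lit 1,nat_lit 7,nat_lit 6,nat_lit 1])
)) (.node (.node (.node (.leaf [nat_lit 2,nat_lit 1,nat_lit 6,nat_lit 6,nat_lit 84])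
 (.leaf [nat_lit 0,nat_lit 1,nat_lit 4,nat_lit 6,nat_lit 1])
) (.node (.leaf [nat_lit 2,nat_lit 1,nat_lit 7,nat_lit 4,nat_lit 340])
 (.leaf [nat_lit 0,nat_lit 1,nat_lit 7,nat_lit 7,nat_lit 1])
)) (.node (.node (.leaf [nat_lit 2,nat_lit 1,nat_lit 6,nat_lit 4,nat_lit 212])
 (.leaf [nat_lit 0,nat_lit 1,nat_lit 6,nat_lit 6,nat_lit 1])
) (.leaf [nat_lit 0,nat_lit 1,nat_lit 7,nat_lit 7,nat_lit 7])
))) (.node (.node (.node (.node (.leaf [nat_lit 0,nat_lit 0,nat_lit 5,nat_lit 5,nat_lit 2])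
 (.leaf [nat_lit 0,nat_lit 1,nat_lit 3,nat_lit 4,nat_lit 1])
) (.node (.leaf [nat_lit 0,nat_lit 1,nat_lit 4,nat_lit 7,nat_lit 1])
 (.leaf [nat_lit 0,nat_lit 1,nat_lit 7,nat_lit 7,nat_lit 1])
)) (.node (.node (.leaf [nat_lit 0,nat_lit 1,nat_lit 4,nat_lit 3,nat_lit 1])
 (.leaf [nat_lit 0,nat_lit 1,nat_lit 6,nat_lit 7,nat_lit 1])
) (.leaf [nat_lit 2,nat_lit 1,nat_lit 7,nat_lit 6,nat_lit 436])
)) (.node (.node (.node (.leaf [nat_lit 0,nat_lit 1,nat_lit 1,nat_lit 6,nat_lit 1])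
 (.leaf [nat_lit 0,nat_lit 1,nat_lit 4,nat_lit 5,nat_lit 1])
) (.leaf [nat_lit 0,nat_lit 1,nat_lit 6,nat_lit 7,nat_lit 7])
) (.node (.node (.leaf [nat_lit 0,nat_lit 1,nat_lit 6,nat_lit 6,nat_lit 7])
 (.leaf [nat_lit 0,nat_lit 1,nat_lit 6,nat_lit 6,nat_lit 1])
) (.leaf [nat_lit 0,nat_lit 1,nat_lit 7,nat_lit 7,nat_lit 1])
))))) (.node (.node (.node (.node (.node (.node (.leaf [nat_lit 2,nat_lit 1,nat_lit 2,nat_lit 1,nat_lit 12])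
 (.leaf [nat_lit 0,nat_lit 1,nat_lit 7,nat_lit 7,nat_lit 1])
) (.node (.leaf [nat_lit 0,nat_lit 1,nat_lit 4,nat_lit 7,nat_lit 7])
 (.leaf [nat_lit 0,nat_lit 1,nat_lit 7,nat_lit 7,nat_lit 1])
)) (.node (.node (.leaf [nat_lit 0,nat_lit 1,nat_lit 6,nat_lit 6,nat_lit 1])
 (.leaf [nat_lit 0,nat_lit 1,nat_lit 5,nat_lit 6,nat_lit 1])
) (.leaf [nat_lit 0,nat_lit 1,nat_lit 6,nat_lit 7,nat_lit 7])
)) (.node (.node (.node (.leaf [nat_lit 0,nat_lit 1,nat_lit 3,nat_lit 6,nat_lit 1])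
 (.leaf [nat_lit 0,nat_lit 1,nat_lit 4,nat_lit 6,nat_lit 1])
) (.node (.leaf [nat_lit 0,nat_lit 1,nat_lit 7,nat_lit 4,nat_lit 1])
 (.leaf [nat_lit 0,nat_lit 1,nat_lit 7,nat_lit 7,nat_lit 1])
)) (.node (.node (.leaf [nat_lit 0,nat_lit 1,nat_lit 6,nat_lit 4,nat_lit 1])
 (.leaf [nat_lit 0,nat_lit 1,nat_lit 6,nat_lit 7,nat_lit 1])
) (.leaf [nat_lit 2,nat_lit 1,nat_lit 7,nat_lit 7,nat_lit 460])
))) (.node (.node (.node (.node (.leaf [nat_lit 0,nat_lit 0,nat_lit 4,nat_lit 4,nat_lit 2])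
 (.leaf [nat_lit 0,nat_lit 1,nat_lit 1,nat_lit 1,nat_lit 1])
) (.node (.leaf [nat_lit 0,nat_lit 1,nat_lit 6,nat_lit 7,nat_lit 1])
 (.leaf [nat_lit 0,nat_lit 1,nat_lit 7,nat_lit 7,nat_lit 1])
)) (.node (.node (.leaf [nat_lit 0,nat_lit 1,nat_lit 3,nat_lit 6,nat_lit 7])
 (.leaf [nat_lit 0,nat_lit 1,nat_lit 6,nat_lit 7,nat_lit 1])
) (.leaf [nat_lit 0,nat_lit 1,nat_lit 7,nat_lit 6,nat_lit 1])
)) (.node (.node (.node (.leaf [nat_lit 0,nat_lit 1,nat_lit 4,nat_lit 6,nat_lit 7])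
 (.leaf [nat_lit 0,nat_lit 1,nat_lit 4,nat_lit 7,nat_lit 1])
) (.node (.leaf [nat_lit 2,nat_lit 1,nat_lit 7,nat_lit 6,nat_lit 364])
 (.leaf [nat_lit 0,nat_lit 1,nat_lit 7,nat_lit 7,nat_lit 1])
)) (.node (.node (.leaf [nat_lit 2,nat_lit 1,nat_lit 3,nat_lit 4,nat_lit 236])
 (.leaf [nat_lit 0,nat_lit 1,nat_lit 6,nat_lit 6,nat_lit 1])
) (.leaf [nat_lit 0,nat_lit 1,nat_lit 7,nat_lit 7,nat_lit 7])
)))) (.node (.node (.node (.node (.node (.leaf [nat_lit 2,nat_lit 1,nat_lit 1,nat_lit 3,nat_lit 28])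
 (.leaf [nat_lit 0,nat_lit 0,nat_lit 1,nat_lit 1,nat_lit 2])
) (.node (.leaf [nat_lit 2,nat_lit 1,nat_lit 7,nat_lit 6,nat_lit 284])
 (.leaf [nat_lit 0,nat_lit 1,nat_lit 7,nat_lit 6,nat_lit 1])
)) (.node (.node (.leaf [nat_lit 0,nat_lit 1,nat_lit 6,nat_lit 4,nat_lit 7])
 (.leaf [nat_lit 0,nat_lit 1,nat_lit 6,nat_lit 3,nat_lit 1])
) (.leaf [nat_lit 2,nat_lit 1,nat_lit 7,nat_lit 6,nat_lit 412])
)) (.node (.node (.node (.leaf [nat_lit 0,nat_lit 0,nat_lit 6,nat_lit 6,nat_lit 0])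
 (.leaf [nat_lit 0,nat_lit 1,nat_lit 4,nat_lit 6,nat_lit 1])
) (.node (.leaf [nat_lit 0,nat_lit 1,nat_lit 6,nat_lit 7,nat_lit 7])
 (.leaf [nat_lit 0,nat_lit 1,nat_lit 7,nat_lit 7,nat_lit 1])
)) (.node (.node (.leaf [nat_lit 0,nat_lit 1,nat_lit 4,nat_lit 5,nat_lit 7])
 (.leaf [nat_lit 0,nat_lit 1,nat_lit 6,nat_lit 4,nat_lit 1])
) (.leaf [nat_lit 0,nat_lit 1,nat_lit 7,nat_lit 7,nat_lit 1])
))) (.node (.node (.node (.node (.leaf [nat_lit 0,nat_lit 0,nat_lit 5,nat_lit 5,nat_lit 0])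
 (.leaf [nat_lit 0,nat_lit 1,nat_lit 3,nat_lit 4,nat_lit 1])
) (.node (.leaf [nat_lit 2,nat_lit 1,nat_lit 7,nat_lit 3,nat_lit 316])
 (.leaf [nat_lit 0,nat_lit 1,nat_lit 7,nat_lit 6,nat_lit 1])
)) (.node (.node (.leaf [nat_lit 2,nat_lit 1,nat_lit 6,nat_lit 4,nat_lit 188])
 (.leaf [nat_lit 0,nat_lit 1,nat_lit 6,nat_lit 6,nat_lit 1])
) (.leaf [nat_lit 0,nat_lit 1,nat_lit 7,nat_lit 1,nat_lit 7])
)) (.node (.node (.node (.leaf [nat_lit 2,nat_lit 1,nat_lit 6,nat_lit 6,nat_lit 124])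
 (.leaf [nat_lit 0,nat_lit 1,nat_lit 4,nat_lit 3,nat_lit 1])
) (.leaf [nat_lit 0,nat_lit 1,nat_lit 7,nat_lit 6,nat_lit 1])
) (.node (.node (.leaf [nat_lit 0,nat_lit 1,nat_lit 6,nat_lit 6,nat_lit 7])
 (.leaf [nat_lit 0,nat_lit 1,nat_lit 6,nat_lit 3,nat_lit 1])
) (.leaf [nat_lit 2,nat_lit 1,nat_lit 6,nat_lit 7,nat_lit 508])
)))))))
noncomputable def Fi2 : LT :=
(.node (.node (.node (.node (.node (.node (.node (.node (.leaf [nat_lit 0,nat_lit 0,nat_lit 0,nat_lit 0,nat_lit 5])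
 (.leaf [nat_lit 0,nat_lit 1,nat_lit 7,nat_lit 7,nat_lit 7])
) (.node (.leaf [nat_lit 0,nat_lit 1,nat_lit 6,nat_lit 6,nat_lit 1])
 (.leaf [nat_lit 0,nat_lit 1,nat_lit 6,nat_lit 6,nat_lit 1])
)) (.node (.node (.leaf [nat_lit 0,nat_lit 1,nat_lit 6,nat_lit 6,nat_lit 7])
 (.leaf [nat_lit 0,nat_lit 1,nat_lit 4,nat_lit 1,nat_lit 1])
) (.leaf [nat_lit 2,nat_lit 1,nat_lit 7,nat_lit 6,nat_lit 385])
)) (.node (.node (.node (.leaf [nat_lit 0,nat_lit 0,nat_lit 5,nat_lit 5,nat_lit 0])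
 (.leaf [nat_lit 0,nat_lit 1,nat_lit 4,nat_lit 3,nat_lit 1])
) (.node (.leaf [nat_lit 0,nat_lit 1,nat_lit 4,nat_lit 7,nat_lit 7])
 (.leaf [nat_lit 0,nat_lit 1,nat_lit 7,nat_lit 7,nat_lit 1])
)) (.node (.node (.leaf [nat_lit 0,nat_lit 1,nat_lit 4,nat_lit 4,nat_lit 7])
 (.leaf [nat_lit 0,nat_lit 1,nat_lit 6,nat_lit 7,nat_lit 1])
) (.leaf [nat_lit 0,nat_lit 1,nat_lit 7,nat_lit 7,nat_lit 1])
))) (.node (.node (.node (.node (.leaf [nat_lit 2,nat_lit 1,nat_lit 4,nat_lit 3,nat_lit 33])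
 (.leaf [nat_lit 0,nat_lit 1,nat_lit 1,nat_lit 0,nat_lit 1])
) (.node (.leaf [nat_lit 0,nat_lit 1,nat_lit 7,nat_lit 4,nat_lit 7])
 (.leaf [nat_lit 0,nat_lit 1,nat_lit 7,nat_lit 6,nat_lit 1])
)) (.node (.node (.leaf [nat_lit 0,nat_lit 1,nat_lit 6,nat_lit 6,nat_lit 1])
 (.leaf [nat_lit 0,nat_lit 1,nat_lit 6,nat_lit 7,nat_lit 1])
) (.leaf [nat_lit 0,nat_lit 1,nat_lit 6,nat_lit 7,nat_lit 7])
)) (.node (.node (.node (.leaf [nat_lit 2,nat_lit 1,nat_lit 6,nat_lit 6,nat_lit 97])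
 (.leaf [nat_lit 0,nat_lit 1,nat_lit 4,nat_lit 6,nat_lit 1])
) (.node (.leaf [nat_lit 0,nat_lit 1,nat_lit 7,nat_lit 6,nat_lit 1])
 (.leaf [nat_lit 0,nat_lit 1,nat_lit 7,nat_lit 5,nat_lit 1])
)) (.node (.node (.leaf [nat_lit 0,nat_lit 1,nat_lit 5,nat_lit 4,nat_lit 1])
 (.leaf [nat_lit 0,nat_lit 1,nat_lit 6,nat_lit 6,nat_lit 1])
) (.leaf [nat_lit 2,nat_lit 1,nat_lit 4,nat_lit 7,nat_lit 481])
)))) (.node (.node (.node (.node (.node (.leaf [nat_lit 0,nat_lit 0,nat_lit 2,nat_lit 2,nat_lit 2])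
 (.leaf [nat_lit 0,nat_lit 1,nat_lit 7,nat_lit 7,nat_lit 7])
) (.node (.leaf [nat_lit 0,nat_lit 1,nat_lit 7,nat_lit 5,nat_lit 1])
 (.leaf [nat_lit 0,nat_lit 1,nat_lit 7,nat_lit 7,nat_lit 1])
)) (.node (.node (.leaf [nat_lit 2,nat_lit 1,nat_lit 6,nat_lit 6,nat_lit 145])
 (.leaf [nat_lit 0,nat_lit 1,nat_lit 5,nat_lit 4,nat_lit 1])
) (.leaf [nat_lit 0,nat_lit 1,nat_lit 7,nat_lit 6,nat_lit 1])
)) (.node (.node (.node (.leaf [nat_lit 2,nat_lit 1,nat_lit 6,nat_lit 5,nat_lit 81])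
 (.leaf [nat_lit 0,nat_lit 1,nat_lit 4,nat_lit 7,nat_lit 1])
) (.node (.leaf [nat_lit 2,nat_lit 1,nat_lit 7,nat_lit 4,nat_lit 337])
 (.leaf [nat_lit 0,nat_lit 1,nat_lit 7,nat_lit 7,nat_lit 1])
)) (.node (.node (.leaf [nat_lit 2,nat_lit 1,nat_lit 6,nat_lit 4,nat_lit 209])
 (.leaf [nat_lit 0,nat_lit 1,nat_lit 6,nat_lit 6,nat_lit 1])
) (.leaf [nat_lit 0,nat_lit 1,nat_lit 7,nat_lit 7,nat_lit 7])
))) (.node (.node (.node (.node (.leaf [nat_lit 2,nat_lit 1,nat_lit 5,nat_lit 4,nat_lit 49])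
 (.leaf [nat_lit 0,nat_lit 1,nat_lit 3,nat_lit 7,nat_lit 1])
) (.node (.leaf [nat_lit 0,nat_lit 0,nat_lit 7,nat_lit 7,nat_lit 0])
 (.leaf [nat_lit 0,nat_lit 1,nat_lit 7,nat_lit 4,nat_lit 1])
)) (.node (.node (.leaf [nat_lit 0,nat_lit 1,nat_lit 4,nat_lit 3,nat_lit 1])
 (.leaf [nat_lit 0,nat_lit 1,nat_lit 6,nat_lit 7,nat_lit 1])
) (.leaf [nat_lit 2,nat_lit 1,nat_lit 7,nat_lit 6,nat_lit 433])
)) (.node (.node (.node (.leaf [nat_lit 0,nat_lit 1,nat_lit 6,nat_lit 4,nat_lit 1])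
 (.leaf [nat_lit 0,nat_lit 1,nat_lit 4,nat_lit 7,nat_lit 1])
) (.leaf [nat_lit 0,nat_lit 1,nat_lit 6,nat_lit 7,nat_lit 7])
) (.node (.node (.leaf [nat_lit 0,nat_lit 1,nat_lit 4,nat_lit 5,nat_lit 7])
 (.leaf [nat_lit 0,nat_lit 1,nat_lit 6,nat_lit 6,nat_lit 1])
) (.leaf [nat_lit 0,nat_lit 1,nat_lit 4,nat_lit 7,nat_lit 1])
))))) (.node (.node (.node (.node (.node (.node (.leaf [nat_lit 0,nat_lit 0,nat_lit 1,nat_lit 1,nat_lit 2])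
 (.leaf [nat_lit 0,nat_lit 1,nat_lit 4,nat_lit 7,nat_lit 1])
) (.node (.leaf [nat_lit 2,nat_lit 1,nat_lit 7,nat_lit 1,nat_lit 265])
 (.leaf [nat_lit 0,nat_lit 1,nat_lit 7,nat_lit 4,nat_lit 1])
)) (.node (.node (.leaf [nat_lit 0,nat_lit 1,nat_lit 6,nat_lit 6,nat_lit 1])
 (.leaf [nat_lit 0,nat_lit 1,nat_lit 5,nat_lit 6,nat_lit 1])
) (.leaf [nat_lit 0,nat_lit 1,nat_lit 6,nat_lit 7,nat_lit 7])
)) (.node (.node (.node (.leaf [nat_lit 0,nat_lit 0,nat_lit 6,nat_lit 6,nat_lit 2])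
 (.leaf [nat_lit 0,nat_lit 1,nat_lit 4,nat_lit 7,nat_lit 1])
) (.node (.leaf [nat_lit 0,nat_lit 1,nat_lit 7,nat_lit 4,nat_lit 1])
 (.leaf [nat_lit 0,nat_lit 1,nat_lit 7,nat_lit 6,nat_lit 1])
)) (.node (.node (.leaf [nat_lit 0,nat_lit 1,nat_lit 4,nat_lit 4,nat_lit 1])
 (.leaf [nat_lit 0,nat_lit 1,nat_lit 6,nat_lit 7,nat_lit 1])
) (.leaf [nat_lit 2,nat_lit 1,nat_lit 4,nat_lit 7,nat_lit 457])
))) (.node (.node (.node (.node (.leaf [nat_lit 0,nat_lit 1,nat_lit 4,nat_lit 4,nat_lit 7])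
 (.leaf [nat_lit 0,nat_lit 1,nat_lit 1,nat_lit 4,nat_lit 1])
) (.node (.leaf [nat_lit 0,nat_lit 1,nat_lit 6,nat_lit 7,nat_lit 1])
 (.leaf [nat_lit 0,nat_lit 1,nat_lit 7,nat_lit 4,nat_lit 1])
)) (.node (.node (.leaf [nat_lit 0,nat_lit 1,nat_lit 6,nat_lit 5,nat_lit 7])
 (.leaf [nat_lit 0,nat_lit 1,nat_lit 6,nat_lit 7,nat_lit 1])
) (.leaf [nat_lit 0,nat_lit 1,nat_lit 7,nat_lit 6,nat_lit 1])
)) (.node (.node (.node (.leaf [nat_lit 0,nat_lit 1,nat_lit 4,nat_lit 5,nat_lit 7])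
 (.leaf [nat_lit 0,nat_lit 1,nat_lit 4,nat_lit 5,nat_lit 1])
) (.node (.leaf [nat_lit 2,nat_lit 1,nat_lit 7,nat_lit 6,nat_lit 361])
 (.leaf [nat_lit 0,nat_lit 1,nat_lit 7,nat_lit 6,nat_lit 1])
)) (.node (.node (.leaf [nat_lit 2,nat_lit 1,nat_lit 5,nat_lit 4,nat_lit 233])
 (.leaf [nat_lit 0,nat_lit 1,nat_lit 6,nat_lit 4,nat_lit 1])
) (.leaf [nat_lit 0,nat_lit 1,nat_lit 7,nat_lit 7,nat_lit 7])
)))) (.node (.node (.node (.node (.node (.leaf [nat_lit 0,nat_lit 0,nat_lit 3,nat_lit 3,nat_lit 2])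
 (.leaf [nat_lit 0,nat_lit 0,nat_lit 0,nat_lit 0,nat_lit 10])
) (.node (.leaf [nat_lit 2,nat_lit 1,nat_lit 7,nat_lit 6,nat_lit 281])
 (.leaf [nat_lit 0,nat_lit 1,nat_lit 7,nat_lit 5,nat_lit 1])
)) (.node (.node (.leaf [nat_lit 0,nat_lit 1,nat_lit 6,nat_lit 4,nat_lit 7])
 (.leaf [nat_lit 0,nat_lit 1,nat_lit 6,nat_lit 1,nat_lit 1])
) (.leaf [nat_lit 2,nat_lit 1,nat_lit 7,nat_lit 6,nat_lit 409])
)) (.node (.node (.node (.leaf [nat_lit 0,nat_lit 1,nat_lit 6,nat_lit 6,nat_lit 7])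
 (.leaf [nat_lit 0,nat_lit 1,nat_lit 4,nat_lit 6,nat_lit 1])
) (.node (.leaf [nat_lit 0,nat_lit 1,nat_lit 5,nat_lit 7,nat_lit 7])
 (.leaf [nat_lit 0,nat_lit 1,nat_lit 7,nat_lit 4,nat_lit 1])
)) (.node (.node (.leaf [nat_lit 0,nat_lit 1,nat_lit 4,nat_lit 6,nat_lit 7])
 (.leaf [nat_lit 0,nat_lit 1,nat_lit 6,nat_lit 6,nat_lit 1])
) (.leaf [nat_lit 0,nat_lit 1,nat_lit 7,nat_lit 7,nat_lit 1])
))) (.node (.node (.node (.node (.leaf [nat_lit 2,nat_lit 1,nat_lit 4,nat_lit 5,nat_lit 57])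
 (.leaf [nat_lit 0,nat_lit 1,nat_lit 3,nat_lit 3,nat_lit 1])
) (.node (.leaf [nat_lit 2,nat_lit 1,nat_lit 7,nat_lit 3,nat_lit 313])
 (.leaf [nat_lit 0,nat_lit 1,nat_lit 7,nat_lit 7,nat_lit 1])
)) (.node (.node (.leaf [nat_lit 2,nat_lit 1,nat_lit 4,nat_lit 3,nat_lit 185])
 (.leaf [nat_lit 0,nat_lit 1,nat_lit 6,nat_lit 6,nat_lit 1])
) (.leaf [nat_lit 0,nat_lit 1,nat_lit 6,nat_lit 7,nat_lit 7])
)) (.node (.node (.node (.leaf [nat_lit 2,nat_lit 1,nat_lit 6,nat_lit 6,nat_lit 121])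
 (.leaf [nat_lit 0,nat_lit 1,nat_lit 4,nat_lit 6,nat_lit 1])
) (.leaf [nat_lit 0,nat_lit 1,nat_lit 7,nat_lit 6,nat_lit 1])
) (.node (.node (.leaf [nat_lit 0,nat_lit 1,nat_lit 4,nat_lit 6,nat_lit 1])
 (.leaf [nat_lit 0,nat_lit 1,nat_lit 6,nat_lit 6,nat_lit 1])
) (.leaf [nat_lit 2,nat_lit 1,nat_lit 4,nat_lit 7,nat_lit 505])
)))))) (.node (.node (.node (.node (.node (.node (.node (.leaf [nat_lit 0,nat_lit 0,nat_lit 1,nat_lit 1,nat_lit 2])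
 (.leaf [nat_lit 2,nat_lit 1,nat_lit 4,nat_lit 7,nat_lit 517])
) (.node (.leaf [nat_lit 0,nat_lit 1,nat_lit 6,nat_lit 4,nat_lit 7])
 (.leaf [nat_lit 0,nat_lit 1,nat_lit 7,nat_lit 1,nat_lit 1])
)) (.node (.node (.leaf [nat_lit 2,nat_lit 1,nat_lit 6,nat_lit 6,nat_lit 133])
 (.leaf [nat_lit 0,nat_lit 1,nat_lit 4,nat_lit 4,nat_lit 1])
) (.leaf [nat_lit 0,nat_lit 1,nat_lit 7,nat_lit 6,nat_lit 1])
)) (.node (.node (.node (.leaf [nat_lit 0,nat_lit 1,nat_lit 3,nat_lit 5,nat_lit 1])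
 (.leaf [nat_lit 0,nat_lit 1,nat_lit 4,nat_lit 6,nat_lit 1])
) (.node (.leaf [nat_lit 2,nat_lit 1,nat_lit 7,nat_lit 4,nat_lit 325])
 (.leaf [nat_lit 0,nat_lit 1,nat_lit 7,nat_lit 6,nat_lit 1])
)) (.node (.node (.leaf [nat_lit 2,nat_lit 1,nat_lit 4,nat_lit 4,nat_lit 197])
 (.leaf [nat_lit 0,nat_lit 1,nat_lit 6,nat_lit 4,nat_lit 1])
) (.leaf [nat_lit 0,nat_lit 1,nat_lit 7,nat_lit 7,nat_lit 7])
))) (.node (.node (.node (.node (.leaf [nat_lit 0,nat_lit 1,nat_lit 3,nat_lit 3,nat_lit 7])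
 (.leaf [nat_lit 0,nat_lit 1,nat_lit 1,nat_lit 6,nat_lit 1])
) (.node (.leaf [nat_lit 2,nat_lit 1,nat_lit 5,nat_lit 7,nat_lit 293])
 (.leaf [nat_lit 0,nat_lit 1,nat_lit 7,nat_lit 6,nat_lit 1])
)) (.node (.node (.leaf [nat_lit 0,nat_lit 1,nat_lit 6,nat_lit 6,nat_lit 7])
 (.leaf [nat_lit 0,nat_lit 1,nat_lit 6,nat_lit 4,nat_lit 1])
) (.leaf [nat_lit 2,nat_lit 1,nat_lit 7,nat_lit 6,nat_lit 421])
)) (.node (.node (.node (.leaf [nat_lit 0,nat_lit 1,nat_lit 6,nat_lit 3,nat_lit 1])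
 (.leaf [nat_lit 0,nat_lit 1,nat_lit 4,nat_lit 3,nat_lit 1])
) (.node (.leaf [nat_lit 0,nat_lit 1,nat_lit 6,nat_lit 7,nat_lit 7])
 (.leaf [nat_lit 0,nat_lit 1,nat_lit 7,nat_lit 6,nat_lit 1])
)) (.node (.node (.leaf [nat_lit 0,nat_lit 1,nat_lit 4,nat_lit 4,nat_lit 7])
 (.leaf [nat_lit 0,nat_lit 1,nat_lit 6,nat_lit 7,nat_lit 1])
) (.leaf [nat_lit 0,nat_lit 1,nat_lit 7,nat_lit 7,nat_lit 1])
)))) (.node (.node (.node (.node (.node (.leaf [nat_lit 0,nat_lit 0,nat_lit 2,nat_lit 2,nat_lit 0])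
 (.leaf [nat_lit 0,nat_lit 0,nat_lit 0,nat_lit 0,nat_lit 8])
) (.node (.leaf [nat_lit 0,nat_lit 1,nat_lit 6,nat_lit 7,nat_lit 7])
 (.leaf [nat_lit 0,nat_lit 1,nat_lit 7,nat_lit 6,nat_lit 1])
)) (.node (.node (.leaf [nat_lit 0,nat_lit 1,nat_lit 4,nat_lit 6,nat_lit 1])
 (.leaf [nat_lit 0,nat_lit 1,nat_lit 5,nat_lit 4,nat_lit 1])
) (.leaf [nat_lit 0,nat_lit 1,nat_lit 6,nat_lit 7,nat_lit 7])
)) (.node (.node (.node (.leaf [nat_lit 0,nat_lit 1,nat_lit 6,nat_lit 6,nat_lit 1])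
 (.leaf [nat_lit 0,nat_lit 1,nat_lit 4,nat_lit 7,nat_lit 1])
) (.node (.leaf [nat_lit 0,nat_lit 1,nat_lit 7,nat_lit 4,nat_lit 1])
 (.leaf [nat_lit 0,nat_lit 1,nat_lit 7,nat_lit 6,nat_lit 1])
)) (.node (.node (.leaf [nat_lit 0,nat_lit 1,nat_lit 6,nat_lit 4,nat_lit 1])
 (.leaf [nat_lit 0,nat_lit 1,nat_lit 6,nat_lit 6,nat_lit 1])
) (.leaf [nat_lit 2,nat_lit 1,nat_lit 7,nat_lit 7,nat_lit 469])
))) (.node (.node (.node (.node (.leaf [nat_lit 0,nat_lit 1,nat_lit 1,nat_lit 5,nat_lit 7])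
 (.leaf [nat_lit 0,nat_lit 1,nat_lit 3,nat_lit 6,nat_lit 1])
) (.node (.leaf [nat_lit 0,nat_lit 1,nat_lit 3,nat_lit 7,nat_lit 7])
 (.leaf [nat_lit 0,nat_lit 1,nat_lit 7,nat_lit 4,nat_lit 1])
)) (.node (.node (.leaf [nat_lit 0,nat_lit 1,nat_lit 3,nat_lit 4,nat_lit 7])
 (.leaf [nat_lit 0,nat_lit 1,nat_lit 6,nat_lit 4,nat_lit 1])
) (.leaf [nat_lit 0,nat_lit 1,nat_lit 7,nat_lit 6,nat_lit 1])
)) (.node (.node (.node (.leaf [nat_lit 0,nat_lit 1,nat_lit 6,nat_lit 5,nat_lit 7])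
 (.leaf [nat_lit 0,nat_lit 1,nat_lit 4,nat_lit 3,nat_lit 1])
) (.leaf [nat_lit 2,nat_lit 1,nat_lit 7,nat_lit 6,nat_lit 373])
) (.node (.node (.leaf [nat_lit 2,nat_lit 1,nat_lit 6,nat_lit 6,nat_lit 245])
 (.leaf [nat_lit 0,nat_lit 1,nat_lit 6,nat_lit 6,nat_lit 1])
) (.leaf [nat_lit 0,nat_lit 1,nat_lit 7,nat_lit 4,nat_lit 7])
))))) (.node (.node (.node (.node (.node (.node (.leaf [nat_lit 0,nat_lit 0,nat_lit 2,nat_lit 2,nat_lit 2])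
 (.leaf [nat_lit 0,nat_lit 1,nat_lit 7,nat_lit 7,nat_lit 7])
) (.node (.leaf [nat_lit 2,nat_lit 1,nat_lit 7,nat_lit 4,nat_lit 269])
 (.leaf [nat_lit 0,nat_lit 1,nat_lit 7,nat_lit 6,nat_lit 1])
)) (.node (.node (.leaf [nat_lit 0,nat_lit 1,nat_lit 6,nat_lit 6,nat_lit 7])
 (.leaf [nat_lit 0,nat_lit 1,nat_lit 5,nat_lit 4,nat_lit 1])
) (.leaf [nat_lit 2,nat_lit 1,nat_lit 7,nat_lit 6,nat_lit 397])
)) (.node (.node (.node (.leaf [nat_lit 0,nat_lit 1,nat_lit 6,nat_lit 6,nat_lit 7])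
 (.leaf [nat_lit 0,nat_lit 1,nat_lit 4,nat_lit 4,nat_lit 1])
) (.node (.leaf [nat_lit 0,nat_lit 1,nat_lit 4,nat_lit 7,nat_lit 7])
 (.leaf [nat_lit 0,nat_lit 1,nat_lit 7,nat_lit 6,nat_lit 1])
)) (.node (.node (.leaf [nat_lit 0,nat_lit 1,nat_lit 4,nat_lit 6,nat_lit 7])
 (.leaf [nat_lit 0,nat_lit 1,nat_lit 6,nat_lit 4,nat_lit 1])
) (.leaf [nat_lit 0,nat_lit 1,nat_lit 7,nat_lit 7,nat_lit 1])
))) (.node (.node (.node (.node (.leaf [nat_lit 0,nat_lit 0,nat_lit 4,nat_lit 4,nat_lit 0])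
 (.leaf [nat_lit 0,nat_lit 1,nat_lit 2,nat_lit 1,nat_lit 1])
) (.node (.leaf [nat_lit 0,nat_lit 1,nat_lit 7,nat_lit 5,nat_lit 7])
 (.leaf [nat_lit 0,nat_lit 1,nat_lit 7,nat_lit 7,nat_lit 1])
)) (.node (.node (.leaf [nat_lit 2,nat_lit 1,nat_lit 6,nat_lit 3,nat_lit 173])
 (.leaf [nat_lit 0,nat_lit 1,nat_lit 6,nat_lit 6,nat_lit 1])
) (.leaf [nat_lit 0,nat_lit 1,nat_lit 6,nat_lit 7,nat_lit 7])
)) (.node (.node (.node (.leaf [nat_lit 2,nat_lit 1,nat_lit 6,nat_lit 4,nat_lit 109])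
 (.leaf [nat_lit 0,nat_lit 1,nat_lit 4,nat_lit 7,nat_lit 1])
) (.node (.leaf [nat_lit 0,nat_lit 1,nat_lit 7,nat_lit 6,nat_lit 1])
 (.leaf [nat_lit 0,nat_lit 1,nat_lit 7,nat_lit 6,nat_lit 1])
)) (.node (.node (.leaf [nat_lit 0,nat_lit 1,nat_lit 3,nat_lit 4,nat_lit 1])
 (.leaf [nat_lit 0,nat_lit 1,nat_lit 6,nat_lit 7,nat_lit 1])
) (.leaf [nat_lit 2,nat_lit 1,nat_lit 7,nat_lit 7,nat_lit 493])
)))) (.node (.node (.node (.node (.node (.leaf [nat_lit 2,nat_lit 1,nat_lit 3,nat_lit 1,nat_lit 29])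
 (.leaf [nat_lit 0,nat_lit 0,nat_lit 0,nat_lit 0,nat_lit 12])
) (.node (.leaf [nat_lit 0,nat_lit 1,nat_lit 7,nat_lit 6,nat_lit 1])
 (.leaf [nat_lit 0,nat_lit 1,nat_lit 7,nat_lit 7,nat_lit 1])
)) (.node (.node (.leaf [nat_lit 2,nat_lit 1,nat_lit 4,nat_lit 6,nat_lit 157])
 (.leaf [nat_lit 0,nat_lit 1,nat_lit 6,nat_lit 7,nat_lit 1])
) (.leaf [nat_lit 0,nat_lit 1,nat_lit 7,nat_lit 6,nat_lit 1])
)) (.node (.node (.node (.leaf [nat_lit 0,nat_lit 1,nat_lit 4,nat_lit 6,nat_lit 7])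
 (.leaf [nat_lit 0,nat_lit 1,nat_lit 4,nat_lit 7,nat_lit 1])
) (.node (.leaf [nat_lit 2,nat_lit 1,nat_lit 7,nat_lit 6,nat_lit 349])
 (.leaf [nat_lit 0,nat_lit 1,nat_lit 7,nat_lit 5,nat_lit 1])
)) (.node (.node (.leaf [nat_lit 2,nat_lit 1,nat_lit 5,nat_lit 4,nat_lit 221])
 (.leaf [nat_lit 0,nat_lit 1,nat_lit 6,nat_lit 7,nat_lit 1])
) (.leaf [nat_lit 0,nat_lit 1,nat_lit 7,nat_lit 4,nat_lit 7])
))) (.node (.node (.node (.node (.leaf [nat_lit 0,nat_lit 1,nat_lit 5,nat_lit 4,nat_lit 7])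
 (.leaf [nat_lit 0,nat_lit 1,nat_lit 3,nat_lit 1,nat_lit 1])
) (.node (.leaf [nat_lit 0,nat_lit 1,nat_lit 7,nat_lit 3,nat_lit 1])
 (.leaf [nat_lit 0,nat_lit 1,nat_lit 7,nat_lit 7,nat_lit 1])
)) (.node (.node (.leaf [nat_lit 0,nat_lit 1,nat_lit 6,nat_lit 4,nat_lit 1])
 (.leaf [nat_lit 0,nat_lit 1,nat_lit 6,nat_lit 7,nat_lit 1])
) (.leaf [nat_lit 2,nat_lit 1,nat_lit 1,nat_lit 7,nat_lit 445])
)) (.node (.node (.node (.leaf [nat_lit 0,nat_lit 1,nat_lit 6,nat_lit 6,nat_lit 1])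
 (.leaf [nat_lit 0,nat_lit 1,nat_lit 4,nat_lit 3,nat_lit 1])
) (.leaf [nat_lit 0,nat_lit 1,nat_lit 6,nat_lit 7,nat_lit 7])
) (.node (.node (.leaf [nat_lit 2,nat_lit 1,nat_lit 6,nat_lit 6,nat_lit 253])
 (.leaf [nat_lit 0,nat_lit 1,nat_lit 6,nat_lit 6,nat_lit 1])
) (.leaf [nat_lit 0,nat_lit 1,nat_lit 6,nat_lit 7,nat_lit 1])
)))))))
noncomputable def Fi3 : LT :=
(.node (.node (.node (.node (.node (.node (.node (.node (.leaf [nat_lit 0,nat_lit 0,nat_lit 0,nat_lit 0,nat_lit 6])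
 (.leaf [nat_lit 2,nat_lit 1,nat_lit 7,nat_lit 7,nat_lit 514])
) (.node (.leaf [nat_lit 0,nat_lit 1,nat_lit 6,nat_lit 6,nat_lit 7])
 (.leaf [nat_lit 0,nat_lit 1,nat_lit 6,nat_lit 7,nat_lit 1])
)) (.node (.node (.leaf [nat_lit 2,nat_lit 1,nat_lit 6,nat_lit 6,nat_lit 130])
 (.leaf [nat_lit 0,nat_lit 1,nat_lit 4,nat_lit 1,nat_lit 1])
) (.leaf [nat_lit 0,nat_lit 1,nat_lit 7,nat_lit 6,nat_lit 1])
)) (.node (.node (.node (.leaf [nat_lit 0,nat_lit 1,nat_lit 5,nat_lit 5,nat_lit 7])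
 (.leaf [nat_lit 0,nat_lit 1,nat_lit 4,nat_lit 5,nat_lit 1])
) (.node (.leaf [nat_lit 2,nat_lit 1,nat_lit 7,nat_lit 4,nat_lit 322])
 (.leaf [nat_lit 0,nat_lit 1,nat_lit 7,nat_lit 6,nat_lit 1])
)) (.node (.node (.leaf [nat_lit 2,nat_lit 1,nat_lit 4,nat_lit 4,nat_lit 194])
 (.leaf [nat_lit 0,nat_lit 1,nat_lit 6,nat_lit 6,nat_lit 1])
) (.leaf [nat_lit 0,nat_lit 1,nat_lit 7,nat_lit 7,nat_lit 7])
))) (.node (.node (.node (.node (.leaf [nat_lit 0,nat_lit 0,nat_lit 4,nat_lit 4,nat_lit 2])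
 (.leaf [nat_lit 0,nat_lit 1,nat_lit 1,nat_lit 2,nat_lit 1])
) (.node (.leaf [nat_lit 2,nat_lit 1,nat_lit 4,nat_lit 7,nat_lit 290])
 (.leaf [nat_lit 0,nat_lit 1,nat_lit 7,nat_lit 7,nat_lit 1])
)) (.node (.node (.leaf [nat_lit 0,nat_lit 1,nat_lit 6,nat_lit 4,nat_lit 7])
 (.leaf [nat_lit 0,nat_lit 1,nat_lit 6,nat_lit 6,nat_lit 1])
) (.leaf [nat_lit 2,nat_lit 1,nat_lit 7,nat_lit 6,nat_lit 418])
)) (.node (.node (.node (.leaf [nat_lit 0,nat_lit 1,nat_lit 6,nat_lit 6,nat_lit 1])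
 (.leaf [nat_lit 0,nat_lit 1,nat_lit 4,nat_lit 7,nat_lit 1])
) (.node (.leaf [nat_lit 0,nat_lit 1,nat_lit 6,nat_lit 7,nat_lit 7])
 (.leaf [nat_lit 0,nat_lit 1,nat_lit 7,nat_lit 3,nat_lit 1])
)) (.node (.node (.leaf [nat_lit 0,nat_lit 1,nat_lit 4,nat_lit 3,nat_lit 7])
 (.leaf [nat_lit 0,nat_lit 1,nat_lit 6,nat_lit 7,nat_lit 1])
) (.leaf [nat_lit 0,nat_lit 1,nat_lit 4,nat_lit 7,nat_lit 1])
)))) (.node (.node (.node (.node (.node (.leaf [nat_lit 0,nat_lit 1,nat_lit 1,nat_lit 2,nat_lit 7])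
 (.leaf [nat_lit 0,nat_lit 1,nat_lit 7,nat_lit 7,nat_lit 7])
) (.node (.leaf [nat_lit 0,nat_lit 1,nat_lit 6,nat_lit 7,nat_lit 7])
 (.leaf [nat_lit 0,nat_lit 1,nat_lit 7,nat_lit 6,nat_lit 1])
)) (.node (.node (.leaf [nat_lit 0,nat_lit 1,nat_lit 6,nat_lit 6,nat_lit 1])
 (.leaf [nat_lit 0,nat_lit 1,nat_lit 5,nat_lit 4,nat_lit 1])
) (.leaf [nat_lit 0,nat_lit 1,nat_lit 6,nat_lit 7,nat_lit 7])
)) (.node (.node (.node (.leaf [nat_lit 0,nat_lit 1,nat_lit 6,nat_lit 5,nat_lit 1])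
 (.leaf [nat_lit 0,nat_lit 1,nat_lit 4,nat_lit 6,nat_lit 1])
) (.node (.leaf [nat_lit 0,nat_lit 1,nat_lit 7,nat_lit 4,nat_lit 1])
 (.leaf [nat_lit 0,nat_lit 1,nat_lit 7,nat_lit 6,nat_lit 1])
)) (.node (.node (.leaf [nat_lit 0,nat_lit 1,nat_lit 6,nat_lit 4,nat_lit 1])
 (.leaf [nat_lit 0,nat_lit 1,nat_lit 6,nat_lit 7,nat_lit 1])
) (.leaf [nat_lit 2,nat_lit 1,nat_lit 7,nat_lit 7,nat_lit 466])
))) (.node (.node (.node (.node (.leaf [nat_lit 0,nat_lit 0,nat_lit 5,nat_lit 5,nat_lit 2])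
 (.leaf [nat_lit 0,nat_lit 1,nat_lit 3,nat_lit 6,nat_lit 1])
) (.node (.leaf [nat_lit 0,nat_lit 1,nat_lit 7,nat_lit 4,nat_lit 7])
 (.leaf [nat_lit 0,nat_lit 1,nat_lit 7,nat_lit 4,nat_lit 1])
)) (.node (.node (.leaf [nat_lit 0,nat_lit 1,nat_lit 3,nat_lit 4,nat_lit 7])
 (.leaf [nat_lit 0,nat_lit 1,nat_lit 6,nat_lit 6,nat_lit 1])
) (.leaf [nat_lit 0,nat_lit 1,nat_lit 7,nat_lit 6,nat_lit 1])
)) (.node (.node (.node (.leaf [nat_lit 0,nat_lit 1,nat_lit 6,nat_lit 1,nat_lit 7])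
 (.leaf [nat_lit 0,nat_lit 1,nat_lit 4,nat_lit 6,nat_lit 1])
) (.leaf [nat_lit 2,nat_lit 1,nat_lit 7,nat_lit 6,nat_lit 370])
) (.node (.node (.leaf [nat_lit 2,nat_lit 1,nat_lit 5,nat_lit 4,nat_lit 242])
 (.leaf [nat_lit 0,nat_lit 1,nat_lit 6,nat_lit 7,nat_lit 1])
) (.leaf [nat_lit 0,nat_lit 1,nat_lit 7,nat_lit 7,nat_lit 7])
))))) (.node (.node (.node (.node (.node (.node (.leaf [nat_lit 0,nat_lit 1,nat_lit 1,nat_lit 1,nat_lit 7])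
 (.leaf [nat_lit 0,nat_lit 1,nat_lit 7,nat_lit 7,nat_lit 7])
) (.node (.leaf [nat_lit 0,nat_lit 0,nat_lit 7,nat_lit 7,nat_lit 2])
 (.leaf [nat_lit 0,nat_lit 1,nat_lit 7,nat_lit 4,nat_lit 1])
)) (.node (.node (.leaf [nat_lit 0,nat_lit 1,nat_lit 6,nat_lit 6,nat_lit 7])
 (.leaf [nat_lit 0,nat_lit 1,nat_lit 5,nat_lit 7,nat_lit 1])
) (.leaf [nat_lit 2,nat_lit 1,nat_lit 7,nat_lit 6,nat_lit 394])
)) (.node (.node (.node (.leaf [nat_lit 0,nat_lit 1,nat_lit 6,nat_lit 3,nat_lit 7])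
 (.leaf [nat_lit 0,nat_lit 1,nat_lit 4,nat_lit 6,nat_lit 1])
) (.node (.leaf [nat_lit 0,nat_lit 1,nat_lit 4,nat_lit 7,nat_lit 7])
 (.leaf [nat_lit 0,nat_lit 1,nat_lit 7,nat_lit 7,nat_lit 1])
)) (.node (.node (.leaf [nat_lit 0,nat_lit 1,nat_lit 4,nat_lit 6,nat_lit 7])
 (.leaf [nat_lit 0,nat_lit 1,nat_lit 6,nat_lit 6,nat_lit 1])
) (.leaf [nat_lit 0,nat_lit 1,nat_lit 4,nat_lit 7,nat_lit 1])
))) (.node (.node (.node (.node (.leaf [nat_lit 2,nat_lit 1,nat_lit 4,nat_lit 4,nat_lit 42])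
 (.leaf [nat_lit 0,nat_lit 1,nat_lit 1,nat_lit 4,nat_lit 1])
) (.node (.leaf [nat_lit 0,nat_lit 1,nat_lit 7,nat_lit 6,nat_lit 7])
 (.leaf [nat_lit 0,nat_lit 1,nat_lit 7,nat_lit 4,nat_lit 1])
)) (.node (.node (.leaf [nat_lit 2,nat_lit 1,nat_lit 5,nat_lit 6,nat_lit 170])
 (.leaf [nat_lit 0,nat_lit 1,nat_lit 6,nat_lit 6,nat_lit 1])
) (.leaf [nat_lit 0,nat_lit 1,nat_lit 6,nat_lit 7,nat_lit 7])
)) (.node (.node (.node (.leaf [nat_lit 2,nat_lit 1,nat_lit 5,nat_lit 4,nat_lit 106])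
 (.leaf [nat_lit 0,nat_lit 1,nat_lit 4,nat_lit 3,nat_lit 1])
) (.node (.leaf [nat_lit 0,nat_lit 1,nat_lit 7,nat_lit 6,nat_lit 1])
 (.leaf [nat_lit 0,nat_lit 1,nat_lit 7,nat_lit 7,nat_lit 1])
)) (.node (.node (.leaf [nat_lit 0,nat_lit 1,nat_lit 5,nat_lit 4,nat_lit 1])
 (.leaf [nat_lit 0,nat_lit 1,nat_lit 6,nat_lit 4,nat_lit 1])
) (.leaf [nat_lit 2,nat_lit 1,nat_lit 7,nat_lit 7,nat_lit 490])
)))) (.node (.node (.node (.node (.node (.leaf [nat_lit 0,nat_lit 0,nat_lit 3,nat_lit 3,nat_lit 2])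
 (.leaf [nat_lit 0,nat_lit 0,nat_lit 1,nat_lit 1,nat_lit 2])
) (.node (.leaf [nat_lit 0,nat_lit 1,nat_lit 7,nat_lit 6,nat_lit 1])
 (.leaf [nat_lit 0,nat_lit 1,nat_lit 7,nat_lit 3,nat_lit 1])
)) (.node (.node (.leaf [nat_lit 2,nat_lit 1,nat_lit 4,nat_lit 6,nat_lit 154])
 (.leaf [nat_lit 0,nat_lit 1,nat_lit 6,nat_lit 1,nat_lit 1])
) (.leaf [nat_lit 0,nat_lit 1,nat_lit 7,nat_lit 6,nat_lit 1])
)) (.node (.node (.node (.leaf [nat_lit 2,nat_lit 1,nat_lit 6,nat_lit 6,nat_lit 90])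
 (.leaf [nat_lit 0,nat_lit 1,nat_lit 4,nat_lit 7,nat_lit 1])
) (.node (.leaf [nat_lit 2,nat_lit 1,nat_lit 7,nat_lit 5,nat_lit 346])
 (.leaf [nat_lit 0,nat_lit 1,nat_lit 7,nat_lit 4,nat_lit 1])
)) (.node (.node (.leaf [nat_lit 2,nat_lit 1,nat_lit 6,nat_lit 4,nat_lit 218])
 (.leaf [nat_lit 0,nat_lit 1,nat_lit 6,nat_lit 7,nat_lit 1])
) (.leaf [nat_lit 0,nat_lit 1,nat_lit 7,nat_lit 7,nat_lit 7])
))) (.node (.node (.node (.node (.leaf [nat_lit 2,nat_lit 1,nat_lit 5,nat_lit 4,nat_lit 58])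
 (.leaf [nat_lit 0,nat_lit 1,nat_lit 3,nat_lit 5,nat_lit 1])
) (.node (.leaf [nat_lit 0,nat_lit 1,nat_lit 7,nat_lit 3,nat_lit 1])
 (.leaf [nat_lit 0,nat_lit 1,nat_lit 7,nat_lit 6,nat_lit 1])
)) (.node (.node (.leaf [nat_lit 0,nat_lit 1,nat_lit 4,nat_lit 3,nat_lit 1])
 (.leaf [nat_lit 0,nat_lit 1,nat_lit 6,nat_lit 7,nat_lit 1])
) (.leaf [nat_lit 2,nat_lit 1,nat_lit 7,nat_lit 6,nat_lit 442])
)) (.node (.node (.node (.leaf [nat_lit 0,nat_lit 1,nat_lit 6,nat_lit 6,nat_lit 1])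
 (.leaf [nat_lit 0,nat_lit 1,nat_lit 4,nat_lit 7,nat_lit 1])
) (.leaf [nat_lit 0,nat_lit 1,nat_lit 6,nat_lit 7,nat_lit 7])
) (.node (.node (.leaf [nat_lit 0,nat_lit 1,nat_lit 6,nat_lit 6,nat_lit 7])
 (.leaf [nat_lit 0,nat_lit 1,nat_lit 6,nat_lit 7,nat_lit 1])
) (.leaf [nat_lit 0,nat_lit 1,nat_lit 4,nat_lit 7,nat_lit 1])
)))))) (.node (.node (.node (.node (.node (.node (.node (.leaf [nat_lit 0,nat_lit 0,nat_lit 1,nat_lit 1,nat_lit 2])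
 (.leaf [nat_lit 0,nat_lit 1,nat_lit 4,nat_lit 7,nat_lit 1])
) (.node (.leaf [nat_lit 2,nat_lit 1,nat_lit 4,nat_lit 6,nat_lit 262])
 (.leaf [nat_lit 0,nat_lit 1,nat_lit 7,nat_lit 1,nat_lit 1])
)) (.node (.node (.leaf [nat_lit 0,nat_lit 1,nat_lit 6,nat_lit 6,nat_lit 1])
 (.leaf [nat_lit 0,nat_lit 1,nat_lit 4,nat_lit 4,nat_lit 1])
) (.leaf [nat_lit 0,nat_lit 1,nat_lit 6,nat_lit 7,nat_lit 7])
)) (.node (.node (.node (.leaf [nat_lit 1,nat_lit 1,nat_lit 1,nat_lit 6,nat_lit 0])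
 (.leaf [nat_lit 0,nat_lit 1,nat_lit 4,nat_lit 7,nat_lit 1])
) (.node (.leaf [nat_lit 0,nat_lit 1,nat_lit 7,nat_lit 4,nat_lit 1])
 (.leaf [nat_lit 0,nat_lit 1,nat_lit 7,nat_lit 7,nat_lit 1])
)) (.node (.node (.leaf [nat_lit 0,nat_lit 1,nat_lit 4,nat_lit 4,nat_lit 1])
 (.leaf [nat_lit 0,nat_lit 1,nat_lit 6,nat_lit 4,nat_lit 1])
) (.leaf [nat_lit 2,nat_lit 1,nat_lit 7,nat_lit 7,nat_lit 454])
))) (.node (.node (.node (.node (.leaf [nat_lit 0,nat_lit 1,nat_lit 1,nat_lit 4,nat_lit 7])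
 (.leaf [nat_lit 0,nat_lit 1,nat_lit 1,nat_lit 7,nat_lit 1])
) (.node (.leaf [nat_lit 0,nat_lit 1,nat_lit 5,nat_lit 7,nat_lit 1])
 (.leaf [nat_lit 0,nat_lit 1,nat_lit 7,nat_lit 7,nat_lit 1])
)) (.node (.node (.leaf [nat_lit 0,nat_lit 1,nat_lit 6,nat_lit 4,nat_lit 7])
 (.leaf [nat_lit 0,nat_lit 1,nat_lit 6,nat_lit 4,nat_lit 1])
) (.leaf [nat_lit 0,nat_lit 1,nat_lit 7,nat_lit 6,nat_lit 1])
)) (.node (.node (.node (.leaf [nat_lit 0,nat_lit 1,nat_lit 4,nat_lit 6,nat_lit 7])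
 (.leaf [nat_lit 0,nat_lit 1,nat_lit 4,nat_lit 5,nat_lit 1])
) (.node (.leaf [nat_lit 2,nat_lit 1,nat_lit 7,nat_lit 6,nat_lit 358])
 (.leaf [nat_lit 0,nat_lit 1,nat_lit 7,nat_lit 7,nat_lit 1])
)) (.node (.node (.leaf [nat_lit 2,nat_lit 1,nat_lit 4,nat_lit 4,nat_lit 230])
 (.leaf [nat_lit 0,nat_lit 1,nat_lit 6,nat_lit 6,nat_lit 1])
) (.leaf [nat_lit 0,nat_lit 1,nat_lit 7,nat_lit 7,nat_lit 7])
)))) (.node (.node (.node (.node (.node (.leaf [nat_lit 1,nat_lit 1,nat_lit 1,nat_lit 3,nat_lit 0])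
 (.leaf [nat_lit 0,nat_lit 0,nat_lit 1,nat_lit 1,nat_lit 2])
) (.node (.leaf [nat_lit 2,nat_lit 1,nat_lit 7,nat_lit 6,nat_lit 278])
 (.leaf [nat_lit 0,nat_lit 1,nat_lit 7,nat_lit 7,nat_lit 1])
)) (.node (.node (.leaf [nat_lit 0,nat_lit 1,nat_lit 6,nat_lit 6,nat_lit 7])
 (.leaf [nat_lit 0,nat_lit 1,nat_lit 5,nat_lit 4,nat_lit 1])
) (.leaf [nat_lit 2,nat_lit 1,nat_lit 7,nat_lit 6,nat_lit 406])
)) (.node (.node (.node (.leaf [nat_lit 0,nat_lit 1,nat_lit 6,nat_lit 4,nat_lit 7])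
 (.leaf [nat_lit 0,nat_lit 1,nat_lit 4,nat_lit 6,nat_lit 1])
) (.node (.leaf [nat_lit 0,nat_lit 1,nat_lit 4,nat_lit 7,nat_lit 7])
 (.leaf [nat_lit 0,nat_lit 1,nat_lit 7,nat_lit 7,nat_lit 1])
)) (.node (.node (.leaf [nat_lit 0,nat_lit 1,nat_lit 4,nat_lit 6,nat_lit 7])
 (.leaf [nat_lit 0,nat_lit 1,nat_lit 6,nat_lit 7,nat_lit 1])
) (.leaf [nat_lit 0,nat_lit 1,nat_lit 7,nat_lit 7,nat_lit 1])
))) (.node (.node (.node (.node (.leaf [nat_lit 2,nat_lit 1,nat_lit 5,nat_lit 1,nat_lit 54])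
 (.leaf [nat_lit 0,nat_lit 1,nat_lit 3,nat_lit 7,nat_lit 1])
) (.node (.leaf [nat_lit 2,nat_lit 1,nat_lit 7,nat_lit 3,nat_lit 310])
 (.leaf [nat_lit 0,nat_lit 1,nat_lit 7,nat_lit 4,nat_lit 1])
)) (.node (.node (.leaf [nat_lit 2,nat_lit 1,nat_lit 4,nat_lit 3,nat_lit 182])
 (.leaf [nat_lit 0,nat_lit 1,nat_lit 6,nat_lit 4,nat_lit 1])
) (.leaf [nat_lit 0,nat_lit 1,nat_lit 6,nat_lit 7,nat_lit 7])
)) (.node (.node (.node (.leaf [nat_lit 2,nat_lit 1,nat_lit 5,nat_lit 6,nat_lit 118])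
 (.leaf [nat_lit 0,nat_lit 1,nat_lit 4,nat_lit 5,nat_lit 1])
) (.leaf [nat_lit 0,nat_lit 1,nat_lit 7,nat_lit 6,nat_lit 1])
) (.node (.node (.leaf [nat_lit 0,nat_lit 1,nat_lit 6,nat_lit 6,nat_lit 1])
 (.leaf [nat_lit 0,nat_lit 1,nat_lit 6,nat_lit 7,nat_lit 1])
) (.leaf [nat_lit 2,nat_lit 1,nat_lit 4,nat_lit 7,nat_lit 502])
))))) (.node (.node (.node (.node (.node (.node (.leaf [nat_lit 0,nat_lit 0,nat_lit 2,nat_lit 2,nat_lit 2])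
 (.leaf [nat_lit 2,nat_lit 1,nat_lit 7,nat_lit 7,nat_lit 526])
) (.node (.leaf [nat_lit 0,nat_lit 1,nat_lit 7,nat_lit 4,nat_lit 1])
 (.leaf [nat_lit 0,nat_lit 1,nat_lit 7,nat_lit 7,nat_lit 1])
)) (.node (.node (.leaf [nat_lit 2,nat_lit 1,nat_lit 6,nat_lit 6,nat_lit 142])
 (.leaf [nat_lit 0,nat_lit 1,nat_lit 5,nat_lit 4,nat_lit 1])
) (.leaf [nat_lit 0,nat_lit 1,nat_lit 7,nat_lit 6,nat_lit 1])
)) (.node (.node (.node (.leaf [nat_lit 2,nat_lit 1,nat_lit 6,nat_lit 6,nat_lit 78])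
 (.leaf [nat_lit 0,nat_lit 1,nat_lit 4,nat_lit 4,nat_lit 1])
) (.node (.leaf [nat_lit 2,nat_lit 1,nat_lit 7,nat_lit 4,nat_lit 334])
 (.leaf [nat_lit 0,nat_lit 1,nat_lit 7,nat_lit 7,nat_lit 1])
)) (.node (.node (.leaf [nat_lit 2,nat_lit 1,nat_lit 6,nat_lit 4,nat_lit 206])
 (.leaf [nat_lit 0,nat_lit 1,nat_lit 6,nat_lit 4,nat_lit 1])
) (.leaf [nat_lit 0,nat_lit 1,nat_lit 7,nat_lit 7,nat_lit 7])
))) (.node (.node (.node (.node (.leaf [nat_lit 0,nat_lit 1,nat_lit 4,nat_lit 4,nat_lit 7])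
 (.leaf [nat_lit 0,nat_lit 1,nat_lit 2,nat_lit 1,nat_lit 1])
) (.node (.leaf [nat_lit 2,nat_lit 1,nat_lit 5,nat_lit 7,nat_lit 302])
 (.leaf [nat_lit 0,nat_lit 1,nat_lit 7,nat_lit 6,nat_lit 1])
)) (.node (.node (.leaf [nat_lit 0,nat_lit 1,nat_lit 6,nat_lit 3,nat_lit 1])
 (.leaf [nat_lit 0,nat_lit 1,nat_lit 6,nat_lit 7,nat_lit 1])
) (.leaf [nat_lit 2,nat_lit 1,nat_lit 7,nat_lit 6,nat_lit 430])
)) (.node (.node (.node (.leaf [nat_lit 0,nat_lit 1,nat_lit 6,nat_lit 4,nat_lit 1])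
 (.leaf [nat_lit 0,nat_lit 1,nat_lit 4,nat_lit 6,nat_lit 1])
) (.node (.leaf [nat_lit 0,nat_lit 1,nat_lit 6,nat_lit 7,nat_lit 7])
 (.leaf [nat_lit 0,nat_lit 1,nat_lit 7,nat_lit 7,nat_lit 1])
)) (.node (.node (.leaf [nat_lit 0,nat_lit 1,nat_lit 4,nat_lit 5,nat_lit 7])
 (.leaf [nat_lit 0,nat_lit 1,nat_lit 6,nat_lit 6,nat_lit 1])
) (.leaf [nat_lit 0,nat_lit 1,nat_lit 7,nat_lit 7,nat_lit 1])
)))) (.node (.node (.node (.node (.node (.leaf [nat_lit 0,nat_lit 0,nat_lit 3,nat_lit 3,nat_lit 2])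
 (.leaf [nat_lit 0,nat_lit 0,nat_lit 1,nat_lit 1,nat_lit 2])
) (.node (.leaf [nat_lit 0,nat_lit 1,nat_lit 6,nat_lit 7,nat_lit 7])
 (.leaf [nat_lit 0,nat_lit 1,nat_lit 7,nat_lit 6,nat_lit 1])
)) (.node (.node (.leaf [nat_lit 0,nat_lit 1,nat_lit 4,nat_lit 6,nat_lit 1])
 (.leaf [nat_lit 0,nat_lit 1,nat_lit 6,nat_lit 6,nat_lit 1])
) (.leaf [nat_lit 0,nat_lit 1,nat_lit 6,nat_lit 7,nat_lit 7])
)) (.node (.node (.node (.leaf [nat_lit 2,nat_lit 1,nat_lit 6,nat_lit 4,nat_lit 94])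
 (.leaf [nat_lit 0,nat_lit 1,nat_lit 4,nat_lit 6,nat_lit 1])
) (.node (.leaf [nat_lit 0,nat_lit 1,nat_lit 7,nat_lit 6,nat_lit 1])
 (.leaf [nat_lit 0,nat_lit 1,nat_lit 7,nat_lit 3,nat_lit 1])
)) (.node (.node (.leaf [nat_lit 0,nat_lit 1,nat_lit 5,nat_lit 4,nat_lit 1])
 (.leaf [nat_lit 0,nat_lit 1,nat_lit 6,nat_lit 6,nat_lit 1])
) (.leaf [nat_lit 2,nat_lit 1,nat_lit 4,nat_lit 7,nat_lit 478])
))) (.node (.node (.node (.node (.leaf [nat_lit 2,nat_lit 1,nat_lit 4,nat_lit 5,nat_lit 62])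
 (.leaf [nat_lit 0,nat_lit 1,nat_lit 3,nat_lit 1,nat_lit 1])
) (.node (.leaf [nat_lit 0,nat_lit 1,nat_lit 4,nat_lit 7,nat_lit 7])
 (.leaf [nat_lit 0,nat_lit 1,nat_lit 7,nat_lit 6,nat_lit 1])
)) (.node (.node (.leaf [nat_lit 0,nat_lit 1,nat_lit 4,nat_lit 6,nat_lit 7])
 (.leaf [nat_lit 0,nat_lit 1,nat_lit 6,nat_lit 6,nat_lit 1])
) (.leaf [nat_lit 0,nat_lit 1,nat_lit 1,nat_lit 7,nat_lit 1])
)) (.node (.node (.node (.leaf [nat_lit 0,nat_lit 1,nat_lit 6,nat_lit 6,nat_lit 7])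
 (.leaf [nat_lit 0,nat_lit 1,nat_lit 4,nat_lit 5,nat_lit 1])
) (.leaf [nat_lit 2,nat_lit 1,nat_lit 7,nat_lit 6,nat_lit 382])
) (.node (.node (.leaf [nat_lit 0,nat_lit 1,nat_lit 6,nat_lit 6,nat_lit 1])
 (.leaf [nat_lit 0,nat_lit 1,nat_lit 6,nat_lit 7,nat_lit 1])
) (.leaf [nat_lit 0,nat_lit 1,nat_lit 7,nat_lit 7,nat_lit 7])
)))))))
noncomputable def Fi : LT :=
(.node (.node Fi0 Fi2) (.node Fi1 Fi3))

noncomputable def Fh0 : LT :=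
(.node (.node (.node (.node (.node (.node (.node (.leaf [])
 (.leaf [nat_lit 4,nat_lit 0,nat_lit 0,nat_lit 2,nat_lit 0,nat_lit 3,nat_lit 2,nat_lit 0,nat_lit 2,nat_lit 1,nat_lit 3,nat_lit 2,nat_lit 0,nat_lit 3,nat_lit 1,nat_lit 1,nat_lit 2,nat_lit 1,nat_lit 3,nat_lit 0])
) (.node (.leaf [nat_lit 2,nat_lit 1,nat_lit 3,nat_lit 2,nat_lit 3,nat_lit 1,nat_lit 2,nat_lit 0,nat_lit 3,nat_lit 0,nat_lit 0,nat_lit 3,nat_lit 2,nat_lit 1,nat_lit 1,nat_lit 2,nat_lit 0,nat_lit 0,nat_lit 2])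
 (.leaf [nat_lit 5,nat_lit 1,nat_lit 2,nat_lit 3,nat_lit 1,nat_lit 2,nat_lit 0,nat_lit 0,nat_lit 2,nat_lit 1,nat_lit 3,nat_lit 0,nat_lit 0,nat_lit 2,nat_lit 3,nat_lit 0,nat_lit 0,nat_lit 2,nat_lit 3])
)) (.node (.node (.leaf [nat_lit 1,nat_lit 1,nat_lit 3,nat_lit 2,nat_lit 0,nat_lit 2,nat_lit 1,nat_lit 1,nat_lit 3,nat_lit 1,nat_lit 2,nat_lit 3,nat_lit 0,nat_lit 3,nat_lit 2,nat_lit 3,nat_lit 0,nat_lit 3])
 (.leaf [nat_lit 5,nat_lit 0,nat_lit 0,nat_lit 3,nat_lit 2,nat_lit 3,nat_lit 1,nat_lit 2,nat_lit 1,nat_lit 2,nat_lit 0,nat_lit 3,nat_lit 0,nat_lit 0,nat_lit 2,nat_lit 1,nat_lit 1,nat_lit 3,nat_lit 0])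
) (.leaf [nat_lit 5,nat_lit 1,nat_lit 2,nat_lit 1,nat_lit 2,nat_lit 1,nat_lit 3,nat_lit 1,nat_lit 1,nat_lit 1,nat_lit 3,nat_lit 0,nat_lit 3,nat_lit 1,nat_lit 2,nat_lit 1,nat_lit 2,nat_lit 1,nat_lit 2,nat_lit 0])
)) (.node (.node (.node (.leaf [nat_lit 5,nat_lit 2,nat_lit 0,nat_lit 2,nat_lit 1,nat_lit 3,nat_lit 0,nat_lit 3,nat_lit 1,nat_lit 3,nat_lit 0,nat_lit 0,nat_lit 0,nat_lit 2,nat_lit 3,nat_lit 0,nat_lit 0,nat_lit 2,nat_lit 1,nat_lit 1,nat_lit 1])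
 (.leaf [nat_lit 2])
) (.node (.leaf [nat_lit 5,nat_lit 2,nat_lit 3,nat_lit 0,nat_lit 2,nat_lit 0,nat_lit 3,nat_lit 0,nat_lit 3,nat_lit 0,nat_lit 0,nat_lit 3,nat_lit 2,nat_lit 0,nat_lit 2,nat_lit 0,nat_lit 0,nat_lit 0])
 (.leaf [nat_lit 5,nat_lit 2,nat_lit 0,nat_lit 0,nat_lit 2,nat_lit 0,nat_lit 3,nat_lit 0,nat_lit 2,nat_lit 0,nat_lit 3,nat_lit 1,nat_lit 1,nat_lit 1,nat_lit 2,nat_lit 0,nat_lit 0,nat_lit 2,nat_lit 3,nat_lit 1,nat_lit 1])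
)) (.node (.node (.leaf [nat_lit 5,nat_lit 3,nat_lit 0,nat_lit 3,nat_lit 1,nat_lit 2,nat_lit 1,nat_lit 3,nat_lit 2,nat_lit 3,nat_lit 0,nat_lit 2,nat_lit 3,nat_lit 2,nat_lit 0,nat_lit 2,nat_lit 3,nat_lit 2,nat_lit 1])
 (.leaf [nat_lit 4,nat_lit 0,nat_lit 0,nat_lit 2,nat_lit 1,nat_lit 1,nat_lit 1,nat_lit 3,nat_lit 0,nat_lit 2,nat_lit 1,nat_lit 2,nat_lit 1,nat_lit 1,nat_lit 2,nat_lit 0,nat_lit 0,nat_lit 2,nat_lit 1,nat_lit 2])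
) (.leaf [nat_lit 5,nat_lit 1,nat_lit 3,nat_lit 2,nat_lit 1,nat_lit 3,nat_lit 0,nat_lit 2,nat_lit 0,nat_lit 3,nat_lit 0,nat_lit 2,nat_lit 3,nat_lit 0,nat_lit 3,nat_lit 1,nat_lit 1,nat_lit 2,nat_lit 1,nat_lit 3])
))) (.node (.node (.node (.node (.leaf [])
 (.leaf [])
) (.node (.leaf [nat_lit 3,nat_lit 1,nat_lit 2,nat_lit 0,nat_lit 2,nat_lit 3,nat_lit 1,nat_lit 2,nat_lit 3,nat_lit 0,nat_lit 0,nat_lit 0,nat_lit 3,nat_lit 2,nat_lit 1,nat_lit 2,nat_lit 1,nat_lit 2,nat_lit 3])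
 (.leaf [nat_lit 4,nat_lit 3,nat_lit 2,nat_lit 3,nat_lit 0,nat_lit 0,nat_lit 3,nat_lit 0,nat_lit 0,nat_lit 3,nat_lit 2,nat_lit 0,nat_lit 0,nat_lit 2,nat_lit 3,nat_lit 0,nat_lit 3,nat_lit 0])
)) (.node (.node (.leaf [nat_lit 3,nat_lit 2,nat_lit 1,nat_lit 3,nat_lit 0,nat_lit 0,nat_lit 2,nat_lit 3,nat_lit 1,nat_lit 3,nat_lit 2,nat_lit 0,nat_lit 2,nat_lit 0,nat_lit 0,nat_lit 3,nat_lit 0,nat_lit 0,nat_lit 0])
 (.leaf [nat_lit 0,nat_lit 0,nat_lit 2,nat_lit 3,nat_lit 2,nat_lit 0,nat_lit 0,nat_lit 0,nat_lit 2,nat_lit 1,nat_lit 3,nat_lit 2,nat_lit 3,nat_lit 2,nat_lit 0,nat_lit 3,nat_lit 2])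
) (.leaf [nat_lit 5,nat_lit 0,nat_lit 3,nat_lit 0,nat_lit 0,nat_lit 0,nat_lit 3,nat_lit 2,nat_lit 3,nat_lit 1,nat_lit 3,nat_lit 0,nat_lit 0,nat_lit 3,nat_lit 2,nat_lit 0,nat_lit 2,nat_lit 1,nat_lit 3])
)) (.node (.node (.node (.leaf [nat_lit 5,nat_lit 0,nat_lit 0,nat_lit 2,nat_lit 1,nat_lit 3,nat_lit 2,nat_lit 1,nat_lit 1,nat_lit 1,nat_lit 2,nat_lit 0,nat_lit 3,nat_lit 2,nat_lit 0,nat_lit 3,nat_lit 2,nat_lit 3])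
 (.leaf [nat_lit 4,nat_lit 3,nat_lit 1,nat_lit 1,nat_lit 1,nat_lit 3,nat_lit 0,nat_lit 3,nat_lit 1,nat_lit 1,nat_lit 1,nat_lit 2,nat_lit 0,nat_lit 3,nat_lit 0,nat_lit 3,nat_lit 2,nat_lit 3,nat_lit 0,nat_lit 3])
) (.node (.leaf [nat_lit 0,nat_lit 0,nat_lit 2,nat_lit 3,nat_lit 2,nat_lit 0,nat_lit 0,nat_lit 0,nat_lit 2,nat_lit 1,nat_lit 3,nat_lit 2,nat_lit 3,nat_lit 2,nat_lit 0,nat_lit 3,nat_lit 2])
 (.leaf [nat_lit 4,nat_lit 2,nat_lit 0,nat_lit 2,nat_lit 1,nat_lit 2,nat_lit 1,nat_lit 1,nat_lit 1,nat_lit 2,nat_lit 0,nat_lit 0,nat_lit 3,nat_lit 0,nat_lit 3,nat_lit 0,nat_lit 0,nat_lit 2,nat_lit 1])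
)) (.node (.node (.leaf [nat_lit 0,nat_lit 2,nat_lit 1,nat_lit 1,nat_lit 1,nat_lit 3,nat_lit 0,nat_lit 3,nat_lit 1,nat_lit 2,nat_lit 1,nat_lit 2,nat_lit 3,nat_lit 2,nat_lit 3,nat_lit 1,nat_lit 1,nat_lit 2,nat_lit 0])
 (.leaf [nat_lit 5,nat_lit 1,nat_lit 3,nat_lit 1,nat_lit 2,nat_lit 1,nat_lit 3,nat_lit 0,nat_lit 2,nat_lit 3,nat_lit 1,nat_lit 3,nat_lit 2,nat_lit 0,nat_lit 3,nat_lit 0,nat_lit 0,nat_lit 3,nat_lit 1,nat_lit 1,nat_lit 1])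
) (.leaf [nat_lit 1,nat_lit 3,nat_lit 2,nat_lit 3,nat_lit 2,nat_lit 0,nat_lit 3,nat_lit 0,nat_lit 2,nat_lit 0,nat_lit 3,nat_lit 1,nat_lit 2,nat_lit 3,nat_lit 0,nat_lit 2,nat_lit 0,nat_lit 3,nat_lit 1,nat_lit 3])
)))) (.node (.node (.node (.node (.node (.leaf [])
 (.leaf [nat_lit 5,nat_lit 2,nat_lit 1,nat_lit 1,nat_lit 3,nat_lit 2,nat_lit 0,nat_lit 2,nat_lit 1,nat_lit 1,nat_lit 3,nat_lit 2,nat_lit 0,nat_lit 3,nat_lit 0,nat_lit 0,nat_lit 3,nat_lit 2,nat_lit 0,nat_lit 3])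
) (.node (.leaf [nat_lit 1,nat_lit 2,nat_lit 0,nat_lit 0,nat_lit 3,nat_lit 1,nat_lit 1,nat_lit 1,nat_lit 3,nat_lit 2,nat_lit 3,nat_lit 0,nat_lit 3,nat_lit 0,nat_lit 0,nat_lit 2,nat_lit 1,nat_lit 2,nat_lit 0,nat_lit 3])
 (.leaf [nat_lit 5,nat_lit 1,nat_lit 1,nat_lit 1,nat_lit 3,nat_lit 2,nat_lit 1,nat_lit 3,nat_lit 2,nat_lit 1,nat_lit 2,nat_lit 3,nat_lit 2,nat_lit 0,nat_lit 3,nat_lit 0,nat_lit 0,nat_lit 2,nat_lit 3,nat_lit 0,nat_lit 0])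
)) (.node (.node (.leaf [nat_lit 4,nat_lit 2,nat_lit 0,nat_lit 3,nat_lit 1,nat_lit 1,nat_lit 2,nat_lit 0,nat_lit 3,nat_lit 2,nat_lit 1,nat_lit 1,nat_lit 3,nat_lit 2,nat_lit 1,nat_lit 1,nat_lit 3,nat_lit 2,nat_lit 0,nat_lit 3,nat_lit 0])
 (.leaf [nat_lit 1,nat_lit 2,nat_lit 3,nat_lit 2,nat_lit 1,nat_lit 1,nat_lit 3,nat_lit 0,nat_lit 2,nat_lit 3,nat_lit 1,nat_lit 3,nat_lit 2,nat_lit 3,nat_lit 2,nat_lit 3])
) (.leaf [nat_lit 5,nat_lit 3,nat_lit 1,nat_lit 2,nat_lit 3,nat_lit 1,nat_lit 2,nat_lit 1,nat_lit 2,nat_lit 0,nat_lit 3,nat_lit 0,nat_lit 0,nat_lit 2,nat_lit 1,nat_lit 1,nat_lit 3,nat_lit 0,nat_lit 0,nat_lit 3])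
)) (.node (.node (.node (.leaf [nat_lit 5,nat_lit 1,nat_lit 2,nat_lit 0,nat_lit 2,nat_lit 0,nat_lit 3,nat_lit 1,nat_lit 2,nat_lit 3,nat_lit 0,nat_lit 3,nat_lit 0,nat_lit 2,nat_lit 0,nat_lit 3,nat_lit 0,nat_lit 2,nat_lit 1,nat_lit 2])
 (.leaf [nat_lit 0,nat_lit 2,nat_lit 3,nat_lit 0,nat_lit 0,nat_lit 2,nat_lit 3,nat_lit 0,nat_lit 3,nat_lit 2,nat_lit 1,nat_lit 2,nat_lit 1,nat_lit 2,nat_lit 0,nat_lit 2,nat_lit 1,nat_lit 1,nat_lit 1])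
) (.node (.leaf [nat_lit 5,nat_lit 0,nat_lit 2,nat_lit 3,nat_lit 1,nat_lit 2,nat_lit 0,nat_lit 2,nat_lit 1,nat_lit 3,nat_lit 0,nat_lit 3,nat_lit 2,nat_lit 1,nat_lit 3,nat_lit 0,nat_lit 0,nat_lit 0,nat_lit 3,nat_lit 2,nat_lit 0])
 (.leaf [nat_lit 5,nat_lit 1,nat_lit 3,nat_lit 1,nat_lit 1,nat_lit 3,nat_lit 2,nat_lit 3,nat_lit 0,nat_lit 2,nat_lit 1,nat_lit 1,nat_lit 1,nat_lit 2,nat_lit 1,nat_lit 3,nat_lit 1,nat_lit 2,nat_lit 1,nat_lit 2])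
)) (.node (.node (.leaf [nat_lit 5,nat_lit 2,nat_lit 3,nat_lit 0,nat_lit 0,nat_lit 3,nat_lit 2,nat_lit 0,nat_lit 2,nat_lit 3,nat_lit 2,nat_lit 1,nat_lit 3,nat_lit 0,nat_lit 0,nat_lit 2,nat_lit 3,nat_lit 0,nat_lit 2,nat_lit 0])
 (.leaf [nat_lit 4,nat_lit 2,nat_lit 1,nat_lit 2,nat_lit 0,nat_lit 3,nat_lit 1,nat_lit 1,nat_lit 2,nat_lit 3,nat_lit 1,nat_lit 2,nat_lit 3,nat_lit 1,nat_lit 3,nat_lit 0,nat_lit 2,nat_lit 1,nat_lit 1,nat_lit 1,nat_lit 2])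
) (.leaf [nat_lit 2,nat_lit 3,nat_lit 2,nat_lit 1,nat_lit 3,nat_lit 1,nat_lit 2,nat_lit 1,nat_lit 3,nat_lit 1,nat_lit 2,nat_lit 3,nat_lit 0,nat_lit 0,nat_lit 0,nat_lit 3,nat_lit 0,nat_lit 2])
))) (.node (.node (.node (.node (.leaf [nat_lit 5,nat_lit 0,nat_lit 3,nat_lit 1,nat_lit 1,nat_lit 2,nat_lit 1,nat_lit 3,nat_lit 1,nat_lit 2,nat_lit 3,nat_lit 1,nat_lit 3,nat_lit 1,nat_lit 1,nat_lit 3,nat_lit 1,nat_lit 1])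
 (.leaf [nat_lit 2,nat_lit 1,nat_lit 1,nat_lit 3,nat_lit 2,nat_lit 3,nat_lit 1,nat_lit 2,nat_lit 1,nat_lit 1,nat_lit 3,nat_lit 0,nat_lit 3,nat_lit 2,nat_lit 0,nat_lit 0,nat_lit 0])
) (.node (.leaf [nat_lit 1,nat_lit 1,nat_lit 3,nat_lit 2,nat_lit 3,nat_lit 1,nat_lit 3,nat_lit 2,nat_lit 3,nat_lit 2,nat_lit 3,nat_lit 1,nat_lit 3,nat_lit 0,nat_lit 0,nat_lit 0,nat_lit 3,nat_lit 0])
 (.leaf [nat_lit 3,nat_lit 2,nat_lit 1,nat_lit 2,nat_lit 3,nat_lit 2,nat_lit 1,nat_lit 2,nat_lit 3,nat_lit 0,nat_lit 2,nat_lit 0,nat_lit 2,nat_lit 0,nat_lit 3,nat_lit 2,nat_lit 0,nat_lit 0,nat_lit 0])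
)) (.node (.node (.leaf [nat_lit 3,nat_lit 2,nat_lit 0,nat_lit 3,nat_lit 0,nat_lit 0,nat_lit 3,nat_lit 2,nat_lit 3,nat_lit 2,nat_lit 1,nat_lit 2,nat_lit 0,nat_lit 3,nat_lit 1,nat_lit 3,nat_lit 2])
 (.leaf [nat_lit 4,nat_lit 3,nat_lit 2,nat_lit 1,nat_lit 2,nat_lit 0,nat_lit 3,nat_lit 1,nat_lit 3,nat_lit 0,nat_lit 3,nat_lit 2,nat_lit 1,nat_lit 3,nat_lit 1,nat_lit 1,nat_lit 2,nat_lit 1,nat_lit 2,nat_lit 3])
) (.leaf [nat_lit 4,nat_lit 3,nat_lit 0,nat_lit 2,nat_lit 3,nat_lit 0,nat_lit 0,nat_lit 2,nat_lit 3,nat_lit 0,nat_lit 2,nat_lit 3,nat_lit 2,nat_lit 0,nat_lit 2,nat_lit 1,nat_lit 1,nat_lit 1,nat_lit 3])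
)) (.node (.node (.node (.leaf [nat_lit 0,nat_lit 2,nat_lit 1,nat_lit 1,nat_lit 1,nat_lit 2,nat_lit 3,nat_lit 0,nat_lit 3,nat_lit 1,nat_lit 2,nat_lit 1,nat_lit 2,nat_lit 3,nat_lit 2,nat_lit 1,nat_lit 2,nat_lit 3])
 (.leaf [nat_lit 5,nat_lit 0,nat_lit 0,nat_lit 2,nat_lit 0,nat_lit 3,nat_lit 0,nat_lit 3,nat_lit 2,nat_lit 3,nat_lit 1,nat_lit 1,nat_lit 1,nat_lit 2,nat_lit 0,nat_lit 0,nat_lit 0,nat_lit 3])
) (.node (.leaf [nat_lit 3,nat_lit 2,nat_lit 1,nat_lit 1,nat_lit 1,nat_lit 3,nat_lit 0,nat_lit 0,nat_lit 0,nat_lit 3,nat_lit 1,nat_lit 1,nat_lit 3,nat_lit 0,nat_lit 2,nat_lit 0,nat_lit 0,nat_lit 2,nat_lit 3,nat_lit 0])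
 (.leaf [nat_lit 2,nat_lit 0,nat_lit 3,nat_lit 0,nat_lit 3,nat_lit 0,nat_lit 0,nat_lit 3,nat_lit 2,nat_lit 1,nat_lit 1,nat_lit 1,nat_lit 2,nat_lit 3,nat_lit 2,nat_lit 3,nat_lit 2])
)) (.node (.node (.leaf [nat_lit 1,nat_lit 2,nat_lit 1,nat_lit 3,nat_lit 0,nat_lit 3,nat_lit 1,nat_lit 1,nat_lit 3,nat_lit 2,nat_lit 0,nat_lit 2,nat_lit 3,nat_lit 0,nat_lit 2,nat_lit 0,nat_lit 0,nat_lit 0,nat_lit 3])
 (.leaf [nat_lit 5,nat_lit 0,nat_lit 0,nat_lit 2,nat_lit 0,nat_lit 3,nat_lit 2,nat_lit 0,nat_lit 2,nat_lit 0,nat_lit 3,nat_lit 1,nat_lit 2,nat_lit 0,nat_lit 0])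
) (.leaf [nat_lit 1,nat_lit 1,nat_lit 3,nat_lit 1,nat_lit 1,nat_lit 3,nat_lit 0,nat_lit 3,nat_lit 1,nat_lit 1,nat_lit 2,nat_lit 0,nat_lit 0,nat_lit 3,nat_lit 1,nat_lit 2,nat_lit 1,nat_lit 3])
))))) (.node (.node (.node (.node (.node (.node (.leaf [])
 (.leaf [nat_lit 4,nat_lit 3,nat_lit 0,nat_lit 3,nat_lit 0,nat_lit 2,nat_lit 3,nat_lit 2,nat_lit 1,nat_lit 1,nat_lit 1,nat_lit 2,nat_lit 1,nat_lit 3,nat_lit 1,nat_lit 2,nat_lit 3])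
) (.node (.leaf [nat_lit 1,nat_lit 3,nat_lit 1,nat_lit 3,nat_lit 2,nat_lit 3,nat_lit 0,nat_lit 3,nat_lit 1,nat_lit 2,nat_lit 0,nat_lit 0,nat_lit 3,nat_lit 2,nat_lit 3,nat_lit 1,nat_lit 1,nat_lit 2])
 (.leaf [nat_lit 5,nat_lit 3,nat_lit 0,nat_lit 2,nat_lit 0,nat_lit 0,nat_lit 0,nat_lit 2,nat_lit 3,nat_lit 0,nat_lit 3,nat_lit 1,nat_lit 2,nat_lit 1,nat_lit 2,nat_lit 3,nat_lit 0,nat_lit 3])
)) (.node (.node (.leaf [nat_lit 5,nat_lit 3,nat_lit 2,nat_lit 1,nat_lit 2,nat_lit 0,nat_lit 2,nat_lit 1,nat_lit 3,nat_lit 0,nat_lit 3,nat_lit 1,nat_lit 2,nat_lit 3,nat_lit 1,nat_lit 2,nat_lit 0,nat_lit 0,nat_lit 0,nat_lit 2])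
 (.leaf [nat_lit 3,nat_lit 2,nat_lit 0,nat_lit 2,nat_lit 3,nat_lit 0,nat_lit 3,nat_lit 2,nat_lit 1,nat_lit 3,nat_lit 2,nat_lit 3,nat_lit 2,nat_lit 0,nat_lit 2,nat_lit 0,nat_lit 3,nat_lit 1])
) (.leaf [nat_lit 4,nat_lit 3,nat_lit 2,nat_lit 3,nat_lit 2,nat_lit 3,nat_lit 2,nat_lit 1,nat_lit 3,nat_lit 2,nat_lit 0,nat_lit 0,nat_lit 3,nat_lit 2,nat_lit 1,nat_lit 3,nat_lit 0,nat_lit 2,nat_lit 1])
)) (.node (.node (.node (.leaf [])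
 (.leaf [nat_lit 4,nat_lit 3,nat_lit 0,nat_lit 0,nat_lit 3,nat_lit 1,nat_lit 3,nat_lit 1,nat_lit 1,nat_lit 1,nat_lit 3,nat_lit 2,nat_lit 3,nat_lit 2,nat_lit 1,nat_lit 1,nat_lit 3,nat_lit 0,nat_lit 0,nat_lit 0,nat_lit 3])
) (.node (.leaf [nat_lit 4,nat_lit 2,nat_lit 1,nat_lit 2,nat_lit 3,nat_lit 2,nat_lit 1,nat_lit 1,nat_lit 1,nat_lit 2,nat_lit 3,nat_lit 0,nat_lit 3,nat_lit 2,nat_lit 0,nat_lit 3,nat_lit 2,nat_lit 1,nat_lit 3])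
 (.leaf [nat_lit 2,nat_lit 0,nat_lit 0,nat_lit 3,nat_lit 2,nat_lit 0,nat_lit 0,nat_lit 2,nat_lit 0,nat_lit 2,nat_lit 3,nat_lit 0,nat_lit 0,nat_lit 0,nat_lit 2,nat_lit 3,nat_lit 1,nat_lit 3,nat_lit 2])
)) (.node (.node (.leaf [nat_lit 5,nat_lit 1,nat_lit 3,nat_lit 1,nat_lit 2,nat_lit 0,nat_lit 3,nat_lit 1,nat_lit 1,nat_lit 3,nat_lit 0,nat_lit 0,nat_lit 3,nat_lit 0,nat_lit 3,nat_lit 0,nat_lit 0,nat_lit 0,nat_lit 2,nat_lit 1,nat_lit 3])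
 (.leaf [nat_lit 5,nat_lit 3,nat_lit 2,nat_lit 1,nat_lit 2,nat_lit 0,nat_lit 2,nat_lit 1,nat_lit 3,nat_lit 0,nat_lit 3,nat_lit 1,nat_lit 2,nat_lit 3,nat_lit 1,nat_lit 2,nat_lit 0,nat_lit 0,nat_lit 0,nat_lit 2])
) (.leaf [nat_lit 1,nat_lit 1,nat_lit 3,nat_lit 2,nat_lit 3,nat_lit 2,nat_lit 3,nat_lit 2,nat_lit 0,nat_lit 0,nat_lit 0,nat_lit 3,nat_lit 2,nat_lit 0,nat_lit 3,nat_lit 0,nat_lit 2])
))) (.node (.node (.node (.node (.leaf [nat_lit 4,nat_lit 1,nat_lit 3,nat_lit 1,nat_lit 3,nat_lit 0,nat_lit 3,nat_lit 2,nat_lit 0,nat_lit 0,nat_lit 3,nat_lit 0,nat_lit 2,nat_lit 1,nat_lit 3,nat_lit 0,nat_lit 0,nat_lit 3,nat_lit 2])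
 (.leaf [nat_lit 4,nat_lit 0,nat_lit 2,nat_lit 0,nat_lit 0,nat_lit 2,nat_lit 0,nat_lit 0,nat_lit 0,nat_lit 3,nat_lit 1,nat_lit 3,nat_lit 2,nat_lit 0,nat_lit 2,nat_lit 0,nat_lit 0,nat_lit 3,nat_lit 0,nat_lit 2,nat_lit 1])
) (.node (.leaf [nat_lit 4,nat_lit 0,nat_lit 3,nat_lit 1,nat_lit 3,nat_lit 0,nat_lit 0,nat_lit 0,nat_lit 2,nat_lit 3,nat_lit 1,nat_lit 3,nat_lit 1,nat_lit 2,nat_lit 1,nat_lit 1,nat_lit 2,nat_lit 3,nat_lit 1,nat_lit 2])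
 (.leaf [nat_lit 0,nat_lit 3,nat_lit 2,nat_lit 0,nat_lit 3,nat_lit 0,nat_lit 0,nat_lit 2,nat_lit 0,nat_lit 0,nat_lit 2,nat_lit 1,nat_lit 1,nat_lit 2,nat_lit 3,nat_lit 1,nat_lit 2])
)) (.node (.node (.leaf [nat_lit 5,nat_lit 3,nat_lit 0,nat_lit 3,nat_lit 0,nat_lit 2,nat_lit 3,nat_lit 1,nat_lit 1,nat_lit 3,nat_lit 2,nat_lit 3,nat_lit 1,nat_lit 3,nat_lit 2,nat_lit 1,nat_lit 3,nat_lit 1,nat_lit 1,nat_lit 2])
 (.leaf [nat_lit 1,nat_lit 3,nat_lit 1,nat_lit 1,nat_lit 1,nat_lit 2,nat_lit 1,nat_lit 2,nat_lit 0,nat_lit 2,nat_lit 0,nat_lit 2,nat_lit 1,nat_lit 2,nat_lit 0,nat_lit 0,nat_lit 2,nat_lit 3])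
) (.leaf [nat_lit 5,nat_lit 3,nat_lit 1,nat_lit 1,nat_lit 1,nat_lit 2,nat_lit 0,nat_lit 2,nat_lit 0,nat_lit 2,nat_lit 3,nat_lit 1,nat_lit 3,nat_lit 0,nat_lit 2,nat_lit 0,nat_lit 0,nat_lit 3,nat_lit 1])
)) (.node (.node (.node (.leaf [nat_lit 4,nat_lit 2,nat_lit 0,nat_lit 3,nat_lit 1,nat_lit 1,nat_lit 2,nat_lit 0,nat_lit 2,nat_lit 0,nat_lit 0,nat_lit 3,nat_lit 0,nat_lit 3,nat_lit 2,nat_lit 1,nat_lit 1,nat_lit 1,nat_lit 2,nat_lit 1])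
 (.leaf [nat_lit 0,nat_lit 3,nat_lit 0,nat_lit 0,nat_lit 0,nat_lit 2,nat_lit 3,nat_lit 1,nat_lit 3,nat_lit 2,nat_lit 3,nat_lit 2,nat_lit 0,nat_lit 3,nat_lit 1,nat_lit 2,nat_lit 1,nat_lit 2,nat_lit 3,nat_lit 2])
) (.node (.leaf [nat_lit 5,nat_lit 2,nat_lit 1,nat_lit 2,nat_lit 1,nat_lit 2,nat_lit 1,nat_lit 3,nat_lit 0,nat_lit 0,nat_lit 2,nat_lit 1,nat_lit 2,nat_lit 3,nat_lit 0,nat_lit 0,nat_lit 3,nat_lit 1])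
 (.leaf [nat_lit 4,nat_lit 3,nat_lit 0,nat_lit 0,nat_lit 3,nat_lit 2,nat_lit 3,nat_lit 0,nat_lit 0,nat_lit 3,nat_lit 0,nat_lit 2,nat_lit 0,nat_lit 0,nat_lit 2,nat_lit 0,nat_lit 0,nat_lit 2,nat_lit 1,nat_lit 1,nat_lit 1])
)) (.node (.node (.leaf [nat_lit 0,nat_lit 2,nat_lit 3,nat_lit 0,nat_lit 0,nat_lit 2,nat_lit 3,nat_lit 0,nat_lit 3,nat_lit 2,nat_lit 1,nat_lit 2,nat_lit 1,nat_lit 2,nat_lit 0,nat_lit 2,nat_lit 1,nat_lit 1,nat_lit 1])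
 (.leaf [nat_lit 4,nat_lit 2,nat_lit 0,nat_lit 0,nat_lit 2,nat_lit 0,nat_lit 0,nat_lit 2,nat_lit 0,nat_lit 0,nat_lit 0,nat_lit 2,nat_lit 1,nat_lit 3,nat_lit 2,nat_lit 1,nat_lit 1,nat_lit 2,nat_lit 3,nat_lit 1])
) (.leaf [nat_lit 3,nat_lit 2,nat_lit 0,nat_lit 2,nat_lit 1,nat_lit 3,nat_lit 0,nat_lit 0,nat_lit 2,nat_lit 3,nat_lit 2,nat_lit 0,nat_lit 0,nat_lit 0,nat_lit 2,nat_lit 1,nat_lit 2,nat_lit 3,nat_lit 1])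
)))) (.node (.node (.node (.node (.node (.leaf [])
 (.leaf [])
) (.node (.leaf [nat_lit 5,nat_lit 2,nat_lit 3,nat_lit 0,nat_lit 2,nat_lit 1,nat_lit 2,nat_lit 1,nat_lit 2,nat_lit 1,nat_lit 3,nat_lit 1,nat_lit 3,nat_lit 0,nat_lit 2,nat_lit 1,nat_lit 3,nat_lit 2,nat_lit 1,nat_lit 3])
 (.leaf [nat_lit 5,nat_lit 2,nat_lit 0,nat_lit 3,nat_lit 2,nat_lit 0,nat_lit 2,nat_lit 1,nat_lit 1,nat_lit 3,nat_lit 1,nat_lit 1,nat_lit 2,nat_lit 0,nat_lit 3,nat_lit 2,nat_lit 0,nat_lit 0])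
)) (.node (.node (.leaf [nat_lit 4,nat_lit 1,nat_lit 2,nat_lit 0,nat_lit 3,nat_lit 1,nat_lit 1,nat_lit 1,nat_lit 2,nat_lit 1,nat_lit 3,nat_lit 0,nat_lit 3,nat_lit 2,nat_lit 0,nat_lit 3,nat_lit 0,nat_lit 0,nat_lit 2,nat_lit 0])
 (.leaf [nat_lit 4,nat_lit 1,nat_lit 3,nat_lit 2,nat_lit 0,nat_lit 0,nat_lit 3,nat_lit 0,nat_lit 2,nat_lit 0,nat_lit 3,nat_lit 2,nat_lit 3,nat_lit 1,nat_lit 1,nat_lit 1,nat_lit 3,nat_lit 2,nat_lit 0,nat_lit 0,nat_lit 0])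
) (.leaf [nat_lit 0,nat_lit 3,nat_lit 2,nat_lit 1,nat_lit 3,nat_lit 0,nat_lit 3,nat_lit 1,nat_lit 2,nat_lit 0,nat_lit 2,nat_lit 0,nat_lit 3,nat_lit 1,nat_lit 2,nat_lit 1,nat_lit 1])
)) (.node (.node (.node (.leaf [nat_lit 5,nat_lit 3,nat_lit 1,nat_lit 3,nat_lit 2,nat_lit 1,nat_lit 2,nat_lit 0,nat_lit 3,nat_lit 1,nat_lit 3,nat_lit 0,nat_lit 3,nat_lit 1,nat_lit 2,nat_lit 1,nat_lit 2,nat_lit 3,nat_lit 1])
 (.leaf [nat_lit 4,nat_lit 1,nat_lit 1,nat_lit 1,nat_lit 2,nat_lit 3,nat_lit 0,nat_lit 3,nat_lit 2,nat_lit 1,nat_lit 3,nat_lit 1,nat_lit 2,nat_lit 0,nat_lit 3,nat_lit 2,nat_lit 1,nat_lit 2])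
) (.node (.leaf [nat_lit 4,nat_lit 1,nat_lit 2,nat_lit 0,nat_lit 3,nat_lit 2,nat_lit 0,nat_lit 0,nat_lit 3,nat_lit 0,nat_lit 0,nat_lit 2,nat_lit 1,nat_lit 1,nat_lit 2,nat_lit 1,nat_lit 2,nat_lit 3])
 (.leaf [nat_lit 4,nat_lit 2,nat_lit 0,nat_lit 0,nat_lit 2,nat_lit 0,nat_lit 2,nat_lit 0,nat_lit 0,nat_lit 3,nat_lit 0,nat_lit 0,nat_lit 3,nat_lit 0,nat_lit 3,nat_lit 2,nat_lit 1,nat_lit 3,nat_lit 1])
)) (.node (.node (.leaf [nat_lit 2,nat_lit 3,nat_lit 0,nat_lit 0,nat_lit 3,nat_lit 0,nat_lit 0,nat_lit 3,nat_lit 2,nat_lit 0,nat_lit 0,nat_lit 2,nat_lit 0,nat_lit 0,nat_lit 2,nat_lit 3,nat_lit 0])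
 (.leaf [nat_lit 3,nat_lit 2,nat_lit 1,nat_lit 1,nat_lit 3,nat_lit 2,nat_lit 3,nat_lit 2,nat_lit 3,nat_lit 1,nat_lit 2,nat_lit 1,nat_lit 1,nat_lit 2,nat_lit 0,nat_lit 3,nat_lit 2,nat_lit 0,nat_lit 2])
) (.leaf [nat_lit 5,nat_lit 2,nat_lit 1,nat_lit 2,nat_lit 0,nat_lit 2,nat_lit 3,nat_lit 2,nat_lit 1,nat_lit 1,nat_lit 2,nat_lit 3,nat_lit 2,nat_lit 0,nat_lit 3,nat_lit 1,nat_lit 1,nat_lit 2,nat_lit 3,nat_lit 0])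
))) (.node (.node (.node (.node (.leaf [nat_lit 4,nat_lit 1,nat_lit 3,nat_lit 2,nat_lit 0,nat_lit 0,nat_lit 3,nat_lit 0,nat_lit 2,nat_lit 0,nat_lit 3,nat_lit 2,nat_lit 3,nat_lit 1,nat_lit 1,nat_lit 1,nat_lit 3,nat_lit 2,nat_lit 0,nat_lit 0,nat_lit 0])
 (.leaf [nat_lit 5,nat_lit 1,nat_lit 3,nat_lit 1,nat_lit 1,nat_lit 3,nat_lit 2,nat_lit 0,nat_lit 3,nat_lit 0,nat_lit 3,nat_lit 1,nat_lit 3,nat_lit 2,nat_lit 1,nat_lit 2,nat_lit 0])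
) (.node (.leaf [nat_lit 5,nat_lit 0,nat_lit 3,nat_lit 1,nat_lit 2,nat_lit 1,nat_lit 2,nat_lit 1,nat_lit 3,nat_lit 0,nat_lit 0,nat_lit 3,nat_lit 1,nat_lit 2,nat_lit 1,nat_lit 2,nat_lit 1,nat_lit 3,nat_lit 0,nat_lit 0,nat_lit 0])
 (.leaf [nat_lit 1,nat_lit 1,nat_lit 3,nat_lit 2,nat_lit 0,nat_lit 3,nat_lit 1,nat_lit 2,nat_lit 1,nat_lit 3,nat_lit 2,nat_lit 3,nat_lit 2,nat_lit 0,nat_lit 0,nat_lit 0,nat_lit 2])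
)) (.node (.node (.leaf [nat_lit 4,nat_lit 3,nat_lit 2,nat_lit 0,nat_lit 3,nat_lit 1,nat_lit 1,nat_lit 3,nat_lit 0,nat_lit 0,nat_lit 2,nat_lit 1,nat_lit 1,nat_lit 3,nat_lit 2,nat_lit 1,nat_lit 1,nat_lit 1,nat_lit 3,nat_lit 2])
 (.leaf [nat_lit 4,nat_lit 2,nat_lit 1,nat_lit 1,nat_lit 2,nat_lit 1,nat_lit 2,nat_lit 0,nat_lit 2,nat_lit 1,nat_lit 2,nat_lit 3,nat_lit 1,nat_lit 3,nat_lit 0,nat_lit 2,nat_lit 0,nat_lit 2,nat_lit 1])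
) (.leaf [nat_lit 1,nat_lit 2,nat_lit 0,nat_lit 2,nat_lit 3,nat_lit 2,nat_lit 1,nat_lit 1,nat_lit 3,nat_lit 2,nat_lit 3,nat_lit 1,nat_lit 3,nat_lit 2,nat_lit 1,nat_lit 3,nat_lit 2,nat_lit 0,nat_lit 0,nat_lit 0])
)) (.node (.node (.node (.leaf [nat_lit 0,nat_lit 3,nat_lit 0,nat_lit 2,nat_lit 1,nat_lit 3,nat_lit 2,nat_lit 1,nat_lit 2,nat_lit 0,nat_lit 3,nat_lit 2,nat_lit 3,nat_lit 0,nat_lit 2,nat_lit 1,nat_lit 1])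
 (.leaf [nat_lit 4,nat_lit 3,nat_lit 0,nat_lit 3,nat_lit 2,nat_lit 0,nat_lit 3,nat_lit 2,nat_lit 3,nat_lit 1,nat_lit 3,nat_lit 0,nat_lit 0,nat_lit 3,nat_lit 0,nat_lit 2,nat_lit 0,nat_lit 2,nat_lit 0,nat_lit 0,nat_lit 3])
) (.leaf [nat_lit 4,nat_lit 3,nat_lit 1,nat_lit 1,nat_lit 1,nat_lit 2,nat_lit 1,nat_lit 1,nat_lit 2,nat_lit 0,nat_lit 0,nat_lit 3,nat_lit 0,nat_lit 2,nat_lit 1,nat_lit 1,nat_lit 1,nat_lit 2,nat_lit 1])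
) (.node (.node (.leaf [nat_lit 2,nat_lit 1,nat_lit 2,nat_lit 3,nat_lit 1,nat_lit 3,nat_lit 1,nat_lit 1,nat_lit 3,nat_lit 0,nat_lit 2,nat_lit 1,nat_lit 1,nat_lit 1,nat_lit 2,nat_lit 1,nat_lit 2,nat_lit 3])
 (.leaf [nat_lit 3,nat_lit 1,nat_lit 2,nat_lit 1,nat_lit 1,nat_lit 1,nat_lit 2,nat_lit 1,nat_lit 1,nat_lit 1,nat_lit 2,nat_lit 0,nat_lit 3,nat_lit 0,nat_lit 2,nat_lit 1,nat_lit 2,nat_lit 1,nat_lit 3,nat_lit 2])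
) (.leaf [nat_lit 5,nat_lit 0,nat_lit 0,nat_lit 3,nat_lit 2,nat_lit 3,nat_lit 0,nat_lit 3,nat_lit 1,nat_lit 2,nat_lit 0,nat_lit 0,nat_lit 3,nat_lit 2,nat_lit 1,nat_lit 2])
))))))
noncomputable def Fh1 : LT :=
(.node (.node (.node (.node (.node (.node (.node (.leaf [])
 (.leaf [nat_lit 2,nat_lit 3,nat_lit 2,nat_lit 1,nat_lit 2,nat_lit 3,nat_lit 1,nat_lit 2,nat_lit 1,nat_lit 1,nat_lit 3,nat_lit 2,nat_lit 1,nat_lit 1,nat_lit 2,nat_lit 3,nat_lit 2,nat_lit 1])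
) (.node (.leaf [nat_lit 5,nat_lit 3,nat_lit 1,nat_lit 3,nat_lit 1,nat_lit 2,nat_lit 3,nat_lit 2,nat_lit 3,nat_lit 1,nat_lit 2,nat_lit 0,nat_lit 3,nat_lit 2,nat_lit 0,nat_lit 2,nat_lit 1,nat_lit 1,nat_lit 1])
 (.leaf [nat_lit 19,nat_lit 5,nat_lit 1,nat_lit 2,nat_lit 3,nat_lit 1,nat_lit 2,nat_lit 0,nat_lit 0,nat_lit 2,nat_lit 1,nat_lit 3,nat_lit 0,nat_lit 0,nat_lit 2,nat_lit 3,nat_lit 0,nat_lit 0,nat_lit 2,nat_lit 3])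
)) (.node (.node (.leaf [nat_lit 5,nat_lit 2,nat_lit 0,nat_lit 3,nat_lit 1,nat_lit 3,nat_lit 0,nat_lit 2,nat_lit 3,nat_lit 2,nat_lit 3,nat_lit 0,nat_lit 2,nat_lit 3,nat_lit 1,nat_lit 1,nat_lit 2,nat_lit 1,nat_lit 3])
 (.leaf [nat_lit 19,nat_lit 5,nat_lit 0,nat_lit 0,nat_lit 3,nat_lit 2,nat_lit 3,nat_lit 1,nat_lit 2,nat_lit 1,nat_lit 2,nat_lit 0,nat_lit 3,nat_lit 0,nat_lit 0,nat_lit 2,nat_lit 1,nat_lit 1,nat_lit 3,nat_lit 0])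
) (.leaf [nat_lit 5,nat_lit 2,nat_lit 0,nat_lit 2,nat_lit 0,nat_lit 2,nat_lit 3,nat_lit 2,nat_lit 0,nat_lit 3,nat_lit 0,nat_lit 2,nat_lit 0,nat_lit 3,nat_lit 1,nat_lit 1,nat_lit 2])
)) (.node (.node (.node (.leaf [nat_lit 5,nat_lit 2,nat_lit 0,nat_lit 2,nat_lit 1,nat_lit 3,nat_lit 0,nat_lit 3,nat_lit 1,nat_lit 3,nat_lit 0,nat_lit 0,nat_lit 0,nat_lit 2,nat_lit 3,nat_lit 0,nat_lit 0,nat_lit 2,nat_lit 1,nat_lit 1,nat_lit 1])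
 (.leaf [nat_lit 19,nat_lit 2])
) (.node (.leaf [nat_lit 4,nat_lit 2,nat_lit 1,nat_lit 2,nat_lit 0,nat_lit 3,nat_lit 2,nat_lit 1,nat_lit 2,nat_lit 1,nat_lit 1,nat_lit 3,nat_lit 2,nat_lit 1,nat_lit 1,nat_lit 1,nat_lit 3,nat_lit 2,nat_lit 3,nat_lit 1])
 (.leaf [nat_lit 19,nat_lit 5,nat_lit 2,nat_lit 0,nat_lit 0,nat_lit 2,nat_lit 0,nat_lit 3,nat_lit 0,nat_lit 2,nat_lit 0,nat_lit 3,nat_lit 1,nat_lit 1,nat_lit 1,nat_lit 2,nat_lit 0,nat_lit 0,nat_lit 2,nat_lit 3,nat_lit 1,nat_lit 1])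
)) (.node (.node (.leaf [nat_lit 2,nat_lit 3,nat_lit 1,nat_lit 2,nat_lit 1,nat_lit 2,nat_lit 1,nat_lit 3,nat_lit 0,nat_lit 0,nat_lit 2,nat_lit 1,nat_lit 2,nat_lit 1,nat_lit 1,nat_lit 3,nat_lit 0,nat_lit 3,nat_lit 1])
 (.leaf [nat_lit 19,nat_lit 4,nat_lit 0,nat_lit 0,nat_lit 2,nat_lit 1,nat_lit 1,nat_lit 1,nat_lit 3,nat_lit 0,nat_lit 2,nat_lit 1,nat_lit 2,nat_lit 1,nat_lit 1,nat_lit 2,nat_lit 0,nat_lit 0,nat_lit 2,nat_lit 1,nat_lit 2])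
) (.leaf [nat_lit 5,nat_lit 2,nat_lit 0,nat_lit 2,nat_lit 1,nat_lit 3,nat_lit 0,nat_lit 2,nat_lit 0,nat_lit 0,nat_lit 3,nat_lit 1,nat_lit 3,nat_lit 2,nat_lit 3,nat_lit 0,nat_lit 2,nat_lit 1,nat_lit 1,nat_lit 2,nat_lit 1])
))) (.node (.node (.node (.node (.leaf [nat_lit 2])
 (.leaf [nat_lit 19])
) (.node (.leaf [nat_lit 2,nat_lit 0,nat_lit 3,nat_lit 0,nat_lit 3,nat_lit 0,nat_lit 0,nat_lit 3,nat_lit 2,nat_lit 1,nat_lit 1,nat_lit 1,nat_lit 2,nat_lit 3,nat_lit 2,nat_lit 3,nat_lit 2])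
 (.leaf [nat_lit 19,nat_lit 4,nat_lit 3,nat_lit 2,nat_lit 3,nat_lit 0,nat_lit 0,nat_lit 3,nat_lit 0,nat_lit 0,nat_lit 3,nat_lit 2,nat_lit 0,nat_lit 0,nat_lit 2,nat_lit 3,nat_lit 0,nat_lit 3,nat_lit 0])
)) (.node (.node (.leaf [nat_lit 1,nat_lit 1,nat_lit 3,nat_lit 0,nat_lit 0,nat_lit 3,nat_lit 0,nat_lit 2,nat_lit 1,nat_lit 2,nat_lit 0,nat_lit 3,nat_lit 1,nat_lit 2,nat_lit 3,nat_lit 1,nat_lit 1,nat_lit 2])
 (.leaf [nat_lit 19,nat_lit 0,nat_lit 0,nat_lit 2,nat_lit 3,nat_lit 2,nat_lit 0,nat_lit 0,nat_lit 0,nat_lit 2,nat_lit 1,nat_lit 3,nat_lit 2,nat_lit 3,nat_lit 2,nat_lit 0,nat_lit 3,nat_lit 2])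
) (.leaf [nat_lit 5,nat_lit 1,nat_lit 2,nat_lit 1,nat_lit 3,nat_lit 0,nat_lit 2,nat_lit 1,nat_lit 2,nat_lit 0,nat_lit 3,nat_lit 2,nat_lit 1,nat_lit 1,nat_lit 3,nat_lit 1,nat_lit 3,nat_lit 0])
)) (.node (.node (.node (.leaf [nat_lit 4,nat_lit 0,nat_lit 3,nat_lit 0,nat_lit 2,nat_lit 0,nat_lit 2,nat_lit 1,nat_lit 1,nat_lit 2,nat_lit 3,nat_lit 1,nat_lit 2,nat_lit 3,nat_lit 0,nat_lit 2,nat_lit 1,nat_lit 3,nat_lit 2,nat_lit 3])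
 (.leaf [nat_lit 19,nat_lit 4,nat_lit 3,nat_lit 1,nat_lit 1,nat_lit 1,nat_lit 3,nat_lit 0,nat_lit 3,nat_lit 1,nat_lit 1,nat_lit 1,nat_lit 2,nat_lit 0,nat_lit 3,nat_lit 0,nat_lit 3,nat_lit 2,nat_lit 3,nat_lit 0,nat_lit 3])
) (.node (.leaf [nat_lit 5,nat_lit 3,nat_lit 0,nat_lit 0,nat_lit 2,nat_lit 3,nat_lit 1,nat_lit 1,nat_lit 3,nat_lit 1,nat_lit 3,nat_lit 2,nat_lit 3,nat_lit 1,nat_lit 1,nat_lit 3,nat_lit 0,nat_lit 3,nat_lit 2])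
 (.leaf [nat_lit 19,nat_lit 4,nat_lit 2,nat_lit 0,nat_lit 2,nat_lit 1,nat_lit 2,nat_lit 1,nat_lit 1,nat_lit 1,nat_lit 2,nat_lit 0,nat_lit 0,nat_lit 3,nat_lit 0,nat_lit 3,nat_lit 0,nat_lit 0,nat_lit 2,nat_lit 1])
)) (.node (.node (.leaf [nat_lit 5,nat_lit 2,nat_lit 0,nat_lit 3,nat_lit 2,nat_lit 0,nat_lit 2,nat_lit 0,nat_lit 3,nat_lit 1,nat_lit 2,nat_lit 1,nat_lit 3,nat_lit 2,nat_lit 1,nat_lit 3,nat_lit 1])
 (.leaf [nat_lit 19,nat_lit 5,nat_lit 1,nat_lit 3,nat_lit 1,nat_lit 2,nat_lit 1,nat_lit 3,nat_lit 0,nat_lit 2,nat_lit 3,nat_lit 1,nat_lit 3,nat_lit 2,nat_lit 0,nat_lit 3,nat_lit 0,nat_lit 0,nat_lit 3,nat_lit 1,nat_lit 1,nat_lit 1])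
) (.leaf [nat_lit 5,nat_lit 3,nat_lit 1,nat_lit 1,nat_lit 2,nat_lit 1,nat_lit 3,nat_lit 1,nat_lit 1,nat_lit 1,nat_lit 2,nat_lit 3,nat_lit 1,nat_lit 1,nat_lit 2,nat_lit 1,nat_lit 3,nat_lit 1,nat_lit 2])
)))) (.node (.node (.node (.node (.node (.leaf [])
 (.leaf [nat_lit 5,nat_lit 1,nat_lit 3,nat_lit 1,nat_lit 1,nat_lit 3,nat_lit 2,nat_lit 3,nat_lit 0,nat_lit 2,nat_lit 1,nat_lit 1,nat_lit 1,nat_lit 2,nat_lit 1,nat_lit 3,nat_lit 1,nat_lit 2,nat_lit 1,nat_lit 2])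
) (.node (.leaf [nat_lit 3,nat_lit 1,nat_lit 1,nat_lit 1,nat_lit 2,nat_lit 1,nat_lit 1,nat_lit 3,nat_lit 1,nat_lit 3,nat_lit 2,nat_lit 0,nat_lit 3,nat_lit 0,nat_lit 0,nat_lit 2,nat_lit 3,nat_lit 1,nat_lit 1,nat_lit 1])
 (.leaf [nat_lit 19,nat_lit 5,nat_lit 1,nat_lit 1,nat_lit 1,nat_lit 3,nat_lit 2,nat_lit 1,nat_lit 3,nat_lit 2,nat_lit 1,nat_lit 2,nat_lit 3,nat_lit 2,nat_lit 0,nat_lit 3,nat_lit 0,nat_lit 0,nat_lit 2,nat_lit 3,nat_lit 0,nat_lit 0])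
)) (.node (.node (.leaf [nat_lit 4,nat_lit 3,nat_lit 2,nat_lit 3,nat_lit 2,nat_lit 0,nat_lit 0,nat_lit 3,nat_lit 0,nat_lit 3,nat_lit 2,nat_lit 0,nat_lit 0,nat_lit 2,nat_lit 3,nat_lit 0,nat_lit 0,nat_lit 2,nat_lit 3])
 (.leaf [nat_lit 19,nat_lit 1,nat_lit 2,nat_lit 3,nat_lit 2,nat_lit 1,nat_lit 1,nat_lit 3,nat_lit 0,nat_lit 2,nat_lit 3,nat_lit 1,nat_lit 3,nat_lit 2,nat_lit 3,nat_lit 2,nat_lit 3])
) (.leaf [nat_lit 5,nat_lit 0,nat_lit 2,nat_lit 3,nat_lit 1,nat_lit 3,nat_lit 0,nat_lit 0,nat_lit 2,nat_lit 1,nat_lit 3,nat_lit 0,nat_lit 3,nat_lit 2,nat_lit 1,nat_lit 2,nat_lit 3,nat_lit 0,nat_lit 3,nat_lit 0])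
)) (.node (.node (.node (.leaf [nat_lit 5,nat_lit 3,nat_lit 1,nat_lit 1,nat_lit 2,nat_lit 0,nat_lit 3,nat_lit 0,nat_lit 0,nat_lit 2,nat_lit 3,nat_lit 1,nat_lit 2,nat_lit 1,nat_lit 3,nat_lit 0,nat_lit 2,nat_lit 1,nat_lit 3])
 (.leaf [nat_lit 19,nat_lit 0,nat_lit 2,nat_lit 3,nat_lit 0,nat_lit 0,nat_lit 2,nat_lit 3,nat_lit 0,nat_lit 3,nat_lit 2,nat_lit 1,nat_lit 2,nat_lit 1,nat_lit 2,nat_lit 0,nat_lit 2,nat_lit 1,nat_lit 1,nat_lit 1])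
) (.node (.leaf [nat_lit 0,nat_lit 3,nat_lit 0,nat_lit 0,nat_lit 0,nat_lit 2,nat_lit 3,nat_lit 1,nat_lit 3,nat_lit 2,nat_lit 3,nat_lit 2,nat_lit 0,nat_lit 3,nat_lit 1,nat_lit 2,nat_lit 1,nat_lit 2,nat_lit 3,nat_lit 2])
 (.leaf [nat_lit 19,nat_lit 5,nat_lit 1,nat_lit 3,nat_lit 1,nat_lit 1,nat_lit 3,nat_lit 2,nat_lit 3,nat_lit 0,nat_lit 2,nat_lit 1,nat_lit 1,nat_lit 1,nat_lit 2,nat_lit 1,nat_lit 3,nat_lit 1,nat_lit 2,nat_lit 1,nat_lit 2])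
)) (.node (.node (.leaf [nat_lit 5,nat_lit 1,nat_lit 1,nat_lit 2,nat_lit 1,nat_lit 3,nat_lit 2,nat_lit 3,nat_lit 2,nat_lit 0,nat_lit 2,nat_lit 1,nat_lit 2,nat_lit 3,nat_lit 2,nat_lit 1,nat_lit 1,nat_lit 3,nat_lit 1])
 (.leaf [nat_lit 19,nat_lit 4,nat_lit 2,nat_lit 1,nat_lit 2,nat_lit 0,nat_lit 3,nat_lit 1,nat_lit 1,nat_lit 2,nat_lit 3,nat_lit 1,nat_lit 2,nat_lit 3,nat_lit 1,nat_lit 3,nat_lit 0,nat_lit 2,nat_lit 1,nat_lit 1,nat_lit 1,nat_lit 2])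
) (.leaf [nat_lit 5,nat_lit 0,nat_lit 0,nat_lit 3,nat_lit 0,nat_lit 2,nat_lit 1,nat_lit 1,nat_lit 3,nat_lit 1,nat_lit 3,nat_lit 2,nat_lit 3,nat_lit 0,nat_lit 3,nat_lit 2,nat_lit 3,nat_lit 1,nat_lit 2])
))) (.node (.node (.node (.node (.leaf [nat_lit 0,nat_lit 2,nat_lit 1,nat_lit 1,nat_lit 1,nat_lit 2])
 (.leaf [nat_lit 19,nat_lit 2,nat_lit 1,nat_lit 1,nat_lit 3,nat_lit 2,nat_lit 3,nat_lit 1,nat_lit 2,nat_lit 1,nat_lit 1,nat_lit 3,nat_lit 0,nat_lit 3,nat_lit 2,nat_lit 0,nat_lit 0,nat_lit 0])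
) (.node (.leaf [nat_lit 1,nat_lit 1,nat_lit 3,nat_lit 2,nat_lit 3,nat_lit 1,nat_lit 3,nat_lit 2,nat_lit 3,nat_lit 2,nat_lit 3,nat_lit 1,nat_lit 3,nat_lit 0,nat_lit 0,nat_lit 0,nat_lit 3,nat_lit 0])
 (.leaf [nat_lit 19,nat_lit 3,nat_lit 2,nat_lit 1,nat_lit 2,nat_lit 3,nat_lit 2,nat_lit 1,nat_lit 2,nat_lit 3,nat_lit 0,nat_lit 2,nat_lit 0,nat_lit 2,nat_lit 0,nat_lit 3,nat_lit 2,nat_lit 0,nat_lit 0,nat_lit 0])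
)) (.node (.node (.leaf [nat_lit 5,nat_lit 0,nat_lit 3,nat_lit 1,nat_lit 1,nat_lit 2,nat_lit 0,nat_lit 3,nat_lit 1,nat_lit 1,nat_lit 2,nat_lit 1,nat_lit 3,nat_lit 1,nat_lit 3,nat_lit 0,nat_lit 3,nat_lit 0,nat_lit 3])
 (.leaf [nat_lit 19,nat_lit 4,nat_lit 3,nat_lit 2,nat_lit 1,nat_lit 2,nat_lit 0,nat_lit 3,nat_lit 1,nat_lit 3,nat_lit 0,nat_lit 3,nat_lit 2,nat_lit 1,nat_lit 3,nat_lit 1,nat_lit 1,nat_lit 2,nat_lit 1,nat_lit 2,nat_lit 3])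
) (.leaf [nat_lit 5,nat_lit 2,nat_lit 0,nat_lit 0,nat_lit 2,nat_lit 1,nat_lit 3,nat_lit 0,nat_lit 2,nat_lit 3,nat_lit 0,nat_lit 0,nat_lit 2,nat_lit 0,nat_lit 3,nat_lit 1,nat_lit 3,nat_lit 0,nat_lit 0,nat_lit 3,nat_lit 0])
)) (.node (.node (.node (.leaf [nat_lit 4,nat_lit 2,nat_lit 0,nat_lit 0,nat_lit 2,nat_lit 3,nat_lit 0,nat_lit 3,nat_lit 1,nat_lit 1,nat_lit 2,nat_lit 1,nat_lit 3,nat_lit 0,nat_lit 0,nat_lit 0,nat_lit 2,nat_lit 3,nat_lit 2,nat_lit 1,nat_lit 1])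
 (.leaf [nat_lit 19,nat_lit 5,nat_lit 0,nat_lit 0,nat_lit 2,nat_lit 0,nat_lit 3,nat_lit 0,nat_lit 3,nat_lit 2,nat_lit 3,nat_lit 1,nat_lit 1,nat_lit 1,nat_lit 2,nat_lit 0,nat_lit 0,nat_lit 0,nat_lit 3])
) (.node (.leaf [nat_lit 2,nat_lit 0,nat_lit 3,nat_lit 1,nat_lit 2,nat_lit 3,nat_lit 0,nat_lit 2,nat_lit 3,nat_lit 0,nat_lit 2,nat_lit 0,nat_lit 0,nat_lit 3,nat_lit 0,nat_lit 3,nat_lit 0,nat_lit 2,nat_lit 3,nat_lit 1])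
 (.leaf [nat_lit 19,nat_lit 2,nat_lit 0,nat_lit 3,nat_lit 0,nat_lit 3,nat_lit 0,nat_lit 0,nat_lit 3,nat_lit 2,nat_lit 1,nat_lit 1,nat_lit 1,nat_lit 2,nat_lit 3,nat_lit 2,nat_lit 3,nat_lit 2])
)) (.node (.node (.leaf [nat_lit 2,nat_lit 3,nat_lit 2,nat_lit 3,nat_lit 2,nat_lit 0,nat_lit 3,nat_lit 1,nat_lit 2,nat_lit 0,nat_lit 3,nat_lit 2,nat_lit 1,nat_lit 1,nat_lit 2,nat_lit 3,nat_lit 1])
 (.leaf [nat_lit 19,nat_lit 5,nat_lit 0,nat_lit 0,nat_lit 2,nat_lit 0,nat_lit 3,nat_lit 2,nat_lit 0,nat_lit 2,nat_lit 0,nat_lit 3,nat_lit 1,nat_lit 2,nat_lit 0,nat_lit 0])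
) (.leaf [nat_lit 4,nat_lit 0,nat_lit 3,nat_lit 0,nat_lit 0,nat_lit 2,nat_lit 0,nat_lit 3,nat_lit 1,nat_lit 1,nat_lit 3,nat_lit 2,nat_lit 3,nat_lit 2,nat_lit 3,nat_lit 1,nat_lit 1,nat_lit 1,nat_lit 3,nat_lit 2])
))))) (.node (.node (.node (.node (.node (.node (.leaf [])
 (.leaf [nat_lit 4,nat_lit 1,nat_lit 2,nat_lit 1,nat_lit 3,nat_lit 0,nat_lit 2,nat_lit 0,nat_lit 3,nat_lit 0,nat_lit 0,nat_lit 3,nat_lit 0,nat_lit 3,nat_lit 2,nat_lit 0,nat_lit 2,nat_lit 3,nat_lit 2,nat_lit 3])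
) (.node (.leaf [nat_lit 0,nat_lit 2,nat_lit 1,nat_lit 1,nat_lit 1,nat_lit 2,nat_lit 3])
 (.leaf [nat_lit 19,nat_lit 5,nat_lit 3,nat_lit 0,nat_lit 2,nat_lit 0,nat_lit 0,nat_lit 0,nat_lit 2,nat_lit 3,nat_lit 0,nat_lit 3,nat_lit 1,nat_lit 2,nat_lit 1,nat_lit 2,nat_lit 3,nat_lit 0,nat_lit 3])
)) (.node (.node (.leaf [nat_lit 4,nat_lit 0,nat_lit 0,nat_lit 0,nat_lit 2,nat_lit 3,nat_lit 1,nat_lit 3,nat_lit 0,nat_lit 3,nat_lit 1,nat_lit 3,nat_lit 0,nat_lit 0,nat_lit 2,nat_lit 1,nat_lit 1,nat_lit 1,nat_lit 2,nat_lit 1,nat_lit 3])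
 (.leaf [nat_lit 19,nat_lit 3,nat_lit 2,nat_lit 0,nat_lit 2,nat_lit 3,nat_lit 0,nat_lit 3,nat_lit 2,nat_lit 1,nat_lit 3,nat_lit 2,nat_lit 3,nat_lit 2,nat_lit 0,nat_lit 2,nat_lit 0,nat_lit 3,nat_lit 1])
) (.leaf [nat_lit 4,nat_lit 0,nat_lit 2,nat_lit 3,nat_lit 0,nat_lit 2,nat_lit 3,nat_lit 1,nat_lit 3,nat_lit 1,nat_lit 2,nat_lit 0,nat_lit 0,nat_lit 2,nat_lit 0,nat_lit 3,nat_lit 1,nat_lit 1])
)) (.node (.node (.node (.leaf [])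
 (.leaf [nat_lit 19,nat_lit 4,nat_lit 3,nat_lit 0,nat_lit 0,nat_lit 3,nat_lit 1,nat_lit 3,nat_lit 1,nat_lit 1,nat_lit 1,nat_lit 3,nat_lit 2,nat_lit 3,nat_lit 2,nat_lit 1,nat_lit 1,nat_lit 3,nat_lit 0,nat_lit 0,nat_lit 0,nat_lit 3])
) (.node (.leaf [nat_lit 4,nat_lit 3,nat_lit 1,nat_lit 3,nat_lit 2,nat_lit 1,nat_lit 3,nat_lit 1,nat_lit 2,nat_lit 3,nat_lit 0,nat_lit 3,nat_lit 1,nat_lit 2,nat_lit 0,nat_lit 0,nat_lit 0,nat_lit 2,nat_lit 3,nat_lit 0])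
 (.leaf [nat_lit 19,nat_lit 2,nat_lit 0,nat_lit 0,nat_lit 3,nat_lit 2,nat_lit 0,nat_lit 0,nat_lit 2,nat_lit 0,nat_lit 2,nat_lit 3,nat_lit 0,nat_lit 0,nat_lit 0,nat_lit 2,nat_lit 3,nat_lit 1,nat_lit 3,nat_lit 2])
)) (.node (.node (.leaf [nat_lit 5,nat_lit 2,nat_lit 1,nat_lit 2,nat_lit 3,nat_lit 0,nat_lit 2,nat_lit 3,nat_lit 1,nat_lit 3,nat_lit 2,nat_lit 1,nat_lit 1,nat_lit 3,nat_lit 0,nat_lit 2,nat_lit 1,nat_lit 1,nat_lit 1])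
 (.leaf [nat_lit 19,nat_lit 5,nat_lit 3,nat_lit 2,nat_lit 1,nat_lit 2,nat_lit 0,nat_lit 2,nat_lit 1,nat_lit 3,nat_lit 0,nat_lit 3,nat_lit 1,nat_lit 2,nat_lit 3,nat_lit 1,nat_lit 2,nat_lit 0,nat_lit 0,nat_lit 0,nat_lit 2])
) (.leaf [nat_lit 5,nat_lit 3,nat_lit 1,nat_lit 2,nat_lit 1,nat_lit 3,nat_lit 2,nat_lit 0,nat_lit 3,nat_lit 0,nat_lit 2,nat_lit 3,nat_lit 2,nat_lit 1,nat_lit 3,nat_lit 0,nat_lit 0,nat_lit 2,nat_lit 3,nat_lit 1,nat_lit 2,nat_lit 0])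
))) (.node (.node (.node (.node (.leaf [nat_lit 5,nat_lit 2,nat_lit 0,nat_lit 3,nat_lit 1,nat_lit 1,nat_lit 2,nat_lit 1,nat_lit 3,nat_lit 2,nat_lit 1,nat_lit 3,nat_lit 0,nat_lit 2,nat_lit 3,nat_lit 0,nat_lit 0,nat_lit 2,nat_lit 3,nat_lit 1,nat_lit 2])
 (.leaf [nat_lit 19,nat_lit 4,nat_lit 0,nat_lit 2,nat_lit 0,nat_lit 0,nat_lit 2,nat_lit 0,nat_lit 0,nat_lit 0,nat_lit 3,nat_lit 1,nat_lit 3,nat_lit 2,nat_lit 0,nat_lit 2,nat_lit 0,nat_lit 0,nat_lit 3,nat_lit 0,nat_lit 2,nat_lit 1])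
) (.node (.leaf [nat_lit 5,nat_lit 1,nat_lit 3,nat_lit 1,nat_lit 2,nat_lit 1,nat_lit 1,nat_lit 2,nat_lit 1,nat_lit 1,nat_lit 2,nat_lit 0,nat_lit 0,nat_lit 2,nat_lit 0,nat_lit 0,nat_lit 3,nat_lit 2,nat_lit 3,nat_lit 1])
 (.leaf [nat_lit 19,nat_lit 0,nat_lit 3,nat_lit 2,nat_lit 0,nat_lit 3,nat_lit 0,nat_lit 0,nat_lit 2,nat_lit 0,nat_lit 0,nat_lit 2,nat_lit 1,nat_lit 1,nat_lit 2,nat_lit 3,nat_lit 1,nat_lit 2])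
)) (.node (.node (.leaf [nat_lit 4,nat_lit 3,nat_lit 0,nat_lit 3,nat_lit 2,nat_lit 1,nat_lit 1,nat_lit 2,nat_lit 3,nat_lit 2,nat_lit 1,nat_lit 2,nat_lit 3,nat_lit 2,nat_lit 0,nat_lit 0,nat_lit 2,nat_lit 0,nat_lit 0])
 (.leaf [nat_lit 19,nat_lit 1,nat_lit 3,nat_lit 1,nat_lit 1,nat_lit 1,nat_lit 2,nat_lit 1,nat_lit 2,nat_lit 0,nat_lit 2,nat_lit 0,nat_lit 2,nat_lit 1,nat_lit 2,nat_lit 0,nat_lit 0,nat_lit 2,nat_lit 3])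
) (.leaf [nat_lit 4,nat_lit 0,nat_lit 3,nat_lit 1,nat_lit 2,nat_lit 1,nat_lit 1,nat_lit 2,nat_lit 3,nat_lit 1,nat_lit 1,nat_lit 1,nat_lit 3,nat_lit 1,nat_lit 1,nat_lit 1,nat_lit 2,nat_lit 0])
)) (.node (.node (.node (.leaf [nat_lit 2,nat_lit 3,nat_lit 2,nat_lit 0,nat_lit 0,nat_lit 3,nat_lit 2,nat_lit 3,nat_lit 1,nat_lit 2,nat_lit 1,nat_lit 2,nat_lit 3,nat_lit 0,nat_lit 0,nat_lit 2,nat_lit 1,nat_lit 3,nat_lit 1,nat_lit 3])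
 (.leaf [nat_lit 19,nat_lit 0,nat_lit 3,nat_lit 0,nat_lit 0,nat_lit 0,nat_lit 2,nat_lit 3,nat_lit 1,nat_lit 3,nat_lit 2,nat_lit 3,nat_lit 2,nat_lit 0,nat_lit 3,nat_lit 1,nat_lit 2,nat_lit 1,nat_lit 2,nat_lit 3,nat_lit 2])
) (.node (.leaf [nat_lit 5,nat_lit 1,nat_lit 3,nat_lit 1,nat_lit 2,nat_lit 0,nat_lit 0,nat_lit 0,nat_lit 3,nat_lit 2,nat_lit 1,nat_lit 3,nat_lit 2,nat_lit 1,nat_lit 1,nat_lit 3,nat_lit 0,nat_lit 0,nat_lit 2,nat_lit 3,nat_lit 0])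
 (.leaf [nat_lit 19,nat_lit 4,nat_lit 3,nat_lit 0,nat_lit 0,nat_lit 3,nat_lit 2,nat_lit 3,nat_lit 0,nat_lit 0,nat_lit 3,nat_lit 0,nat_lit 2,nat_lit 0,nat_lit 0,nat_lit 2,nat_lit 0,nat_lit 0,nat_lit 2,nat_lit 1,nat_lit 1,nat_lit 1])
)) (.node (.node (.leaf [nat_lit 4,nat_lit 1,nat_lit 3,nat_lit 2,nat_lit 3,nat_lit 0,nat_lit 3,nat_lit 2,nat_lit 1,nat_lit 2,nat_lit 1,nat_lit 2,nat_lit 3,nat_lit 0,nat_lit 0,nat_lit 2,nat_lit 0,nat_lit 2,nat_lit 1,nat_lit 2])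
 (.leaf [nat_lit 19,nat_lit 4,nat_lit 2,nat_lit 0,nat_lit 0,nat_lit 2,nat_lit 0,nat_lit 0,nat_lit 2,nat_lit 0,nat_lit 0,nat_lit 0,nat_lit 2,nat_lit 1,nat_lit 3,nat_lit 2,nat_lit 1,nat_lit 1,nat_lit 2,nat_lit 3,nat_lit 1])
) (.leaf [nat_lit 1,nat_lit 3,nat_lit 1,nat_lit 1,nat_lit 3,nat_lit 0,nat_lit 0,nat_lit 3,nat_lit 2,nat_lit 1,nat_lit 3,nat_lit 1,nat_lit 3,nat_lit 0,nat_lit 0,nat_lit 2,nat_lit 0,nat_lit 0])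
)))) (.node (.node (.node (.node (.node (.leaf [])
 (.leaf [])
) (.node (.leaf [nat_lit 4,nat_lit 0,nat_lit 3,nat_lit 1,nat_lit 3,nat_lit 1,nat_lit 2,nat_lit 3,nat_lit 0,nat_lit 2,nat_lit 3,nat_lit 1,nat_lit 1,nat_lit 2,nat_lit 3,nat_lit 2,nat_lit 0,nat_lit 2,nat_lit 0])
 (.leaf [nat_lit 19,nat_lit 5,nat_lit 2,nat_lit 0,nat_lit 3,nat_lit 2,nat_lit 0,nat_lit 2,nat_lit 1,nat_lit 1,nat_lit 3,nat_lit 1,nat_lit 1,nat_lit 2,nat_lit 0,nat_lit 3,nat_lit 2,nat_lit 0,nat_lit 0])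
)) (.node (.node (.leaf [nat_lit 5,nat_lit 2,nat_lit 1,nat_lit 1,nat_lit 3,nat_lit 2,nat_lit 0,nat_lit 2,nat_lit 3,nat_lit 2,nat_lit 0,nat_lit 2,nat_lit 1,nat_lit 3,nat_lit 2,nat_lit 0,nat_lit 2,nat_lit 3,nat_lit 0,nat_lit 3])
 (.leaf [nat_lit 19,nat_lit 4,nat_lit 1,nat_lit 3,nat_lit 2,nat_lit 0,nat_lit 0,nat_lit 3,nat_lit 0,nat_lit 2,nat_lit 0,nat_lit 3,nat_lit 2,nat_lit 3,nat_lit 1,nat_lit 1,nat_lit 1,nat_lit 3,nat_lit 2,nat_lit 0,nat_lit 0,nat_lit 0])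
) (.leaf [nat_lit 4,nat_lit 2,nat_lit 0,nat_lit 0,nat_lit 0,nat_lit 2,nat_lit 3,nat_lit 0,nat_lit 0,nat_lit 2,nat_lit 0,nat_lit 3,nat_lit 0,nat_lit 2,nat_lit 0,nat_lit 0,nat_lit 3,nat_lit 0,nat_lit 0,nat_lit 2,nat_lit 3])
)) (.node (.node (.node (.leaf [nat_lit 5,nat_lit 2,nat_lit 1,nat_lit 2,nat_lit 1,nat_lit 1,nat_lit 3,nat_lit 2,nat_lit 0,nat_lit 2,nat_lit 3,nat_lit 2,nat_lit 1,nat_lit 2,nat_lit 1,nat_lit 3,nat_lit 0,nat_lit 0,nat_lit 3,nat_lit 2])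
 (.leaf [nat_lit 19,nat_lit 4,nat_lit 1,nat_lit 1,nat_lit 1,nat_lit 2,nat_lit 3,nat_lit 0,nat_lit 3,nat_lit 2,nat_lit 1,nat_lit 3,nat_lit 1,nat_lit 2,nat_lit 0,nat_lit 3,nat_lit 2,nat_lit 1,nat_lit 2])
) (.node (.leaf [nat_lit 4,nat_lit 2,nat_lit 0,nat_lit 0,nat_lit 3,nat_lit 0,nat_lit 3,nat_lit 2,nat_lit 0,nat_lit 2,nat_lit 3,nat_lit 0,nat_lit 0,nat_lit 2,nat_lit 0,nat_lit 0,nat_lit 3,nat_lit 2,nat_lit 1,nat_lit 3,nat_lit 1])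
 (.leaf [nat_lit 19,nat_lit 4,nat_lit 2,nat_lit 0,nat_lit 0,nat_lit 2,nat_lit 0,nat_lit 2,nat_lit 0,nat_lit 0,nat_lit 3,nat_lit 0,nat_lit 0,nat_lit 3,nat_lit 0,nat_lit 3,nat_lit 2,nat_lit 1,nat_lit 3,nat_lit 1])
)) (.node (.node (.leaf [nat_lit 3,nat_lit 2,nat_lit 3,nat_lit 2,nat_lit 0,nat_lit 0,nat_lit 3,nat_lit 0,nat_lit 2,nat_lit 0,nat_lit 3,nat_lit 1,nat_lit 3,nat_lit 2,nat_lit 3,nat_lit 0,nat_lit 0,nat_lit 0])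
 (.leaf [nat_lit 19,nat_lit 3,nat_lit 2,nat_lit 1,nat_lit 1,nat_lit 3,nat_lit 2,nat_lit 3,nat_lit 2,nat_lit 3,nat_lit 1,nat_lit 2,nat_lit 1,nat_lit 1,nat_lit 2,nat_lit 0,nat_lit 3,nat_lit 2,nat_lit 0,nat_lit 2])
) (.leaf [nat_lit 5,nat_lit 1,nat_lit 1,nat_lit 2,nat_lit 1,nat_lit 1,nat_lit 3,nat_lit 2,nat_lit 3,nat_lit 2,nat_lit 1,nat_lit 1,nat_lit 2,nat_lit 0,nat_lit 2,nat_lit 1,nat_lit 1,nat_lit 2,nat_lit 3])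
))) (.node (.node (.node (.node (.leaf [nat_lit 4,nat_lit 1,nat_lit 1,nat_lit 3,nat_lit 1,nat_lit 2,nat_lit 1,nat_lit 3,nat_lit 0,nat_lit 2,nat_lit 0,nat_lit 0,nat_lit 2,nat_lit 3,nat_lit 2,nat_lit 0,nat_lit 2,nat_lit 1,nat_lit 1,nat_lit 2])
 (.leaf [nat_lit 19,nat_lit 5,nat_lit 1,nat_lit 3,nat_lit 1,nat_lit 1,nat_lit 3,nat_lit 2,nat_lit 0,nat_lit 3,nat_lit 0,nat_lit 3,nat_lit 1,nat_lit 3,nat_lit 2,nat_lit 1,nat_lit 2,nat_lit 0])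
) (.node (.leaf [nat_lit 4,nat_lit 0,nat_lit 2,nat_lit 3,nat_lit 1,nat_lit 3,nat_lit 1,nat_lit 1,nat_lit 3,nat_lit 2,nat_lit 3,nat_lit 1,nat_lit 1,nat_lit 3,nat_lit 1,nat_lit 1,nat_lit 1,nat_lit 2,nat_lit 1,nat_lit 2,nat_lit 0,nat_lit 2])
 (.leaf [nat_lit 19,nat_lit 1,nat_lit 1,nat_lit 3,nat_lit 2,nat_lit 0,nat_lit 3,nat_lit 1,nat_lit 2,nat_lit 1,nat_lit 3,nat_lit 2,nat_lit 3,nat_lit 2,nat_lit 0,nat_lit 0,nat_lit 0,nat_lit 2])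
)) (.node (.node (.leaf [nat_lit 5,nat_lit 0,nat_lit 2,nat_lit 3,nat_lit 2,nat_lit 0,nat_lit 3,nat_lit 0,nat_lit 3,nat_lit 2,nat_lit 1,nat_lit 1,nat_lit 1,nat_lit 2,nat_lit 1,nat_lit 3,nat_lit 0,nat_lit 3])
 (.leaf [nat_lit 19,nat_lit 4,nat_lit 2,nat_lit 1,nat_lit 1,nat_lit 2,nat_lit 1,nat_lit 2,nat_lit 0,nat_lit 2,nat_lit 1,nat_lit 2,nat_lit 3,nat_lit 1,nat_lit 3,nat_lit 0,nat_lit 2,nat_lit 0,nat_lit 2,nat_lit 1])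
) (.leaf [nat_lit 3,nat_lit 2,nat_lit 1,nat_lit 2,nat_lit 3,nat_lit 2,nat_lit 1,nat_lit 2,nat_lit 3,nat_lit 0,nat_lit 2,nat_lit 0,nat_lit 2,nat_lit 0,nat_lit 3,nat_lit 2,nat_lit 0,nat_lit 0,nat_lit 0])
)) (.node (.node (.node (.leaf [nat_lit 4,nat_lit 0,nat_lit 3,nat_lit 1,nat_lit 3,nat_lit 1,nat_lit 2,nat_lit 3,nat_lit 2,nat_lit 0,nat_lit 2,nat_lit 1,nat_lit 3,nat_lit 0,nat_lit 3,nat_lit 0,nat_lit 0,nat_lit 0,nat_lit 3,nat_lit 0])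
 (.leaf [nat_lit 19,nat_lit 4,nat_lit 3,nat_lit 0,nat_lit 3,nat_lit 2,nat_lit 0,nat_lit 3,nat_lit 2,nat_lit 3,nat_lit 1,nat_lit 3,nat_lit 0,nat_lit 0,nat_lit 3,nat_lit 0,nat_lit 2,nat_lit 0,nat_lit 2,nat_lit 0,nat_lit 0,nat_lit 3])
) (.leaf [nat_lit 2,nat_lit 1,nat_lit 3,nat_lit 0,nat_lit 2,nat_lit 1,nat_lit 3,nat_lit 0,nat_lit 0,nat_lit 0,nat_lit 2,nat_lit 0,nat_lit 3,nat_lit 2,nat_lit 3,nat_lit 2])
) (.node (.node (.leaf [nat_lit 1,nat_lit 1,nat_lit 3,nat_lit 1,nat_lit 1,nat_lit 3,nat_lit 1,nat_lit 1,nat_lit 1,nat_lit 2,nat_lit 0,nat_lit 2,nat_lit 1,nat_lit 3,nat_lit 0,nat_lit 3,nat_lit 2,nat_lit 3,nat_lit 0,nat_lit 0])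
 (.leaf [nat_lit 19,nat_lit 3,nat_lit 1,nat_lit 2,nat_lit 1,nat_lit 1,nat_lit 1,nat_lit 2,nat_lit 1,nat_lit 1,nat_lit 1,nat_lit 2,nat_lit 0,nat_lit 3,nat_lit 0,nat_lit 2,nat_lit 1,nat_lit 2,nat_lit 1,nat_lit 3,nat_lit 2])
) (.leaf [nat_lit 5,nat_lit 3,nat_lit 0,nat_lit 3,nat_lit 1,nat_lit 2,nat_lit 1,nat_lit 2,nat_lit 1,nat_lit 3,nat_lit 0,nat_lit 3,nat_lit 0,nat_lit 0,nat_lit 2,nat_lit 0,nat_lit 3,nat_lit 2,nat_lit 3,nat_lit 2,nat_lit 1])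
))))))
noncomputable def Fh2 : LT :=
(.node (.node (.node (.node (.node (.node (.node (.leaf [])
 (.leaf [nat_lit 1,nat_lit 1,nat_lit 3,nat_lit 0,nat_lit 0,nat_lit 2,nat_lit 3,nat_lit 2,nat_lit 0,nat_lit 0,nat_lit 2,nat_lit 0,nat_lit 2,nat_lit 0,nat_lit 2,nat_lit 0])
) (.node (.leaf [nat_lit 4,nat_lit 3,nat_lit 2,nat_lit 1,nat_lit 3,nat_lit 0,nat_lit 0,nat_lit 0,nat_lit 3,nat_lit 0,nat_lit 3,nat_lit 2,nat_lit 3,nat_lit 2,nat_lit 0,nat_lit 0,nat_lit 3,nat_lit 1])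
 (.leaf [nat_lit 4,nat_lit 1,nat_lit 2,nat_lit 0,nat_lit 2,nat_lit 3,nat_lit 1,nat_lit 1,nat_lit 3,nat_lit 0,nat_lit 0,nat_lit 3,nat_lit 0,nat_lit 2,nat_lit 1,nat_lit 3,nat_lit 2,nat_lit 0,nat_lit 2,nat_lit 0])
)) (.node (.node (.leaf [nat_lit 5,nat_lit 1,nat_lit 3,nat_lit 0,nat_lit 3,nat_lit 2,nat_lit 3,nat_lit 0,nat_lit 2,nat_lit 0,nat_lit 3,nat_lit 0,nat_lit 3,nat_lit 1,nat_lit 2,nat_lit 0,nat_lit 2,nat_lit 0,nat_lit 0,nat_lit 0,nat_lit 3])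
 (.leaf [nat_lit 5,nat_lit 2,nat_lit 0,nat_lit 3,nat_lit 1,nat_lit 1,nat_lit 2,nat_lit 1,nat_lit 3,nat_lit 2,nat_lit 1,nat_lit 3,nat_lit 0,nat_lit 2,nat_lit 3,nat_lit 0,nat_lit 0,nat_lit 2,nat_lit 3,nat_lit 1,nat_lit 2])
) (.leaf [nat_lit 5,nat_lit 0,nat_lit 3,nat_lit 2,nat_lit 3,nat_lit 1,nat_lit 3,nat_lit 2,nat_lit 1,nat_lit 1,nat_lit 1,nat_lit 2,nat_lit 1,nat_lit 3,nat_lit 0,nat_lit 3,nat_lit 2,nat_lit 1,nat_lit 3])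
)) (.node (.node (.node (.leaf [])
 (.leaf [])
) (.node (.leaf [nat_lit 5,nat_lit 0,nat_lit 0,nat_lit 0,nat_lit 2,nat_lit 0,nat_lit 2,nat_lit 0,nat_lit 0,nat_lit 0,nat_lit 2,nat_lit 3,nat_lit 2,nat_lit 1,nat_lit 3,nat_lit 1,nat_lit 1,nat_lit 3,nat_lit 1])
 (.leaf [nat_lit 1,nat_lit 1,nat_lit 3,nat_lit 0,nat_lit 0,nat_lit 2,nat_lit 3,nat_lit 2,nat_lit 0,nat_lit 0,nat_lit 2,nat_lit 0,nat_lit 2,nat_lit 0,nat_lit 2,nat_lit 0])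
)) (.node (.node (.leaf [nat_lit 3,nat_lit 2,nat_lit 1,nat_lit 3,nat_lit 2,nat_lit 3,nat_lit 2,nat_lit 1,nat_lit 1,nat_lit 3,nat_lit 1,nat_lit 1,nat_lit 2,nat_lit 0,nat_lit 0,nat_lit 2,nat_lit 3,nat_lit 0])
 (.leaf [nat_lit 4,nat_lit 1,nat_lit 3,nat_lit 1,nat_lit 1,nat_lit 3,nat_lit 2,nat_lit 0,nat_lit 0,nat_lit 3,nat_lit 1,nat_lit 1,nat_lit 2,nat_lit 3,nat_lit 1,nat_lit 1,nat_lit 2,nat_lit 3,nat_lit 0,nat_lit 2])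
) (.leaf [nat_lit 2,nat_lit 1,nat_lit 2,nat_lit 1,nat_lit 3,nat_lit 1,nat_lit 3,nat_lit 1,nat_lit 2,nat_lit 1,nat_lit 1,nat_lit 1,nat_lit 3,nat_lit 2,nat_lit 3,nat_lit 0,nat_lit 0])
))) (.node (.node (.node (.node (.leaf [])
 (.leaf [])
) (.node (.leaf [nat_lit 5,nat_lit 3,nat_lit 0,nat_lit 2,nat_lit 0,nat_lit 0,nat_lit 0,nat_lit 2,nat_lit 3,nat_lit 0,nat_lit 3,nat_lit 1,nat_lit 2,nat_lit 1,nat_lit 2,nat_lit 3,nat_lit 0,nat_lit 3])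
 (.leaf [nat_lit 0,nat_lit 0,nat_lit 3,nat_lit 2,nat_lit 0,nat_lit 3,nat_lit 2,nat_lit 1,nat_lit 1,nat_lit 1,nat_lit 3,nat_lit 1,nat_lit 2,nat_lit 3,nat_lit 1,nat_lit 1,nat_lit 1,nat_lit 2,nat_lit 0])
)) (.node (.node (.leaf [nat_lit 2,nat_lit 0,nat_lit 2,nat_lit 3,nat_lit 1,nat_lit 1,nat_lit 2,nat_lit 1,nat_lit 2,nat_lit 3,nat_lit 0,nat_lit 0,nat_lit 0,nat_lit 2,nat_lit 0,nat_lit 2,nat_lit 1,nat_lit 2])
 (.leaf [nat_lit 4,nat_lit 1,nat_lit 1,nat_lit 3,nat_lit 2,nat_lit 3,nat_lit 0,nat_lit 0,nat_lit 2,nat_lit 0,nat_lit 3,nat_lit 1,nat_lit 2,nat_lit 0,nat_lit 3,nat_lit 2,nat_lit 0,nat_lit 3])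
) (.leaf [nat_lit 5,nat_lit 0,nat_lit 3,nat_lit 0,nat_lit 0,nat_lit 2,nat_lit 0,nat_lit 3,nat_lit 0,nat_lit 0,nat_lit 3,nat_lit 1,nat_lit 2,nat_lit 1,nat_lit 2,nat_lit 1,nat_lit 2,nat_lit 0,nat_lit 3])
)) (.node (.node (.node (.leaf [nat_lit 3,nat_lit 1,nat_lit 2,nat_lit 3,nat_lit 2,nat_lit 1,nat_lit 1,nat_lit 2,nat_lit 1,nat_lit 3,nat_lit 2,nat_lit 1,nat_lit 1,nat_lit 2,nat_lit 1,nat_lit 1,nat_lit 1,nat_lit 2,nat_lit 0])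
 (.leaf [nat_lit 4,nat_lit 2,nat_lit 3,nat_lit 0,nat_lit 2,nat_lit 1,nat_lit 2,nat_lit 1,nat_lit 2,nat_lit 1,nat_lit 1,nat_lit 3,nat_lit 0,nat_lit 2,nat_lit 1,nat_lit 1,nat_lit 1,nat_lit 3,nat_lit 1,nat_lit 1,nat_lit 3])
) (.node (.leaf [nat_lit 5,nat_lit 0,nat_lit 2,nat_lit 1,nat_lit 1,nat_lit 3,nat_lit 2,nat_lit 0,nat_lit 3,nat_lit 2,nat_lit 1,nat_lit 1,nat_lit 1,nat_lit 2,nat_lit 1,nat_lit 1,nat_lit 2,nat_lit 3,nat_lit 2,nat_lit 1])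
 (.leaf [nat_lit 3,nat_lit 1,nat_lit 3,nat_lit 0,nat_lit 0,nat_lit 2,nat_lit 1,nat_lit 3,nat_lit 1,nat_lit 1,nat_lit 1,nat_lit 2,nat_lit 0,nat_lit 3,nat_lit 0,nat_lit 2,nat_lit 1,nat_lit 3,nat_lit 1])
)) (.node (.node (.leaf [nat_lit 4,nat_lit 2,nat_lit 0,nat_lit 2,nat_lit 0,nat_lit 0,nat_lit 3,nat_lit 1,nat_lit 1,nat_lit 2,nat_lit 3,nat_lit 2,nat_lit 3,nat_lit 1,nat_lit 1,nat_lit 3,nat_lit 2,nat_lit 0,nat_lit 0])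
 (.leaf [nat_lit 3,nat_lit 2,nat_lit 1,nat_lit 3,nat_lit 0,nat_lit 0,nat_lit 2,nat_lit 3,nat_lit 1,nat_lit 3,nat_lit 2,nat_lit 0,nat_lit 2,nat_lit 0,nat_lit 0,nat_lit 3,nat_lit 0,nat_lit 0,nat_lit 0])
) (.leaf [nat_lit 5,nat_lit 2,nat_lit 3,nat_lit 1,nat_lit 1,nat_lit 3,nat_lit 0,nat_lit 0,nat_lit 3,nat_lit 1,nat_lit 2,nat_lit 1,nat_lit 3,nat_lit 1,nat_lit 1,nat_lit 3,nat_lit 1,nat_lit 2,nat_lit 0,nat_lit 0])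
)))) (.node (.node (.node (.node (.node (.leaf [])
 (.leaf [nat_lit 5,nat_lit 2,nat_lit 0,nat_lit 3,nat_lit 0,nat_lit 3,nat_lit 1,nat_lit 2,nat_lit 3,nat_lit 1,nat_lit 3,nat_lit 0,nat_lit 0,nat_lit 2,nat_lit 0,nat_lit 0,nat_lit 2,nat_lit 0,nat_lit 3])
) (.node (.leaf [nat_lit 0,nat_lit 3,nat_lit 2,nat_lit 3,nat_lit 2,nat_lit 1,nat_lit 3,nat_lit 2,nat_lit 0,nat_lit 2,nat_lit 0,nat_lit 3,nat_lit 2,nat_lit 1,nat_lit 1,nat_lit 3,nat_lit 1,nat_lit 2,nat_lit 1,nat_lit 3])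
 (.leaf [nat_lit 4,nat_lit 2,nat_lit 3,nat_lit 1,nat_lit 1,nat_lit 2,nat_lit 0,nat_lit 2,nat_lit 0,nat_lit 0,nat_lit 2,nat_lit 3,nat_lit 1,nat_lit 1,nat_lit 3,nat_lit 0,nat_lit 2,nat_lit 3,nat_lit 0,nat_lit 0,nat_lit 3])
)) (.node (.node (.leaf [nat_lit 4,nat_lit 2,nat_lit 0,nat_lit 3,nat_lit 2,nat_lit 0,nat_lit 2,nat_lit 1,nat_lit 2,nat_lit 1,nat_lit 1,nat_lit 2,nat_lit 0,nat_lit 0,nat_lit 3,nat_lit 0,nat_lit 3,nat_lit 0,nat_lit 0,nat_lit 3,nat_lit 0])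
 (.leaf [nat_lit 4,nat_lit 2,nat_lit 0,nat_lit 2,nat_lit 0,nat_lit 0,nat_lit 3,nat_lit 1,nat_lit 1,nat_lit 2,nat_lit 3,nat_lit 2,nat_lit 3,nat_lit 1,nat_lit 1,nat_lit 3,nat_lit 2,nat_lit 0,nat_lit 0])
) (.leaf [nat_lit 5,nat_lit 2,nat_lit 1,nat_lit 3,nat_lit 1,nat_lit 1,nat_lit 3,nat_lit 0,nat_lit 2,nat_lit 0,nat_lit 3,nat_lit 2,nat_lit 0,nat_lit 0,nat_lit 2,nat_lit 0,nat_lit 0,nat_lit 3,nat_lit 0,nat_lit 3])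
)) (.node (.node (.node (.leaf [nat_lit 4,nat_lit 0,nat_lit 2,nat_lit 1,nat_lit 1,nat_lit 2,nat_lit 3,nat_lit 0,nat_lit 2,nat_lit 0,nat_lit 2,nat_lit 0,nat_lit 2,nat_lit 3,nat_lit 0,nat_lit 2,nat_lit 0,nat_lit 2,nat_lit 1])
 (.leaf [nat_lit 5,nat_lit 0,nat_lit 0,nat_lit 0,nat_lit 2,nat_lit 0,nat_lit 2,nat_lit 0,nat_lit 0,nat_lit 0,nat_lit 2,nat_lit 3,nat_lit 2,nat_lit 1,nat_lit 3,nat_lit 1,nat_lit 1,nat_lit 3,nat_lit 1])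
) (.node (.leaf [nat_lit 4,nat_lit 2,nat_lit 3,nat_lit 1,nat_lit 2,nat_lit 1,nat_lit 2,nat_lit 3,nat_lit 2,nat_lit 3,nat_lit 0,nat_lit 0,nat_lit 0,nat_lit 2,nat_lit 1,nat_lit 3,nat_lit 2,nat_lit 3,nat_lit 1,nat_lit 2,nat_lit 1])
 (.leaf [nat_lit 5,nat_lit 2,nat_lit 0,nat_lit 3,nat_lit 0,nat_lit 3,nat_lit 1,nat_lit 2,nat_lit 3,nat_lit 1,nat_lit 3,nat_lit 0,nat_lit 0,nat_lit 2,nat_lit 0,nat_lit 0,nat_lit 2,nat_lit 0,nat_lit 3])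
)) (.node (.node (.leaf [nat_lit 4,nat_lit 0,nat_lit 3,nat_lit 1,nat_lit 1,nat_lit 1,nat_lit 2,nat_lit 3,nat_lit 0,nat_lit 0,nat_lit 3,nat_lit 1,nat_lit 2,nat_lit 1,nat_lit 2,nat_lit 0,nat_lit 0,nat_lit 0,nat_lit 2])
 (.leaf [nat_lit 5,nat_lit 3,nat_lit 2,nat_lit 3,nat_lit 2,nat_lit 1,nat_lit 1,nat_lit 3,nat_lit 0,nat_lit 0,nat_lit 3,nat_lit 1,nat_lit 3,nat_lit 0,nat_lit 2,nat_lit 0,nat_lit 3,nat_lit 1,nat_lit 2,nat_lit 0])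
) (.leaf [nat_lit 4,nat_lit 0,nat_lit 0,nat_lit 2,nat_lit 0,nat_lit 2,nat_lit 3,nat_lit 0,nat_lit 2,nat_lit 3,nat_lit 0,nat_lit 3,nat_lit 2,nat_lit 1,nat_lit 2,nat_lit 1,nat_lit 1,nat_lit 3,nat_lit 1,nat_lit 2])
))) (.node (.node (.node (.node (.leaf [])
 (.leaf [nat_lit 4,nat_lit 0,nat_lit 2,nat_lit 3,nat_lit 1,nat_lit 3,nat_lit 1,nat_lit 1,nat_lit 3,nat_lit 2,nat_lit 3,nat_lit 1,nat_lit 1,nat_lit 3,nat_lit 1,nat_lit 1,nat_lit 1,nat_lit 2,nat_lit 1,nat_lit 2,nat_lit 0,nat_lit 2])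
) (.node (.leaf [])
 (.leaf [nat_lit 1,nat_lit 1,nat_lit 3,nat_lit 1,nat_lit 1,nat_lit 3,nat_lit 0,nat_lit 3,nat_lit 1,nat_lit 1,nat_lit 2,nat_lit 0,nat_lit 0,nat_lit 3,nat_lit 1,nat_lit 2,nat_lit 1,nat_lit 3])
)) (.node (.node (.leaf [nat_lit 5,nat_lit 3,nat_lit 0,nat_lit 0,nat_lit 2,nat_lit 0,nat_lit 0,nat_lit 3,nat_lit 0,nat_lit 3,nat_lit 1,nat_lit 1,nat_lit 3,nat_lit 2,nat_lit 3,nat_lit 0,nat_lit 2,nat_lit 0,nat_lit 3,nat_lit 1,nat_lit 1])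
 (.leaf [nat_lit 4,nat_lit 3,nat_lit 1,nat_lit 2,nat_lit 3,nat_lit 1,nat_lit 3,nat_lit 1,nat_lit 1,nat_lit 3,nat_lit 1,nat_lit 2,nat_lit 1,nat_lit 2,nat_lit 1,nat_lit 3,nat_lit 2,nat_lit 1,nat_lit 3,nat_lit 2])
) (.leaf [nat_lit 2,nat_lit 0,nat_lit 2,nat_lit 0,nat_lit 2,nat_lit 0,nat_lit 0,nat_lit 3,nat_lit 0,nat_lit 0,nat_lit 3,nat_lit 1,nat_lit 1,nat_lit 2,nat_lit 3,nat_lit 0,nat_lit 2,nat_lit 3,nat_lit 1])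
)) (.node (.node (.node (.leaf [nat_lit 5,nat_lit 1,nat_lit 2,nat_lit 3,nat_lit 2,nat_lit 0,nat_lit 2,nat_lit 3,nat_lit 1,nat_lit 2,nat_lit 3,nat_lit 0,nat_lit 2,nat_lit 3,nat_lit 1,nat_lit 3,nat_lit 0,nat_lit 2,nat_lit 3,nat_lit 0,nat_lit 2])
 (.leaf [nat_lit 4,nat_lit 3,nat_lit 2,nat_lit 3,nat_lit 1,nat_lit 2,nat_lit 1,nat_lit 1,nat_lit 2,nat_lit 1,nat_lit 3,nat_lit 1,nat_lit 3,nat_lit 2,nat_lit 0,nat_lit 2,nat_lit 0,nat_lit 3,nat_lit 1])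
) (.leaf [nat_lit 0,nat_lit 3,nat_lit 2,nat_lit 1,nat_lit 1,nat_lit 2,nat_lit 3,nat_lit 1,nat_lit 3,nat_lit 1,nat_lit 2,nat_lit 3,nat_lit 1,nat_lit 2,nat_lit 3,nat_lit 0,nat_lit 2,nat_lit 0,nat_lit 0])
) (.node (.node (.leaf [nat_lit 3,nat_lit 1,nat_lit 2,nat_lit 3,nat_lit 0,nat_lit 2,nat_lit 3,nat_lit 1,nat_lit 1,nat_lit 3,nat_lit 1,nat_lit 1,nat_lit 2,nat_lit 3,nat_lit 2,nat_lit 1,nat_lit 2,nat_lit 3])
 (.leaf [nat_lit 4,nat_lit 2,nat_lit 0,nat_lit 3,nat_lit 1,nat_lit 1,nat_lit 2,nat_lit 0,nat_lit 3,nat_lit 2,nat_lit 1,nat_lit 1,nat_lit 3,nat_lit 2,nat_lit 1,nat_lit 1,nat_lit 3,nat_lit 2,nat_lit 0,nat_lit 3,nat_lit 0])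
) (.leaf [nat_lit 5,nat_lit 1,nat_lit 1,nat_lit 3,nat_lit 1,nat_lit 3,nat_lit 2,nat_lit 0,nat_lit 2,nat_lit 0,nat_lit 0,nat_lit 2,nat_lit 3,nat_lit 2,nat_lit 1,nat_lit 3,nat_lit 2,nat_lit 1,nat_lit 1,nat_lit 2])
))))) (.node (.node (.node (.node (.node (.node (.leaf [])
 (.leaf [nat_lit 4,nat_lit 0,nat_lit 2,nat_lit 0,nat_lit 2,nat_lit 1,nat_lit 1,nat_lit 2,nat_lit 1,nat_lit 3,nat_lit 1,nat_lit 3,nat_lit 2,nat_lit 1,nat_lit 1,nat_lit 3,nat_lit 0])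
) (.node (.leaf [])
 (.leaf [nat_lit 5,nat_lit 0,nat_lit 2,nat_lit 3,nat_lit 1,nat_lit 2,nat_lit 0,nat_lit 2,nat_lit 1,nat_lit 3,nat_lit 0,nat_lit 3,nat_lit 2,nat_lit 1,nat_lit 3,nat_lit 0,nat_lit 0,nat_lit 0,nat_lit 3,nat_lit 2,nat_lit 0])
)) (.node (.node (.leaf [nat_lit 4,nat_lit 3,nat_lit 2,nat_lit 0,nat_lit 3,nat_lit 1,nat_lit 2,nat_lit 3,nat_lit 0,nat_lit 0,nat_lit 3,nat_lit 1,nat_lit 3,nat_lit 1,nat_lit 2,nat_lit 1,nat_lit 2,nat_lit 0,nat_lit 0,nat_lit 3])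
 (.leaf [nat_lit 3,nat_lit 1,nat_lit 3,nat_lit 2,nat_lit 3,nat_lit 2,nat_lit 1,nat_lit 1,nat_lit 3,nat_lit 2,nat_lit 3,nat_lit 0,nat_lit 2,nat_lit 0,nat_lit 0,nat_lit 0,nat_lit 3,nat_lit 2,nat_lit 0])
) (.leaf [nat_lit 4,nat_lit 1,nat_lit 3,nat_lit 1,nat_lit 1,nat_lit 3,nat_lit 2,nat_lit 0,nat_lit 0,nat_lit 3,nat_lit 1,nat_lit 1,nat_lit 2,nat_lit 3,nat_lit 1,nat_lit 1,nat_lit 2,nat_lit 3,nat_lit 0,nat_lit 2])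
)) (.node (.node (.node (.leaf [])
 (.leaf [nat_lit 5,nat_lit 3,nat_lit 2,nat_lit 1,nat_lit 1,nat_lit 3,nat_lit 2,nat_lit 0,nat_lit 0,nat_lit 3,nat_lit 2,nat_lit 0,nat_lit 0,nat_lit 0,nat_lit 3,nat_lit 2,nat_lit 0,nat_lit 3,nat_lit 0])
) (.node (.leaf [nat_lit 5,nat_lit 1,nat_lit 1,nat_lit 1,nat_lit 3,nat_lit 2,nat_lit 1,nat_lit 3,nat_lit 2,nat_lit 1,nat_lit 2,nat_lit 3,nat_lit 2,nat_lit 0,nat_lit 3,nat_lit 0,nat_lit 0,nat_lit 2,nat_lit 3,nat_lit 0,nat_lit 0])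
 (.leaf [nat_lit 5,nat_lit 2,nat_lit 0,nat_lit 3,nat_lit 1,nat_lit 3,nat_lit 0,nat_lit 0,nat_lit 2,nat_lit 3,nat_lit 1,nat_lit 2,nat_lit 3,nat_lit 0,nat_lit 0,nat_lit 0])
)) (.node (.node (.leaf [nat_lit 2,nat_lit 1,nat_lit 2,nat_lit 1,nat_lit 1,nat_lit 3,nat_lit 2,nat_lit 3,nat_lit 2,nat_lit 3,nat_lit 0,nat_lit 0,nat_lit 3,nat_lit 1,nat_lit 1,nat_lit 3,nat_lit 0,nat_lit 0,nat_lit 2,nat_lit 1])
 (.leaf [nat_lit 4,nat_lit 3,nat_lit 2,nat_lit 0,nat_lit 2,nat_lit 3,nat_lit 2,nat_lit 0,nat_lit 0,nat_lit 2,nat_lit 0,nat_lit 0,nat_lit 3,nat_lit 1,nat_lit 3,nat_lit 0,nat_lit 0,nat_lit 3,nat_lit 2])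
) (.leaf [nat_lit 5,nat_lit 0,nat_lit 3,nat_lit 1,nat_lit 1,nat_lit 2,nat_lit 0,nat_lit 2,nat_lit 0,nat_lit 0,nat_lit 3,nat_lit 1,nat_lit 3,nat_lit 2,nat_lit 3,nat_lit 0,nat_lit 3,nat_lit 2,nat_lit 1,nat_lit 3])
))) (.node (.node (.node (.node (.leaf [nat_lit 4,nat_lit 3,nat_lit 0,nat_lit 3,nat_lit 2,nat_lit 0,nat_lit 3,nat_lit 0,nat_lit 3,nat_lit 1,nat_lit 3,nat_lit 2,nat_lit 1,nat_lit 3,nat_lit 1,nat_lit 2,nat_lit 3,nat_lit 1,nat_lit 3])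
 (.leaf [nat_lit 2,nat_lit 1,nat_lit 3,nat_lit 1,nat_lit 1,nat_lit 2,nat_lit 3,nat_lit 0,nat_lit 0,nat_lit 3,nat_lit 1,nat_lit 3,nat_lit 1,nat_lit 1,nat_lit 3,nat_lit 1,nat_lit 1,nat_lit 1,nat_lit 3,nat_lit 0])
) (.node (.leaf [nat_lit 4,nat_lit 1,nat_lit 1,nat_lit 3,nat_lit 2,nat_lit 3,nat_lit 0,nat_lit 0,nat_lit 2,nat_lit 0,nat_lit 3,nat_lit 1,nat_lit 2,nat_lit 0,nat_lit 3,nat_lit 2,nat_lit 0,nat_lit 3])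
 (.leaf [nat_lit 5,nat_lit 3,nat_lit 1,nat_lit 1,nat_lit 2,nat_lit 1,nat_lit 3,nat_lit 1,nat_lit 1,nat_lit 1,nat_lit 2,nat_lit 3,nat_lit 1,nat_lit 1,nat_lit 2,nat_lit 1,nat_lit 3,nat_lit 1,nat_lit 2])
)) (.node (.node (.leaf [nat_lit 5,nat_lit 3,nat_lit 2,nat_lit 0,nat_lit 0,nat_lit 2,nat_lit 0,nat_lit 0,nat_lit 3,nat_lit 1,nat_lit 2,nat_lit 0,nat_lit 3,nat_lit 0,nat_lit 3,nat_lit 1,nat_lit 2,nat_lit 1,nat_lit 1,nat_lit 1])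
 (.leaf [nat_lit 5,nat_lit 1,nat_lit 3,nat_lit 1,nat_lit 2,nat_lit 0,nat_lit 0,nat_lit 0,nat_lit 3,nat_lit 2,nat_lit 1,nat_lit 3,nat_lit 2,nat_lit 1,nat_lit 1,nat_lit 3,nat_lit 0,nat_lit 0,nat_lit 2,nat_lit 3,nat_lit 0])
) (.leaf [nat_lit 0,nat_lit 3,nat_lit 2,nat_lit 0,nat_lit 0,nat_lit 2,nat_lit 3,nat_lit 0,nat_lit 0,nat_lit 3,nat_lit 0,nat_lit 0,nat_lit 3,nat_lit 2,nat_lit 1,nat_lit 2,nat_lit 1,nat_lit 2])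
)) (.node (.node (.node (.leaf [nat_lit 1,nat_lit 1,nat_lit 2,nat_lit 3,nat_lit 0,nat_lit 3,nat_lit 1,nat_lit 2,nat_lit 3,nat_lit 2,nat_lit 1,nat_lit 3,nat_lit 0,nat_lit 2,nat_lit 0,nat_lit 0,nat_lit 0,nat_lit 3,nat_lit 2])
 (.leaf [nat_lit 0,nat_lit 2,nat_lit 1,nat_lit 1,nat_lit 1,nat_lit 3,nat_lit 0,nat_lit 3,nat_lit 1,nat_lit 2,nat_lit 1,nat_lit 2,nat_lit 3,nat_lit 2,nat_lit 3,nat_lit 1,nat_lit 1,nat_lit 2,nat_lit 0])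
) (.node (.leaf [nat_lit 1,nat_lit 3,nat_lit 1,nat_lit 2,nat_lit 1,nat_lit 3,nat_lit 0,nat_lit 3,nat_lit 2,nat_lit 0,nat_lit 2,nat_lit 3,nat_lit 1,nat_lit 1,nat_lit 3,nat_lit 0,nat_lit 0,nat_lit 0])
 (.leaf [nat_lit 4,nat_lit 2,nat_lit 0,nat_lit 3,nat_lit 1,nat_lit 2,nat_lit 3,nat_lit 0,nat_lit 0,nat_lit 3,nat_lit 0,nat_lit 0,nat_lit 0,nat_lit 3,nat_lit 2,nat_lit 0,nat_lit 2,nat_lit 3,nat_lit 2,nat_lit 1])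
)) (.node (.node (.leaf [nat_lit 5,nat_lit 0,nat_lit 0,nat_lit 2,nat_lit 0,nat_lit 3,nat_lit 0,nat_lit 2,nat_lit 0,nat_lit 3,nat_lit 0,nat_lit 3,nat_lit 1,nat_lit 1,nat_lit 2,nat_lit 0,nat_lit 0,nat_lit 3,nat_lit 1,nat_lit 1,nat_lit 1])
 (.leaf [nat_lit 5,nat_lit 1,nat_lit 2,nat_lit 1,nat_lit 3,nat_lit 2,nat_lit 1,nat_lit 3,nat_lit 0,nat_lit 3,nat_lit 1,nat_lit 3,nat_lit 0,nat_lit 0,nat_lit 2,nat_lit 1,nat_lit 2,nat_lit 0,nat_lit 2])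
) (.leaf [nat_lit 1,nat_lit 2,nat_lit 1,nat_lit 3,nat_lit 0,nat_lit 2,nat_lit 0,nat_lit 0,nat_lit 0,nat_lit 2,nat_lit 3,nat_lit 0,nat_lit 3,nat_lit 0,nat_lit 2,nat_lit 0,nat_lit 3])
)))) (.node (.node (.node (.node (.node (.leaf [])
 (.leaf [])
) (.node (.leaf [nat_lit 4,nat_lit 0,nat_lit 3,nat_lit 0,nat_lit 2,nat_lit 0,nat_lit 0,nat_lit 3,nat_lit 2,nat_lit 3,nat_lit 2,nat_lit 1,nat_lit 1,nat_lit 3,nat_lit 0,nat_lit 2,nat_lit 1,nat_lit 3,nat_lit 2,nat_lit 1])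
 (.leaf [nat_lit 5,nat_lit 1,nat_lit 1,nat_lit 2,nat_lit 3,nat_lit 1,nat_lit 2,nat_lit 0,nat_lit 2,nat_lit 3,nat_lit 0,nat_lit 2,nat_lit 3,nat_lit 0,nat_lit 0,nat_lit 0,nat_lit 3,nat_lit 2,nat_lit 3])
)) (.node (.node (.leaf [nat_lit 5,nat_lit 1,nat_lit 3,nat_lit 1,nat_lit 2,nat_lit 1,nat_lit 3,nat_lit 0,nat_lit 2,nat_lit 3,nat_lit 1,nat_lit 3,nat_lit 2,nat_lit 0,nat_lit 3,nat_lit 0,nat_lit 0,nat_lit 3,nat_lit 1,nat_lit 1,nat_lit 1])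
 (.leaf [])
) (.leaf [nat_lit 4,nat_lit 3,nat_lit 2,nat_lit 3,nat_lit 1,nat_lit 1,nat_lit 1,nat_lit 2,nat_lit 1,nat_lit 2,nat_lit 3,nat_lit 2,nat_lit 1,nat_lit 2,nat_lit 1,nat_lit 2,nat_lit 0,nat_lit 2])
)) (.node (.node (.node (.leaf [nat_lit 5,nat_lit 2,nat_lit 1,nat_lit 2,nat_lit 1,nat_lit 2,nat_lit 0,nat_lit 0,nat_lit 3,nat_lit 1,nat_lit 3,nat_lit 0,nat_lit 3,nat_lit 1,nat_lit 2,nat_lit 0,nat_lit 0,nat_lit 2,nat_lit 1,nat_lit 1])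
 (.leaf [nat_lit 5,nat_lit 1,nat_lit 1,nat_lit 2,nat_lit 1,nat_lit 3,nat_lit 2,nat_lit 3,nat_lit 2,nat_lit 0,nat_lit 2,nat_lit 1,nat_lit 2,nat_lit 3,nat_lit 2,nat_lit 1,nat_lit 1,nat_lit 3,nat_lit 1])
) (.node (.leaf [nat_lit 3,nat_lit 2,nat_lit 0,nat_lit 2,nat_lit 3,nat_lit 0,nat_lit 3,nat_lit 2,nat_lit 1,nat_lit 3,nat_lit 2,nat_lit 3,nat_lit 2,nat_lit 0,nat_lit 2,nat_lit 0,nat_lit 3,nat_lit 1])
 (.leaf [nat_lit 4,nat_lit 0,nat_lit 2,nat_lit 0,nat_lit 3,nat_lit 0,nat_lit 3,nat_lit 0,nat_lit 0,nat_lit 2,nat_lit 0,nat_lit 2,nat_lit 3,nat_lit 0,nat_lit 2,nat_lit 3,nat_lit 1,nat_lit 1])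
)) (.node (.node (.leaf [nat_lit 4,nat_lit 1,nat_lit 2,nat_lit 1,nat_lit 2,nat_lit 1,nat_lit 3,nat_lit 2,nat_lit 3,nat_lit 0,nat_lit 0,nat_lit 2,nat_lit 1,nat_lit 2,nat_lit 3,nat_lit 1,nat_lit 2,nat_lit 3,nat_lit 2,nat_lit 1])
 (.leaf [nat_lit 4,nat_lit 3,nat_lit 2,nat_lit 3,nat_lit 2,nat_lit 0,nat_lit 0,nat_lit 3,nat_lit 0,nat_lit 3,nat_lit 2,nat_lit 0,nat_lit 0,nat_lit 2,nat_lit 3,nat_lit 0,nat_lit 0,nat_lit 2,nat_lit 3])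
) (.leaf [nat_lit 1,nat_lit 1,nat_lit 3,nat_lit 2,nat_lit 0,nat_lit 3,nat_lit 1,nat_lit 2,nat_lit 1,nat_lit 3,nat_lit 2,nat_lit 3,nat_lit 2,nat_lit 0,nat_lit 0,nat_lit 0,nat_lit 2])
))) (.node (.node (.node (.node (.leaf [nat_lit 5,nat_lit 2,nat_lit 1,nat_lit 2,nat_lit 1,nat_lit 3,nat_lit 1,nat_lit 2,nat_lit 3,nat_lit 0,nat_lit 3,nat_lit 2,nat_lit 3,nat_lit 2,nat_lit 1,nat_lit 1,nat_lit 3,nat_lit 2,nat_lit 1])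
 (.leaf [nat_lit 4,nat_lit 1,nat_lit 3,nat_lit 0,nat_lit 0,nat_lit 0,nat_lit 2,nat_lit 1,nat_lit 3,nat_lit 0,nat_lit 0,nat_lit 2,nat_lit 3,nat_lit 0,nat_lit 3,nat_lit 1,nat_lit 2,nat_lit 1])
) (.node (.leaf [nat_lit 3,nat_lit 1,nat_lit 1,nat_lit 3,nat_lit 0,nat_lit 2,nat_lit 1,nat_lit 2,nat_lit 3,nat_lit 1,nat_lit 1,nat_lit 1,nat_lit 2,nat_lit 0,nat_lit 0,nat_lit 2,nat_lit 1,nat_lit 3,nat_lit 2])
 (.leaf [nat_lit 1,nat_lit 3,nat_lit 1,nat_lit 1,nat_lit 3,nat_lit 0,nat_lit 0,nat_lit 3,nat_lit 2,nat_lit 1,nat_lit 3,nat_lit 1,nat_lit 3,nat_lit 0,nat_lit 0,nat_lit 2,nat_lit 0,nat_lit 0])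
)) (.node (.node (.leaf [nat_lit 5,nat_lit 1,nat_lit 3,nat_lit 1,nat_lit 3,nat_lit 0,nat_lit 0,nat_lit 2,nat_lit 1,nat_lit 3,nat_lit 0,nat_lit 0,nat_lit 0,nat_lit 2,nat_lit 3,nat_lit 0,nat_lit 2,nat_lit 1,nat_lit 1])
 (.leaf [nat_lit 4,nat_lit 0,nat_lit 3,nat_lit 1,nat_lit 3,nat_lit 2,nat_lit 0,nat_lit 0,nat_lit 2,nat_lit 1,nat_lit 3,nat_lit 0,nat_lit 3,nat_lit 1,nat_lit 3,nat_lit 0,nat_lit 2,nat_lit 0,nat_lit 2,nat_lit 3,nat_lit 1])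
) (.leaf [nat_lit 4,nat_lit 2,nat_lit 1,nat_lit 3,nat_lit 2,nat_lit 1,nat_lit 2,nat_lit 0,nat_lit 3,nat_lit 2,nat_lit 1,nat_lit 2,nat_lit 3,nat_lit 0,nat_lit 3,nat_lit 2,nat_lit 0,nat_lit 3,nat_lit 1])
)) (.node (.node (.node (.leaf [nat_lit 4,nat_lit 1,nat_lit 2,nat_lit 3,nat_lit 2,nat_lit 0,nat_lit 0,nat_lit 3,nat_lit 2,nat_lit 1,nat_lit 1,nat_lit 1,nat_lit 3,nat_lit 0,nat_lit 2,nat_lit 0,nat_lit 0,nat_lit 3,nat_lit 0])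
 (.leaf [nat_lit 0,nat_lit 2,nat_lit 1,nat_lit 1,nat_lit 1,nat_lit 2,nat_lit 3,nat_lit 0,nat_lit 3,nat_lit 1,nat_lit 2,nat_lit 1,nat_lit 2,nat_lit 3,nat_lit 2,nat_lit 1,nat_lit 2,nat_lit 3])
) (.leaf [nat_lit 4,nat_lit 3,nat_lit 2,nat_lit 3,nat_lit 2,nat_lit 0,nat_lit 2,nat_lit 0,nat_lit 2,nat_lit 1,nat_lit 2,nat_lit 1,nat_lit 1,nat_lit 2,nat_lit 3,nat_lit 1,nat_lit 2,nat_lit 3,nat_lit 0,nat_lit 0])
) (.node (.node (.leaf [nat_lit 4,nat_lit 1,nat_lit 1,nat_lit 2,nat_lit 1,nat_lit 2,nat_lit 0,nat_lit 2,nat_lit 0,nat_lit 0,nat_lit 3])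
 (.leaf [nat_lit 2,nat_lit 3,nat_lit 0,nat_lit 2,nat_lit 1,nat_lit 1,nat_lit 2,nat_lit 1,nat_lit 1,nat_lit 2,nat_lit 1,nat_lit 3,nat_lit 0,nat_lit 0,nat_lit 2,nat_lit 0,nat_lit 2,nat_lit 1,nat_lit 3])
) (.leaf [nat_lit 5,nat_lit 1,nat_lit 3,nat_lit 2,nat_lit 0,nat_lit 3,nat_lit 2,nat_lit 1,nat_lit 1,nat_lit 2,nat_lit 3,nat_lit 1,nat_lit 2,nat_lit 1,nat_lit 2,nat_lit 0,nat_lit 2,nat_lit 1])
))))))
noncomputable def Fh3 : LT :=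
(.node (.node (.node (.node (.node (.node (.node (.leaf [])
 (.leaf [nat_lit 5,nat_lit 2,nat_lit 3,nat_lit 2,nat_lit 1,nat_lit 1,nat_lit 2,nat_lit 3,nat_lit 1,nat_lit 3,nat_lit 0,nat_lit 0,nat_lit 2,nat_lit 3,nat_lit 2,nat_lit 1,nat_lit 1,nat_lit 3,nat_lit 0])
) (.node (.leaf [nat_lit 4,nat_lit 0,nat_lit 3,nat_lit 0,nat_lit 2,nat_lit 1,nat_lit 1,nat_lit 1,nat_lit 2,nat_lit 0,nat_lit 3,nat_lit 0,nat_lit 0,nat_lit 0,nat_lit 3,nat_lit 1,nat_lit 2,nat_lit 1,nat_lit 1])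
 (.leaf [nat_lit 19,nat_lit 4,nat_lit 1,nat_lit 2,nat_lit 0,nat_lit 2,nat_lit 3,nat_lit 1,nat_lit 1,nat_lit 3,nat_lit 0,nat_lit 0,nat_lit 3,nat_lit 0,nat_lit 2,nat_lit 1,nat_lit 3,nat_lit 2,nat_lit 0,nat_lit 2,nat_lit 0])
)) (.node (.node (.leaf [nat_lit 2,nat_lit 3,nat_lit 2,nat_lit 1,nat_lit 3,nat_lit 1,nat_lit 2,nat_lit 0,nat_lit 3,nat_lit 2,nat_lit 1,nat_lit 2,nat_lit 1,nat_lit 2,nat_lit 1,nat_lit 3,nat_lit 1,nat_lit 2,nat_lit 1])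
 (.leaf [nat_lit 19,nat_lit 5,nat_lit 2,nat_lit 0,nat_lit 3,nat_lit 1,nat_lit 1,nat_lit 2,nat_lit 1,nat_lit 3,nat_lit 2,nat_lit 1,nat_lit 3,nat_lit 0,nat_lit 2,nat_lit 3,nat_lit 0,nat_lit 0,nat_lit 2,nat_lit 3,nat_lit 1,nat_lit 2])
) (.leaf [nat_lit 5,nat_lit 0,nat_lit 2,nat_lit 1,nat_lit 2,nat_lit 1,nat_lit 2,nat_lit 1,nat_lit 3,nat_lit 0,nat_lit 0,nat_lit 0,nat_lit 3,nat_lit 2,nat_lit 1,nat_lit 3,nat_lit 2,nat_lit 1,nat_lit 3,nat_lit 2])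
)) (.node (.node (.node (.leaf [nat_lit 1,nat_lit 2,nat_lit 3,nat_lit 2,nat_lit 1,nat_lit 1,nat_lit 3,nat_lit 0,nat_lit 2,nat_lit 3,nat_lit 1,nat_lit 3,nat_lit 2,nat_lit 3,nat_lit 2,nat_lit 3])
 (.leaf [nat_lit 19])
) (.node (.leaf [nat_lit 5,nat_lit 3,nat_lit 1,nat_lit 2,nat_lit 0,nat_lit 2,nat_lit 3,nat_lit 2,nat_lit 0,nat_lit 3,nat_lit 0,nat_lit 3,nat_lit 0,nat_lit 2,nat_lit 3,nat_lit 1,nat_lit 3,nat_lit 0,nat_lit 0,nat_lit 3])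
 (.leaf [nat_lit 19,nat_lit 1,nat_lit 1,nat_lit 3,nat_lit 0,nat_lit 0,nat_lit 2,nat_lit 3,nat_lit 2,nat_lit 0,nat_lit 0,nat_lit 2,nat_lit 0,nat_lit 2,nat_lit 0,nat_lit 2,nat_lit 0])
)) (.node (.node (.leaf [nat_lit 5,nat_lit 3,nat_lit 1,nat_lit 1,nat_lit 1,nat_lit 2,nat_lit 0,nat_lit 2,nat_lit 1,nat_lit 2,nat_lit 1,nat_lit 2,nat_lit 1,nat_lit 1,nat_lit 1,nat_lit 2,nat_lit 3,nat_lit 0,nat_lit 0])
 (.leaf [nat_lit 19,nat_lit 4,nat_lit 1,nat_lit 3,nat_lit 1,nat_lit 1,nat_lit 3,nat_lit 2,nat_lit 0,nat_lit 0,nat_lit 3,nat_lit 1,nat_lit 1,nat_lit 2,nat_lit 3,nat_lit 1,nat_lit 1,nat_lit 2,nat_lit 3,nat_lit 0,nat_lit 2])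
) (.leaf [nat_lit 2,nat_lit 1,nat_lit 1,nat_lit 1,nat_lit 2,nat_lit 0,nat_lit 3,nat_lit 2,nat_lit 0,nat_lit 3,nat_lit 0,nat_lit 0,nat_lit 3,nat_lit 0,nat_lit 2,nat_lit 3])
))) (.node (.node (.node (.node (.leaf [])
 (.leaf [nat_lit 19])
) (.node (.leaf [nat_lit 2,nat_lit 1,nat_lit 2,nat_lit 0,nat_lit 2,nat_lit 0,nat_lit 2,nat_lit 0,nat_lit 2,nat_lit 1,nat_lit 3,nat_lit 0,nat_lit 0,nat_lit 2,nat_lit 1,nat_lit 1,nat_lit 1])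
 (.leaf [nat_lit 19,nat_lit 0,nat_lit 0,nat_lit 3,nat_lit 2,nat_lit 0,nat_lit 3,nat_lit 2,nat_lit 1,nat_lit 1,nat_lit 1,nat_lit 3,nat_lit 1,nat_lit 2,nat_lit 3,nat_lit 1,nat_lit 1,nat_lit 1,nat_lit 2,nat_lit 0])
)) (.node (.node (.leaf [nat_lit 5,nat_lit 1,nat_lit 2,nat_lit 1,nat_lit 3,nat_lit 2,nat_lit 1,nat_lit 3,nat_lit 0,nat_lit 3,nat_lit 1,nat_lit 3,nat_lit 0,nat_lit 0,nat_lit 2,nat_lit 1,nat_lit 2,nat_lit 0,nat_lit 2])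
 (.leaf [nat_lit 19,nat_lit 4,nat_lit 1,nat_lit 1,nat_lit 3,nat_lit 2,nat_lit 3,nat_lit 0,nat_lit 0,nat_lit 2,nat_lit 0,nat_lit 3,nat_lit 1,nat_lit 2,nat_lit 0,nat_lit 3,nat_lit 2,nat_lit 0,nat_lit 3])
) (.leaf [nat_lit 5,nat_lit 2,nat_lit 0,nat_lit 0,nat_lit 2,nat_lit 1,nat_lit 3,nat_lit 2,nat_lit 3,nat_lit 1,nat_lit 2,nat_lit 0,nat_lit 3,nat_lit 0,nat_lit 0,nat_lit 2,nat_lit 3,nat_lit 1,nat_lit 3,nat_lit 0])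
)) (.node (.node (.node (.leaf [nat_lit 4,nat_lit 3,nat_lit 2,nat_lit 0,nat_lit 3,nat_lit 1,nat_lit 2,nat_lit 3,nat_lit 2,nat_lit 0,nat_lit 0,nat_lit 3,nat_lit 0,nat_lit 0,nat_lit 2,nat_lit 0,nat_lit 0,nat_lit 2,nat_lit 3,nat_lit 2])
 (.leaf [nat_lit 19,nat_lit 4,nat_lit 2,nat_lit 3,nat_lit 0,nat_lit 2,nat_lit 1,nat_lit 2,nat_lit 1,nat_lit 2,nat_lit 1,nat_lit 1,nat_lit 3,nat_lit 0,nat_lit 2,nat_lit 1,nat_lit 1,nat_lit 1,nat_lit 3,nat_lit 1,nat_lit 1,nat_lit 3])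
) (.node (.leaf [nat_lit 3,nat_lit 2,nat_lit 0,nat_lit 2,nat_lit 0,nat_lit 2,nat_lit 1,nat_lit 2,nat_lit 3,nat_lit 1,nat_lit 3,nat_lit 2,nat_lit 1])
 (.leaf [nat_lit 19,nat_lit 3,nat_lit 1,nat_lit 3,nat_lit 0,nat_lit 0,nat_lit 2,nat_lit 1,nat_lit 3,nat_lit 1,nat_lit 1,nat_lit 1,nat_lit 2,nat_lit 0,nat_lit 3,nat_lit 0,nat_lit 2,nat_lit 1,nat_lit 3,nat_lit 1])
)) (.node (.node (.leaf [nat_lit 4,nat_lit 1,nat_lit 3,nat_lit 0,nat_lit 0,nat_lit 3,nat_lit 0,nat_lit 2,nat_lit 3,nat_lit 0,nat_lit 2,nat_lit 0,nat_lit 0,nat_lit 2,nat_lit 3,nat_lit 2,nat_lit 1])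
 (.leaf [nat_lit 19,nat_lit 3,nat_lit 2,nat_lit 1,nat_lit 3,nat_lit 0,nat_lit 0,nat_lit 2,nat_lit 3,nat_lit 1,nat_lit 3,nat_lit 2,nat_lit 0,nat_lit 2,nat_lit 0,nat_lit 0,nat_lit 3,nat_lit 0,nat_lit 0,nat_lit 0])
) (.leaf [nat_lit 4,nat_lit 3,nat_lit 2,nat_lit 3,nat_lit 1,nat_lit 2,nat_lit 1,nat_lit 1,nat_lit 2,nat_lit 1,nat_lit 3,nat_lit 1,nat_lit 3,nat_lit 2,nat_lit 0,nat_lit 2,nat_lit 0,nat_lit 3,nat_lit 1])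
)))) (.node (.node (.node (.node (.node (.leaf [nat_lit 3,nat_lit 2,nat_lit 0,nat_lit 2,nat_lit 0,nat_lit 2,nat_lit 3,nat_lit 1,nat_lit 1,nat_lit 1,nat_lit 3,nat_lit 2,nat_lit 3,nat_lit 2,nat_lit 3])
 (.leaf [nat_lit 5,nat_lit 3,nat_lit 0,nat_lit 2,nat_lit 3,nat_lit 1,nat_lit 1,nat_lit 2,nat_lit 3,nat_lit 1,nat_lit 1,nat_lit 2,nat_lit 3,nat_lit 2,nat_lit 3,nat_lit 0,nat_lit 0,nat_lit 3,nat_lit 0,nat_lit 3,nat_lit 0])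
) (.node (.leaf [nat_lit 4,nat_lit 3,nat_lit 2,nat_lit 0,nat_lit 3,nat_lit 2,nat_lit 3,nat_lit 0,nat_lit 3,nat_lit 2,nat_lit 0,nat_lit 3,nat_lit 2,nat_lit 3,nat_lit 0,nat_lit 3,nat_lit 0,nat_lit 2])
 (.leaf [nat_lit 19,nat_lit 4,nat_lit 2,nat_lit 3,nat_lit 1,nat_lit 1,nat_lit 2,nat_lit 0,nat_lit 2,nat_lit 0,nat_lit 0,nat_lit 2,nat_lit 3,nat_lit 1,nat_lit 1,nat_lit 3,nat_lit 0,nat_lit 2,nat_lit 3,nat_lit 0,nat_lit 0,nat_lit 3])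
)) (.node (.node (.leaf [nat_lit 5,nat_lit 3,nat_lit 1,nat_lit 2,nat_lit 3,nat_lit 0,nat_lit 2,nat_lit 0,nat_lit 0,nat_lit 3,nat_lit 2,nat_lit 1,nat_lit 3,nat_lit 1,nat_lit 2,nat_lit 1,nat_lit 3,nat_lit 0,nat_lit 3,nat_lit 0])
 (.leaf [nat_lit 19,nat_lit 4,nat_lit 2,nat_lit 0,nat_lit 2,nat_lit 0,nat_lit 0,nat_lit 3,nat_lit 1,nat_lit 1,nat_lit 2,nat_lit 3,nat_lit 2,nat_lit 3,nat_lit 1,nat_lit 1,nat_lit 3,nat_lit 2,nat_lit 0,nat_lit 0])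
) (.leaf [nat_lit 4,nat_lit 3,nat_lit 2,nat_lit 0,nat_lit 2,nat_lit 3,nat_lit 2,nat_lit 0,nat_lit 0,nat_lit 2,nat_lit 0,nat_lit 0,nat_lit 3,nat_lit 1,nat_lit 3,nat_lit 0,nat_lit 0,nat_lit 3,nat_lit 2])
)) (.node (.node (.node (.leaf [nat_lit 3,nat_lit 2,nat_lit 3,nat_lit 0,nat_lit 2,nat_lit 3,nat_lit 2,nat_lit 3,nat_lit 0,nat_lit 0,nat_lit 2,nat_lit 3,nat_lit 1,nat_lit 2,nat_lit 3,nat_lit 2,nat_lit 1])
 (.leaf [nat_lit 19,nat_lit 5,nat_lit 0,nat_lit 0,nat_lit 0,nat_lit 2,nat_lit 0,nat_lit 2,nat_lit 0,nat_lit 0,nat_lit 0,nat_lit 2,nat_lit 3,nat_lit 2,nat_lit 1,nat_lit 3,nat_lit 1,nat_lit 1,nat_lit 3,nat_lit 1])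
) (.node (.leaf [nat_lit 2,nat_lit 3,nat_lit 0,nat_lit 0,nat_lit 0,nat_lit 2,nat_lit 3,nat_lit 2,nat_lit 1,nat_lit 1,nat_lit 2,nat_lit 1,nat_lit 1,nat_lit 3,nat_lit 0,nat_lit 3,nat_lit 1,nat_lit 1,nat_lit 2,nat_lit 3])
 (.leaf [nat_lit 19,nat_lit 5,nat_lit 2,nat_lit 0,nat_lit 3,nat_lit 0,nat_lit 3,nat_lit 1,nat_lit 2,nat_lit 3,nat_lit 1,nat_lit 3,nat_lit 0,nat_lit 0,nat_lit 2,nat_lit 0,nat_lit 0,nat_lit 2,nat_lit 0,nat_lit 3])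
)) (.node (.node (.leaf [nat_lit 4,nat_lit 0,nat_lit 0,nat_lit 2,nat_lit 0,nat_lit 3,nat_lit 0,nat_lit 2,nat_lit 0,nat_lit 2,nat_lit 1,nat_lit 3,nat_lit 2,nat_lit 0,nat_lit 0,nat_lit 2,nat_lit 3,nat_lit 1,nat_lit 1,nat_lit 2])
 (.leaf [nat_lit 19,nat_lit 5,nat_lit 3,nat_lit 2,nat_lit 3,nat_lit 2,nat_lit 1,nat_lit 1,nat_lit 3,nat_lit 0,nat_lit 0,nat_lit 3,nat_lit 1,nat_lit 3,nat_lit 0,nat_lit 2,nat_lit 0,nat_lit 3,nat_lit 1,nat_lit 2,nat_lit 0])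
) (.leaf [nat_lit 4,nat_lit 2,nat_lit 1,nat_lit 3,nat_lit 1,nat_lit 3,nat_lit 0,nat_lit 0,nat_lit 2,nat_lit 1,nat_lit 2,nat_lit 3,nat_lit 2,nat_lit 0,nat_lit 3,nat_lit 0,nat_lit 0,nat_lit 2,nat_lit 3,nat_lit 0])
))) (.node (.node (.node (.node (.leaf [])
 (.leaf [nat_lit 19,nat_lit 4,nat_lit 0,nat_lit 2,nat_lit 3,nat_lit 1,nat_lit 3,nat_lit 1,nat_lit 1,nat_lit 3,nat_lit 2,nat_lit 3,nat_lit 1,nat_lit 1,nat_lit 3,nat_lit 1,nat_lit 1,nat_lit 1,nat_lit 2,nat_lit 1,nat_lit 2,nat_lit 0,nat_lit 2])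
) (.node (.leaf [nat_lit 4,nat_lit 0,nat_lit 2,nat_lit 0,nat_lit 3,nat_lit 0,nat_lit 3,nat_lit 0,nat_lit 0,nat_lit 2,nat_lit 0,nat_lit 2,nat_lit 3,nat_lit 0,nat_lit 2,nat_lit 3,nat_lit 1,nat_lit 1])
 (.leaf [nat_lit 19,nat_lit 1,nat_lit 1,nat_lit 3,nat_lit 1,nat_lit 1,nat_lit 3,nat_lit 0,nat_lit 3,nat_lit 1,nat_lit 1,nat_lit 2,nat_lit 0,nat_lit 0,nat_lit 3,nat_lit 1,nat_lit 2,nat_lit 1,nat_lit 3])
)) (.node (.node (.leaf [nat_lit 5,nat_lit 2,nat_lit 0,nat_lit 0,nat_lit 3,nat_lit 0,nat_lit 0,nat_lit 2,nat_lit 0,nat_lit 3,nat_lit 2,nat_lit 3,nat_lit 0,nat_lit 0,nat_lit 2,nat_lit 1,nat_lit 3,nat_lit 2,nat_lit 1,nat_lit 1])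
 (.leaf [nat_lit 19,nat_lit 4,nat_lit 3,nat_lit 1,nat_lit 2,nat_lit 3,nat_lit 1,nat_lit 3,nat_lit 1,nat_lit 1,nat_lit 3,nat_lit 1,nat_lit 2,nat_lit 1,nat_lit 2,nat_lit 1,nat_lit 3,nat_lit 2,nat_lit 1,nat_lit 3,nat_lit 2])
) (.leaf [nat_lit 5,nat_lit 2,nat_lit 3,nat_lit 1,nat_lit 2,nat_lit 3,nat_lit 1,nat_lit 2,nat_lit 0,nat_lit 2,nat_lit 1,nat_lit 3,nat_lit 0,nat_lit 2,nat_lit 3,nat_lit 0,nat_lit 0,nat_lit 2,nat_lit 0,nat_lit 0])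
)) (.node (.node (.node (.leaf [nat_lit 5,nat_lit 3,nat_lit 0,nat_lit 2,nat_lit 3,nat_lit 1,nat_lit 1,nat_lit 2,nat_lit 1,nat_lit 2,nat_lit 1,nat_lit 1,nat_lit 2,nat_lit 0,nat_lit 0,nat_lit 0,nat_lit 2])
 (.leaf [nat_lit 19,nat_lit 4,nat_lit 3,nat_lit 2,nat_lit 3,nat_lit 1,nat_lit 2,nat_lit 1,nat_lit 1,nat_lit 2,nat_lit 1,nat_lit 3,nat_lit 1,nat_lit 3,nat_lit 2,nat_lit 0,nat_lit 2,nat_lit 0,nat_lit 3,nat_lit 1])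
) (.leaf [nat_lit 5,nat_lit 0,nat_lit 3,nat_lit 0,nat_lit 0,nat_lit 2,nat_lit 1,nat_lit 1,nat_lit 3,nat_lit 2,nat_lit 3,nat_lit 2,nat_lit 1,nat_lit 1,nat_lit 3,nat_lit 2,nat_lit 0,nat_lit 2])
) (.node (.node (.leaf [nat_lit 1,nat_lit 2,nat_lit 1,nat_lit 1,nat_lit 2,nat_lit 1,nat_lit 3,nat_lit 1,nat_lit 3,nat_lit 0,nat_lit 0,nat_lit 3,nat_lit 1,nat_lit 1,nat_lit 2,nat_lit 3])
 (.leaf [nat_lit 19,nat_lit 4,nat_lit 2,nat_lit 0,nat_lit 3,nat_lit 1,nat_lit 1,nat_lit 2,nat_lit 0,nat_lit 3,nat_lit 2,nat_lit 1,nat_lit 1,nat_lit 3,nat_lit 2,nat_lit 1,nat_lit 1,nat_lit 3,nat_lit 2,nat_lit 0,nat_lit 3,nat_lit 0])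
) (.leaf [nat_lit 4,nat_lit 0,nat_lit 2,nat_lit 0,nat_lit 0,nat_lit 0,nat_lit 3,nat_lit 2,nat_lit 1,nat_lit 2,nat_lit 1,nat_lit 1,nat_lit 1,nat_lit 3,nat_lit 2,nat_lit 3,nat_lit 0,nat_lit 2,nat_lit 0,nat_lit 0])
))))) (.node (.node (.node (.node (.node (.node (.leaf [nat_lit 5,nat_lit 0,nat_lit 2,nat_lit 0,nat_lit 3,nat_lit 1,nat_lit 1,nat_lit 1,nat_lit 3,nat_lit 2,nat_lit 1,nat_lit 2,nat_lit 1,nat_lit 1,nat_lit 3,nat_lit 1,nat_lit 1,nat_lit 2,nat_lit 0])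
 (.leaf [nat_lit 5,nat_lit 0,nat_lit 0,nat_lit 0,nat_lit 3,nat_lit 2,nat_lit 1,nat_lit 3,nat_lit 2,nat_lit 0,nat_lit 3,nat_lit 2,nat_lit 0,nat_lit 3,nat_lit 1,nat_lit 1,nat_lit 2,nat_lit 1])
) (.node (.leaf [])
 (.leaf [nat_lit 19,nat_lit 5,nat_lit 0,nat_lit 2,nat_lit 3,nat_lit 1,nat_lit 2,nat_lit 0,nat_lit 2,nat_lit 1,nat_lit 3,nat_lit 0,nat_lit 3,nat_lit 2,nat_lit 1,nat_lit 3,nat_lit 0,nat_lit 0,nat_lit 0,nat_lit 3,nat_lit 2,nat_lit 0])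
)) (.node (.node (.leaf [nat_lit 4,nat_lit 2,nat_lit 1,nat_lit 2,nat_lit 0,nat_lit 3,nat_lit 1,nat_lit 1,nat_lit 2,nat_lit 3,nat_lit 1,nat_lit 2,nat_lit 3,nat_lit 1,nat_lit 3,nat_lit 0,nat_lit 2,nat_lit 1,nat_lit 1,nat_lit 1,nat_lit 2])
 (.leaf [nat_lit 19,nat_lit 3,nat_lit 1,nat_lit 3,nat_lit 2,nat_lit 3,nat_lit 2,nat_lit 1,nat_lit 1,nat_lit 3,nat_lit 2,nat_lit 3,nat_lit 0,nat_lit 2,nat_lit 0,nat_lit 0,nat_lit 0,nat_lit 3,nat_lit 2,nat_lit 0])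
) (.leaf [nat_lit 4,nat_lit 0,nat_lit 0,nat_lit 3,nat_lit 2,nat_lit 3,nat_lit 1,nat_lit 1,nat_lit 3,nat_lit 1,nat_lit 1,nat_lit 1,nat_lit 3,nat_lit 0,nat_lit 0,nat_lit 0])
)) (.node (.node (.node (.leaf [nat_lit 5,nat_lit 1,nat_lit 2,nat_lit 3,nat_lit 1,nat_lit 2,nat_lit 0,nat_lit 0,nat_lit 2,nat_lit 1,nat_lit 3,nat_lit 0,nat_lit 0,nat_lit 2,nat_lit 3,nat_lit 0,nat_lit 0,nat_lit 2,nat_lit 3])
 (.leaf [nat_lit 19,nat_lit 5,nat_lit 3,nat_lit 2,nat_lit 1,nat_lit 1,nat_lit 3,nat_lit 2,nat_lit 0,nat_lit 0,nat_lit 3,nat_lit 2,nat_lit 0,nat_lit 0,nat_lit 0,nat_lit 3,nat_lit 2,nat_lit 0,nat_lit 3,nat_lit 0])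
) (.node (.leaf [nat_lit 5,nat_lit 2,nat_lit 1,nat_lit 2,nat_lit 1,nat_lit 1,nat_lit 3,nat_lit 1,nat_lit 3,nat_lit 1,nat_lit 2,nat_lit 1,nat_lit 3,nat_lit 1,nat_lit 3,nat_lit 1,nat_lit 2,nat_lit 0,nat_lit 3,nat_lit 2])
 (.leaf [nat_lit 19,nat_lit 5,nat_lit 2,nat_lit 0,nat_lit 3,nat_lit 1,nat_lit 3,nat_lit 0,nat_lit 0,nat_lit 2,nat_lit 3,nat_lit 1,nat_lit 2,nat_lit 3,nat_lit 0,nat_lit 0,nat_lit 0])
)) (.node (.node (.leaf [nat_lit 4,nat_lit 2,nat_lit 1,nat_lit 1,nat_lit 2,nat_lit 0,nat_lit 2,nat_lit 1,nat_lit 2,nat_lit 0,nat_lit 0,nat_lit 3,nat_lit 0,nat_lit 3,nat_lit 2,nat_lit 1,nat_lit 2,nat_lit 1,nat_lit 1,nat_lit 1])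
 (.leaf [nat_lit 19,nat_lit 4,nat_lit 3,nat_lit 2,nat_lit 0,nat_lit 2,nat_lit 3,nat_lit 2,nat_lit 0,nat_lit 0,nat_lit 2,nat_lit 0,nat_lit 0,nat_lit 3,nat_lit 1,nat_lit 3,nat_lit 0,nat_lit 0,nat_lit 3,nat_lit 2])
) (.leaf [nat_lit 4,nat_lit 2,nat_lit 3,nat_lit 2,nat_lit 3,nat_lit 2,nat_lit 0,nat_lit 2,nat_lit 0,nat_lit 3,nat_lit 1,nat_lit 3,nat_lit 2,nat_lit 0,nat_lit 3,nat_lit 1,nat_lit 1,nat_lit 3,nat_lit 0])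
))) (.node (.node (.node (.node (.leaf [nat_lit 4,nat_lit 0,nat_lit 3,nat_lit 1,nat_lit 2,nat_lit 0,nat_lit 0,nat_lit 0,nat_lit 3,nat_lit 0,nat_lit 0,nat_lit 2,nat_lit 1,nat_lit 3,nat_lit 0,nat_lit 0,nat_lit 2,nat_lit 3,nat_lit 0])
 (.leaf [nat_lit 19,nat_lit 2,nat_lit 1,nat_lit 3,nat_lit 1,nat_lit 1,nat_lit 2,nat_lit 3,nat_lit 0,nat_lit 0,nat_lit 3,nat_lit 1,nat_lit 3,nat_lit 1,nat_lit 1,nat_lit 3,nat_lit 1,nat_lit 1,nat_lit 1,nat_lit 3,nat_lit 0])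
) (.node (.leaf [nat_lit 3,nat_lit 2,nat_lit 0,nat_lit 2,nat_lit 0,nat_lit 0,nat_lit 3,nat_lit 2,nat_lit 1,nat_lit 1,nat_lit 1,nat_lit 2,nat_lit 1,nat_lit 3,nat_lit 1,nat_lit 3])
 (.leaf [nat_lit 19,nat_lit 5,nat_lit 3,nat_lit 1,nat_lit 1,nat_lit 2,nat_lit 1,nat_lit 3,nat_lit 1,nat_lit 1,nat_lit 1,nat_lit 2,nat_lit 3,nat_lit 1,nat_lit 1,nat_lit 2,nat_lit 1,nat_lit 3,nat_lit 1,nat_lit 2])
)) (.node (.node (.leaf [nat_lit 5,nat_lit 0,nat_lit 3,nat_lit 1,nat_lit 1,nat_lit 1,nat_lit 2,nat_lit 0,nat_lit 3,nat_lit 2,nat_lit 3,nat_lit 2,nat_lit 0,nat_lit 2,nat_lit 3,nat_lit 1,nat_lit 1,nat_lit 2,nat_lit 3])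
 (.leaf [nat_lit 19,nat_lit 5,nat_lit 1,nat_lit 3,nat_lit 1,nat_lit 2,nat_lit 0,nat_lit 0,nat_lit 0,nat_lit 3,nat_lit 2,nat_lit 1,nat_lit 3,nat_lit 2,nat_lit 1,nat_lit 1,nat_lit 3,nat_lit 0,nat_lit 0,nat_lit 2,nat_lit 3,nat_lit 0])
) (.leaf [nat_lit 1,nat_lit 3,nat_lit 1,nat_lit 3,nat_lit 2,nat_lit 1,nat_lit 3,nat_lit 0,nat_lit 0,nat_lit 3,nat_lit 0,nat_lit 3,nat_lit 1,nat_lit 1,nat_lit 2,nat_lit 1,nat_lit 3,nat_lit 2,nat_lit 0])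
)) (.node (.node (.node (.leaf [nat_lit 4,nat_lit 0,nat_lit 0,nat_lit 3,nat_lit 0,nat_lit 2,nat_lit 3,nat_lit 0,nat_lit 2,nat_lit 3,nat_lit 1,nat_lit 2,nat_lit 0,nat_lit 3,nat_lit 0,nat_lit 2,nat_lit 1,nat_lit 2,nat_lit 3])
 (.leaf [nat_lit 19,nat_lit 0,nat_lit 2,nat_lit 1,nat_lit 1,nat_lit 1,nat_lit 3,nat_lit 0,nat_lit 3,nat_lit 1,nat_lit 2,nat_lit 1,nat_lit 2,nat_lit 3,nat_lit 2,nat_lit 3,nat_lit 1,nat_lit 1,nat_lit 2,nat_lit 0])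
) (.node (.leaf [nat_lit 2,nat_lit 0,nat_lit 0,nat_lit 3,nat_lit 2,nat_lit 0,nat_lit 0,nat_lit 2,nat_lit 0,nat_lit 2,nat_lit 3,nat_lit 0,nat_lit 0,nat_lit 0,nat_lit 2,nat_lit 3,nat_lit 1,nat_lit 3,nat_lit 2])
 (.leaf [nat_lit 19,nat_lit 4,nat_lit 2,nat_lit 0,nat_lit 3,nat_lit 1,nat_lit 2,nat_lit 3,nat_lit 0,nat_lit 0,nat_lit 3,nat_lit 0,nat_lit 0,nat_lit 0,nat_lit 3,nat_lit 2,nat_lit 0,nat_lit 2,nat_lit 3,nat_lit 2,nat_lit 1])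
)) (.node (.node (.leaf [nat_lit 4,nat_lit 0,nat_lit 3,nat_lit 1,nat_lit 2,nat_lit 3,nat_lit 2,nat_lit 3,nat_lit 2,nat_lit 0,nat_lit 0,nat_lit 2,nat_lit 1,nat_lit 3,nat_lit 0,nat_lit 2,nat_lit 0,nat_lit 3,nat_lit 0,nat_lit 0])
 (.leaf [nat_lit 19,nat_lit 5,nat_lit 1,nat_lit 2,nat_lit 1,nat_lit 3,nat_lit 2,nat_lit 1,nat_lit 3,nat_lit 0,nat_lit 3,nat_lit 1,nat_lit 3,nat_lit 0,nat_lit 0,nat_lit 2,nat_lit 1,nat_lit 2,nat_lit 0,nat_lit 2])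
) (.leaf [nat_lit 5,nat_lit 3,nat_lit 0,nat_lit 2,nat_lit 3,nat_lit 1,nat_lit 2,nat_lit 3,nat_lit 2,nat_lit 1,nat_lit 1,nat_lit 3,nat_lit 0,nat_lit 2,nat_lit 3,nat_lit 2,nat_lit 0,nat_lit 2,nat_lit 3,nat_lit 2])
)))) (.node (.node (.node (.node (.node (.leaf [])
 (.leaf [])
) (.node (.leaf [nat_lit 4,nat_lit 2,nat_lit 0,nat_lit 2,nat_lit 1,nat_lit 2,nat_lit 1,nat_lit 1,nat_lit 1,nat_lit 2,nat_lit 0,nat_lit 0,nat_lit 3,nat_lit 0,nat_lit 3,nat_lit 0,nat_lit 0,nat_lit 2,nat_lit 1])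
 (.leaf [nat_lit 19,nat_lit 5,nat_lit 1,nat_lit 1,nat_lit 2,nat_lit 3,nat_lit 1,nat_lit 2,nat_lit 0,nat_lit 2,nat_lit 3,nat_lit 0,nat_lit 2,nat_lit 3,nat_lit 0,nat_lit 0,nat_lit 0,nat_lit 3,nat_lit 2,nat_lit 3])
)) (.node (.node (.leaf [nat_lit 5,nat_lit 2,nat_lit 1,nat_lit 1,nat_lit 2,nat_lit 3,nat_lit 0,nat_lit 0,nat_lit 3,nat_lit 0,nat_lit 2,nat_lit 0,nat_lit 3,nat_lit 1,nat_lit 2,nat_lit 3,nat_lit 1,nat_lit 3,nat_lit 2,nat_lit 3])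
 (.leaf [nat_lit 19])
) (.leaf [nat_lit 5,nat_lit 3,nat_lit 0,nat_lit 2,nat_lit 1,nat_lit 3,nat_lit 1,nat_lit 2,nat_lit 1,nat_lit 1,nat_lit 3,nat_lit 1,nat_lit 3,nat_lit 2,nat_lit 1,nat_lit 1,nat_lit 1,nat_lit 3,nat_lit 0,nat_lit 3,nat_lit 1])
)) (.node (.node (.node (.leaf [nat_lit 5,nat_lit 2,nat_lit 0,nat_lit 2,nat_lit 0,nat_lit 0,nat_lit 3,nat_lit 1,nat_lit 3,nat_lit 1,nat_lit 1,nat_lit 1,nat_lit 3,nat_lit 2,nat_lit 3,nat_lit 0,nat_lit 3,nat_lit 2,nat_lit 0])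
 (.leaf [nat_lit 19,nat_lit 5,nat_lit 1,nat_lit 1,nat_lit 2,nat_lit 1,nat_lit 3,nat_lit 2,nat_lit 3,nat_lit 2,nat_lit 0,nat_lit 2,nat_lit 1,nat_lit 2,nat_lit 3,nat_lit 2,nat_lit 1,nat_lit 1,nat_lit 3,nat_lit 1])
) (.node (.leaf [nat_lit 0,nat_lit 0,nat_lit 3,nat_lit 1,nat_lit 1,nat_lit 3,nat_lit 2,nat_lit 3,nat_lit 2,nat_lit 3,nat_lit 0,nat_lit 2,nat_lit 1,nat_lit 2,nat_lit 3,nat_lit 1,nat_lit 3,nat_lit 0,nat_lit 0])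
 (.leaf [nat_lit 19,nat_lit 4,nat_lit 0,nat_lit 2,nat_lit 0,nat_lit 3,nat_lit 0,nat_lit 3,nat_lit 0,nat_lit 0,nat_lit 2,nat_lit 0,nat_lit 2,nat_lit 3,nat_lit 0,nat_lit 2,nat_lit 3,nat_lit 1,nat_lit 1])
)) (.node (.node (.leaf [nat_lit 1,nat_lit 3,nat_lit 2,nat_lit 0,nat_lit 0,nat_lit 3,nat_lit 1,nat_lit 1,nat_lit 3,nat_lit 1,nat_lit 2,nat_lit 0,nat_lit 3,nat_lit 1,nat_lit 3,nat_lit 0,nat_lit 0,nat_lit 3,nat_lit 2])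
 (.leaf [nat_lit 19,nat_lit 4,nat_lit 3,nat_lit 2,nat_lit 3,nat_lit 2,nat_lit 0,nat_lit 0,nat_lit 3,nat_lit 0,nat_lit 3,nat_lit 2,nat_lit 0,nat_lit 0,nat_lit 2,nat_lit 3,nat_lit 0,nat_lit 0,nat_lit 2,nat_lit 3])
) (.leaf [nat_lit 5,nat_lit 0,nat_lit 3,nat_lit 2,nat_lit 3,nat_lit 0,nat_lit 3,nat_lit 2,nat_lit 0,nat_lit 0,nat_lit 0,nat_lit 2,nat_lit 3,nat_lit 1,nat_lit 2,nat_lit 0,nat_lit 2,nat_lit 0,nat_lit 0,nat_lit 2])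
))) (.node (.node (.node (.node (.leaf [nat_lit 4,nat_lit 1,nat_lit 1,nat_lit 3,nat_lit 1,nat_lit 2,nat_lit 1,nat_lit 3,nat_lit 0,nat_lit 2,nat_lit 0,nat_lit 0,nat_lit 2,nat_lit 3,nat_lit 2,nat_lit 0,nat_lit 2,nat_lit 1,nat_lit 1,nat_lit 2])
 (.leaf [nat_lit 19,nat_lit 4,nat_lit 1,nat_lit 3,nat_lit 0,nat_lit 0,nat_lit 0,nat_lit 2,nat_lit 1,nat_lit 3,nat_lit 0,nat_lit 0,nat_lit 2,nat_lit 3,nat_lit 0,nat_lit 3,nat_lit 1,nat_lit 2,nat_lit 1])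
) (.node (.leaf [nat_lit 3,nat_lit 2,nat_lit 3,nat_lit 0,nat_lit 0,nat_lit 3,nat_lit 2,nat_lit 1,nat_lit 3,nat_lit 2,nat_lit 1,nat_lit 3,nat_lit 0,nat_lit 3,nat_lit 0])
 (.leaf [nat_lit 19,nat_lit 1,nat_lit 3,nat_lit 1,nat_lit 1,nat_lit 3,nat_lit 0,nat_lit 0,nat_lit 3,nat_lit 2,nat_lit 1,nat_lit 3,nat_lit 1,nat_lit 3,nat_lit 0,nat_lit 0,nat_lit 2,nat_lit 0,nat_lit 0])
)) (.node (.node (.leaf [nat_lit 5,nat_lit 2,nat_lit 3,nat_lit 0,nat_lit 3,nat_lit 2,nat_lit 1,nat_lit 2,nat_lit 3,nat_lit 1,nat_lit 2,nat_lit 1,nat_lit 3,nat_lit 2,nat_lit 0,nat_lit 3,nat_lit 1,nat_lit 2,nat_lit 1])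
 (.leaf [nat_lit 19,nat_lit 4,nat_lit 0,nat_lit 3,nat_lit 1,nat_lit 3,nat_lit 2,nat_lit 0,nat_lit 0,nat_lit 2,nat_lit 1,nat_lit 3,nat_lit 0,nat_lit 3,nat_lit 1,nat_lit 3,nat_lit 0,nat_lit 2,nat_lit 0,nat_lit 2,nat_lit 3,nat_lit 1])
) (.leaf [nat_lit 5,nat_lit 0,nat_lit 3,nat_lit 2,nat_lit 0,nat_lit 2,nat_lit 3,nat_lit 1,nat_lit 1,nat_lit 2,nat_lit 0,nat_lit 0,nat_lit 3,nat_lit 1,nat_lit 1,nat_lit 3,nat_lit 2,nat_lit 1,nat_lit 3])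
)) (.node (.node (.node (.leaf [nat_lit 3,nat_lit 1,nat_lit 3,nat_lit 0,nat_lit 0,nat_lit 2,nat_lit 0,nat_lit 0,nat_lit 2,nat_lit 1,nat_lit 1,nat_lit 1,nat_lit 3,nat_lit 1,nat_lit 1,nat_lit 2,nat_lit 3,nat_lit 0])
 (.leaf [nat_lit 19,nat_lit 0,nat_lit 2,nat_lit 1,nat_lit 1,nat_lit 1,nat_lit 2,nat_lit 3,nat_lit 0,nat_lit 3,nat_lit 1,nat_lit 2,nat_lit 1,nat_lit 2,nat_lit 3,nat_lit 2,nat_lit 1,nat_lit 2,nat_lit 3])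
) (.leaf [nat_lit 4,nat_lit 2,nat_lit 1,nat_lit 1,nat_lit 2,nat_lit 1,nat_lit 2,nat_lit 0,nat_lit 2,nat_lit 1,nat_lit 2,nat_lit 3,nat_lit 1,nat_lit 3,nat_lit 0,nat_lit 2,nat_lit 0,nat_lit 2,nat_lit 1])
) (.node (.node (.leaf [nat_lit 1,nat_lit 3,nat_lit 1,nat_lit 1,nat_lit 1,nat_lit 2,nat_lit 1,nat_lit 2,nat_lit 0,nat_lit 2,nat_lit 0,nat_lit 2,nat_lit 1,nat_lit 2,nat_lit 0,nat_lit 0,nat_lit 2,nat_lit 3])
 (.leaf [nat_lit 19,nat_lit 2,nat_lit 3,nat_lit 0,nat_lit 2,nat_lit 1,nat_lit 1,nat_lit 2,nat_lit 1,nat_lit 1,nat_lit 2,nat_lit 1,nat_lit 3,nat_lit 0,nat_lit 0,nat_lit 2,nat_lit 0,nat_lit 2,nat_lit 1,nat_lit 3])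
) (.leaf [nat_lit 4,nat_lit 3,nat_lit 0,nat_lit 0,nat_lit 3,nat_lit 1,nat_lit 3,nat_lit 1,nat_lit 1,nat_lit 1,nat_lit 3,nat_lit 2,nat_lit 3,nat_lit 2,nat_lit 1,nat_lit 1,nat_lit 3,nat_lit 0,nat_lit 0,nat_lit 0,nat_lit 3])
))))))
noncomputable def Fh4 : LT :=
(.node (.node (.node (.node (.node (.node (.node (.leaf [])
 (.leaf [nat_lit 5,nat_lit 3,nat_lit 0,nat_lit 2,nat_lit 3,nat_lit 1,nat_lit 3,nat_lit 0,nat_lit 0,nat_lit 0,nat_lit 3,nat_lit 1,nat_lit 3,nat_lit 2,nat_lit 0,nat_lit 0,nat_lit 2,nat_lit 1,nat_lit 1])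
) (.node (.leaf [nat_lit 5,nat_lit 1,nat_lit 1,nat_lit 3,nat_lit 1,nat_lit 2,nat_lit 3,nat_lit 0,nat_lit 3,nat_lit 0,nat_lit 2,nat_lit 3,nat_lit 2,nat_lit 0,nat_lit 0,nat_lit 3,nat_lit 2,nat_lit 0,nat_lit 0])
 (.leaf [nat_lit 3,nat_lit 0,nat_lit 3,nat_lit 2,nat_lit 3,nat_lit 0,nat_lit 2,nat_lit 1,nat_lit 1,nat_lit 2,nat_lit 3,nat_lit 0,nat_lit 3,nat_lit 2,nat_lit 0,nat_lit 2,nat_lit 0,nat_lit 0,nat_lit 2,nat_lit 0])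
)) (.node (.node (.leaf [nat_lit 5,nat_lit 3,nat_lit 2,nat_lit 3,nat_lit 2,nat_lit 1,nat_lit 1,nat_lit 3,nat_lit 0,nat_lit 0,nat_lit 3,nat_lit 1,nat_lit 3,nat_lit 0,nat_lit 2,nat_lit 0,nat_lit 3,nat_lit 1,nat_lit 2,nat_lit 0])
 (.leaf [nat_lit 4,nat_lit 3,nat_lit 1,nat_lit 2,nat_lit 3,nat_lit 0,nat_lit 2,nat_lit 1,nat_lit 2,nat_lit 0,nat_lit 3,nat_lit 0,nat_lit 0,nat_lit 3,nat_lit 1,nat_lit 1,nat_lit 1,nat_lit 3,nat_lit 2,nat_lit 1,nat_lit 3])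
) (.leaf [nat_lit 3,nat_lit 2,nat_lit 1,nat_lit 3,nat_lit 2,nat_lit 1,nat_lit 2,nat_lit 1,nat_lit 2,nat_lit 1,nat_lit 3,nat_lit 2,nat_lit 0,nat_lit 0,nat_lit 3,nat_lit 0,nat_lit 0,nat_lit 3])
)) (.node (.node (.node (.leaf [nat_lit 2,nat_lit 1,nat_lit 2,nat_lit 0,nat_lit 3,nat_lit 0,nat_lit 2,nat_lit 0,nat_lit 0,nat_lit 0,nat_lit 3,nat_lit 1,nat_lit 3,nat_lit 2,nat_lit 1,nat_lit 1,nat_lit 3,nat_lit 2,nat_lit 3])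
 (.leaf [nat_lit 1,nat_lit 3,nat_lit 1,nat_lit 3,nat_lit 2,nat_lit 3,nat_lit 0,nat_lit 3,nat_lit 1,nat_lit 2,nat_lit 0,nat_lit 0,nat_lit 3,nat_lit 2,nat_lit 3,nat_lit 1,nat_lit 1,nat_lit 2])
) (.node (.leaf [nat_lit 2,nat_lit 3,nat_lit 0,nat_lit 0,nat_lit 0,nat_lit 2,nat_lit 3,nat_lit 1,nat_lit 2,nat_lit 3,nat_lit 0,nat_lit 0,nat_lit 2,nat_lit 3,nat_lit 1,nat_lit 1,nat_lit 1,nat_lit 3,nat_lit 2])
 (.leaf [nat_lit 4,nat_lit 2,nat_lit 1,nat_lit 3,nat_lit 1,nat_lit 3,nat_lit 1,nat_lit 1,nat_lit 1,nat_lit 2,nat_lit 3,nat_lit 0,nat_lit 3,nat_lit 2,nat_lit 0,nat_lit 2,nat_lit 0,nat_lit 0,nat_lit 2,nat_lit 1])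
)) (.node (.node (.leaf [nat_lit 4,nat_lit 3,nat_lit 0,nat_lit 3,nat_lit 2,nat_lit 1,nat_lit 3,nat_lit 1,nat_lit 3,nat_lit 0,nat_lit 0,nat_lit 3,nat_lit 2,nat_lit 1,nat_lit 1,nat_lit 1,nat_lit 3,nat_lit 0])
 (.leaf [nat_lit 5,nat_lit 1,nat_lit 3,nat_lit 2,nat_lit 1,nat_lit 1,nat_lit 1,nat_lit 3,nat_lit 2,nat_lit 0,nat_lit 3,nat_lit 0,nat_lit 0,nat_lit 3,nat_lit 2,nat_lit 3,nat_lit 1,nat_lit 1,nat_lit 3])
) (.leaf [nat_lit 3,nat_lit 2,nat_lit 3,nat_lit 0,nat_lit 3,nat_lit 1,nat_lit 2,nat_lit 3,nat_lit 1,nat_lit 3,nat_lit 1,nat_lit 1,nat_lit 1,nat_lit 2,nat_lit 3,nat_lit 1,nat_lit 3,nat_lit 1,nat_lit 1,nat_lit 3])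
))) (.node (.node (.node (.node (.leaf [])
 (.leaf [nat_lit 2])
) (.node (.leaf [nat_lit 4,nat_lit 2,nat_lit 0,nat_lit 3,nat_lit 1,nat_lit 2,nat_lit 0,nat_lit 0,nat_lit 0,nat_lit 2,nat_lit 3,nat_lit 1,nat_lit 3,nat_lit 2,nat_lit 3,nat_lit 2,nat_lit 0,nat_lit 0,nat_lit 3])
 (.leaf [nat_lit 4,nat_lit 0,nat_lit 2,nat_lit 3,nat_lit 0,nat_lit 2,nat_lit 3,nat_lit 1,nat_lit 3,nat_lit 1,nat_lit 2,nat_lit 0,nat_lit 0,nat_lit 2,nat_lit 0,nat_lit 3,nat_lit 1,nat_lit 1])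
)) (.node (.node (.leaf [nat_lit 1,nat_lit 2,nat_lit 0,nat_lit 2,nat_lit 0,nat_lit 3,nat_lit 2,nat_lit 1,nat_lit 3,nat_lit 0,nat_lit 2,nat_lit 3,nat_lit 0,nat_lit 2,nat_lit 0,nat_lit 2])
 (.leaf [nat_lit 4,nat_lit 0,nat_lit 3,nat_lit 0,nat_lit 2,nat_lit 0,nat_lit 2,nat_lit 1,nat_lit 1,nat_lit 2,nat_lit 3,nat_lit 1,nat_lit 2,nat_lit 3,nat_lit 0,nat_lit 2,nat_lit 1,nat_lit 3,nat_lit 2,nat_lit 3])
) (.leaf [nat_lit 5,nat_lit 2,nat_lit 0,nat_lit 2,nat_lit 1,nat_lit 1,nat_lit 1,nat_lit 2,nat_lit 0,nat_lit 0,nat_lit 0,nat_lit 2,nat_lit 3,nat_lit 2,nat_lit 3,nat_lit 2,nat_lit 0,nat_lit 2])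
)) (.node (.node (.node (.leaf [nat_lit 5,nat_lit 0,nat_lit 2,nat_lit 3,nat_lit 0,nat_lit 0,nat_lit 3,nat_lit 0,nat_lit 2,nat_lit 0,nat_lit 0,nat_lit 2,nat_lit 0,nat_lit 2,nat_lit 3,nat_lit 0,nat_lit 0,nat_lit 3,nat_lit 1,nat_lit 3,nat_lit 1])
 (.leaf [nat_lit 4,nat_lit 1,nat_lit 2,nat_lit 1,nat_lit 2,nat_lit 1,nat_lit 3,nat_lit 2,nat_lit 3,nat_lit 0,nat_lit 0,nat_lit 2,nat_lit 1,nat_lit 2,nat_lit 3,nat_lit 1,nat_lit 2,nat_lit 3,nat_lit 2,nat_lit 1])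
) (.node (.leaf [nat_lit 4,nat_lit 1,nat_lit 2,nat_lit 1,nat_lit 3,nat_lit 1,nat_lit 3,nat_lit 1,nat_lit 2,nat_lit 1,nat_lit 1,nat_lit 2,nat_lit 3,nat_lit 1,nat_lit 3,nat_lit 0,nat_lit 2,nat_lit 1,nat_lit 3])
 (.leaf [nat_lit 4,nat_lit 0,nat_lit 3,nat_lit 1,nat_lit 3,nat_lit 0,nat_lit 0,nat_lit 0,nat_lit 2,nat_lit 3,nat_lit 1,nat_lit 3,nat_lit 1,nat_lit 2,nat_lit 1,nat_lit 1,nat_lit 2,nat_lit 3,nat_lit 1,nat_lit 2])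
)) (.node (.node (.leaf [nat_lit 5,nat_lit 3,nat_lit 1,nat_lit 3,nat_lit 2,nat_lit 0,nat_lit 0,nat_lit 0,nat_lit 3,nat_lit 2,nat_lit 0,nat_lit 3,nat_lit 0,nat_lit 2,nat_lit 1,nat_lit 3,nat_lit 0,nat_lit 0])
 (.leaf [nat_lit 4,nat_lit 2,nat_lit 1,nat_lit 2,nat_lit 3,nat_lit 0,nat_lit 3,nat_lit 2,nat_lit 1,nat_lit 1,nat_lit 3,nat_lit 1,nat_lit 3,nat_lit 0,nat_lit 0,nat_lit 2,nat_lit 3,nat_lit 1,nat_lit 2,nat_lit 3,nat_lit 2])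
) (.leaf [nat_lit 0,nat_lit 0,nat_lit 0,nat_lit 2,nat_lit 3,nat_lit 1,nat_lit 1,nat_lit 1,nat_lit 3,nat_lit 2,nat_lit 1,nat_lit 2,nat_lit 3,nat_lit 2,nat_lit 1,nat_lit 3,nat_lit 0,nat_lit 3,nat_lit 2])
)))) (.node (.node (.node (.node (.node (.leaf [nat_lit 2,nat_lit 0,nat_lit 2,nat_lit 1,nat_lit 3,nat_lit 1,nat_lit 1,nat_lit 3,nat_lit 1,nat_lit 1,nat_lit 3,nat_lit 0,nat_lit 0,nat_lit 2,nat_lit 3,nat_lit 1,nat_lit 1,nat_lit 1])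
 (.leaf [nat_lit 0,nat_lit 0,nat_lit 3,nat_lit 2,nat_lit 0,nat_lit 3,nat_lit 0,nat_lit 0,nat_lit 3,nat_lit 2,nat_lit 1,nat_lit 3,nat_lit 0,nat_lit 0,nat_lit 0,nat_lit 3,nat_lit 1,nat_lit 2,nat_lit 3])
) (.node (.leaf [nat_lit 5,nat_lit 3,nat_lit 1,nat_lit 1,nat_lit 1,nat_lit 3,nat_lit 0,nat_lit 2,nat_lit 3,nat_lit 1,nat_lit 2,nat_lit 3,nat_lit 0,nat_lit 2,nat_lit 3,nat_lit 0,nat_lit 3,nat_lit 0,nat_lit 2,nat_lit 0])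
 (.leaf [nat_lit 5,nat_lit 0,nat_lit 0,nat_lit 0,nat_lit 2,nat_lit 0,nat_lit 2,nat_lit 0,nat_lit 0,nat_lit 2,nat_lit 0,nat_lit 2,nat_lit 3,nat_lit 2,nat_lit 0,nat_lit 3,nat_lit 2])
)) (.node (.node (.leaf [nat_lit 4,nat_lit 0,nat_lit 2,nat_lit 0,nat_lit 2,nat_lit 1,nat_lit 2,nat_lit 3,nat_lit 1,nat_lit 1,nat_lit 3,nat_lit 1,nat_lit 3,nat_lit 2,nat_lit 0,nat_lit 0,nat_lit 3,nat_lit 1,nat_lit 1,nat_lit 1,nat_lit 2])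
 (.leaf [nat_lit 4,nat_lit 0,nat_lit 2,nat_lit 0,nat_lit 0,nat_lit 3,nat_lit 0,nat_lit 0,nat_lit 3,nat_lit 1,nat_lit 1,nat_lit 1,nat_lit 3,nat_lit 1,nat_lit 2,nat_lit 0,nat_lit 3,nat_lit 2,nat_lit 3])
) (.leaf [nat_lit 5,nat_lit 3,nat_lit 0,nat_lit 3,nat_lit 1,nat_lit 2,nat_lit 1,nat_lit 2,nat_lit 1,nat_lit 2,nat_lit 0,nat_lit 2,nat_lit 3,nat_lit 2,nat_lit 0,nat_lit 2,nat_lit 1,nat_lit 2,nat_lit 1,nat_lit 3])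
)) (.node (.node (.node (.leaf [nat_lit 4,nat_lit 1,nat_lit 2,nat_lit 0,nat_lit 2,nat_lit 3,nat_lit 1,nat_lit 1,nat_lit 3,nat_lit 0,nat_lit 0,nat_lit 3,nat_lit 0,nat_lit 2,nat_lit 1,nat_lit 3,nat_lit 2,nat_lit 0,nat_lit 2,nat_lit 0])
 (.leaf [nat_lit 5,nat_lit 0,nat_lit 2,nat_lit 0,nat_lit 2,nat_lit 1,nat_lit 3,nat_lit 1,nat_lit 2,nat_lit 1,nat_lit 3,nat_lit 1,nat_lit 1,nat_lit 2,nat_lit 3,nat_lit 0,nat_lit 2,nat_lit 1,nat_lit 1,nat_lit 2,nat_lit 1,nat_lit 3])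
) (.node (.leaf [nat_lit 1,nat_lit 2,nat_lit 1,nat_lit 3,nat_lit 2,nat_lit 0,nat_lit 0,nat_lit 3,nat_lit 0,nat_lit 2,nat_lit 1,nat_lit 3,nat_lit 2,nat_lit 0,nat_lit 0,nat_lit 0,nat_lit 2,nat_lit 1,nat_lit 3])
 (.leaf [nat_lit 3,nat_lit 1,nat_lit 1,nat_lit 2,nat_lit 3,nat_lit 2,nat_lit 1,nat_lit 1,nat_lit 2,nat_lit 1,nat_lit 1,nat_lit 3,nat_lit 1,nat_lit 2,nat_lit 1,nat_lit 3,nat_lit 0,nat_lit 3,nat_lit 0,nat_lit 0])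
)) (.node (.node (.leaf [nat_lit 5,nat_lit 1,nat_lit 3,nat_lit 2,nat_lit 1,nat_lit 3,nat_lit 1,nat_lit 1,nat_lit 1,nat_lit 3,nat_lit 1,nat_lit 1,nat_lit 2,nat_lit 3,nat_lit 2,nat_lit 1,nat_lit 2,nat_lit 1,nat_lit 2,nat_lit 3])
 (.leaf [nat_lit 0,nat_lit 0,nat_lit 3,nat_lit 0,nat_lit 0,nat_lit 0,nat_lit 3,nat_lit 1,nat_lit 2,nat_lit 3,nat_lit 1,nat_lit 3,nat_lit 2,nat_lit 1,nat_lit 2,nat_lit 1,nat_lit 1,nat_lit 1,nat_lit 3])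
) (.leaf [nat_lit 1,nat_lit 2,nat_lit 0,nat_lit 3,nat_lit 1,nat_lit 3,nat_lit 1,nat_lit 1,nat_lit 2,nat_lit 3,nat_lit 2,nat_lit 1,nat_lit 3,nat_lit 2,nat_lit 0,nat_lit 0,nat_lit 2,nat_lit 3,nat_lit 2,nat_lit 3])
))) (.node (.node (.node (.node (.leaf [])
 (.leaf [nat_lit 3,nat_lit 2,nat_lit 0,nat_lit 3,nat_lit 0,nat_lit 0,nat_lit 3,nat_lit 2,nat_lit 3,nat_lit 2,nat_lit 1,nat_lit 2,nat_lit 0,nat_lit 3,nat_lit 1,nat_lit 3,nat_lit 2])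
) (.node (.leaf [nat_lit 5,nat_lit 0,nat_lit 3,nat_lit 0,nat_lit 2,nat_lit 0,nat_lit 2,nat_lit 0,nat_lit 2,nat_lit 1,nat_lit 3,nat_lit 0,nat_lit 0,nat_lit 2,nat_lit 3,nat_lit 1,nat_lit 1,nat_lit 1,nat_lit 3,nat_lit 1])
 (.leaf [nat_lit 5,nat_lit 2,nat_lit 1,nat_lit 3,nat_lit 1,nat_lit 1,nat_lit 3,nat_lit 0,nat_lit 2,nat_lit 0,nat_lit 3,nat_lit 2,nat_lit 0,nat_lit 0,nat_lit 2,nat_lit 0,nat_lit 0,nat_lit 3,nat_lit 0,nat_lit 3])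
)) (.node (.node (.leaf [nat_lit 3,nat_lit 1,nat_lit 1,nat_lit 2,nat_lit 1,nat_lit 1,nat_lit 1,nat_lit 2,nat_lit 3,nat_lit 1,nat_lit 1,nat_lit 1,nat_lit 2,nat_lit 0,nat_lit 3,nat_lit 0,nat_lit 0,nat_lit 2])
 (.leaf [nat_lit 4,nat_lit 2,nat_lit 0,nat_lit 3,nat_lit 1,nat_lit 2,nat_lit 3,nat_lit 2,nat_lit 3,nat_lit 1,nat_lit 1,nat_lit 2,nat_lit 0,nat_lit 0,nat_lit 3,nat_lit 0,nat_lit 2,nat_lit 1,nat_lit 1,nat_lit 3,nat_lit 0])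
) (.leaf [nat_lit 4,nat_lit 0,nat_lit 3,nat_lit 2,nat_lit 3,nat_lit 1,nat_lit 1,nat_lit 2,nat_lit 3,nat_lit 0,nat_lit 2,nat_lit 1,nat_lit 3,nat_lit 1,nat_lit 1,nat_lit 2,nat_lit 1,nat_lit 1,nat_lit 1,nat_lit 2])
)) (.node (.node (.node (.leaf [nat_lit 3,nat_lit 0,nat_lit 3,nat_lit 1,nat_lit 3,nat_lit 1,nat_lit 1,nat_lit 3,nat_lit 0,nat_lit 3,nat_lit 0,nat_lit 2,nat_lit 1,nat_lit 2,nat_lit 1,nat_lit 3,nat_lit 1,nat_lit 2])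
 (.leaf [nat_lit 4,nat_lit 3,nat_lit 0,nat_lit 0,nat_lit 0,nat_lit 2,nat_lit 1,nat_lit 2,nat_lit 3,nat_lit 1,nat_lit 1,nat_lit 2,nat_lit 3,nat_lit 1,nat_lit 1,nat_lit 1,nat_lit 2,nat_lit 0,nat_lit 2,nat_lit 1,nat_lit 1])
) (.leaf [nat_lit 4,nat_lit 2,nat_lit 1,nat_lit 3,nat_lit 2,nat_lit 1,nat_lit 1,nat_lit 3,nat_lit 1,nat_lit 2,nat_lit 0,nat_lit 3,nat_lit 2,nat_lit 3,nat_lit 2,nat_lit 1,nat_lit 2,nat_lit 3,nat_lit 1,nat_lit 3])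
) (.node (.node (.leaf [nat_lit 0,nat_lit 2,nat_lit 0,nat_lit 2,nat_lit 0,nat_lit 0,nat_lit 3,nat_lit 2,nat_lit 1,nat_lit 3,nat_lit 2,nat_lit 3,nat_lit 1,nat_lit 3,nat_lit 1,nat_lit 1,nat_lit 1,nat_lit 2,nat_lit 1])
 (.leaf [nat_lit 4,nat_lit 2,nat_lit 1,nat_lit 3,nat_lit 2,nat_lit 1,nat_lit 2,nat_lit 0,nat_lit 3,nat_lit 2,nat_lit 1,nat_lit 2,nat_lit 3,nat_lit 0,nat_lit 3,nat_lit 2,nat_lit 0,nat_lit 3,nat_lit 1])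
) (.leaf [nat_lit 5,nat_lit 3,nat_lit 1,nat_lit 2,nat_lit 3,nat_lit 0,nat_lit 0,nat_lit 2,nat_lit 0,nat_lit 0,nat_lit 3,nat_lit 1,nat_lit 2,nat_lit 0,nat_lit 0,nat_lit 3,nat_lit 0,nat_lit 0,nat_lit 2])
))))) (.node (.node (.node (.node (.node (.node (.leaf [nat_lit 0,nat_lit 2,nat_lit 1,nat_lit 1,nat_lit 1,nat_lit 2])
 (.leaf [nat_lit 5,nat_lit 2,nat_lit 3,nat_lit 1,nat_lit 1,nat_lit 2,nat_lit 0,nat_lit 3,nat_lit 2,nat_lit 0,nat_lit 3,nat_lit 2,nat_lit 3,nat_lit 2,nat_lit 1,nat_lit 1,nat_lit 1,nat_lit 3])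
) (.node (.leaf [])
 (.leaf [nat_lit 4,nat_lit 3,nat_lit 2,nat_lit 3,nat_lit 2,nat_lit 0,nat_lit 2,nat_lit 0,nat_lit 2,nat_lit 1,nat_lit 2,nat_lit 1,nat_lit 1,nat_lit 2,nat_lit 3,nat_lit 1,nat_lit 2,nat_lit 3,nat_lit 0,nat_lit 0])
)) (.node (.node (.leaf [nat_lit 3,nat_lit 1,nat_lit 3,nat_lit 1,nat_lit 1,nat_lit 2,nat_lit 1,nat_lit 2,nat_lit 3,nat_lit 0,nat_lit 3,nat_lit 0,nat_lit 0,nat_lit 3,nat_lit 1,nat_lit 3,nat_lit 2,nat_lit 3])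
 (.leaf [nat_lit 5,nat_lit 3,nat_lit 2,nat_lit 1,nat_lit 3,nat_lit 1,nat_lit 1,nat_lit 2,nat_lit 1,nat_lit 3,nat_lit 2,nat_lit 1,nat_lit 3,nat_lit 1,nat_lit 3,nat_lit 0,nat_lit 2,nat_lit 0,nat_lit 3,nat_lit 2,nat_lit 3,nat_lit 1])
) (.leaf [nat_lit 1,nat_lit 1,nat_lit 2,nat_lit 0,nat_lit 2,nat_lit 3,nat_lit 2,nat_lit 1,nat_lit 2,nat_lit 3,nat_lit 2,nat_lit 1,nat_lit 2,nat_lit 0,nat_lit 0,nat_lit 3,nat_lit 2])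
)) (.node (.node (.node (.leaf [nat_lit 1,nat_lit 3,nat_lit 2,nat_lit 3,nat_lit 2,nat_lit 1,nat_lit 3,nat_lit 0,nat_lit 0,nat_lit 2,nat_lit 0,nat_lit 0,nat_lit 2,nat_lit 3,nat_lit 2,nat_lit 1,nat_lit 1,nat_lit 3,nat_lit 2])
 (.leaf [nat_lit 1,nat_lit 3,nat_lit 2,nat_lit 3,nat_lit 2,nat_lit 0,nat_lit 3,nat_lit 0,nat_lit 2,nat_lit 0,nat_lit 3,nat_lit 1,nat_lit 2,nat_lit 3,nat_lit 0,nat_lit 2,nat_lit 0,nat_lit 3,nat_lit 1,nat_lit 3])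
) (.node (.leaf [nat_lit 3,nat_lit 1,nat_lit 2,nat_lit 1,nat_lit 1,nat_lit 3,nat_lit 1,nat_lit 3,nat_lit 2,nat_lit 1,nat_lit 3,nat_lit 1,nat_lit 1,nat_lit 3,nat_lit 2,nat_lit 1,nat_lit 3,nat_lit 2])
 (.leaf [nat_lit 3,nat_lit 1,nat_lit 1,nat_lit 2,nat_lit 3,nat_lit 2,nat_lit 0,nat_lit 3,nat_lit 1,nat_lit 2,nat_lit 3,nat_lit 0,nat_lit 3,nat_lit 2,nat_lit 3,nat_lit 2,nat_lit 1,nat_lit 3])
)) (.node (.node (.leaf [nat_lit 4,nat_lit 1,nat_lit 2,nat_lit 1,nat_lit 3,nat_lit 0,nat_lit 2,nat_lit 0,nat_lit 2,nat_lit 0,nat_lit 2,nat_lit 3,nat_lit 0,nat_lit 3,nat_lit 1,nat_lit 1,nat_lit 3,nat_lit 1,nat_lit 2,nat_lit 0,nat_lit 0])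
 (.leaf [nat_lit 4,nat_lit 3,nat_lit 2,nat_lit 1,nat_lit 3,nat_lit 0,nat_lit 0,nat_lit 0,nat_lit 3,nat_lit 0,nat_lit 3,nat_lit 2,nat_lit 3,nat_lit 2,nat_lit 0,nat_lit 0,nat_lit 3,nat_lit 1])
) (.leaf [nat_lit 4,nat_lit 2,nat_lit 3,nat_lit 1,nat_lit 1,nat_lit 2,nat_lit 0,nat_lit 2,nat_lit 0,nat_lit 0,nat_lit 2,nat_lit 3,nat_lit 1,nat_lit 1,nat_lit 3,nat_lit 0,nat_lit 2,nat_lit 3,nat_lit 0,nat_lit 0,nat_lit 3])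
))) (.node (.node (.node (.node (.leaf [nat_lit 4,nat_lit 3,nat_lit 1,nat_lit 2,nat_lit 3,nat_lit 0,nat_lit 2,nat_lit 1,nat_lit 2,nat_lit 0,nat_lit 3,nat_lit 0,nat_lit 0,nat_lit 3,nat_lit 1,nat_lit 1,nat_lit 1,nat_lit 3,nat_lit 2,nat_lit 1,nat_lit 3])
 (.leaf [nat_lit 5,nat_lit 0,nat_lit 2,nat_lit 0,nat_lit 3,nat_lit 1,nat_lit 1,nat_lit 1,nat_lit 3,nat_lit 2,nat_lit 1,nat_lit 2,nat_lit 1,nat_lit 1,nat_lit 3,nat_lit 1,nat_lit 1,nat_lit 2,nat_lit 0])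
) (.node (.leaf [nat_lit 5,nat_lit 0,nat_lit 2,nat_lit 1,nat_lit 2,nat_lit 1,nat_lit 3,nat_lit 1,nat_lit 1,nat_lit 1,nat_lit 2,nat_lit 3,nat_lit 2,nat_lit 3,nat_lit 2,nat_lit 0,nat_lit 2,nat_lit 3])
 (.leaf [nat_lit 5,nat_lit 2,nat_lit 0,nat_lit 2,nat_lit 1,nat_lit 1,nat_lit 1,nat_lit 2,nat_lit 0,nat_lit 0,nat_lit 0,nat_lit 2,nat_lit 3,nat_lit 2,nat_lit 3,nat_lit 2,nat_lit 0,nat_lit 2])
)) (.node (.node (.leaf [nat_lit 3,nat_lit 1,nat_lit 3,nat_lit 2,nat_lit 3,nat_lit 2,nat_lit 1,nat_lit 1,nat_lit 3,nat_lit 2,nat_lit 3,nat_lit 0,nat_lit 2,nat_lit 0,nat_lit 0,nat_lit 0,nat_lit 3,nat_lit 2,nat_lit 0])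
 (.leaf [nat_lit 3,nat_lit 1,nat_lit 3,nat_lit 0,nat_lit 0,nat_lit 2,nat_lit 0,nat_lit 0,nat_lit 2,nat_lit 1,nat_lit 1,nat_lit 1,nat_lit 3,nat_lit 1,nat_lit 1,nat_lit 2,nat_lit 3,nat_lit 0])
) (.leaf [nat_lit 5,nat_lit 3,nat_lit 0,nat_lit 2,nat_lit 0,nat_lit 3,nat_lit 2,nat_lit 1,nat_lit 3,nat_lit 0,nat_lit 3,nat_lit 1,nat_lit 2,nat_lit 1,nat_lit 2,nat_lit 0,nat_lit 3,nat_lit 1,nat_lit 2,nat_lit 0])
)) (.node (.node (.node (.leaf [nat_lit 4,nat_lit 0,nat_lit 2,nat_lit 0,nat_lit 0,nat_lit 3,nat_lit 0,nat_lit 0,nat_lit 3,nat_lit 1,nat_lit 1,nat_lit 1,nat_lit 3,nat_lit 1,nat_lit 2,nat_lit 0,nat_lit 3,nat_lit 2,nat_lit 3])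
 (.leaf [nat_lit 4,nat_lit 3,nat_lit 1,nat_lit 3,nat_lit 1,nat_lit 2,nat_lit 0,nat_lit 3,nat_lit 0,nat_lit 0,nat_lit 3,nat_lit 1,nat_lit 1,nat_lit 2,nat_lit 1])
) (.node (.leaf [nat_lit 3,nat_lit 2,nat_lit 0,nat_lit 3,nat_lit 0,nat_lit 3,nat_lit 1,nat_lit 3,nat_lit 0,nat_lit 2,nat_lit 3,nat_lit 0,nat_lit 2,nat_lit 1,nat_lit 2,nat_lit 0,nat_lit 3,nat_lit 1])
 (.leaf [nat_lit 5,nat_lit 2,nat_lit 3,nat_lit 0,nat_lit 2,nat_lit 1,nat_lit 2,nat_lit 1,nat_lit 2,nat_lit 1,nat_lit 3,nat_lit 1,nat_lit 3,nat_lit 0,nat_lit 2,nat_lit 1,nat_lit 3,nat_lit 2,nat_lit 1,nat_lit 3])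
)) (.node (.node (.leaf [nat_lit 3,nat_lit 2,nat_lit 0,nat_lit 0,nat_lit 3,nat_lit 0,nat_lit 0,nat_lit 2,nat_lit 0,nat_lit 3,nat_lit 2,nat_lit 3,nat_lit 2,nat_lit 0,nat_lit 2,nat_lit 1,nat_lit 1,nat_lit 3,nat_lit 0])
 (.leaf [nat_lit 1,nat_lit 3,nat_lit 1,nat_lit 3,nat_lit 2,nat_lit 1,nat_lit 3,nat_lit 0,nat_lit 0,nat_lit 3,nat_lit 0,nat_lit 3,nat_lit 1,nat_lit 1,nat_lit 2,nat_lit 1,nat_lit 3,nat_lit 2,nat_lit 0])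
) (.leaf [nat_lit 3,nat_lit 1,nat_lit 2,nat_lit 0,nat_lit 2,nat_lit 1,nat_lit 2,nat_lit 3,nat_lit 0,nat_lit 0,nat_lit 2,nat_lit 1,nat_lit 1,nat_lit 2,nat_lit 0,nat_lit 0,nat_lit 3])
)))) (.node (.node (.node (.node (.node (.leaf [nat_lit 5,nat_lit 0,nat_lit 2,nat_lit 3,nat_lit 1,nat_lit 3,nat_lit 0,nat_lit 3,nat_lit 0,nat_lit 0,nat_lit 0,nat_lit 2,nat_lit 0,nat_lit 3,nat_lit 0,nat_lit 2,nat_lit 3,nat_lit 0,nat_lit 0,nat_lit 2])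
 (.leaf [])
) (.node (.leaf [nat_lit 4,nat_lit 2,nat_lit 1,nat_lit 2,nat_lit 3,nat_lit 0,nat_lit 3,nat_lit 2,nat_lit 1,nat_lit 1,nat_lit 3,nat_lit 1,nat_lit 3,nat_lit 0,nat_lit 0,nat_lit 2,nat_lit 3,nat_lit 1,nat_lit 2,nat_lit 3,nat_lit 2])
 (.leaf [nat_lit 2,nat_lit 1,nat_lit 2,nat_lit 1,nat_lit 3,nat_lit 1,nat_lit 3,nat_lit 1,nat_lit 2,nat_lit 1,nat_lit 1,nat_lit 1,nat_lit 3,nat_lit 2,nat_lit 3,nat_lit 0,nat_lit 0])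
)) (.node (.node (.leaf [nat_lit 3,nat_lit 1,nat_lit 3,nat_lit 1,nat_lit 1,nat_lit 2,nat_lit 0,nat_lit 3,nat_lit 1,nat_lit 1,nat_lit 3,nat_lit 2,nat_lit 1,nat_lit 2,nat_lit 0,nat_lit 3,nat_lit 2,nat_lit 1])
 (.leaf [nat_lit 4,nat_lit 2,nat_lit 0,nat_lit 2,nat_lit 1,nat_lit 1,nat_lit 2,nat_lit 1,nat_lit 1,nat_lit 3,nat_lit 2,nat_lit 0,nat_lit 3,nat_lit 1,nat_lit 2,nat_lit 1,nat_lit 3,nat_lit 0,nat_lit 3])
) (.leaf [nat_lit 5,nat_lit 0,nat_lit 0,nat_lit 2,nat_lit 3,nat_lit 1,nat_lit 1,nat_lit 3,nat_lit 1,nat_lit 3,nat_lit 1,nat_lit 1,nat_lit 1,nat_lit 2,nat_lit 0,nat_lit 0,nat_lit 3,nat_lit 1,nat_lit 3,nat_lit 0,nat_lit 3])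
)) (.node (.node (.node (.leaf [nat_lit 5,nat_lit 2,nat_lit 0,nat_lit 2,nat_lit 0,nat_lit 0,nat_lit 3,nat_lit 1,nat_lit 3,nat_lit 1,nat_lit 1,nat_lit 1,nat_lit 3,nat_lit 2,nat_lit 3,nat_lit 0,nat_lit 3,nat_lit 2,nat_lit 0])
 (.leaf [nat_lit 5,nat_lit 2,nat_lit 1,nat_lit 2,nat_lit 1,nat_lit 1,nat_lit 3,nat_lit 1,nat_lit 3,nat_lit 1,nat_lit 2,nat_lit 1,nat_lit 3,nat_lit 1,nat_lit 3,nat_lit 1,nat_lit 2,nat_lit 0,nat_lit 3,nat_lit 2])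
) (.node (.leaf [nat_lit 5,nat_lit 1,nat_lit 1,nat_lit 2,nat_lit 3,nat_lit 1,nat_lit 2,nat_lit 0,nat_lit 2,nat_lit 3,nat_lit 0,nat_lit 2,nat_lit 3,nat_lit 0,nat_lit 0,nat_lit 0,nat_lit 3,nat_lit 2,nat_lit 3])
 (.leaf [nat_lit 5,nat_lit 3,nat_lit 0,nat_lit 2,nat_lit 1,nat_lit 3,nat_lit 1,nat_lit 2,nat_lit 1,nat_lit 1,nat_lit 3,nat_lit 1,nat_lit 3,nat_lit 2,nat_lit 1,nat_lit 1,nat_lit 1,nat_lit 3,nat_lit 0,nat_lit 3,nat_lit 1])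
)) (.node (.node (.leaf [nat_lit 4,nat_lit 3,nat_lit 2,nat_lit 1,nat_lit 2,nat_lit 0,nat_lit 3,nat_lit 1,nat_lit 3,nat_lit 0,nat_lit 3,nat_lit 2,nat_lit 1,nat_lit 3,nat_lit 1,nat_lit 1,nat_lit 2,nat_lit 1,nat_lit 2,nat_lit 3])
 (.leaf [nat_lit 4,nat_lit 0,nat_lit 2,nat_lit 0,nat_lit 2,nat_lit 1,nat_lit 2,nat_lit 3,nat_lit 1,nat_lit 1,nat_lit 3,nat_lit 1,nat_lit 3,nat_lit 2,nat_lit 0,nat_lit 0,nat_lit 3,nat_lit 1,nat_lit 1,nat_lit 1,nat_lit 2])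
) (.leaf [nat_lit 0,nat_lit 2,nat_lit 1,nat_lit 3,nat_lit 2,nat_lit 1,nat_lit 3,nat_lit 1,nat_lit 2,nat_lit 1,nat_lit 3,nat_lit 1,nat_lit 1,nat_lit 2,nat_lit 3,nat_lit 1,nat_lit 1,nat_lit 1,nat_lit 2])
))) (.node (.node (.node (.node (.leaf [nat_lit 4,nat_lit 1,nat_lit 1,nat_lit 3,nat_lit 1,nat_lit 2,nat_lit 1,nat_lit 3,nat_lit 0,nat_lit 2,nat_lit 0,nat_lit 0,nat_lit 2,nat_lit 3,nat_lit 2,nat_lit 0,nat_lit 2,nat_lit 1,nat_lit 1,nat_lit 2])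
 (.leaf [nat_lit 5,nat_lit 0,nat_lit 2,nat_lit 3,nat_lit 2,nat_lit 0,nat_lit 3,nat_lit 0,nat_lit 3,nat_lit 2,nat_lit 1,nat_lit 1,nat_lit 1,nat_lit 2,nat_lit 1,nat_lit 3,nat_lit 0,nat_lit 3])
) (.node (.leaf [nat_lit 5,nat_lit 0,nat_lit 0,nat_lit 3,nat_lit 2,nat_lit 3,nat_lit 1,nat_lit 2,nat_lit 3,nat_lit 2,nat_lit 0,nat_lit 3,nat_lit 0,nat_lit 3,nat_lit 1,nat_lit 2,nat_lit 0,nat_lit 3,nat_lit 2,nat_lit 3])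
 (.leaf [nat_lit 5,nat_lit 0,nat_lit 0,nat_lit 3,nat_lit 0,nat_lit 2,nat_lit 1,nat_lit 1,nat_lit 3,nat_lit 1,nat_lit 3,nat_lit 2,nat_lit 3,nat_lit 0,nat_lit 3,nat_lit 2,nat_lit 3,nat_lit 1,nat_lit 2])
)) (.node (.node (.leaf [nat_lit 5,nat_lit 2,nat_lit 3,nat_lit 0,nat_lit 3,nat_lit 2,nat_lit 1,nat_lit 2,nat_lit 3,nat_lit 0,nat_lit 2,nat_lit 0,nat_lit 3,nat_lit 2,nat_lit 1,nat_lit 1,nat_lit 3,nat_lit 0,nat_lit 0])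
 (.leaf [nat_lit 5,nat_lit 2,nat_lit 0,nat_lit 2,nat_lit 0,nat_lit 2,nat_lit 3,nat_lit 2,nat_lit 0,nat_lit 3,nat_lit 0,nat_lit 2,nat_lit 0,nat_lit 3,nat_lit 1,nat_lit 1,nat_lit 2])
) (.leaf [nat_lit 4,nat_lit 1,nat_lit 2,nat_lit 0,nat_lit 0,nat_lit 0,nat_lit 2,nat_lit 3,nat_lit 0,nat_lit 2,nat_lit 1,nat_lit 3,nat_lit 2,nat_lit 0,nat_lit 2,nat_lit 0,nat_lit 0,nat_lit 0,nat_lit 2,nat_lit 0,nat_lit 2])
)) (.node (.node (.node (.leaf [nat_lit 5,nat_lit 3,nat_lit 0,nat_lit 2,nat_lit 1,nat_lit 2,nat_lit 0,nat_lit 0,nat_lit 0,nat_lit 2,nat_lit 3,nat_lit 2,nat_lit 3,nat_lit 1,nat_lit 1,nat_lit 3,nat_lit 1,nat_lit 1,nat_lit 1])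
 (.leaf [nat_lit 0,nat_lit 2,nat_lit 3,nat_lit 0,nat_lit 0,nat_lit 2,nat_lit 1,nat_lit 3,nat_lit 0,nat_lit 2,nat_lit 1,nat_lit 1,nat_lit 1,nat_lit 3,nat_lit 1,nat_lit 3,nat_lit 0,nat_lit 0,nat_lit 3])
) (.leaf [nat_lit 2,nat_lit 0,nat_lit 3,nat_lit 1,nat_lit 3,nat_lit 2,nat_lit 1,nat_lit 3,nat_lit 0,nat_lit 0,nat_lit 0,nat_lit 3,nat_lit 0,nat_lit 3,nat_lit 2,nat_lit 3,nat_lit 2,nat_lit 1])
) (.node (.node (.leaf [nat_lit 4,nat_lit 2,nat_lit 0,nat_lit 0,nat_lit 2,nat_lit 0,nat_lit 0,nat_lit 2,nat_lit 0,nat_lit 0,nat_lit 0,nat_lit 2,nat_lit 1,nat_lit 3,nat_lit 2,nat_lit 1,nat_lit 1,nat_lit 2,nat_lit 3,nat_lit 1])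
 (.leaf [nat_lit 3,nat_lit 2,nat_lit 3,nat_lit 0,nat_lit 2,nat_lit 3,nat_lit 2,nat_lit 3,nat_lit 0,nat_lit 0,nat_lit 2,nat_lit 3,nat_lit 1,nat_lit 2,nat_lit 3,nat_lit 2,nat_lit 1])
) (.leaf [nat_lit 4,nat_lit 2,nat_lit 3,nat_lit 1,nat_lit 2,nat_lit 0,nat_lit 3,nat_lit 0,nat_lit 3,nat_lit 1,nat_lit 1,nat_lit 3,nat_lit 0,nat_lit 2,nat_lit 0,nat_lit 2,nat_lit 3,nat_lit 0,nat_lit 2,nat_lit 0])
))))))
noncomputable def Fh5 : LT :=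
(.node (.node (.node (.node (.node (.node (.node (.leaf [])
 (.leaf [nat_lit 4,nat_lit 2,nat_lit 1,nat_lit 3,nat_lit 1,nat_lit 3,nat_lit 1,nat_lit 1,nat_lit 1,nat_lit 2,nat_lit 3,nat_lit 0,nat_lit 3,nat_lit 2,nat_lit 0,nat_lit 2,nat_lit 0,nat_lit 0,nat_lit 2,nat_lit 1])
) (.node (.leaf [nat_lit 1,nat_lit 2,nat_lit 1,nat_lit 2,nat_lit 1,nat_lit 1,nat_lit 2,nat_lit 1,nat_lit 2,nat_lit 3,nat_lit 2,nat_lit 0,nat_lit 0,nat_lit 2,nat_lit 0,nat_lit 0,nat_lit 0,nat_lit 2,nat_lit 3,nat_lit 2,nat_lit 0])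
 (.leaf [nat_lit 19,nat_lit 3,nat_lit 0,nat_lit 3,nat_lit 2,nat_lit 3,nat_lit 0,nat_lit 2,nat_lit 1,nat_lit 1,nat_lit 2,nat_lit 3,nat_lit 0,nat_lit 3,nat_lit 2,nat_lit 0,nat_lit 2,nat_lit 0,nat_lit 0,nat_lit 2,nat_lit 0])
)) (.node (.node (.leaf [nat_lit 5,nat_lit 1,nat_lit 3,nat_lit 2,nat_lit 1,nat_lit 1,nat_lit 1,nat_lit 3,nat_lit 2,nat_lit 0,nat_lit 3,nat_lit 0,nat_lit 0,nat_lit 3,nat_lit 2,nat_lit 3,nat_lit 1,nat_lit 1,nat_lit 3])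
 (.leaf [nat_lit 19,nat_lit 4,nat_lit 3,nat_lit 1,nat_lit 2,nat_lit 3,nat_lit 0,nat_lit 2,nat_lit 1,nat_lit 2,nat_lit 0,nat_lit 3,nat_lit 0,nat_lit 0,nat_lit 3,nat_lit 1,nat_lit 1,nat_lit 1,nat_lit 3,nat_lit 2,nat_lit 1,nat_lit 3])
) (.leaf [nat_lit 5,nat_lit 2,nat_lit 0,nat_lit 3,nat_lit 0,nat_lit 2,nat_lit 3,nat_lit 2,nat_lit 1,nat_lit 1,nat_lit 3,nat_lit 1,nat_lit 2,nat_lit 3,nat_lit 1,nat_lit 3,nat_lit 1,nat_lit 2,nat_lit 1,nat_lit 1])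
)) (.node (.node (.node (.leaf [nat_lit 5,nat_lit 2,nat_lit 3,nat_lit 1,nat_lit 3,nat_lit 0,nat_lit 0,nat_lit 3,nat_lit 2,nat_lit 0,nat_lit 0,nat_lit 0,nat_lit 3,nat_lit 1,nat_lit 2,nat_lit 1,nat_lit 1,nat_lit 2])
 (.leaf [nat_lit 19,nat_lit 1,nat_lit 3,nat_lit 1,nat_lit 3,nat_lit 2,nat_lit 3,nat_lit 0,nat_lit 3,nat_lit 1,nat_lit 2,nat_lit 0,nat_lit 0,nat_lit 3,nat_lit 2,nat_lit 3,nat_lit 1,nat_lit 1,nat_lit 2])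
) (.node (.leaf [nat_lit 5,nat_lit 0,nat_lit 2,nat_lit 0,nat_lit 2,nat_lit 1,nat_lit 3,nat_lit 1,nat_lit 2,nat_lit 1,nat_lit 3,nat_lit 1,nat_lit 1,nat_lit 2,nat_lit 3,nat_lit 0,nat_lit 2,nat_lit 1,nat_lit 1,nat_lit 2,nat_lit 1,nat_lit 3])
 (.leaf [nat_lit 19,nat_lit 4,nat_lit 2,nat_lit 1,nat_lit 3,nat_lit 1,nat_lit 3,nat_lit 1,nat_lit 1,nat_lit 1,nat_lit 2,nat_lit 3,nat_lit 0,nat_lit 3,nat_lit 2,nat_lit 0,nat_lit 2,nat_lit 0,nat_lit 0,nat_lit 2,nat_lit 1])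
)) (.node (.node (.leaf [nat_lit 5,nat_lit 2,nat_lit 0,nat_lit 0,nat_lit 0,nat_lit 2,nat_lit 1,nat_lit 2,nat_lit 1,nat_lit 3,nat_lit 2,nat_lit 0,nat_lit 2,nat_lit 3,nat_lit 1,nat_lit 2,nat_lit 0,nat_lit 3])
 (.leaf [nat_lit 19,nat_lit 5,nat_lit 1,nat_lit 3,nat_lit 2,nat_lit 1,nat_lit 1,nat_lit 1,nat_lit 3,nat_lit 2,nat_lit 0,nat_lit 3,nat_lit 0,nat_lit 0,nat_lit 3,nat_lit 2,nat_lit 3,nat_lit 1,nat_lit 1,nat_lit 3])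
) (.leaf [nat_lit 5,nat_lit 1,nat_lit 3,nat_lit 1,nat_lit 3,nat_lit 0,nat_lit 2,nat_lit 0,nat_lit 3,nat_lit 1,nat_lit 2,nat_lit 0,nat_lit 3,nat_lit 1,nat_lit 3,nat_lit 0,nat_lit 0,nat_lit 0,nat_lit 2,nat_lit 0,nat_lit 3])
))) (.node (.node (.node (.node (.leaf [])
 (.leaf [nat_lit 19,nat_lit 2])
) (.node (.leaf [nat_lit 3,nat_lit 1,nat_lit 3,nat_lit 0,nat_lit 0,nat_lit 2,nat_lit 1,nat_lit 3,nat_lit 1,nat_lit 1,nat_lit 1,nat_lit 2,nat_lit 0,nat_lit 3,nat_lit 0,nat_lit 2,nat_lit 1,nat_lit 3,nat_lit 1])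
 (.leaf [nat_lit 19,nat_lit 4,nat_lit 0,nat_lit 2,nat_lit 3,nat_lit 0,nat_lit 2,nat_lit 3,nat_lit 1,nat_lit 3,nat_lit 1,nat_lit 2,nat_lit 0,nat_lit 0,nat_lit 2,nat_lit 0,nat_lit 3,nat_lit 1,nat_lit 1])
)) (.node (.node (.leaf [nat_lit 4,nat_lit 3,nat_lit 1,nat_lit 3,nat_lit 1,nat_lit 2,nat_lit 0,nat_lit 3,nat_lit 0,nat_lit 0,nat_lit 3,nat_lit 1,nat_lit 1,nat_lit 2,nat_lit 1])
 (.leaf [nat_lit 19,nat_lit 4,nat_lit 0,nat_lit 3,nat_lit 0,nat_lit 2,nat_lit 0,nat_lit 2,nat_lit 1,nat_lit 1,nat_lit 2,nat_lit 3,nat_lit 1,nat_lit 2,nat_lit 3,nat_lit 0,nat_lit 2,nat_lit 1,nat_lit 3,nat_lit 2,nat_lit 3])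
) (.leaf [nat_lit 5,nat_lit 2,nat_lit 1,nat_lit 3,nat_lit 0,nat_lit 2,nat_lit 3,nat_lit 2,nat_lit 1,nat_lit 2,nat_lit 0,nat_lit 0,nat_lit 0,nat_lit 3,nat_lit 1,nat_lit 2,nat_lit 1,nat_lit 3,nat_lit 2])
)) (.node (.node (.node (.leaf [nat_lit 4,nat_lit 2,nat_lit 3,nat_lit 0,nat_lit 2,nat_lit 1,nat_lit 1,nat_lit 1,nat_lit 3,nat_lit 0,nat_lit 3,nat_lit 2,nat_lit 3,nat_lit 0,nat_lit 0,nat_lit 0,nat_lit 2,nat_lit 3,nat_lit 0,nat_lit 3])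
 (.leaf [nat_lit 19,nat_lit 4,nat_lit 1,nat_lit 2,nat_lit 1,nat_lit 2,nat_lit 1,nat_lit 3,nat_lit 2,nat_lit 3,nat_lit 0,nat_lit 0,nat_lit 2,nat_lit 1,nat_lit 2,nat_lit 3,nat_lit 1,nat_lit 2,nat_lit 3,nat_lit 2,nat_lit 1])
) (.node (.leaf [nat_lit 2,nat_lit 0,nat_lit 3,nat_lit 2,nat_lit 3,nat_lit 1,nat_lit 2,nat_lit 0,nat_lit 2,nat_lit 1,nat_lit 2,nat_lit 1,nat_lit 2,nat_lit 3,nat_lit 1,nat_lit 1])
 (.leaf [nat_lit 19,nat_lit 4,nat_lit 0,nat_lit 3,nat_lit 1,nat_lit 3,nat_lit 0,nat_lit 0,nat_lit 0,nat_lit 2,nat_lit 3,nat_lit 1,nat_lit 3,nat_lit 1,nat_lit 2,nat_lit 1,nat_lit 1,nat_lit 2,nat_lit 3,nat_lit 1,nat_lit 2])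
)) (.node (.node (.leaf [nat_lit 5,nat_lit 1,nat_lit 3,nat_lit 1,nat_lit 1,nat_lit 3,nat_lit 2,nat_lit 0,nat_lit 3,nat_lit 0,nat_lit 3,nat_lit 1,nat_lit 3,nat_lit 2,nat_lit 1,nat_lit 2,nat_lit 0])
 (.leaf [nat_lit 19,nat_lit 4,nat_lit 2,nat_lit 1,nat_lit 2,nat_lit 3,nat_lit 0,nat_lit 3,nat_lit 2,nat_lit 1,nat_lit 1,nat_lit 3,nat_lit 1,nat_lit 3,nat_lit 0,nat_lit 0,nat_lit 2,nat_lit 3,nat_lit 1,nat_lit 2,nat_lit 3,nat_lit 2])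
) (.leaf [nat_lit 4,nat_lit 1,nat_lit 1,nat_lit 2,nat_lit 0,nat_lit 2,nat_lit 0,nat_lit 3,nat_lit 2,nat_lit 0,nat_lit 2,nat_lit 3,nat_lit 0,nat_lit 2,nat_lit 0,nat_lit 0,nat_lit 3,nat_lit 2])
)))) (.node (.node (.node (.node (.node (.leaf [nat_lit 2,nat_lit 0,nat_lit 2,nat_lit 1,nat_lit 3,nat_lit 1,nat_lit 1,nat_lit 3,nat_lit 1,nat_lit 1,nat_lit 3,nat_lit 0,nat_lit 0,nat_lit 2,nat_lit 3,nat_lit 1,nat_lit 1,nat_lit 1])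
 (.leaf [nat_lit 4,nat_lit 2,nat_lit 0,nat_lit 0,nat_lit 2,nat_lit 0,nat_lit 2,nat_lit 0,nat_lit 0,nat_lit 3,nat_lit 0,nat_lit 0,nat_lit 3,nat_lit 0,nat_lit 3,nat_lit 2,nat_lit 1,nat_lit 3,nat_lit 1])
) (.node (.leaf [nat_lit 4,nat_lit 2,nat_lit 0,nat_lit 3,nat_lit 1,nat_lit 2,nat_lit 3,nat_lit 0,nat_lit 0,nat_lit 3,nat_lit 0,nat_lit 0,nat_lit 0,nat_lit 3,nat_lit 2,nat_lit 0,nat_lit 2,nat_lit 3,nat_lit 2,nat_lit 1])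
 (.leaf [nat_lit 19,nat_lit 5,nat_lit 0,nat_lit 0,nat_lit 0,nat_lit 2,nat_lit 0,nat_lit 2,nat_lit 0,nat_lit 0,nat_lit 2,nat_lit 0,nat_lit 2,nat_lit 3,nat_lit 2,nat_lit 0,nat_lit 3,nat_lit 2])
)) (.node (.node (.leaf [nat_lit 4,nat_lit 2,nat_lit 0,nat_lit 0,nat_lit 3,nat_lit 2,nat_lit 1,nat_lit 2,nat_lit 3,nat_lit 1,nat_lit 2,nat_lit 1,nat_lit 1,nat_lit 1,nat_lit 3,nat_lit 0,nat_lit 2,nat_lit 0,nat_lit 3,nat_lit 0,nat_lit 2,nat_lit 1])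
 (.leaf [nat_lit 19,nat_lit 4,nat_lit 0,nat_lit 2,nat_lit 0,nat_lit 0,nat_lit 3,nat_lit 0,nat_lit 0,nat_lit 3,nat_lit 1,nat_lit 1,nat_lit 1,nat_lit 3,nat_lit 1,nat_lit 2,nat_lit 0,nat_lit 3,nat_lit 2,nat_lit 3])
) (.leaf [nat_lit 4,nat_lit 0,nat_lit 0,nat_lit 2,nat_lit 0,nat_lit 3,nat_lit 2,nat_lit 0,nat_lit 2,nat_lit 0,nat_lit 2,nat_lit 1,nat_lit 2,nat_lit 3,nat_lit 2,nat_lit 0,nat_lit 3])
)) (.node (.node (.node (.leaf [nat_lit 2,nat_lit 1,nat_lit 2,nat_lit 0,nat_lit 3,nat_lit 2,nat_lit 1,nat_lit 2,nat_lit 1,nat_lit 1,nat_lit 3,nat_lit 1,nat_lit 2,nat_lit 3,nat_lit 2,nat_lit 0,nat_lit 0,nat_lit 2])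
 (.leaf [nat_lit 19,nat_lit 5,nat_lit 0,nat_lit 2,nat_lit 0,nat_lit 2,nat_lit 1,nat_lit 3,nat_lit 1,nat_lit 2,nat_lit 1,nat_lit 3,nat_lit 1,nat_lit 1,nat_lit 2,nat_lit 3,nat_lit 0,nat_lit 2,nat_lit 1,nat_lit 1,nat_lit 2,nat_lit 1,nat_lit 3])
) (.node (.leaf [nat_lit 5,nat_lit 0,nat_lit 2,nat_lit 0,nat_lit 2,nat_lit 3,nat_lit 0,nat_lit 3,nat_lit 0,nat_lit 0,nat_lit 3,nat_lit 1,nat_lit 2,nat_lit 3,nat_lit 0,nat_lit 2,nat_lit 3,nat_lit 1,nat_lit 3])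
 (.leaf [nat_lit 19,nat_lit 3,nat_lit 1,nat_lit 1,nat_lit 2,nat_lit 3,nat_lit 2,nat_lit 1,nat_lit 1,nat_lit 2,nat_lit 1,nat_lit 1,nat_lit 3,nat_lit 1,nat_lit 2,nat_lit 1,nat_lit 3,nat_lit 0,nat_lit 3,nat_lit 0,nat_lit 0])
)) (.node (.node (.leaf [nat_lit 4,nat_lit 2,nat_lit 1,nat_lit 1,nat_lit 1,nat_lit 2,nat_lit 1,nat_lit 2,nat_lit 3,nat_lit 2,nat_lit 0,nat_lit 2,nat_lit 1,nat_lit 3,nat_lit 2,nat_lit 1,nat_lit 1,nat_lit 1])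
 (.leaf [nat_lit 19,nat_lit 0,nat_lit 0,nat_lit 3,nat_lit 0,nat_lit 0,nat_lit 0,nat_lit 3,nat_lit 1,nat_lit 2,nat_lit 3,nat_lit 1,nat_lit 3,nat_lit 2,nat_lit 1,nat_lit 2,nat_lit 1,nat_lit 1,nat_lit 1,nat_lit 3])
) (.leaf [nat_lit 2,nat_lit 1,nat_lit 1,nat_lit 3,nat_lit 1,nat_lit 2,nat_lit 0,nat_lit 2,nat_lit 3,nat_lit 1,nat_lit 3,nat_lit 2,nat_lit 3,nat_lit 2,nat_lit 0,nat_lit 3,nat_lit 1])
))) (.node (.node (.node (.node (.leaf [])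
 (.leaf [nat_lit 19,nat_lit 3,nat_lit 2,nat_lit 0,nat_lit 3,nat_lit 0,nat_lit 0,nat_lit 3,nat_lit 2,nat_lit 3,nat_lit 2,nat_lit 1,nat_lit 2,nat_lit 0,nat_lit 3,nat_lit 1,nat_lit 3,nat_lit 2])
) (.node (.leaf [nat_lit 0,nat_lit 2,nat_lit 0,nat_lit 3,nat_lit 1,nat_lit 1,nat_lit 3,nat_lit 2,nat_lit 1,nat_lit 3,nat_lit 1,nat_lit 2,nat_lit 3,nat_lit 1,nat_lit 1,nat_lit 2,nat_lit 1,nat_lit 2])
 (.leaf [nat_lit 19,nat_lit 5,nat_lit 2,nat_lit 1,nat_lit 3,nat_lit 1,nat_lit 1,nat_lit 3,nat_lit 0,nat_lit 2,nat_lit 0,nat_lit 3,nat_lit 2,nat_lit 0,nat_lit 0,nat_lit 2,nat_lit 0,nat_lit 0,nat_lit 3,nat_lit 0,nat_lit 3])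
)) (.node (.node (.leaf [nat_lit 4,nat_lit 3,nat_lit 0,nat_lit 0,nat_lit 0,nat_lit 2,nat_lit 1,nat_lit 2,nat_lit 3,nat_lit 1,nat_lit 1,nat_lit 2,nat_lit 3,nat_lit 1,nat_lit 1,nat_lit 1,nat_lit 2,nat_lit 0,nat_lit 2,nat_lit 1,nat_lit 1])
 (.leaf [nat_lit 19,nat_lit 4,nat_lit 2,nat_lit 0,nat_lit 3,nat_lit 1,nat_lit 2,nat_lit 3,nat_lit 2,nat_lit 3,nat_lit 1,nat_lit 1,nat_lit 2,nat_lit 0,nat_lit 0,nat_lit 3,nat_lit 0,nat_lit 2,nat_lit 1,nat_lit 1,nat_lit 3,nat_lit 0])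
) (.leaf [nat_lit 1,nat_lit 1,nat_lit 3,nat_lit 0,nat_lit 3,nat_lit 2,nat_lit 3,nat_lit 0,nat_lit 2,nat_lit 3,nat_lit 1,nat_lit 3,nat_lit 2,nat_lit 3,nat_lit 2,nat_lit 0,nat_lit 2])
)) (.node (.node (.node (.leaf [nat_lit 4,nat_lit 0,nat_lit 2,nat_lit 0,nat_lit 0,nat_lit 2,nat_lit 0,nat_lit 0,nat_lit 0,nat_lit 3,nat_lit 1,nat_lit 3,nat_lit 2,nat_lit 0,nat_lit 2,nat_lit 0,nat_lit 0,nat_lit 3,nat_lit 0,nat_lit 2,nat_lit 1])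
 (.leaf [nat_lit 19,nat_lit 4,nat_lit 3,nat_lit 0,nat_lit 0,nat_lit 0,nat_lit 2,nat_lit 1,nat_lit 2,nat_lit 3,nat_lit 1,nat_lit 1,nat_lit 2,nat_lit 3,nat_lit 1,nat_lit 1,nat_lit 1,nat_lit 2,nat_lit 0,nat_lit 2,nat_lit 1,nat_lit 1])
) (.leaf [nat_lit 4,nat_lit 3,nat_lit 1,nat_lit 2,nat_lit 3,nat_lit 1,nat_lit 3,nat_lit 1,nat_lit 1,nat_lit 3,nat_lit 1,nat_lit 2,nat_lit 1,nat_lit 2,nat_lit 1,nat_lit 3,nat_lit 2,nat_lit 1,nat_lit 3,nat_lit 2])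
) (.node (.node (.leaf [nat_lit 4,nat_lit 1,nat_lit 2,nat_lit 3,nat_lit 0,nat_lit 3,nat_lit 1,nat_lit 2,nat_lit 1,nat_lit 2,nat_lit 3,nat_lit 1,nat_lit 2,nat_lit 3,nat_lit 1,nat_lit 2,nat_lit 1,nat_lit 3,nat_lit 1])
 (.leaf [nat_lit 19,nat_lit 4,nat_lit 2,nat_lit 1,nat_lit 3,nat_lit 2,nat_lit 1,nat_lit 2,nat_lit 0,nat_lit 3,nat_lit 2,nat_lit 1,nat_lit 2,nat_lit 3,nat_lit 0,nat_lit 3,nat_lit 2,nat_lit 0,nat_lit 3,nat_lit 1])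
) (.leaf [nat_lit 4,nat_lit 2,nat_lit 1,nat_lit 2,nat_lit 0,nat_lit 0,nat_lit 0,nat_lit 3,nat_lit 1,nat_lit 2,nat_lit 1,nat_lit 2,nat_lit 0,nat_lit 2,nat_lit 1,nat_lit 3,nat_lit 2,nat_lit 1,nat_lit 3])
))))) (.node (.node (.node (.node (.node (.node (.leaf [])
 (.leaf [nat_lit 5,nat_lit 1,nat_lit 2,nat_lit 0,nat_lit 0,nat_lit 2,nat_lit 0,nat_lit 3,nat_lit 0,nat_lit 2,nat_lit 3,nat_lit 0,nat_lit 3,nat_lit 2,nat_lit 3,nat_lit 2,nat_lit 0,nat_lit 3,nat_lit 0,nat_lit 3,nat_lit 1])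
) (.node (.leaf [nat_lit 4,nat_lit 3,nat_lit 0,nat_lit 3,nat_lit 2,nat_lit 0,nat_lit 3,nat_lit 2,nat_lit 3,nat_lit 1,nat_lit 3,nat_lit 0,nat_lit 0,nat_lit 3,nat_lit 0,nat_lit 2,nat_lit 0,nat_lit 2,nat_lit 0,nat_lit 0,nat_lit 3])
 (.leaf [nat_lit 19,nat_lit 4,nat_lit 3,nat_lit 2,nat_lit 3,nat_lit 2,nat_lit 0,nat_lit 2,nat_lit 0,nat_lit 2,nat_lit 1,nat_lit 2,nat_lit 1,nat_lit 1,nat_lit 2,nat_lit 3,nat_lit 1,nat_lit 2,nat_lit 3,nat_lit 0,nat_lit 0])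
)) (.node (.node (.leaf [nat_lit 3,nat_lit 2,nat_lit 1,nat_lit 1,nat_lit 3,nat_lit 2,nat_lit 3,nat_lit 2,nat_lit 3,nat_lit 1,nat_lit 2,nat_lit 1,nat_lit 1,nat_lit 2,nat_lit 0,nat_lit 3,nat_lit 2,nat_lit 0,nat_lit 2])
 (.leaf [nat_lit 19,nat_lit 5,nat_lit 3,nat_lit 2,nat_lit 1,nat_lit 3,nat_lit 1,nat_lit 1,nat_lit 2,nat_lit 1,nat_lit 3,nat_lit 2,nat_lit 1,nat_lit 3,nat_lit 1,nat_lit 3,nat_lit 0,nat_lit 2,nat_lit 0,nat_lit 3,nat_lit 2,nat_lit 3,nat_lit 1])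
) (.leaf [nat_lit 4,nat_lit 3,nat_lit 0,nat_lit 0,nat_lit 2,nat_lit 0,nat_lit 2,nat_lit 0,nat_lit 2,nat_lit 1,nat_lit 2,nat_lit 1,nat_lit 1,nat_lit 3,nat_lit 2,nat_lit 1,nat_lit 1,nat_lit 3,nat_lit 0,nat_lit 2,nat_lit 3])
)) (.node (.node (.node (.leaf [nat_lit 4,nat_lit 1,nat_lit 1,nat_lit 3,nat_lit 2,nat_lit 3,nat_lit 0,nat_lit 2,nat_lit 3,nat_lit 2,nat_lit 1,nat_lit 1,nat_lit 2,nat_lit 3,nat_lit 1,nat_lit 1,nat_lit 2,nat_lit 3,nat_lit 0,nat_lit 0])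
 (.leaf [nat_lit 19,nat_lit 1,nat_lit 3,nat_lit 2,nat_lit 3,nat_lit 2,nat_lit 0,nat_lit 3,nat_lit 0,nat_lit 2,nat_lit 0,nat_lit 3,nat_lit 1,nat_lit 2,nat_lit 3,nat_lit 0,nat_lit 2,nat_lit 0,nat_lit 3,nat_lit 1,nat_lit 3])
) (.node (.leaf [nat_lit 5,nat_lit 0,nat_lit 0,nat_lit 0,nat_lit 3,nat_lit 2,nat_lit 3,nat_lit 2,nat_lit 1,nat_lit 3,nat_lit 2,nat_lit 0,nat_lit 2,nat_lit 3,nat_lit 2,nat_lit 1,nat_lit 3,nat_lit 0,nat_lit 3,nat_lit 1])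
 (.leaf [nat_lit 19,nat_lit 3,nat_lit 1,nat_lit 1,nat_lit 2,nat_lit 3,nat_lit 2,nat_lit 0,nat_lit 3,nat_lit 1,nat_lit 2,nat_lit 3,nat_lit 0,nat_lit 3,nat_lit 2,nat_lit 3,nat_lit 2,nat_lit 1,nat_lit 3])
)) (.node (.node (.leaf [nat_lit 3,nat_lit 2,nat_lit 1,nat_lit 2,nat_lit 0,nat_lit 3,nat_lit 2,nat_lit 3,nat_lit 2,nat_lit 3,nat_lit 1,nat_lit 1,nat_lit 3,nat_lit 0,nat_lit 3,nat_lit 2,nat_lit 0,nat_lit 0])
 (.leaf [nat_lit 19,nat_lit 4,nat_lit 3,nat_lit 2,nat_lit 1,nat_lit 3,nat_lit 0,nat_lit 0,nat_lit 0,nat_lit 3,nat_lit 0,nat_lit 3,nat_lit 2,nat_lit 3,nat_lit 2,nat_lit 0,nat_lit 0,nat_lit 3,nat_lit 1])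
) (.leaf [nat_lit 4,nat_lit 0,nat_lit 3,nat_lit 1,nat_lit 3,nat_lit 0,nat_lit 0,nat_lit 3,nat_lit 0,nat_lit 2,nat_lit 0,nat_lit 0,nat_lit 0,nat_lit 3,nat_lit 0,nat_lit 0,nat_lit 2,nat_lit 1,nat_lit 2,nat_lit 0])
))) (.node (.node (.node (.node (.leaf [nat_lit 4,nat_lit 1,nat_lit 3,nat_lit 1,nat_lit 3,nat_lit 0,nat_lit 3,nat_lit 2,nat_lit 0,nat_lit 0,nat_lit 3,nat_lit 0,nat_lit 2,nat_lit 1,nat_lit 3,nat_lit 0,nat_lit 0,nat_lit 3,nat_lit 2])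
 (.leaf [nat_lit 19,nat_lit 5,nat_lit 0,nat_lit 2,nat_lit 0,nat_lit 3,nat_lit 1,nat_lit 1,nat_lit 1,nat_lit 3,nat_lit 2,nat_lit 1,nat_lit 2,nat_lit 1,nat_lit 1,nat_lit 3,nat_lit 1,nat_lit 1,nat_lit 2,nat_lit 0])
) (.node (.leaf [nat_lit 0,nat_lit 3,nat_lit 0,nat_lit 2,nat_lit 1,nat_lit 1,nat_lit 2,nat_lit 3,nat_lit 0,nat_lit 2,nat_lit 3,nat_lit 0,nat_lit 3,nat_lit 2,nat_lit 1,nat_lit 2,nat_lit 1,nat_lit 3,nat_lit 1])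
 (.leaf [nat_lit 19,nat_lit 5,nat_lit 2,nat_lit 0,nat_lit 2,nat_lit 1,nat_lit 1,nat_lit 1,nat_lit 2,nat_lit 0,nat_lit 0,nat_lit 0,nat_lit 2,nat_lit 3,nat_lit 2,nat_lit 3,nat_lit 2,nat_lit 0,nat_lit 2])
)) (.node (.node (.leaf [nat_lit 4,nat_lit 2,nat_lit 1,nat_lit 1,nat_lit 2,nat_lit 1,nat_lit 1,nat_lit 2,nat_lit 1,nat_lit 2,nat_lit 1,nat_lit 1,nat_lit 2,nat_lit 1,nat_lit 1,nat_lit 2])
 (.leaf [nat_lit 19,nat_lit 3,nat_lit 1,nat_lit 3,nat_lit 0,nat_lit 0,nat_lit 2,nat_lit 0,nat_lit 0,nat_lit 2,nat_lit 1,nat_lit 1,nat_lit 1,nat_lit 3,nat_lit 1,nat_lit 1,nat_lit 2,nat_lit 3,nat_lit 0])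
) (.leaf [nat_lit 5,nat_lit 2,nat_lit 0,nat_lit 3,nat_lit 1,nat_lit 3,nat_lit 0,nat_lit 0,nat_lit 2,nat_lit 3,nat_lit 1,nat_lit 2,nat_lit 3,nat_lit 0,nat_lit 0,nat_lit 0])
)) (.node (.node (.node (.leaf [nat_lit 0,nat_lit 3,nat_lit 0,nat_lit 2,nat_lit 1,nat_lit 2,nat_lit 1,nat_lit 3,nat_lit 2,nat_lit 3,nat_lit 2,nat_lit 1,nat_lit 2,nat_lit 1,nat_lit 2,nat_lit 0,nat_lit 2,nat_lit 0,nat_lit 3,nat_lit 2])
 (.leaf [nat_lit 19,nat_lit 4,nat_lit 3,nat_lit 1,nat_lit 3,nat_lit 1,nat_lit 2,nat_lit 0,nat_lit 3,nat_lit 0,nat_lit 0,nat_lit 3,nat_lit 1,nat_lit 1,nat_lit 2,nat_lit 1])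
) (.node (.leaf [nat_lit 3,nat_lit 2,nat_lit 0,nat_lit 3,nat_lit 0,nat_lit 3,nat_lit 2,nat_lit 1,nat_lit 3,nat_lit 0,nat_lit 3,nat_lit 1,nat_lit 1,nat_lit 2,nat_lit 3,nat_lit 1,nat_lit 3])
 (.leaf [nat_lit 19,nat_lit 5,nat_lit 2,nat_lit 3,nat_lit 0,nat_lit 2,nat_lit 1,nat_lit 2,nat_lit 1,nat_lit 2,nat_lit 1,nat_lit 3,nat_lit 1,nat_lit 3,nat_lit 0,nat_lit 2,nat_lit 1,nat_lit 3,nat_lit 2,nat_lit 1,nat_lit 3])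
)) (.node (.node (.leaf [nat_lit 1,nat_lit 3,nat_lit 2,nat_lit 1,nat_lit 1,nat_lit 1,nat_lit 3,nat_lit 1,nat_lit 3,nat_lit 1,nat_lit 1,nat_lit 2,nat_lit 1,nat_lit 1,nat_lit 3,nat_lit 2])
 (.leaf [nat_lit 19,nat_lit 1,nat_lit 3,nat_lit 1,nat_lit 3,nat_lit 2,nat_lit 1,nat_lit 3,nat_lit 0,nat_lit 0,nat_lit 3,nat_lit 0,nat_lit 3,nat_lit 1,nat_lit 1,nat_lit 2,nat_lit 1,nat_lit 3,nat_lit 2,nat_lit 0])
) (.leaf [nat_lit 3,nat_lit 1,nat_lit 3,nat_lit 2,nat_lit 1,nat_lit 2,nat_lit 1,nat_lit 1,nat_lit 2,nat_lit 1,nat_lit 2,nat_lit 0,nat_lit 3,nat_lit 0,nat_lit 0,nat_lit 3,nat_lit 1,nat_lit 3,nat_lit 2])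
)))) (.node (.node (.node (.node (.node (.leaf [nat_lit 1,nat_lit 2,nat_lit 3,nat_lit 1,nat_lit 1,nat_lit 3,nat_lit 2,nat_lit 3,nat_lit 0,nat_lit 0,nat_lit 3,nat_lit 2,nat_lit 3,nat_lit 1,nat_lit 3,nat_lit 2,nat_lit 0,nat_lit 0])
 (.leaf [])
) (.node (.leaf [nat_lit 5,nat_lit 2,nat_lit 1,nat_lit 2,nat_lit 1,nat_lit 3,nat_lit 0,nat_lit 0,nat_lit 0,nat_lit 2,nat_lit 1,nat_lit 3,nat_lit 2,nat_lit 0,nat_lit 2,nat_lit 0,nat_lit 0,nat_lit 2,nat_lit 1,nat_lit 3])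
 (.leaf [nat_lit 19,nat_lit 2,nat_lit 1,nat_lit 2,nat_lit 1,nat_lit 3,nat_lit 1,nat_lit 3,nat_lit 1,nat_lit 2,nat_lit 1,nat_lit 1,nat_lit 1,nat_lit 3,nat_lit 2,nat_lit 3,nat_lit 0,nat_lit 0])
)) (.node (.node (.leaf [nat_lit 4,nat_lit 3,nat_lit 0,nat_lit 3,nat_lit 1,nat_lit 1,nat_lit 3,nat_lit 2,nat_lit 1,nat_lit 2,nat_lit 0,nat_lit 3,nat_lit 0,nat_lit 2,nat_lit 0,nat_lit 0,nat_lit 3,nat_lit 0,nat_lit 2])
 (.leaf [nat_lit 19,nat_lit 4,nat_lit 2,nat_lit 0,nat_lit 2,nat_lit 1,nat_lit 1,nat_lit 2,nat_lit 1,nat_lit 1,nat_lit 3,nat_lit 2,nat_lit 0,nat_lit 3,nat_lit 1,nat_lit 2,nat_lit 1,nat_lit 3,nat_lit 0,nat_lit 3])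
) (.leaf [nat_lit 4,nat_lit 1,nat_lit 1,nat_lit 3,nat_lit 0,nat_lit 0,nat_lit 3,nat_lit 2,nat_lit 1,nat_lit 1,nat_lit 2,nat_lit 3,nat_lit 0,nat_lit 2,nat_lit 3,nat_lit 0,nat_lit 0,nat_lit 0,nat_lit 2,nat_lit 0,nat_lit 2])
)) (.node (.node (.node (.leaf [])
 (.leaf [nat_lit 19,nat_lit 5,nat_lit 2,nat_lit 1,nat_lit 2,nat_lit 1,nat_lit 1,nat_lit 3,nat_lit 1,nat_lit 3,nat_lit 1,nat_lit 2,nat_lit 1,nat_lit 3,nat_lit 1,nat_lit 3,nat_lit 1,nat_lit 2,nat_lit 0,nat_lit 3,nat_lit 2])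
) (.node (.leaf [nat_lit 2,nat_lit 1,nat_lit 1,nat_lit 2,nat_lit 1,nat_lit 1,nat_lit 2,nat_lit 1,nat_lit 3,nat_lit 2,nat_lit 3,nat_lit 2,nat_lit 0,nat_lit 2,nat_lit 1,nat_lit 3,nat_lit 0,nat_lit 2,nat_lit 3])
 (.leaf [nat_lit 19,nat_lit 5,nat_lit 3,nat_lit 0,nat_lit 2,nat_lit 1,nat_lit 3,nat_lit 1,nat_lit 2,nat_lit 1,nat_lit 1,nat_lit 3,nat_lit 1,nat_lit 3,nat_lit 2,nat_lit 1,nat_lit 1,nat_lit 1,nat_lit 3,nat_lit 0,nat_lit 3,nat_lit 1])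
)) (.node (.node (.leaf [nat_lit 1,nat_lit 2,nat_lit 1,nat_lit 3,nat_lit 2,nat_lit 0,nat_lit 3,nat_lit 2,nat_lit 1,nat_lit 1,nat_lit 3,nat_lit 0,nat_lit 3,nat_lit 1,nat_lit 1,nat_lit 2,nat_lit 1,nat_lit 1,nat_lit 2,nat_lit 3,nat_lit 0])
 (.leaf [nat_lit 19,nat_lit 4,nat_lit 0,nat_lit 2,nat_lit 0,nat_lit 2,nat_lit 1,nat_lit 2,nat_lit 3,nat_lit 1,nat_lit 1,nat_lit 3,nat_lit 1,nat_lit 3,nat_lit 2,nat_lit 0,nat_lit 0,nat_lit 3,nat_lit 1,nat_lit 1,nat_lit 1,nat_lit 2])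
) (.leaf [nat_lit 4,nat_lit 2,nat_lit 1,nat_lit 2,nat_lit 0,nat_lit 0,nat_lit 3,nat_lit 0,nat_lit 2,nat_lit 0,nat_lit 3,nat_lit 2,nat_lit 1,nat_lit 1,nat_lit 2,nat_lit 3,nat_lit 2,nat_lit 0,nat_lit 0,nat_lit 3])
))) (.node (.node (.node (.node (.leaf [])
 (.leaf [nat_lit 19,nat_lit 5,nat_lit 0,nat_lit 2,nat_lit 3,nat_lit 2,nat_lit 0,nat_lit 3,nat_lit 0,nat_lit 3,nat_lit 2,nat_lit 1,nat_lit 1,nat_lit 1,nat_lit 2,nat_lit 1,nat_lit 3,nat_lit 0,nat_lit 3])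
) (.node (.leaf [nat_lit 4,nat_lit 1,nat_lit 2,nat_lit 0,nat_lit 0,nat_lit 0,nat_lit 3,nat_lit 0,nat_lit 2,nat_lit 1,nat_lit 3,nat_lit 2,nat_lit 1,nat_lit 1,nat_lit 1,nat_lit 3,nat_lit 2,nat_lit 1,nat_lit 3,nat_lit 2])
 (.leaf [nat_lit 19,nat_lit 5,nat_lit 0,nat_lit 0,nat_lit 3,nat_lit 0,nat_lit 2,nat_lit 1,nat_lit 1,nat_lit 3,nat_lit 1,nat_lit 3,nat_lit 2,nat_lit 3,nat_lit 0,nat_lit 3,nat_lit 2,nat_lit 3,nat_lit 1,nat_lit 2])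
)) (.node (.node (.leaf [nat_lit 4,nat_lit 3,nat_lit 2,nat_lit 3,nat_lit 0,nat_lit 2,nat_lit 3,nat_lit 2,nat_lit 3,nat_lit 2,nat_lit 0,nat_lit 2,nat_lit 0,nat_lit 3,nat_lit 1,nat_lit 1,nat_lit 1,nat_lit 3,nat_lit 0])
 (.leaf [nat_lit 19,nat_lit 5,nat_lit 2,nat_lit 0,nat_lit 2,nat_lit 0,nat_lit 2,nat_lit 3,nat_lit 2,nat_lit 0,nat_lit 3,nat_lit 0,nat_lit 2,nat_lit 0,nat_lit 3,nat_lit 1,nat_lit 1,nat_lit 2])
) (.leaf [nat_lit 4,nat_lit 3,nat_lit 1,nat_lit 3,nat_lit 2,nat_lit 1,nat_lit 1,nat_lit 2,nat_lit 0,nat_lit 0,nat_lit 2,nat_lit 3,nat_lit 2,nat_lit 1,nat_lit 3,nat_lit 1,nat_lit 1,nat_lit 3,nat_lit 1,nat_lit 3,nat_lit 0])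
)) (.node (.node (.node (.leaf [nat_lit 5,nat_lit 1,nat_lit 1,nat_lit 2,nat_lit 0,nat_lit 2,nat_lit 0,nat_lit 3,nat_lit 1,nat_lit 2,nat_lit 1,nat_lit 3,nat_lit 1,nat_lit 1,nat_lit 3,nat_lit 1,nat_lit 1,nat_lit 3,nat_lit 1,nat_lit 1,nat_lit 1])
 (.leaf [nat_lit 19,nat_lit 0,nat_lit 2,nat_lit 3,nat_lit 0,nat_lit 0,nat_lit 2,nat_lit 1,nat_lit 3,nat_lit 0,nat_lit 2,nat_lit 1,nat_lit 1,nat_lit 1,nat_lit 3,nat_lit 1,nat_lit 3,nat_lit 0,nat_lit 0,nat_lit 3])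
) (.leaf [nat_lit 5,nat_lit 0,nat_lit 2,nat_lit 3,nat_lit 1,nat_lit 1,nat_lit 2,nat_lit 1,nat_lit 3,nat_lit 1,nat_lit 3,nat_lit 0,nat_lit 2,nat_lit 0,nat_lit 0,nat_lit 2,nat_lit 0,nat_lit 2,nat_lit 0,nat_lit 3,nat_lit 1])
) (.node (.node (.leaf [nat_lit 5,nat_lit 2,nat_lit 1,nat_lit 3,nat_lit 1,nat_lit 2,nat_lit 3,nat_lit 1,nat_lit 1,nat_lit 2,nat_lit 0,nat_lit 2,nat_lit 3,nat_lit 1,nat_lit 3,nat_lit 2,nat_lit 0,nat_lit 0,nat_lit 3,nat_lit 1])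
 (.leaf [nat_lit 19,nat_lit 3,nat_lit 2,nat_lit 3,nat_lit 0,nat_lit 2,nat_lit 3,nat_lit 2,nat_lit 3,nat_lit 0,nat_lit 0,nat_lit 2,nat_lit 3,nat_lit 1,nat_lit 2,nat_lit 3,nat_lit 2,nat_lit 1])
) (.leaf [nat_lit 5,nat_lit 2,nat_lit 3,nat_lit 1,nat_lit 1,nat_lit 2,nat_lit 3,nat_lit 2,nat_lit 0,nat_lit 3,nat_lit 1,nat_lit 2,nat_lit 3,nat_lit 0,nat_lit 0,nat_lit 3,nat_lit 0])
))))))
noncomputable def Fh6 : LT :=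
(.node (.node (.node (.node (.node (.node (.node (.leaf [])
 (.leaf [nat_lit 4,nat_lit 1,nat_lit 3,nat_lit 2,nat_lit 3,nat_lit 0,nat_lit 3,nat_lit 0,nat_lit 2,nat_lit 0,nat_lit 3,nat_lit 0,nat_lit 3,nat_lit 0,nat_lit 0,nat_lit 2,nat_lit 0,nat_lit 3,nat_lit 0,nat_lit 2])
) (.node (.leaf [nat_lit 4,nat_lit 0,nat_lit 3,nat_lit 1,nat_lit 1,nat_lit 3,nat_lit 2,nat_lit 3,nat_lit 2,nat_lit 0,nat_lit 0,nat_lit 0,nat_lit 2,nat_lit 0,nat_lit 0,nat_lit 0,nat_lit 2,nat_lit 0,nat_lit 0,nat_lit 3,nat_lit 1])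
 (.leaf [])
)) (.node (.node (.leaf [nat_lit 5,nat_lit 3,nat_lit 0,nat_lit 2,nat_lit 3,nat_lit 2,nat_lit 0,nat_lit 0,nat_lit 0,nat_lit 2,nat_lit 3,nat_lit 0,nat_lit 0,nat_lit 3,nat_lit 2,nat_lit 1,nat_lit 3,nat_lit 0])
 (.leaf [nat_lit 4,nat_lit 3,nat_lit 0,nat_lit 3,nat_lit 2,nat_lit 0,nat_lit 3,nat_lit 0,nat_lit 3,nat_lit 1,nat_lit 3,nat_lit 2,nat_lit 1,nat_lit 3,nat_lit 1,nat_lit 2,nat_lit 3,nat_lit 1,nat_lit 3])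
) (.leaf [nat_lit 0,nat_lit 0,nat_lit 2,nat_lit 0,nat_lit 2,nat_lit 3,nat_lit 0,nat_lit 2,nat_lit 3,nat_lit 1,nat_lit 3,nat_lit 0,nat_lit 3,nat_lit 0,nat_lit 2,nat_lit 0,nat_lit 2,nat_lit 3])
)) (.node (.node (.node (.leaf [nat_lit 5,nat_lit 2,nat_lit 0,nat_lit 3,nat_lit 2,nat_lit 0,nat_lit 2,nat_lit 3,nat_lit 0,nat_lit 0,nat_lit 3,nat_lit 1,nat_lit 1,nat_lit 3,nat_lit 0,nat_lit 3,nat_lit 2,nat_lit 3,nat_lit 2])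
 (.leaf [nat_lit 4,nat_lit 1,nat_lit 1,nat_lit 2,nat_lit 1,nat_lit 2,nat_lit 0,nat_lit 2,nat_lit 0,nat_lit 0,nat_lit 3])
) (.node (.leaf [nat_lit 4,nat_lit 3,nat_lit 0,nat_lit 3,nat_lit 0,nat_lit 0,nat_lit 3,nat_lit 0,nat_lit 3,nat_lit 2,nat_lit 3,nat_lit 2,nat_lit 0,nat_lit 0,nat_lit 3,nat_lit 1,nat_lit 2,nat_lit 0,nat_lit 2])
 (.leaf [nat_lit 5,nat_lit 1,nat_lit 2,nat_lit 1,nat_lit 2,nat_lit 1,nat_lit 3,nat_lit 1,nat_lit 1,nat_lit 1,nat_lit 3,nat_lit 0,nat_lit 3,nat_lit 1,nat_lit 2,nat_lit 1,nat_lit 2,nat_lit 1,nat_lit 2,nat_lit 0])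
)) (.node (.node (.leaf [nat_lit 5,nat_lit 1,nat_lit 3,nat_lit 1,nat_lit 2,nat_lit 0,nat_lit 0,nat_lit 3,nat_lit 1,nat_lit 3,nat_lit 0,nat_lit 2,nat_lit 1,nat_lit 1,nat_lit 3,nat_lit 0,nat_lit 3,nat_lit 2,nat_lit 3,nat_lit 2])
 (.leaf [nat_lit 3,nat_lit 2,nat_lit 3,nat_lit 2,nat_lit 0,nat_lit 0,nat_lit 3,nat_lit 0,nat_lit 2,nat_lit 0,nat_lit 3,nat_lit 1,nat_lit 3,nat_lit 2,nat_lit 3,nat_lit 0,nat_lit 0,nat_lit 0])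
) (.leaf [nat_lit 5,nat_lit 1,nat_lit 1,nat_lit 3,nat_lit 0,nat_lit 0,nat_lit 2,nat_lit 3,nat_lit 1,nat_lit 2,nat_lit 0,nat_lit 2,nat_lit 3,nat_lit 2,nat_lit 1,nat_lit 3,nat_lit 1,nat_lit 1,nat_lit 1])
))) (.node (.node (.node (.node (.leaf [nat_lit 4,nat_lit 1,nat_lit 3,nat_lit 0,nat_lit 0,nat_lit 0,nat_lit 2,nat_lit 1,nat_lit 3,nat_lit 0,nat_lit 0,nat_lit 2,nat_lit 3,nat_lit 0,nat_lit 3,nat_lit 1,nat_lit 2,nat_lit 1])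
 (.leaf [nat_lit 3])
) (.node (.leaf [nat_lit 5,nat_lit 2,nat_lit 1,nat_lit 1,nat_lit 1,nat_lit 2,nat_lit 3,nat_lit 2,nat_lit 1,nat_lit 2,nat_lit 0,nat_lit 3,nat_lit 0,nat_lit 0,nat_lit 0,nat_lit 2,nat_lit 1,nat_lit 3,nat_lit 2])
 (.leaf [nat_lit 5,nat_lit 0,nat_lit 2,nat_lit 1,nat_lit 2,nat_lit 1,nat_lit 2,nat_lit 1,nat_lit 3,nat_lit 0,nat_lit 0,nat_lit 0,nat_lit 3,nat_lit 2,nat_lit 1,nat_lit 3,nat_lit 2,nat_lit 1,nat_lit 3,nat_lit 2])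
)) (.node (.node (.leaf [nat_lit 3,nat_lit 2,nat_lit 1,nat_lit 2,nat_lit 0,nat_lit 0,nat_lit 0,nat_lit 2,nat_lit 3,nat_lit 2,nat_lit 1,nat_lit 1,nat_lit 2,nat_lit 0,nat_lit 3,nat_lit 1,nat_lit 1])
 (.leaf [nat_lit 2,nat_lit 1,nat_lit 2,nat_lit 3,nat_lit 1,nat_lit 3,nat_lit 1,nat_lit 1,nat_lit 3,nat_lit 0,nat_lit 2,nat_lit 1,nat_lit 1,nat_lit 1,nat_lit 2,nat_lit 1,nat_lit 2,nat_lit 3])
) (.leaf [nat_lit 4,nat_lit 3,nat_lit 2,nat_lit 3,nat_lit 1,nat_lit 2,nat_lit 3,nat_lit 2,nat_lit 3,nat_lit 0,nat_lit 2,nat_lit 1,nat_lit 1,nat_lit 3,nat_lit 2,nat_lit 1,nat_lit 3,nat_lit 2,nat_lit 3,nat_lit 2])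
)) (.node (.node (.node (.leaf [nat_lit 4,nat_lit 1,nat_lit 2,nat_lit 0,nat_lit 3,nat_lit 2,nat_lit 1,nat_lit 2,nat_lit 1,nat_lit 2,nat_lit 3,nat_lit 2,nat_lit 0,nat_lit 3,nat_lit 2,nat_lit 0,nat_lit 2,nat_lit 3])
 (.leaf [nat_lit 5,nat_lit 3,nat_lit 0,nat_lit 0,nat_lit 2,nat_lit 0,nat_lit 0,nat_lit 3,nat_lit 0,nat_lit 3,nat_lit 1,nat_lit 1,nat_lit 3,nat_lit 2,nat_lit 3,nat_lit 0,nat_lit 2,nat_lit 0,nat_lit 3,nat_lit 1,nat_lit 1])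
) (.node (.leaf [nat_lit 2,nat_lit 0,nat_lit 0,nat_lit 2,nat_lit 3,nat_lit 2,nat_lit 1,nat_lit 1,nat_lit 1,nat_lit 2,nat_lit 1,nat_lit 1,nat_lit 1,nat_lit 3,nat_lit 1,nat_lit 3,nat_lit 2,nat_lit 0,nat_lit 2,nat_lit 3])
 (.leaf [nat_lit 3,nat_lit 2,nat_lit 0,nat_lit 2,nat_lit 0,nat_lit 0,nat_lit 3,nat_lit 2,nat_lit 1,nat_lit 1,nat_lit 1,nat_lit 2,nat_lit 1,nat_lit 3,nat_lit 1,nat_lit 3])
)) (.node (.node (.leaf [nat_lit 5,nat_lit 0,nat_lit 0,nat_lit 2,nat_lit 0,nat_lit 3,nat_lit 0,nat_lit 3,nat_lit 2,nat_lit 3,nat_lit 1,nat_lit 1,nat_lit 1,nat_lit 2,nat_lit 0,nat_lit 0,nat_lit 0,nat_lit 3])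
 (.leaf [nat_lit 4,nat_lit 0,nat_lit 2,nat_lit 0,nat_lit 2,nat_lit 3,nat_lit 0,nat_lit 3,nat_lit 2,nat_lit 1,nat_lit 1,nat_lit 2,nat_lit 1,nat_lit 2,nat_lit 1,nat_lit 3,nat_lit 2,nat_lit 3,nat_lit 2])
) (.leaf [nat_lit 4,nat_lit 2,nat_lit 1,nat_lit 3,nat_lit 1,nat_lit 2,nat_lit 3,nat_lit 1,nat_lit 3,nat_lit 1,nat_lit 1,nat_lit 2,nat_lit 3,nat_lit 0,nat_lit 0,nat_lit 2,nat_lit 0,nat_lit 3,nat_lit 0])
)))) (.node (.node (.node (.node (.node (.leaf [])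
 (.leaf [])
) (.node (.leaf [nat_lit 0,nat_lit 0,nat_lit 3,nat_lit 0,nat_lit 0,nat_lit 0,nat_lit 3,nat_lit 1,nat_lit 2,nat_lit 3,nat_lit 1,nat_lit 3,nat_lit 2,nat_lit 1,nat_lit 2,nat_lit 1,nat_lit 1,nat_lit 1,nat_lit 3])
 (.leaf [nat_lit 1,nat_lit 1,nat_lit 2,nat_lit 0,nat_lit 2,nat_lit 3,nat_lit 2,nat_lit 1,nat_lit 2,nat_lit 3,nat_lit 2,nat_lit 1,nat_lit 2,nat_lit 0,nat_lit 0,nat_lit 3,nat_lit 2])
)) (.node (.node (.leaf [nat_lit 4,nat_lit 2,nat_lit 3,nat_lit 0,nat_lit 2,nat_lit 1,nat_lit 2,nat_lit 1,nat_lit 2,nat_lit 1,nat_lit 1,nat_lit 3,nat_lit 0,nat_lit 2,nat_lit 1,nat_lit 1,nat_lit 1,nat_lit 3,nat_lit 1,nat_lit 1,nat_lit 3])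
 (.leaf [])
) (.leaf [nat_lit 3,nat_lit 1,nat_lit 2,nat_lit 0,nat_lit 0,nat_lit 2,nat_lit 0,nat_lit 0,nat_lit 2,nat_lit 3,nat_lit 1,nat_lit 2,nat_lit 0,nat_lit 2,nat_lit 1,nat_lit 1,nat_lit 2])
)) (.node (.node (.node (.leaf [nat_lit 3,nat_lit 1,nat_lit 2,nat_lit 1,nat_lit 1,nat_lit 1,nat_lit 2,nat_lit 1,nat_lit 1,nat_lit 1,nat_lit 2,nat_lit 0,nat_lit 3,nat_lit 0,nat_lit 2,nat_lit 1,nat_lit 2,nat_lit 1,nat_lit 3,nat_lit 2])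
 (.leaf [nat_lit 4,nat_lit 2,nat_lit 1,nat_lit 2,nat_lit 3,nat_lit 2,nat_lit 1,nat_lit 1,nat_lit 1,nat_lit 2,nat_lit 3,nat_lit 0,nat_lit 3,nat_lit 2,nat_lit 0,nat_lit 3,nat_lit 2,nat_lit 1,nat_lit 3])
) (.node (.leaf [nat_lit 4,nat_lit 0,nat_lit 0,nat_lit 3,nat_lit 1,nat_lit 1,nat_lit 3,nat_lit 2,nat_lit 0,nat_lit 0,nat_lit 2,nat_lit 3,nat_lit 2,nat_lit 1,nat_lit 1,nat_lit 1,nat_lit 2,nat_lit 1,nat_lit 2,nat_lit 0,nat_lit 3])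
 (.leaf [nat_lit 0,nat_lit 3,nat_lit 2,nat_lit 0,nat_lit 0,nat_lit 2,nat_lit 3,nat_lit 0,nat_lit 0,nat_lit 3,nat_lit 0,nat_lit 0,nat_lit 3,nat_lit 2,nat_lit 1,nat_lit 2,nat_lit 1,nat_lit 2])
)) (.node (.node (.leaf [nat_lit 4,nat_lit 3,nat_lit 2,nat_lit 3,nat_lit 1,nat_lit 2,nat_lit 3,nat_lit 1,nat_lit 2,nat_lit 0,nat_lit 2,nat_lit 0,nat_lit 0,nat_lit 3,nat_lit 2,nat_lit 1,nat_lit 1,nat_lit 2,nat_lit 0])
 (.leaf [nat_lit 4,nat_lit 3,nat_lit 2,nat_lit 1,nat_lit 2,nat_lit 0,nat_lit 3,nat_lit 2,nat_lit 3,nat_lit 0,nat_lit 3,nat_lit 0,nat_lit 2,nat_lit 0,nat_lit 0,nat_lit 3,nat_lit 0,nat_lit 2,nat_lit 0,nat_lit 3])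
) (.leaf [nat_lit 3,nat_lit 2,nat_lit 0,nat_lit 0,nat_lit 2,nat_lit 1,nat_lit 2,nat_lit 1,nat_lit 1,nat_lit 3,nat_lit 2,nat_lit 1,nat_lit 3,nat_lit 0,nat_lit 0,nat_lit 0,nat_lit 3,nat_lit 1])
))) (.node (.node (.node (.node (.leaf [nat_lit 5,nat_lit 1,nat_lit 1,nat_lit 3,nat_lit 0,nat_lit 3,nat_lit 2,nat_lit 3,nat_lit 2,nat_lit 3,nat_lit 1,nat_lit 2,nat_lit 0,nat_lit 2,nat_lit 3,nat_lit 0,nat_lit 2,nat_lit 0,nat_lit 2,nat_lit 0])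
 (.leaf [nat_lit 4,nat_lit 1,nat_lit 1,nat_lit 3,nat_lit 2,nat_lit 3,nat_lit 0,nat_lit 2,nat_lit 3,nat_lit 2,nat_lit 1,nat_lit 1,nat_lit 2,nat_lit 3,nat_lit 1,nat_lit 1,nat_lit 2,nat_lit 3,nat_lit 0,nat_lit 0])
) (.node (.leaf [nat_lit 2,nat_lit 1,nat_lit 1,nat_lit 3,nat_lit 2,nat_lit 3,nat_lit 1,nat_lit 2,nat_lit 1,nat_lit 1,nat_lit 3,nat_lit 0,nat_lit 3,nat_lit 2,nat_lit 0,nat_lit 0,nat_lit 0])
 (.leaf [nat_lit 0,nat_lit 3,nat_lit 0,nat_lit 0,nat_lit 2,nat_lit 1,nat_lit 2,nat_lit 0,nat_lit 0,nat_lit 3,nat_lit 1,nat_lit 1,nat_lit 2,nat_lit 1,nat_lit 2,nat_lit 1,nat_lit 2,nat_lit 0,nat_lit 0])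
)) (.node (.node (.leaf [nat_lit 4,nat_lit 0,nat_lit 2,nat_lit 3,nat_lit 2,nat_lit 0,nat_lit 3,nat_lit 1,nat_lit 2,nat_lit 0,nat_lit 2,nat_lit 3,nat_lit 2,nat_lit 1,nat_lit 1,nat_lit 2,nat_lit 1,nat_lit 1])
 (.leaf [nat_lit 5,nat_lit 0,nat_lit 0,nat_lit 2,nat_lit 1,nat_lit 3,nat_lit 2,nat_lit 1,nat_lit 1,nat_lit 1,nat_lit 2,nat_lit 0,nat_lit 3,nat_lit 2,nat_lit 0,nat_lit 3,nat_lit 2,nat_lit 3])
) (.leaf [nat_lit 2,nat_lit 3,nat_lit 0,nat_lit 3,nat_lit 0,nat_lit 2,nat_lit 3,nat_lit 0,nat_lit 0,nat_lit 3,nat_lit 2,nat_lit 3,nat_lit 2,nat_lit 1,nat_lit 2,nat_lit 3])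
)) (.node (.node (.node (.leaf [nat_lit 4,nat_lit 2,nat_lit 0,nat_lit 2,nat_lit 1,nat_lit 1,nat_lit 2,nat_lit 1,nat_lit 1,nat_lit 3,nat_lit 2,nat_lit 0,nat_lit 3,nat_lit 1,nat_lit 2,nat_lit 1,nat_lit 3,nat_lit 0,nat_lit 3])
 (.leaf [nat_lit 3,nat_lit 2,nat_lit 0,nat_lit 0,nat_lit 3,nat_lit 0,nat_lit 0,nat_lit 2,nat_lit 0,nat_lit 3,nat_lit 2,nat_lit 3,nat_lit 2,nat_lit 0,nat_lit 2,nat_lit 1,nat_lit 1,nat_lit 3,nat_lit 0])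
) (.leaf [nat_lit 1,nat_lit 1,nat_lit 2,nat_lit 3,nat_lit 1,nat_lit 2,nat_lit 1,nat_lit 2,nat_lit 0,nat_lit 3,nat_lit 1,nat_lit 1,nat_lit 1,nat_lit 2,nat_lit 3,nat_lit 1,nat_lit 2,nat_lit 3,nat_lit 2])
) (.node (.node (.leaf [nat_lit 0,nat_lit 0,nat_lit 0,nat_lit 3,nat_lit 1,nat_lit 2,nat_lit 0,nat_lit 3,nat_lit 2,nat_lit 1,nat_lit 2,nat_lit 0,nat_lit 3,nat_lit 2,nat_lit 1])
 (.leaf [nat_lit 5,nat_lit 1,nat_lit 2,nat_lit 0,nat_lit 2,nat_lit 0,nat_lit 3,nat_lit 1,nat_lit 2,nat_lit 3,nat_lit 0,nat_lit 3,nat_lit 0,nat_lit 2,nat_lit 0,nat_lit 3,nat_lit 0,nat_lit 2,nat_lit 1,nat_lit 2])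
) (.leaf [nat_lit 0,nat_lit 3,nat_lit 0,nat_lit 0,nat_lit 2,nat_lit 1,nat_lit 2,nat_lit 0,nat_lit 0,nat_lit 3,nat_lit 1,nat_lit 1,nat_lit 2,nat_lit 1,nat_lit 2,nat_lit 1,nat_lit 2,nat_lit 0,nat_lit 0])
))))) (.node (.node (.node (.node (.node (.node (.leaf [])
 (.leaf [nat_lit 5,nat_lit 3,nat_lit 1,nat_lit 1,nat_lit 2,nat_lit 0,nat_lit 2,nat_lit 3,nat_lit 0,nat_lit 3,nat_lit 0,nat_lit 0,nat_lit 2,nat_lit 1,nat_lit 2,nat_lit 1,nat_lit 1,nat_lit 1,nat_lit 2,nat_lit 1,nat_lit 2,nat_lit 1])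
) (.node (.leaf [nat_lit 4,nat_lit 1,nat_lit 2,nat_lit 0,nat_lit 2,nat_lit 1,nat_lit 2,nat_lit 1,nat_lit 3,nat_lit 0,nat_lit 3,nat_lit 0,nat_lit 2,nat_lit 3,nat_lit 1,nat_lit 2,nat_lit 3,nat_lit 1,nat_lit 2,nat_lit 0])
 (.leaf [nat_lit 4,nat_lit 0,nat_lit 0,nat_lit 2,nat_lit 0,nat_lit 3,nat_lit 2,nat_lit 0,nat_lit 2,nat_lit 0,nat_lit 2,nat_lit 1,nat_lit 2,nat_lit 3,nat_lit 2,nat_lit 0,nat_lit 3])
)) (.node (.node (.leaf [nat_lit 4,nat_lit 3,nat_lit 2,nat_lit 1,nat_lit 2,nat_lit 0,nat_lit 3,nat_lit 2,nat_lit 3,nat_lit 0,nat_lit 3,nat_lit 0,nat_lit 2,nat_lit 0,nat_lit 0,nat_lit 3,nat_lit 0,nat_lit 2,nat_lit 0,nat_lit 3])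
 (.leaf [nat_lit 1,nat_lit 2,nat_lit 0,nat_lit 2,nat_lit 1,nat_lit 2,nat_lit 1,nat_lit 3,nat_lit 1,nat_lit 2,nat_lit 0,nat_lit 0,nat_lit 3,nat_lit 2,nat_lit 1])
) (.leaf [nat_lit 4,nat_lit 1,nat_lit 2,nat_lit 3,nat_lit 2,nat_lit 1,nat_lit 3,nat_lit 1,nat_lit 2,nat_lit 3,nat_lit 2,nat_lit 0,nat_lit 3,nat_lit 1,nat_lit 1,nat_lit 1,nat_lit 2])
)) (.node (.node (.node (.leaf [nat_lit 2,nat_lit 3,nat_lit 0,nat_lit 2,nat_lit 1,nat_lit 1,nat_lit 2,nat_lit 1,nat_lit 1,nat_lit 2,nat_lit 1,nat_lit 3,nat_lit 0,nat_lit 0,nat_lit 2,nat_lit 0,nat_lit 2,nat_lit 1,nat_lit 3])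
 (.leaf [nat_lit 3,nat_lit 2,nat_lit 1,nat_lit 3,nat_lit 2,nat_lit 3,nat_lit 2,nat_lit 1,nat_lit 1,nat_lit 3,nat_lit 1,nat_lit 1,nat_lit 2,nat_lit 0,nat_lit 0,nat_lit 2,nat_lit 3,nat_lit 0])
) (.node (.leaf [nat_lit 4,nat_lit 3,nat_lit 2,nat_lit 1,nat_lit 3,nat_lit 2,nat_lit 0,nat_lit 2,nat_lit 3,nat_lit 1,nat_lit 2,nat_lit 1,nat_lit 1,nat_lit 3,nat_lit 1,nat_lit 2,nat_lit 0,nat_lit 3,nat_lit 0,nat_lit 0])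
 (.leaf [nat_lit 2,nat_lit 0,nat_lit 3,nat_lit 2,nat_lit 3,nat_lit 1,nat_lit 2,nat_lit 0,nat_lit 2,nat_lit 1,nat_lit 2,nat_lit 1,nat_lit 2,nat_lit 3,nat_lit 1,nat_lit 1])
)) (.node (.node (.leaf [nat_lit 4,nat_lit 0,nat_lit 2,nat_lit 3,nat_lit 2,nat_lit 3,nat_lit 0,nat_lit 2,nat_lit 3,nat_lit 1,nat_lit 1,nat_lit 2,nat_lit 3,nat_lit 2,nat_lit 3,nat_lit 1,nat_lit 1,nat_lit 2])
 (.leaf [nat_lit 4,nat_lit 0,nat_lit 3,nat_lit 1,nat_lit 1,nat_lit 3,nat_lit 2,nat_lit 3,nat_lit 2,nat_lit 0,nat_lit 0,nat_lit 0,nat_lit 2,nat_lit 0,nat_lit 0,nat_lit 0,nat_lit 2,nat_lit 0,nat_lit 0,nat_lit 3,nat_lit 1])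
) (.leaf [nat_lit 4,nat_lit 1,nat_lit 1,nat_lit 2,nat_lit 3,nat_lit 0,nat_lit 3,nat_lit 1,nat_lit 1,nat_lit 2,nat_lit 1,nat_lit 3,nat_lit 1,nat_lit 1,nat_lit 3,nat_lit 1,nat_lit 2,nat_lit 3,nat_lit 0,nat_lit 0,nat_lit 0])
))) (.node (.node (.node (.node (.leaf [])
 (.leaf [])
) (.node (.leaf [nat_lit 1,nat_lit 1,nat_lit 3,nat_lit 2,nat_lit 3,nat_lit 1,nat_lit 3,nat_lit 2,nat_lit 3,nat_lit 2,nat_lit 3,nat_lit 1,nat_lit 3,nat_lit 0,nat_lit 0,nat_lit 0,nat_lit 3,nat_lit 0])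
 (.leaf [nat_lit 4,nat_lit 2,nat_lit 1,nat_lit 3,nat_lit 1,nat_lit 2,nat_lit 3,nat_lit 1,nat_lit 3,nat_lit 1,nat_lit 1,nat_lit 2,nat_lit 3,nat_lit 0,nat_lit 0,nat_lit 2,nat_lit 0,nat_lit 3,nat_lit 0])
)) (.node (.node (.leaf [nat_lit 5,nat_lit 2,nat_lit 1,nat_lit 1,nat_lit 2,nat_lit 3,nat_lit 0,nat_lit 2,nat_lit 1,nat_lit 2,nat_lit 0,nat_lit 3,nat_lit 1,nat_lit 1,nat_lit 3,nat_lit 2,nat_lit 0,nat_lit 2,nat_lit 1])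
 (.leaf [nat_lit 5,nat_lit 2,nat_lit 1,nat_lit 3,nat_lit 1,nat_lit 2,nat_lit 3,nat_lit 1,nat_lit 1,nat_lit 2,nat_lit 0,nat_lit 2,nat_lit 3,nat_lit 1,nat_lit 3,nat_lit 2,nat_lit 0,nat_lit 0,nat_lit 3,nat_lit 1])
) (.leaf [nat_lit 0,nat_lit 3,nat_lit 1,nat_lit 1,nat_lit 3,nat_lit 1,nat_lit 3,nat_lit 1,nat_lit 1,nat_lit 2,nat_lit 1,nat_lit 2,nat_lit 3,nat_lit 2,nat_lit 0,nat_lit 2,nat_lit 1,nat_lit 3])
)) (.node (.node (.node (.leaf [nat_lit 5,nat_lit 1,nat_lit 2,nat_lit 1,nat_lit 1,nat_lit 2,nat_lit 0,nat_lit 3,nat_lit 1,nat_lit 1,nat_lit 1,nat_lit 3,nat_lit 1,nat_lit 2,nat_lit 3,nat_lit 2,nat_lit 3,nat_lit 2,nat_lit 3,nat_lit 0])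
 (.leaf [nat_lit 5,nat_lit 0,nat_lit 2,nat_lit 3,nat_lit 2,nat_lit 1,nat_lit 2,nat_lit 1,nat_lit 2,nat_lit 1,nat_lit 2,nat_lit 3,nat_lit 1,nat_lit 2,nat_lit 1,nat_lit 1,nat_lit 1,nat_lit 3,nat_lit 1,nat_lit 1])
) (.node (.leaf [nat_lit 3,nat_lit 1,nat_lit 1,nat_lit 2,nat_lit 3,nat_lit 2,nat_lit 0,nat_lit 3,nat_lit 1,nat_lit 2,nat_lit 3,nat_lit 0,nat_lit 3,nat_lit 2,nat_lit 3,nat_lit 2,nat_lit 1,nat_lit 3])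
 (.leaf [nat_lit 5,nat_lit 1,nat_lit 3,nat_lit 2,nat_lit 3,nat_lit 2,nat_lit 0,nat_lit 3,nat_lit 2,nat_lit 0,nat_lit 0,nat_lit 3,nat_lit 1,nat_lit 3,nat_lit 0,nat_lit 0,nat_lit 0,nat_lit 3,nat_lit 0,nat_lit 3,nat_lit 0])
)) (.node (.node (.leaf [nat_lit 0,nat_lit 3,nat_lit 1,nat_lit 2,nat_lit 1,nat_lit 2,nat_lit 3,nat_lit 2,nat_lit 1,nat_lit 1,nat_lit 1,nat_lit 3,nat_lit 1,nat_lit 3,nat_lit 1])
 (.leaf [nat_lit 5,nat_lit 2,nat_lit 0,nat_lit 0,nat_lit 2,nat_lit 1,nat_lit 3,nat_lit 0,nat_lit 2,nat_lit 3,nat_lit 0,nat_lit 0,nat_lit 2,nat_lit 0,nat_lit 3,nat_lit 1,nat_lit 3,nat_lit 0,nat_lit 0,nat_lit 3,nat_lit 0])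
) (.leaf [nat_lit 3,nat_lit 1,nat_lit 3,nat_lit 0,nat_lit 3,nat_lit 1,nat_lit 1,nat_lit 2,nat_lit 3,nat_lit 2,nat_lit 3,nat_lit 1,nat_lit 1,nat_lit 3,nat_lit 0,nat_lit 2,nat_lit 0,nat_lit 3,nat_lit 0,nat_lit 0])
)))) (.node (.node (.node (.node (.node (.leaf [nat_lit 5,nat_lit 0,nat_lit 2,nat_lit 3,nat_lit 1,nat_lit 3,nat_lit 0,nat_lit 3,nat_lit 0,nat_lit 0,nat_lit 0,nat_lit 2,nat_lit 0,nat_lit 3,nat_lit 0,nat_lit 2,nat_lit 3,nat_lit 0,nat_lit 0,nat_lit 2])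
 (.leaf [])
) (.node (.leaf [nat_lit 5,nat_lit 1,nat_lit 3,nat_lit 2,nat_lit 3,nat_lit 2,nat_lit 0,nat_lit 3,nat_lit 2,nat_lit 0,nat_lit 0,nat_lit 3,nat_lit 1,nat_lit 3,nat_lit 0,nat_lit 0,nat_lit 0,nat_lit 3,nat_lit 0,nat_lit 3,nat_lit 0])
 (.leaf [nat_lit 2,nat_lit 1,nat_lit 1,nat_lit 3,nat_lit 1,nat_lit 2,nat_lit 0,nat_lit 2,nat_lit 3,nat_lit 1,nat_lit 3,nat_lit 2,nat_lit 3,nat_lit 2,nat_lit 0,nat_lit 3,nat_lit 1])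
)) (.node (.node (.leaf [nat_lit 0,nat_lit 0,nat_lit 3,nat_lit 1,nat_lit 1,nat_lit 3,nat_lit 1,nat_lit 2,nat_lit 3,nat_lit 0,nat_lit 2,nat_lit 1,nat_lit 3,nat_lit 1,nat_lit 1,nat_lit 3,nat_lit 2,nat_lit 1,nat_lit 2])
 (.leaf [nat_lit 2,nat_lit 1,nat_lit 1,nat_lit 2,nat_lit 1,nat_lit 1,nat_lit 2,nat_lit 1,nat_lit 3,nat_lit 2,nat_lit 3,nat_lit 2,nat_lit 0,nat_lit 2,nat_lit 1,nat_lit 3,nat_lit 0,nat_lit 2,nat_lit 3])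
) (.leaf [nat_lit 3,nat_lit 1,nat_lit 1,nat_lit 2,nat_lit 3,nat_lit 2,nat_lit 1,nat_lit 1,nat_lit 2,nat_lit 1,nat_lit 1,nat_lit 3,nat_lit 1,nat_lit 2,nat_lit 1,nat_lit 3,nat_lit 0,nat_lit 3,nat_lit 0,nat_lit 0])
)) (.node (.node (.node (.leaf [nat_lit 4,nat_lit 0,nat_lit 0,nat_lit 3,nat_lit 2,nat_lit 3,nat_lit 1,nat_lit 2,nat_lit 1,nat_lit 2,nat_lit 1,nat_lit 2,nat_lit 0,nat_lit 2,nat_lit 1,nat_lit 2,nat_lit 1,nat_lit 3,nat_lit 1,nat_lit 1])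
 (.leaf [nat_lit 5,nat_lit 1,nat_lit 1,nat_lit 3,nat_lit 1,nat_lit 3,nat_lit 2,nat_lit 0,nat_lit 2,nat_lit 0,nat_lit 0,nat_lit 2,nat_lit 3,nat_lit 2,nat_lit 1,nat_lit 3,nat_lit 2,nat_lit 1,nat_lit 1,nat_lit 2])
) (.node (.leaf [nat_lit 3,nat_lit 0,nat_lit 0,nat_lit 3,nat_lit 1,nat_lit 3,nat_lit 1,nat_lit 2,nat_lit 1,nat_lit 3,nat_lit 1,nat_lit 3,nat_lit 1,nat_lit 2,nat_lit 3,nat_lit 1])
 (.leaf [nat_lit 0,nat_lit 3,nat_lit 2,nat_lit 3,nat_lit 2,nat_lit 1,nat_lit 3,nat_lit 2,nat_lit 0,nat_lit 2,nat_lit 0,nat_lit 3,nat_lit 2,nat_lit 1,nat_lit 1,nat_lit 3,nat_lit 1,nat_lit 2,nat_lit 1,nat_lit 3])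
)) (.node (.node (.leaf [nat_lit 4,nat_lit 3,nat_lit 0,nat_lit 3,nat_lit 2,nat_lit 1,nat_lit 2,nat_lit 1,nat_lit 2,nat_lit 1,nat_lit 2,nat_lit 1,nat_lit 1,nat_lit 3,nat_lit 1,nat_lit 1,nat_lit 2,nat_lit 0,nat_lit 3,nat_lit 2,nat_lit 1])
 (.leaf [nat_lit 4,nat_lit 0,nat_lit 3,nat_lit 1,nat_lit 3,nat_lit 1,nat_lit 2,nat_lit 3,nat_lit 0,nat_lit 2,nat_lit 3,nat_lit 1,nat_lit 1,nat_lit 2,nat_lit 3,nat_lit 2,nat_lit 0,nat_lit 2,nat_lit 0])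
) (.leaf [nat_lit 0,nat_lit 3,nat_lit 2,nat_lit 0,nat_lit 3,nat_lit 0,nat_lit 0,nat_lit 2,nat_lit 0,nat_lit 0,nat_lit 2,nat_lit 1,nat_lit 1,nat_lit 2,nat_lit 3,nat_lit 1,nat_lit 2])
))) (.node (.node (.node (.node (.leaf [nat_lit 5,nat_lit 2,nat_lit 0,nat_lit 2,nat_lit 1,nat_lit 3,nat_lit 0,nat_lit 3,nat_lit 1,nat_lit 3,nat_lit 0,nat_lit 0,nat_lit 0,nat_lit 2,nat_lit 3,nat_lit 0,nat_lit 0,nat_lit 2,nat_lit 1,nat_lit 1,nat_lit 1])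
 (.leaf [])
) (.node (.leaf [nat_lit 4,nat_lit 3,nat_lit 1,nat_lit 1,nat_lit 2,nat_lit 0,nat_lit 3,nat_lit 0,nat_lit 0,nat_lit 3,nat_lit 1,nat_lit 3,nat_lit 1,nat_lit 2,nat_lit 1,nat_lit 2,nat_lit 3,nat_lit 0])
 (.leaf [nat_lit 1,nat_lit 2,nat_lit 0,nat_lit 3,nat_lit 1,nat_lit 3,nat_lit 1,nat_lit 1,nat_lit 2,nat_lit 3,nat_lit 2,nat_lit 1,nat_lit 3,nat_lit 2,nat_lit 0,nat_lit 0,nat_lit 2,nat_lit 3,nat_lit 2,nat_lit 3])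
)) (.node (.node (.leaf [nat_lit 4,nat_lit 3,nat_lit 0,nat_lit 2,nat_lit 0,nat_lit 3,nat_lit 1,nat_lit 3,nat_lit 0,nat_lit 3,nat_lit 1,nat_lit 2,nat_lit 0,nat_lit 0,nat_lit 2,nat_lit 1,nat_lit 2,nat_lit 1,nat_lit 1,nat_lit 1])
 (.leaf [nat_lit 3,nat_lit 2,nat_lit 1,nat_lit 3,nat_lit 2,nat_lit 1,nat_lit 2,nat_lit 1,nat_lit 2,nat_lit 1,nat_lit 3,nat_lit 2,nat_lit 0,nat_lit 0,nat_lit 3,nat_lit 0,nat_lit 0,nat_lit 3])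
) (.leaf [nat_lit 4,nat_lit 2,nat_lit 1,nat_lit 3,nat_lit 1,nat_lit 2,nat_lit 0,nat_lit 3,nat_lit 1,nat_lit 3,nat_lit 0,nat_lit 2,nat_lit 0,nat_lit 0,nat_lit 0,nat_lit 3,nat_lit 1,nat_lit 1,nat_lit 3])
)) (.node (.node (.node (.leaf [nat_lit 4,nat_lit 1,nat_lit 1,nat_lit 2,nat_lit 3,nat_lit 2,nat_lit 3,nat_lit 2,nat_lit 0,nat_lit 0,nat_lit 2,nat_lit 3,nat_lit 0,nat_lit 0,nat_lit 2,nat_lit 1,nat_lit 2,nat_lit 0,nat_lit 0,nat_lit 0,nat_lit 2])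
 (.leaf [nat_lit 5,nat_lit 2,nat_lit 3,nat_lit 0,nat_lit 3,nat_lit 2,nat_lit 1,nat_lit 2,nat_lit 3,nat_lit 1,nat_lit 2,nat_lit 1,nat_lit 3,nat_lit 2,nat_lit 0,nat_lit 3,nat_lit 1,nat_lit 2,nat_lit 1])
) (.leaf [nat_lit 3,nat_lit 1,nat_lit 3,nat_lit 2,nat_lit 0,nat_lit 3,nat_lit 1,nat_lit 3,nat_lit 2,nat_lit 0,nat_lit 2,nat_lit 0,nat_lit 3,nat_lit 0,nat_lit 2,nat_lit 3,nat_lit 1,nat_lit 2,nat_lit 3])
) (.node (.node (.leaf [nat_lit 4,nat_lit 3,nat_lit 2,nat_lit 1,nat_lit 2,nat_lit 3,nat_lit 2,nat_lit 3,nat_lit 2,nat_lit 0,nat_lit 3,nat_lit 0,nat_lit 0,nat_lit 2,nat_lit 3,nat_lit 0,nat_lit 3,nat_lit 2,nat_lit 3,nat_lit 1,nat_lit 2])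
 (.leaf [nat_lit 5,nat_lit 2,nat_lit 1,nat_lit 2,nat_lit 1,nat_lit 2,nat_lit 0,nat_lit 0,nat_lit 3,nat_lit 1,nat_lit 3,nat_lit 0,nat_lit 3,nat_lit 1,nat_lit 2,nat_lit 0,nat_lit 0,nat_lit 2,nat_lit 1,nat_lit 1])
) (.leaf [nat_lit 3,nat_lit 0,nat_lit 2,nat_lit 3,nat_lit 0,nat_lit 0,nat_lit 0,nat_lit 2,nat_lit 3,nat_lit 2,nat_lit 1,nat_lit 3,nat_lit 0,nat_lit 2,nat_lit 0,nat_lit 0,nat_lit 2,nat_lit 0,nat_lit 2])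
))))))
noncomputable def Fh7 : LT :=
(.node (.node (.node (.node (.node (.node (.node (.leaf [])
 (.leaf [nat_lit 5,nat_lit 0,nat_lit 3,nat_lit 2,nat_lit 3,nat_lit 1,nat_lit 3,nat_lit 0,nat_lit 2,nat_lit 3,nat_lit 0,nat_lit 0,nat_lit 2,nat_lit 0,nat_lit 3,nat_lit 1,nat_lit 3])
) (.node (.leaf [nat_lit 5,nat_lit 3,nat_lit 2,nat_lit 1,nat_lit 1,nat_lit 1,nat_lit 2,nat_lit 1,nat_lit 2,nat_lit 3,nat_lit 2,nat_lit 1,nat_lit 1,nat_lit 1,nat_lit 2,nat_lit 0,nat_lit 2,nat_lit 1,nat_lit 2])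
 (.leaf [nat_lit 19])
)) (.node (.node (.leaf [nat_lit 4,nat_lit 2,nat_lit 0,nat_lit 3,nat_lit 1,nat_lit 2,nat_lit 3,nat_lit 2,nat_lit 3,nat_lit 1,nat_lit 1,nat_lit 2,nat_lit 0,nat_lit 0,nat_lit 3,nat_lit 0,nat_lit 2,nat_lit 1,nat_lit 1,nat_lit 3,nat_lit 0])
 (.leaf [nat_lit 19,nat_lit 4,nat_lit 3,nat_lit 0,nat_lit 3,nat_lit 2,nat_lit 0,nat_lit 3,nat_lit 0,nat_lit 3,nat_lit 1,nat_lit 3,nat_lit 2,nat_lit 1,nat_lit 3,nat_lit 1,nat_lit 2,nat_lit 3,nat_lit 1,nat_lit 3])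
) (.leaf [nat_lit 4,nat_lit 0,nat_lit 0,nat_lit 2,nat_lit 1,nat_lit 1,nat_lit 1,nat_lit 3,nat_lit 0,nat_lit 2,nat_lit 1,nat_lit 2,nat_lit 1,nat_lit 1,nat_lit 2,nat_lit 0,nat_lit 0,nat_lit 2,nat_lit 1,nat_lit 2])
)) (.node (.node (.node (.leaf [nat_lit 3])
 (.leaf [nat_lit 19,nat_lit 4,nat_lit 1,nat_lit 1,nat_lit 2,nat_lit 1,nat_lit 2,nat_lit 0,nat_lit 2,nat_lit 0,nat_lit 0,nat_lit 3])
) (.node (.leaf [nat_lit 3,nat_lit 0,nat_lit 3,nat_lit 0,nat_lit 2,nat_lit 3,nat_lit 1,nat_lit 3,nat_lit 0,nat_lit 2,nat_lit 1,nat_lit 2,nat_lit 3,nat_lit 2,nat_lit 0,nat_lit 0,nat_lit 2,nat_lit 3,nat_lit 1,nat_lit 2])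
 (.leaf [nat_lit 19,nat_lit 5,nat_lit 1,nat_lit 2,nat_lit 1,nat_lit 2,nat_lit 1,nat_lit 3,nat_lit 1,nat_lit 1,nat_lit 1,nat_lit 3,nat_lit 0,nat_lit 3,nat_lit 1,nat_lit 2,nat_lit 1,nat_lit 2,nat_lit 1,nat_lit 2,nat_lit 0])
)) (.node (.node (.leaf [nat_lit 4,nat_lit 3,nat_lit 1,nat_lit 1,nat_lit 1,nat_lit 3,nat_lit 0,nat_lit 3,nat_lit 1,nat_lit 1,nat_lit 1,nat_lit 2,nat_lit 0,nat_lit 3,nat_lit 0,nat_lit 3,nat_lit 2,nat_lit 3,nat_lit 0,nat_lit 3])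
 (.leaf [nat_lit 19,nat_lit 3,nat_lit 2,nat_lit 3,nat_lit 2,nat_lit 0,nat_lit 0,nat_lit 3,nat_lit 0,nat_lit 2,nat_lit 0,nat_lit 3,nat_lit 1,nat_lit 3,nat_lit 2,nat_lit 3,nat_lit 0,nat_lit 0,nat_lit 0])
) (.leaf [nat_lit 4,nat_lit 1,nat_lit 2,nat_lit 0,nat_lit 2,nat_lit 0,nat_lit 0,nat_lit 0,nat_lit 3,nat_lit 0,nat_lit 3,nat_lit 1,nat_lit 1,nat_lit 3,nat_lit 2,nat_lit 0,nat_lit 3,nat_lit 1,nat_lit 1,nat_lit 3,nat_lit 2])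
))) (.node (.node (.node (.node (.leaf [nat_lit 2,nat_lit 1,nat_lit 3,nat_lit 1,nat_lit 1,nat_lit 2,nat_lit 3,nat_lit 0,nat_lit 0,nat_lit 3,nat_lit 1,nat_lit 3,nat_lit 1,nat_lit 1,nat_lit 3,nat_lit 1,nat_lit 1,nat_lit 1,nat_lit 3,nat_lit 0])
 (.leaf [nat_lit 19,nat_lit 3])
) (.node (.leaf [nat_lit 5,nat_lit 3,nat_lit 2,nat_lit 1,nat_lit 3,nat_lit 1,nat_lit 1,nat_lit 2,nat_lit 1,nat_lit 3,nat_lit 2,nat_lit 1,nat_lit 3,nat_lit 1,nat_lit 3,nat_lit 0,nat_lit 2,nat_lit 0,nat_lit 3,nat_lit 2,nat_lit 3,nat_lit 1])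
 (.leaf [nat_lit 19,nat_lit 5,nat_lit 0,nat_lit 2,nat_lit 1,nat_lit 2,nat_lit 1,nat_lit 2,nat_lit 1,nat_lit 3,nat_lit 0,nat_lit 0,nat_lit 0,nat_lit 3,nat_lit 2,nat_lit 1,nat_lit 3,nat_lit 2,nat_lit 1,nat_lit 3,nat_lit 2])
)) (.node (.node (.leaf [nat_lit 5,nat_lit 2,nat_lit 1,nat_lit 3,nat_lit 0,nat_lit 3,nat_lit 1,nat_lit 1,nat_lit 2,nat_lit 0,nat_lit 3,nat_lit 0,nat_lit 0,nat_lit 3,nat_lit 2,nat_lit 0,nat_lit 3,nat_lit 1,nat_lit 1,nat_lit 3])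
 (.leaf [nat_lit 19,nat_lit 2,nat_lit 1,nat_lit 2,nat_lit 3,nat_lit 1,nat_lit 3,nat_lit 1,nat_lit 1,nat_lit 3,nat_lit 0,nat_lit 2,nat_lit 1,nat_lit 1,nat_lit 1,nat_lit 2,nat_lit 1,nat_lit 2,nat_lit 3])
) (.leaf [nat_lit 4,nat_lit 3,nat_lit 2,nat_lit 3,nat_lit 0,nat_lit 0,nat_lit 3,nat_lit 0,nat_lit 0,nat_lit 3,nat_lit 2,nat_lit 0,nat_lit 0,nat_lit 2,nat_lit 3,nat_lit 0,nat_lit 3,nat_lit 0])
)) (.node (.node (.node (.leaf [nat_lit 1,nat_lit 2,nat_lit 3,nat_lit 1,nat_lit 2,nat_lit 0,nat_lit 2,nat_lit 3,nat_lit 1,nat_lit 3,nat_lit 2,nat_lit 0,nat_lit 3,nat_lit 0,nat_lit 2,nat_lit 0,nat_lit 3,nat_lit 0])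
 (.leaf [nat_lit 19,nat_lit 5,nat_lit 3,nat_lit 0,nat_lit 0,nat_lit 2,nat_lit 0,nat_lit 0,nat_lit 3,nat_lit 0,nat_lit 3,nat_lit 1,nat_lit 1,nat_lit 3,nat_lit 2,nat_lit 3,nat_lit 0,nat_lit 2,nat_lit 0,nat_lit 3,nat_lit 1,nat_lit 1])
) (.node (.leaf [nat_lit 2,nat_lit 1,nat_lit 3,nat_lit 2,nat_lit 0,nat_lit 3,nat_lit 1,nat_lit 1,nat_lit 2,nat_lit 3,nat_lit 1,nat_lit 1,nat_lit 2,nat_lit 1,nat_lit 1,nat_lit 2,nat_lit 1,nat_lit 1,nat_lit 3,nat_lit 1])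
 (.leaf [nat_lit 19,nat_lit 3,nat_lit 2,nat_lit 0,nat_lit 2,nat_lit 0,nat_lit 0,nat_lit 3,nat_lit 2,nat_lit 1,nat_lit 1,nat_lit 1,nat_lit 2,nat_lit 1,nat_lit 3,nat_lit 1,nat_lit 3])
)) (.node (.node (.leaf [nat_lit 5,nat_lit 0,nat_lit 2,nat_lit 1,nat_lit 3,nat_lit 0,nat_lit 0,nat_lit 3,nat_lit 0,nat_lit 2,nat_lit 1,nat_lit 1,nat_lit 3,nat_lit 1,nat_lit 1,nat_lit 3,nat_lit 0])
 (.leaf [nat_lit 19,nat_lit 4,nat_lit 0,nat_lit 2,nat_lit 0,nat_lit 2,nat_lit 3,nat_lit 0,nat_lit 3,nat_lit 2,nat_lit 1,nat_lit 1,nat_lit 2,nat_lit 1,nat_lit 2,nat_lit 1,nat_lit 3,nat_lit 2,nat_lit 3,nat_lit 2])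
) (.leaf [nat_lit 4,nat_lit 3,nat_lit 1,nat_lit 3,nat_lit 2,nat_lit 3,nat_lit 1,nat_lit 2,nat_lit 3,nat_lit 1,nat_lit 1,nat_lit 3,nat_lit 1,nat_lit 2,nat_lit 3,nat_lit 0,nat_lit 3,nat_lit 2,nat_lit 0])
)))) (.node (.node (.node (.node (.node (.leaf [nat_lit 2])
 (.leaf [])
) (.node (.leaf [nat_lit 4,nat_lit 0,nat_lit 2,nat_lit 0,nat_lit 3,nat_lit 1,nat_lit 3,nat_lit 1,nat_lit 1,nat_lit 2,nat_lit 3,nat_lit 0,nat_lit 3,nat_lit 2,nat_lit 1])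
 (.leaf [nat_lit 19,nat_lit 1,nat_lit 1,nat_lit 2,nat_lit 0,nat_lit 2,nat_lit 3,nat_lit 2,nat_lit 1,nat_lit 2,nat_lit 3,nat_lit 2,nat_lit 1,nat_lit 2,nat_lit 0,nat_lit 0,nat_lit 3,nat_lit 2])
)) (.node (.node (.leaf [nat_lit 3,nat_lit 0,nat_lit 3,nat_lit 2,nat_lit 3,nat_lit 1,nat_lit 1,nat_lit 2,nat_lit 0,nat_lit 2,nat_lit 1,nat_lit 3,nat_lit 1,nat_lit 2,nat_lit 0,nat_lit 0,nat_lit 2,nat_lit 1])
 (.leaf [nat_lit 19])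
) (.leaf [nat_lit 1,nat_lit 3,nat_lit 1,nat_lit 2,nat_lit 0,nat_lit 0,nat_lit 2,nat_lit 0,nat_lit 3,nat_lit 0,nat_lit 2,nat_lit 1,nat_lit 1,nat_lit 3,nat_lit 2,nat_lit 1,nat_lit 2])
)) (.node (.node (.node (.leaf [nat_lit 3,nat_lit 0,nat_lit 3,nat_lit 2,nat_lit 3,nat_lit 0,nat_lit 2,nat_lit 1,nat_lit 1,nat_lit 2,nat_lit 3,nat_lit 0,nat_lit 3,nat_lit 2,nat_lit 0,nat_lit 2,nat_lit 0,nat_lit 0,nat_lit 2,nat_lit 0])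
 (.leaf [nat_lit 19,nat_lit 4,nat_lit 2,nat_lit 1,nat_lit 2,nat_lit 3,nat_lit 2,nat_lit 1,nat_lit 1,nat_lit 1,nat_lit 2,nat_lit 3,nat_lit 0,nat_lit 3,nat_lit 2,nat_lit 0,nat_lit 3,nat_lit 2,nat_lit 1,nat_lit 3])
) (.node (.leaf [nat_lit 5,nat_lit 0,nat_lit 2,nat_lit 3,nat_lit 2,nat_lit 1,nat_lit 2,nat_lit 1,nat_lit 2,nat_lit 1,nat_lit 2,nat_lit 3,nat_lit 1,nat_lit 2,nat_lit 1,nat_lit 1,nat_lit 1,nat_lit 3,nat_lit 1,nat_lit 1])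
 (.leaf [nat_lit 19,nat_lit 0,nat_lit 3,nat_lit 2,nat_lit 0,nat_lit 0,nat_lit 2,nat_lit 3,nat_lit 0,nat_lit 0,nat_lit 3,nat_lit 0,nat_lit 0,nat_lit 3,nat_lit 2,nat_lit 1,nat_lit 2,nat_lit 1,nat_lit 2])
)) (.node (.node (.leaf [nat_lit 5,nat_lit 2,nat_lit 3,nat_lit 1,nat_lit 2,nat_lit 0,nat_lit 2,nat_lit 3,nat_lit 1,nat_lit 1,nat_lit 1,nat_lit 2,nat_lit 3,nat_lit 1,nat_lit 2,nat_lit 0,nat_lit 0,nat_lit 3,nat_lit 0])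
 (.leaf [nat_lit 19,nat_lit 4,nat_lit 3,nat_lit 2,nat_lit 1,nat_lit 2,nat_lit 0,nat_lit 3,nat_lit 2,nat_lit 3,nat_lit 0,nat_lit 3,nat_lit 0,nat_lit 2,nat_lit 0,nat_lit 0,nat_lit 3,nat_lit 0,nat_lit 2,nat_lit 0,nat_lit 3])
) (.leaf [nat_lit 4,nat_lit 3,nat_lit 1,nat_lit 2,nat_lit 3,nat_lit 1,nat_lit 3,nat_lit 2,nat_lit 0,nat_lit 2,nat_lit 1,nat_lit 1,nat_lit 3,nat_lit 0,nat_lit 0,nat_lit 2,nat_lit 0,nat_lit 2,nat_lit 3])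
))) (.node (.node (.node (.node (.leaf [nat_lit 1,nat_lit 1,nat_lit 1,nat_lit 3,nat_lit 2,nat_lit 3,nat_lit 1,nat_lit 3,nat_lit 1,nat_lit 2,nat_lit 3,nat_lit 0,nat_lit 2,nat_lit 3,nat_lit 0,nat_lit 0,nat_lit 3,nat_lit 2])
 (.leaf [nat_lit 19,nat_lit 4,nat_lit 1,nat_lit 1,nat_lit 3,nat_lit 2,nat_lit 3,nat_lit 0,nat_lit 2,nat_lit 3,nat_lit 2,nat_lit 1,nat_lit 1,nat_lit 2,nat_lit 3,nat_lit 1,nat_lit 1,nat_lit 2,nat_lit 3,nat_lit 0,nat_lit 0])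
) (.node (.leaf [nat_lit 4,nat_lit 3,nat_lit 0,nat_lit 3,nat_lit 1,nat_lit 2,nat_lit 3,nat_lit 1,nat_lit 2,nat_lit 3,nat_lit 0,nat_lit 3,nat_lit 2,nat_lit 1,nat_lit 2,nat_lit 0,nat_lit 3,nat_lit 2])
 (.leaf [nat_lit 19,nat_lit 0,nat_lit 3,nat_lit 0,nat_lit 0,nat_lit 2,nat_lit 1,nat_lit 2,nat_lit 0,nat_lit 0,nat_lit 3,nat_lit 1,nat_lit 1,nat_lit 2,nat_lit 1,nat_lit 2,nat_lit 1,nat_lit 2,nat_lit 0,nat_lit 0])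
)) (.node (.node (.leaf [nat_lit 3,nat_lit 2,nat_lit 0,nat_lit 3,nat_lit 0,nat_lit 2,nat_lit 1,nat_lit 2,nat_lit 1,nat_lit 3,nat_lit 1,nat_lit 3,nat_lit 2,nat_lit 3,nat_lit 2,nat_lit 1])
 (.leaf [nat_lit 19,nat_lit 5,nat_lit 0,nat_lit 0,nat_lit 2,nat_lit 1,nat_lit 3,nat_lit 2,nat_lit 1,nat_lit 1,nat_lit 1,nat_lit 2,nat_lit 0,nat_lit 3,nat_lit 2,nat_lit 0,nat_lit 3,nat_lit 2,nat_lit 3])
) (.leaf [nat_lit 5,nat_lit 1,nat_lit 2,nat_lit 0,nat_lit 2,nat_lit 3,nat_lit 0,nat_lit 0,nat_lit 3,nat_lit 2,nat_lit 1,nat_lit 2,nat_lit 1,nat_lit 2,nat_lit 0,nat_lit 2,nat_lit 0,nat_lit 2,nat_lit 1,nat_lit 2])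
)) (.node (.node (.node (.leaf [nat_lit 5,nat_lit 1,nat_lit 1,nat_lit 2,nat_lit 1,nat_lit 3,nat_lit 2,nat_lit 1,nat_lit 1,nat_lit 1,nat_lit 2,nat_lit 1,nat_lit 2,nat_lit 1,nat_lit 1,nat_lit 1,nat_lit 2,nat_lit 3,nat_lit 2,nat_lit 1,nat_lit 3])
 (.leaf [nat_lit 19,nat_lit 3,nat_lit 2,nat_lit 0,nat_lit 0,nat_lit 3,nat_lit 0,nat_lit 0,nat_lit 2,nat_lit 0,nat_lit 3,nat_lit 2,nat_lit 3,nat_lit 2,nat_lit 0,nat_lit 2,nat_lit 1,nat_lit 1,nat_lit 3,nat_lit 0])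
) (.leaf [nat_lit 5,nat_lit 2,nat_lit 0,nat_lit 3,nat_lit 2,nat_lit 0,nat_lit 2,nat_lit 1,nat_lit 1,nat_lit 3,nat_lit 1,nat_lit 1,nat_lit 2,nat_lit 0,nat_lit 3,nat_lit 2,nat_lit 0,nat_lit 0])
) (.node (.node (.leaf [nat_lit 4,nat_lit 0,nat_lit 3,nat_lit 1,nat_lit 3,nat_lit 2,nat_lit 0,nat_lit 0,nat_lit 2,nat_lit 1,nat_lit 3,nat_lit 0,nat_lit 3,nat_lit 1,nat_lit 3,nat_lit 0,nat_lit 2,nat_lit 0,nat_lit 2,nat_lit 3,nat_lit 1])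
 (.leaf [nat_lit 19,nat_lit 5,nat_lit 1,nat_lit 2,nat_lit 0,nat_lit 2,nat_lit 0,nat_lit 3,nat_lit 1,nat_lit 2,nat_lit 3,nat_lit 0,nat_lit 3,nat_lit 0,nat_lit 2,nat_lit 0,nat_lit 3,nat_lit 0,nat_lit 2,nat_lit 1,nat_lit 2])
) (.leaf [nat_lit 5,nat_lit 0,nat_lit 0,nat_lit 3,nat_lit 0,nat_lit 2,nat_lit 0,nat_lit 0,nat_lit 2,nat_lit 1,nat_lit 3,nat_lit 1,nat_lit 2,nat_lit 0,nat_lit 3,nat_lit 0,nat_lit 2,nat_lit 0,nat_lit 0,nat_lit 3,nat_lit 2])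
))))) (.node (.node (.node (.node (.node (.node (.leaf [])
 (.leaf [nat_lit 4,nat_lit 3,nat_lit 0,nat_lit 0,nat_lit 2,nat_lit 3,nat_lit 2,nat_lit 0,nat_lit 3,nat_lit 2,nat_lit 1,nat_lit 3,nat_lit 2,nat_lit 0,nat_lit 3,nat_lit 1,nat_lit 2,nat_lit 1,nat_lit 2,nat_lit 1])
) (.node (.leaf [nat_lit 4,nat_lit 3,nat_lit 0,nat_lit 0,nat_lit 3,nat_lit 2,nat_lit 3,nat_lit 0,nat_lit 0,nat_lit 3,nat_lit 0,nat_lit 2,nat_lit 0,nat_lit 0,nat_lit 2,nat_lit 0,nat_lit 0,nat_lit 2,nat_lit 1,nat_lit 1,nat_lit 1])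
 (.leaf [nat_lit 19,nat_lit 4,nat_lit 0,nat_lit 0,nat_lit 2,nat_lit 0,nat_lit 3,nat_lit 2,nat_lit 0,nat_lit 2,nat_lit 0,nat_lit 2,nat_lit 1,nat_lit 2,nat_lit 3,nat_lit 2,nat_lit 0,nat_lit 3])
)) (.node (.node (.leaf [nat_lit 4,nat_lit 1,nat_lit 1,nat_lit 3,nat_lit 0,nat_lit 2,nat_lit 0,nat_lit 2,nat_lit 1,nat_lit 1,nat_lit 3,nat_lit 0,nat_lit 3,nat_lit 2,nat_lit 0,nat_lit 0,nat_lit 0,nat_lit 3,nat_lit 1,nat_lit 3])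
 (.leaf [nat_lit 19,nat_lit 1,nat_lit 2,nat_lit 0,nat_lit 2,nat_lit 1,nat_lit 2,nat_lit 1,nat_lit 3,nat_lit 1,nat_lit 2,nat_lit 0,nat_lit 0,nat_lit 3,nat_lit 2,nat_lit 1])
) (.leaf [nat_lit 5,nat_lit 1,nat_lit 2,nat_lit 0,nat_lit 3,nat_lit 1,nat_lit 3,nat_lit 1,nat_lit 1,nat_lit 3,nat_lit 2,nat_lit 0,nat_lit 3,nat_lit 0,nat_lit 0,nat_lit 0,nat_lit 2,nat_lit 3,nat_lit 2,nat_lit 1,nat_lit 3])
)) (.node (.node (.node (.leaf [nat_lit 5,nat_lit 2,nat_lit 1,nat_lit 1,nat_lit 3,nat_lit 2,nat_lit 0,nat_lit 0,nat_lit 0,nat_lit 2,nat_lit 1,nat_lit 2,nat_lit 1,nat_lit 1,nat_lit 3,nat_lit 1,nat_lit 1,nat_lit 2,nat_lit 1])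
 (.leaf [nat_lit 19,nat_lit 3,nat_lit 2,nat_lit 1,nat_lit 3,nat_lit 2,nat_lit 3,nat_lit 2,nat_lit 1,nat_lit 1,nat_lit 3,nat_lit 1,nat_lit 1,nat_lit 2,nat_lit 0,nat_lit 0,nat_lit 2,nat_lit 3,nat_lit 0])
) (.node (.leaf [nat_lit 4,nat_lit 0,nat_lit 0,nat_lit 2,nat_lit 1,nat_lit 3,nat_lit 0,nat_lit 3,nat_lit 1,nat_lit 1,nat_lit 1,nat_lit 2,nat_lit 3,nat_lit 0,nat_lit 0,nat_lit 0,nat_lit 2,nat_lit 1,nat_lit 1])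
 (.leaf [nat_lit 19,nat_lit 2,nat_lit 0,nat_lit 3,nat_lit 2,nat_lit 3,nat_lit 1,nat_lit 2,nat_lit 0,nat_lit 2,nat_lit 1,nat_lit 2,nat_lit 1,nat_lit 2,nat_lit 3,nat_lit 1,nat_lit 1])
)) (.node (.node (.leaf [nat_lit 4,nat_lit 1,nat_lit 2,nat_lit 0,nat_lit 2,nat_lit 1,nat_lit 1,nat_lit 3,nat_lit 0,nat_lit 2,nat_lit 0,nat_lit 2,nat_lit 0,nat_lit 2,nat_lit 1,nat_lit 3,nat_lit 0,nat_lit 2,nat_lit 1])
 (.leaf [nat_lit 19,nat_lit 4,nat_lit 0,nat_lit 3,nat_lit 1,nat_lit 1,nat_lit 3,nat_lit 2,nat_lit 3,nat_lit 2,nat_lit 0,nat_lit 0,nat_lit 0,nat_lit 2,nat_lit 0,nat_lit 0,nat_lit 0,nat_lit 2,nat_lit 0,nat_lit 0,nat_lit 3,nat_lit 1])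
) (.leaf [nat_lit 5,nat_lit 0,nat_lit 0,nat_lit 0,nat_lit 2,nat_lit 0,nat_lit 2,nat_lit 0,nat_lit 0,nat_lit 2,nat_lit 0,nat_lit 2,nat_lit 3,nat_lit 2,nat_lit 0,nat_lit 3,nat_lit 2])
))) (.node (.node (.node (.node (.leaf [nat_lit 5,nat_lit 0,nat_lit 0,nat_lit 3,nat_lit 2,nat_lit 3,nat_lit 1,nat_lit 2,nat_lit 1,nat_lit 2,nat_lit 0,nat_lit 3,nat_lit 0,nat_lit 0,nat_lit 2,nat_lit 1,nat_lit 1,nat_lit 3,nat_lit 0])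
 (.leaf [nat_lit 19])
) (.node (.leaf [nat_lit 5,nat_lit 0,nat_lit 0,nat_lit 3,nat_lit 2,nat_lit 0,nat_lit 3,nat_lit 0,nat_lit 0,nat_lit 2,nat_lit 1,nat_lit 2,nat_lit 3,nat_lit 0,nat_lit 3,nat_lit 1,nat_lit 1,nat_lit 2,nat_lit 0,nat_lit 2])
 (.leaf [nat_lit 19,nat_lit 4,nat_lit 2,nat_lit 1,nat_lit 3,nat_lit 1,nat_lit 2,nat_lit 3,nat_lit 1,nat_lit 3,nat_lit 1,nat_lit 1,nat_lit 2,nat_lit 3,nat_lit 0,nat_lit 0,nat_lit 2,nat_lit 0,nat_lit 3,nat_lit 0])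
)) (.node (.node (.leaf [nat_lit 1,nat_lit 3,nat_lit 0,nat_lit 3,nat_lit 1,nat_lit 3,nat_lit 2,nat_lit 0,nat_lit 3,nat_lit 1,nat_lit 3,nat_lit 1,nat_lit 2,nat_lit 0,nat_lit 2,nat_lit 3,nat_lit 0,nat_lit 3])
 (.leaf [nat_lit 19,nat_lit 5,nat_lit 2,nat_lit 1,nat_lit 3,nat_lit 1,nat_lit 2,nat_lit 3,nat_lit 1,nat_lit 1,nat_lit 2,nat_lit 0,nat_lit 2,nat_lit 3,nat_lit 1,nat_lit 3,nat_lit 2,nat_lit 0,nat_lit 0,nat_lit 3,nat_lit 1])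
) (.leaf [nat_lit 1,nat_lit 1,nat_lit 2,nat_lit 1,nat_lit 1,nat_lit 1,nat_lit 2,nat_lit 1,nat_lit 1,nat_lit 1,nat_lit 2,nat_lit 1,nat_lit 1,nat_lit 3,nat_lit 1,nat_lit 1])
)) (.node (.node (.node (.leaf [nat_lit 5,nat_lit 0,nat_lit 0,nat_lit 2,nat_lit 0,nat_lit 3,nat_lit 2,nat_lit 0,nat_lit 2,nat_lit 0,nat_lit 3,nat_lit 1,nat_lit 2,nat_lit 0,nat_lit 0])
 (.leaf [nat_lit 19,nat_lit 5,nat_lit 0,nat_lit 2,nat_lit 3,nat_lit 2,nat_lit 1,nat_lit 2,nat_lit 1,nat_lit 2,nat_lit 1,nat_lit 2,nat_lit 3,nat_lit 1,nat_lit 2,nat_lit 1,nat_lit 1,nat_lit 1,nat_lit 3,nat_lit 1,nat_lit 1])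
) (.node (.leaf [nat_lit 5,nat_lit 0,nat_lit 3,nat_lit 1,nat_lit 2,nat_lit 0,nat_lit 2,nat_lit 0,nat_lit 3,nat_lit 0,nat_lit 3,nat_lit 2,nat_lit 3,nat_lit 2,nat_lit 0,nat_lit 3,nat_lit 0,nat_lit 0,nat_lit 3])
 (.leaf [nat_lit 19,nat_lit 5,nat_lit 1,nat_lit 3,nat_lit 2,nat_lit 3,nat_lit 2,nat_lit 0,nat_lit 3,nat_lit 2,nat_lit 0,nat_lit 0,nat_lit 3,nat_lit 1,nat_lit 3,nat_lit 0,nat_lit 0,nat_lit 0,nat_lit 3,nat_lit 0,nat_lit 3,nat_lit 0])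
)) (.node (.node (.leaf [nat_lit 0,nat_lit 2,nat_lit 3,nat_lit 0,nat_lit 0,nat_lit 2,nat_lit 1,nat_lit 3,nat_lit 0,nat_lit 2,nat_lit 1,nat_lit 1,nat_lit 1,nat_lit 3,nat_lit 1,nat_lit 3,nat_lit 0,nat_lit 0,nat_lit 3])
 (.leaf [nat_lit 19,nat_lit 5,nat_lit 2,nat_lit 0,nat_lit 0,nat_lit 2,nat_lit 1,nat_lit 3,nat_lit 0,nat_lit 2,nat_lit 3,nat_lit 0,nat_lit 0,nat_lit 2,nat_lit 0,nat_lit 3,nat_lit 1,nat_lit 3,nat_lit 0,nat_lit 0,nat_lit 3,nat_lit 0])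
) (.leaf [nat_lit 5,nat_lit 2,nat_lit 3,nat_lit 1,nat_lit 1,nat_lit 3,nat_lit 1,nat_lit 3,nat_lit 2,nat_lit 0,nat_lit 2,nat_lit 3,nat_lit 2,nat_lit 3,nat_lit 1,nat_lit 1,nat_lit 1,nat_lit 3])
)))) (.node (.node (.node (.node (.node (.leaf [nat_lit 5,nat_lit 0,nat_lit 2,nat_lit 3,nat_lit 1,nat_lit 3,nat_lit 0,nat_lit 3,nat_lit 0,nat_lit 0,nat_lit 0,nat_lit 2,nat_lit 0,nat_lit 3,nat_lit 0,nat_lit 2,nat_lit 3,nat_lit 0,nat_lit 0,nat_lit 2])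
 (.leaf [])
) (.node (.leaf [nat_lit 4,nat_lit 0,nat_lit 2,nat_lit 0,nat_lit 2,nat_lit 3,nat_lit 0,nat_lit 3,nat_lit 2,nat_lit 1,nat_lit 1,nat_lit 2,nat_lit 1,nat_lit 2,nat_lit 1,nat_lit 3,nat_lit 2,nat_lit 3,nat_lit 2])
 (.leaf [nat_lit 19,nat_lit 2,nat_lit 1,nat_lit 1,nat_lit 3,nat_lit 1,nat_lit 2,nat_lit 0,nat_lit 2,nat_lit 3,nat_lit 1,nat_lit 3,nat_lit 2,nat_lit 3,nat_lit 2,nat_lit 0,nat_lit 3,nat_lit 1])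
)) (.node (.node (.leaf [nat_lit 4,nat_lit 1,nat_lit 1,nat_lit 1,nat_lit 2,nat_lit 3,nat_lit 0,nat_lit 3,nat_lit 2,nat_lit 1,nat_lit 3,nat_lit 1,nat_lit 2,nat_lit 0,nat_lit 3,nat_lit 2,nat_lit 1,nat_lit 2])
 (.leaf [nat_lit 19,nat_lit 2,nat_lit 1,nat_lit 1,nat_lit 2,nat_lit 1,nat_lit 1,nat_lit 2,nat_lit 1,nat_lit 3,nat_lit 2,nat_lit 3,nat_lit 2,nat_lit 0,nat_lit 2,nat_lit 1,nat_lit 3,nat_lit 0,nat_lit 2,nat_lit 3])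
) (.leaf [nat_lit 4,nat_lit 3,nat_lit 1,nat_lit 3,nat_lit 0,nat_lit 3,nat_lit 2,nat_lit 1,nat_lit 1,nat_lit 2,nat_lit 3,nat_lit 1,nat_lit 3,nat_lit 0,nat_lit 0,nat_lit 0,nat_lit 2,nat_lit 1,nat_lit 1,nat_lit 3])
)) (.node (.node (.node (.leaf [nat_lit 0,nat_lit 0,nat_lit 0,nat_lit 3,nat_lit 2,nat_lit 0,nat_lit 0,nat_lit 0,nat_lit 2,nat_lit 3,nat_lit 2,nat_lit 3,nat_lit 0,nat_lit 2,nat_lit 0,nat_lit 3,nat_lit 1,nat_lit 1,nat_lit 3])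
 (.leaf [nat_lit 19,nat_lit 5,nat_lit 1,nat_lit 1,nat_lit 3,nat_lit 1,nat_lit 3,nat_lit 2,nat_lit 0,nat_lit 2,nat_lit 0,nat_lit 0,nat_lit 2,nat_lit 3,nat_lit 2,nat_lit 1,nat_lit 3,nat_lit 2,nat_lit 1,nat_lit 1,nat_lit 2])
) (.node (.leaf [nat_lit 0,nat_lit 0,nat_lit 3,nat_lit 2,nat_lit 0,nat_lit 3,nat_lit 2,nat_lit 1,nat_lit 1,nat_lit 1,nat_lit 3,nat_lit 1,nat_lit 2,nat_lit 3,nat_lit 1,nat_lit 1,nat_lit 1,nat_lit 2,nat_lit 0])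
 (.leaf [nat_lit 19,nat_lit 0,nat_lit 3,nat_lit 2,nat_lit 3,nat_lit 2,nat_lit 1,nat_lit 3,nat_lit 2,nat_lit 0,nat_lit 2,nat_lit 0,nat_lit 3,nat_lit 2,nat_lit 1,nat_lit 1,nat_lit 3,nat_lit 1,nat_lit 2,nat_lit 1,nat_lit 3])
)) (.node (.node (.leaf [nat_lit 1,nat_lit 2,nat_lit 0,nat_lit 2,nat_lit 1,nat_lit 2,nat_lit 1,nat_lit 3,nat_lit 1,nat_lit 2,nat_lit 0,nat_lit 0,nat_lit 3,nat_lit 2,nat_lit 1])
 (.leaf [nat_lit 19,nat_lit 4,nat_lit 0,nat_lit 3,nat_lit 1,nat_lit 3,nat_lit 1,nat_lit 2,nat_lit 3,nat_lit 0,nat_lit 2,nat_lit 3,nat_lit 1,nat_lit 1,nat_lit 2,nat_lit 3,nat_lit 2,nat_lit 0,nat_lit 2,nat_lit 0])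
) (.leaf [nat_lit 4,nat_lit 2,nat_lit 1,nat_lit 1,nat_lit 3,nat_lit 0,nat_lit 2,nat_lit 1,nat_lit 2,nat_lit 0,nat_lit 2,nat_lit 3,nat_lit 2,nat_lit 1,nat_lit 3,nat_lit 2,nat_lit 1,nat_lit 1,nat_lit 1])
))) (.node (.node (.node (.node (.leaf [nat_lit 4,nat_lit 1,nat_lit 1,nat_lit 1,nat_lit 3,nat_lit 0,nat_lit 0,nat_lit 2,nat_lit 3,nat_lit 1,nat_lit 3,nat_lit 0,nat_lit 2,nat_lit 3,nat_lit 1,nat_lit 1,nat_lit 1,nat_lit 2,nat_lit 1,nat_lit 3,nat_lit 1])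
 (.leaf [nat_lit 19])
) (.node (.leaf [nat_lit 5,nat_lit 3,nat_lit 2,nat_lit 1,nat_lit 1,nat_lit 3,nat_lit 2,nat_lit 0,nat_lit 0,nat_lit 3,nat_lit 2,nat_lit 0,nat_lit 0,nat_lit 0,nat_lit 3,nat_lit 2,nat_lit 0,nat_lit 3,nat_lit 0])
 (.leaf [nat_lit 19,nat_lit 1,nat_lit 2,nat_lit 0,nat_lit 3,nat_lit 1,nat_lit 3,nat_lit 1,nat_lit 1,nat_lit 2,nat_lit 3,nat_lit 2,nat_lit 1,nat_lit 3,nat_lit 2,nat_lit 0,nat_lit 0,nat_lit 2,nat_lit 3,nat_lit 2,nat_lit 3])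
)) (.node (.node (.leaf [nat_lit 5,nat_lit 3,nat_lit 2,nat_lit 3,nat_lit 0,nat_lit 2,nat_lit 0,nat_lit 3,nat_lit 2,nat_lit 1,nat_lit 1,nat_lit 3,nat_lit 0,nat_lit 3,nat_lit 1,nat_lit 1,nat_lit 1,nat_lit 2,nat_lit 3,nat_lit 2])
 (.leaf [nat_lit 19,nat_lit 3,nat_lit 2,nat_lit 1,nat_lit 3,nat_lit 2,nat_lit 1,nat_lit 2,nat_lit 1,nat_lit 2,nat_lit 1,nat_lit 3,nat_lit 2,nat_lit 0,nat_lit 0,nat_lit 3,nat_lit 0,nat_lit 0,nat_lit 3])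
) (.leaf [nat_lit 4,nat_lit 0,nat_lit 0,nat_lit 2,nat_lit 3,nat_lit 1,nat_lit 1,nat_lit 3,nat_lit 1,nat_lit 2,nat_lit 0,nat_lit 2,nat_lit 1,nat_lit 3,nat_lit 0,nat_lit 2,nat_lit 1,nat_lit 1])
)) (.node (.node (.node (.leaf [nat_lit 0,nat_lit 2,nat_lit 3,nat_lit 0,nat_lit 2,nat_lit 1,nat_lit 3,nat_lit 1,nat_lit 2,nat_lit 3,nat_lit 2,nat_lit 3,nat_lit 2,nat_lit 1,nat_lit 1,nat_lit 3,nat_lit 1,nat_lit 1])
 (.leaf [nat_lit 19,nat_lit 5,nat_lit 2,nat_lit 3,nat_lit 0,nat_lit 3,nat_lit 2,nat_lit 1,nat_lit 2,nat_lit 3,nat_lit 1,nat_lit 2,nat_lit 1,nat_lit 3,nat_lit 2,nat_lit 0,nat_lit 3,nat_lit 1,nat_lit 2,nat_lit 1])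
) (.leaf [nat_lit 4,nat_lit 1,nat_lit 2,nat_lit 0,nat_lit 2,nat_lit 3,nat_lit 2,nat_lit 0,nat_lit 3,nat_lit 1,nat_lit 1,nat_lit 2,nat_lit 3,nat_lit 0,nat_lit 2,nat_lit 0,nat_lit 3,nat_lit 2])
) (.node (.node (.leaf [nat_lit 5,nat_lit 1,nat_lit 3,nat_lit 2,nat_lit 1,nat_lit 3,nat_lit 0,nat_lit 2,nat_lit 1,nat_lit 1,nat_lit 2,nat_lit 3,nat_lit 1,nat_lit 1,nat_lit 3,nat_lit 1,nat_lit 3,nat_lit 0,nat_lit 0,nat_lit 2])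
 (.leaf [nat_lit 19,nat_lit 5,nat_lit 2,nat_lit 1,nat_lit 2,nat_lit 1,nat_lit 2,nat_lit 0,nat_lit 0,nat_lit 3,nat_lit 1,nat_lit 3,nat_lit 0,nat_lit 3,nat_lit 1,nat_lit 2,nat_lit 0,nat_lit 0,nat_lit 2,nat_lit 1,nat_lit 1])
) (.leaf [nat_lit 5,nat_lit 2,nat_lit 0,nat_lit 0,nat_lit 2,nat_lit 0,nat_lit 3,nat_lit 0,nat_lit 2,nat_lit 0,nat_lit 3,nat_lit 1,nat_lit 1,nat_lit 1,nat_lit 2,nat_lit 0,nat_lit 0,nat_lit 2,nat_lit 3,nat_lit 1,nat_lit 1])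
))))))
noncomputable def Fh : LT :=
(.node (.node (.node Fh0 Fh4) (.node Fh2 Fh6)) (.node (.node Fh1 Fh5) (.node Fh3 Fh7)))

noncomputable def Fc0 : LT :=
(.node (.node (.node (.node (.node (.node (.node (.leaf [nat_lit 0])
 (.leaf [nat_lit 5,nat_lit 2,nat_lit 0,nat_lit 0,nat_lit 2,nat_lit 0,nat_lit 3,nat_lit 0,nat_lit 2,nat_lit 0,nat_lit 3,nat_lit 1,nat_lit 1,nat_lit 1,nat_lit 2,nat_lit 0,nat_lit 0,nat_lit 2,nat_lit 3,nat_lit 1,nat_lit 1])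
) (.node (.leaf [nat_lit 5,nat_lit 3,nat_lit 1,nat_lit 3,nat_lit 1,nat_lit 2,nat_lit 3,nat_lit 2,nat_lit 3,nat_lit 1,nat_lit 2,nat_lit 0,nat_lit 3,nat_lit 2,nat_lit 0,nat_lit 2,nat_lit 1,nat_lit 1,nat_lit 1])
 (.leaf [nat_lit 1,nat_lit 3,nat_lit 2,nat_lit 3,nat_lit 2,nat_lit 1,nat_lit 3,nat_lit 0,nat_lit 0,nat_lit 2,nat_lit 0,nat_lit 0,nat_lit 2,nat_lit 3,nat_lit 2,nat_lit 1,nat_lit 1,nat_lit 3,nat_lit 2])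
)) (.node (.node (.leaf [nat_lit 0,nat_lit 2,nat_lit 3,nat_lit 0,nat_lit 2,nat_lit 1,nat_lit 3,nat_lit 1,nat_lit 2,nat_lit 3,nat_lit 2,nat_lit 3,nat_lit 2,nat_lit 1,nat_lit 1,nat_lit 3,nat_lit 1,nat_lit 1])
 (.leaf [nat_lit 0,nat_lit 0,nat_lit 2,nat_lit 3,nat_lit 0,nat_lit 0,nat_lit 0,nat_lit 3,nat_lit 1,nat_lit 3,nat_lit 0,nat_lit 2,nat_lit 0,nat_lit 3,nat_lit 0,nat_lit 0,nat_lit 0])
) (.leaf [nat_lit 3,nat_lit 1,nat_lit 3,nat_lit 2,nat_lit 0,nat_lit 3,nat_lit 1,nat_lit 3,nat_lit 2,nat_lit 0,nat_lit 2,nat_lit 0,nat_lit 3,nat_lit 0,nat_lit 2,nat_lit 3,nat_lit 1,nat_lit 2,nat_lit 3])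
)) (.node (.node (.node (.leaf [nat_lit 4,nat_lit 1,nat_lit 1,nat_lit 1,nat_lit 3,nat_lit 0,nat_lit 0,nat_lit 2,nat_lit 3,nat_lit 1,nat_lit 3,nat_lit 0,nat_lit 2,nat_lit 3,nat_lit 1,nat_lit 1,nat_lit 1,nat_lit 2,nat_lit 1,nat_lit 3,nat_lit 1])
 (.leaf [])
) (.node (.leaf [nat_lit 5,nat_lit 3,nat_lit 2,nat_lit 1,nat_lit 1,nat_lit 3,nat_lit 2,nat_lit 0,nat_lit 0,nat_lit 3,nat_lit 2,nat_lit 0,nat_lit 0,nat_lit 0,nat_lit 3,nat_lit 2,nat_lit 0,nat_lit 3,nat_lit 0])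
 (.leaf [nat_lit 4,nat_lit 0,nat_lit 0,nat_lit 2,nat_lit 0,nat_lit 3,nat_lit 2,nat_lit 0,nat_lit 2,nat_lit 1,nat_lit 3,nat_lit 2,nat_lit 0,nat_lit 3,nat_lit 1,nat_lit 1,nat_lit 2,nat_lit 1,nat_lit 3,nat_lit 0])
)) (.node (.node (.leaf [nat_lit 5,nat_lit 3,nat_lit 2,nat_lit 3,nat_lit 0,nat_lit 2,nat_lit 0,nat_lit 3,nat_lit 2,nat_lit 1,nat_lit 1,nat_lit 3,nat_lit 0,nat_lit 3,nat_lit 1,nat_lit 1,nat_lit 1,nat_lit 2,nat_lit 3,nat_lit 2])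
 (.leaf [nat_lit 4,nat_lit 3,nat_lit 2,nat_lit 3,nat_lit 2,nat_lit 3,nat_lit 2,nat_lit 1,nat_lit 3,nat_lit 2,nat_lit 0,nat_lit 0,nat_lit 3,nat_lit 2,nat_lit 1,nat_lit 3,nat_lit 0,nat_lit 2,nat_lit 1])
) (.leaf [nat_lit 5,nat_lit 2,nat_lit 0,nat_lit 2,nat_lit 1,nat_lit 3,nat_lit 0,nat_lit 2,nat_lit 0,nat_lit 0,nat_lit 3,nat_lit 1,nat_lit 3,nat_lit 2,nat_lit 3,nat_lit 0,nat_lit 2,nat_lit 1,nat_lit 1,nat_lit 2,nat_lit 1])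
))) (.node (.node (.node (.node (.leaf [nat_lit 86])
 (.leaf [])
) (.node (.leaf [nat_lit 4,nat_lit 0,nat_lit 2,nat_lit 0,nat_lit 2,nat_lit 3,nat_lit 0,nat_lit 3,nat_lit 2,nat_lit 1,nat_lit 1,nat_lit 2,nat_lit 1,nat_lit 2,nat_lit 1,nat_lit 3,nat_lit 2,nat_lit 3,nat_lit 2])
 (.leaf [nat_lit 5,nat_lit 2,nat_lit 1,nat_lit 3,nat_lit 0,nat_lit 2,nat_lit 3,nat_lit 2,nat_lit 1,nat_lit 2,nat_lit 0,nat_lit 0,nat_lit 0,nat_lit 3,nat_lit 1,nat_lit 2,nat_lit 1,nat_lit 3,nat_lit 2])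
)) (.node (.node (.leaf [nat_lit 1,nat_lit 1,nat_lit 3,nat_lit 0,nat_lit 0,nat_lit 3,nat_lit 0,nat_lit 2,nat_lit 1,nat_lit 2,nat_lit 0,nat_lit 3,nat_lit 1,nat_lit 2,nat_lit 3,nat_lit 1,nat_lit 1,nat_lit 2])
 (.leaf [nat_lit 5,nat_lit 3,nat_lit 0,nat_lit 0,nat_lit 2,nat_lit 3,nat_lit 1,nat_lit 1,nat_lit 3,nat_lit 1,nat_lit 3,nat_lit 2,nat_lit 3,nat_lit 1,nat_lit 1,nat_lit 3,nat_lit 0,nat_lit 3,nat_lit 2])
) (.leaf [nat_lit 4,nat_lit 3,nat_lit 1,nat_lit 3,nat_lit 0,nat_lit 3,nat_lit 2,nat_lit 1,nat_lit 1,nat_lit 2,nat_lit 3,nat_lit 1,nat_lit 3,nat_lit 0,nat_lit 0,nat_lit 0,nat_lit 2,nat_lit 1,nat_lit 1,nat_lit 3])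
)) (.node (.node (.node (.leaf [nat_lit 4,nat_lit 0,nat_lit 0,nat_lit 3,nat_lit 2,nat_lit 3,nat_lit 1,nat_lit 2,nat_lit 1,nat_lit 2,nat_lit 1,nat_lit 2,nat_lit 0,nat_lit 2,nat_lit 1,nat_lit 2,nat_lit 1,nat_lit 3,nat_lit 1,nat_lit 1])
 (.leaf [nat_lit 5,nat_lit 2,nat_lit 0,nat_lit 0,nat_lit 0,nat_lit 2,nat_lit 1,nat_lit 2,nat_lit 1,nat_lit 3,nat_lit 2,nat_lit 0,nat_lit 2,nat_lit 3,nat_lit 1,nat_lit 2,nat_lit 0,nat_lit 3])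
) (.node (.leaf [nat_lit 5,nat_lit 3,nat_lit 0,nat_lit 0,nat_lit 2,nat_lit 3,nat_lit 1,nat_lit 1,nat_lit 3,nat_lit 1,nat_lit 3,nat_lit 2,nat_lit 3,nat_lit 1,nat_lit 1,nat_lit 3,nat_lit 0,nat_lit 3,nat_lit 2])
 (.leaf [nat_lit 4,nat_lit 0,nat_lit 3,nat_lit 1,nat_lit 3,nat_lit 1,nat_lit 2,nat_lit 3,nat_lit 0,nat_lit 2,nat_lit 3,nat_lit 1,nat_lit 1,nat_lit 2,nat_lit 3,nat_lit 2,nat_lit 0,nat_lit 2,nat_lit 0])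
)) (.node (.node (.leaf [nat_lit 5,nat_lit 2,nat_lit 0,nat_lit 3,nat_lit 2,nat_lit 0,nat_lit 2,nat_lit 0,nat_lit 3,nat_lit 1,nat_lit 2,nat_lit 1,nat_lit 3,nat_lit 2,nat_lit 1,nat_lit 3,nat_lit 1])
 (.leaf [nat_lit 5,nat_lit 2,nat_lit 1,nat_lit 1,nat_lit 2,nat_lit 3,nat_lit 0,nat_lit 0,nat_lit 3,nat_lit 0,nat_lit 2,nat_lit 0,nat_lit 3,nat_lit 1,nat_lit 2,nat_lit 3,nat_lit 1,nat_lit 3,nat_lit 2,nat_lit 3])
) (.leaf [nat_lit 0,nat_lit 3,nat_lit 2,nat_lit 0,nat_lit 3,nat_lit 0,nat_lit 0,nat_lit 2,nat_lit 0,nat_lit 0,nat_lit 2,nat_lit 1,nat_lit 1,nat_lit 2,nat_lit 3,nat_lit 1,nat_lit 2])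
)))) (.node (.node (.node (.node (.node (.leaf [nat_lit 69])
 (.leaf [nat_lit 5,nat_lit 3,nat_lit 1,nat_lit 1,nat_lit 2,nat_lit 0,nat_lit 2,nat_lit 3,nat_lit 0,nat_lit 3,nat_lit 0,nat_lit 0,nat_lit 2,nat_lit 1,nat_lit 2,nat_lit 1,nat_lit 1,nat_lit 1,nat_lit 2,nat_lit 1,nat_lit 2,nat_lit 1])
) (.node (.leaf [nat_lit 3,nat_lit 1,nat_lit 1,nat_lit 1,nat_lit 2,nat_lit 1,nat_lit 1,nat_lit 3,nat_lit 1,nat_lit 3,nat_lit 2,nat_lit 0,nat_lit 3,nat_lit 0,nat_lit 0,nat_lit 2,nat_lit 3,nat_lit 1,nat_lit 1,nat_lit 1])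
 (.leaf [nat_lit 4,nat_lit 2,nat_lit 1,nat_lit 2,nat_lit 3,nat_lit 2,nat_lit 1,nat_lit 1,nat_lit 1,nat_lit 2,nat_lit 3,nat_lit 0,nat_lit 3,nat_lit 2,nat_lit 0,nat_lit 3,nat_lit 2,nat_lit 1,nat_lit 3])
)) (.node (.node (.leaf [nat_lit 4,nat_lit 3,nat_lit 2,nat_lit 1,nat_lit 2,nat_lit 0,nat_lit 3,nat_lit 2,nat_lit 3,nat_lit 0,nat_lit 3,nat_lit 0,nat_lit 2,nat_lit 0,nat_lit 0,nat_lit 3,nat_lit 0,nat_lit 2,nat_lit 0,nat_lit 3])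
 (.leaf [nat_lit 2,nat_lit 3,nat_lit 1,nat_lit 2,nat_lit 0,nat_lit 3,nat_lit 2,nat_lit 3,nat_lit 0,nat_lit 0,nat_lit 2,nat_lit 0,nat_lit 0,nat_lit 0,nat_lit 2])
) (.leaf [nat_lit 5,nat_lit 0,nat_lit 2,nat_lit 3,nat_lit 1,nat_lit 3,nat_lit 0,nat_lit 0,nat_lit 2,nat_lit 1,nat_lit 3,nat_lit 0,nat_lit 3,nat_lit 2,nat_lit 1,nat_lit 2,nat_lit 3,nat_lit 0,nat_lit 3,nat_lit 0])
)) (.node (.node (.node (.leaf [nat_lit 2,nat_lit 3,nat_lit 0,nat_lit 2,nat_lit 1,nat_lit 1,nat_lit 2,nat_lit 1,nat_lit 1,nat_lit 2,nat_lit 1,nat_lit 3,nat_lit 0,nat_lit 0,nat_lit 2,nat_lit 0,nat_lit 2,nat_lit 1,nat_lit 3])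
 (.leaf [nat_lit 5,nat_lit 0,nat_lit 0,nat_lit 2,nat_lit 0,nat_lit 3,nat_lit 0,nat_lit 3,nat_lit 2,nat_lit 3,nat_lit 1,nat_lit 1,nat_lit 1,nat_lit 2,nat_lit 0,nat_lit 0,nat_lit 0,nat_lit 3])
) (.node (.leaf [nat_lit 4,nat_lit 3,nat_lit 2,nat_lit 1,nat_lit 3,nat_lit 2,nat_lit 0,nat_lit 2,nat_lit 3,nat_lit 1,nat_lit 2,nat_lit 1,nat_lit 1,nat_lit 3,nat_lit 1,nat_lit 2,nat_lit 0,nat_lit 3,nat_lit 0,nat_lit 0])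
 (.leaf [nat_lit 3,nat_lit 1,nat_lit 1,nat_lit 1,nat_lit 3,nat_lit 2,nat_lit 0,nat_lit 0,nat_lit 2,nat_lit 3,nat_lit 0,nat_lit 2,nat_lit 0,nat_lit 0,nat_lit 0,nat_lit 3,nat_lit 0])
)) (.node (.node (.leaf [nat_lit 4,nat_lit 0,nat_lit 2,nat_lit 3,nat_lit 2,nat_lit 3,nat_lit 0,nat_lit 2,nat_lit 3,nat_lit 1,nat_lit 1,nat_lit 2,nat_lit 3,nat_lit 2,nat_lit 3,nat_lit 1,nat_lit 1,nat_lit 2])
 (.leaf [nat_lit 3,nat_lit 1,nat_lit 3,nat_lit 1,nat_lit 1,nat_lit 2,nat_lit 1,nat_lit 2,nat_lit 3,nat_lit 0,nat_lit 3,nat_lit 0,nat_lit 0,nat_lit 3,nat_lit 1,nat_lit 3,nat_lit 2,nat_lit 3])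
) (.leaf [nat_lit 5,nat_lit 0,nat_lit 0,nat_lit 0,nat_lit 2,nat_lit 0,nat_lit 2,nat_lit 0,nat_lit 0,nat_lit 2,nat_lit 0,nat_lit 2,nat_lit 3,nat_lit 2,nat_lit 0,nat_lit 3,nat_lit 2])
))) (.node (.node (.node (.node (.leaf [nat_lit 4,nat_lit 3,nat_lit 0,nat_lit 2,nat_lit 3,nat_lit 1,nat_lit 3,nat_lit 0,nat_lit 3,nat_lit 1,nat_lit 1,nat_lit 3,nat_lit 0,nat_lit 0,nat_lit 2,nat_lit 1,nat_lit 1,nat_lit 1,nat_lit 3,nat_lit 1,nat_lit 3,nat_lit 2])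
 (.leaf [nat_lit 4,nat_lit 3,nat_lit 0,nat_lit 3,nat_lit 1,nat_lit 2,nat_lit 3,nat_lit 1,nat_lit 2,nat_lit 3,nat_lit 0,nat_lit 3,nat_lit 2,nat_lit 1,nat_lit 2,nat_lit 0,nat_lit 3,nat_lit 2])
) (.node (.leaf [nat_lit 5,nat_lit 0,nat_lit 0,nat_lit 3,nat_lit 2,nat_lit 0,nat_lit 3,nat_lit 0,nat_lit 0,nat_lit 2,nat_lit 1,nat_lit 2,nat_lit 3,nat_lit 0,nat_lit 3,nat_lit 1,nat_lit 1,nat_lit 2,nat_lit 0,nat_lit 2])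
 (.leaf [nat_lit 5,nat_lit 1,nat_lit 2,nat_lit 0,nat_lit 2,nat_lit 3,nat_lit 0,nat_lit 0,nat_lit 3,nat_lit 2,nat_lit 1,nat_lit 2,nat_lit 1,nat_lit 2,nat_lit 0,nat_lit 2,nat_lit 0,nat_lit 2,nat_lit 1,nat_lit 2])
)) (.node (.node (.leaf [nat_lit 5,nat_lit 0,nat_lit 3,nat_lit 1,nat_lit 1,nat_lit 2,nat_lit 0,nat_lit 3,nat_lit 1,nat_lit 1,nat_lit 2,nat_lit 1,nat_lit 3,nat_lit 1,nat_lit 3,nat_lit 0,nat_lit 3,nat_lit 0,nat_lit 3])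
 (.leaf [nat_lit 4,nat_lit 1,nat_lit 2,nat_lit 1,nat_lit 2,nat_lit 1,nat_lit 3,nat_lit 2,nat_lit 3,nat_lit 0,nat_lit 0,nat_lit 2,nat_lit 1,nat_lit 2,nat_lit 3,nat_lit 1,nat_lit 2,nat_lit 3,nat_lit 2,nat_lit 1])
) (.leaf [nat_lit 0,nat_lit 3,nat_lit 1,nat_lit 1,nat_lit 3,nat_lit 1,nat_lit 3,nat_lit 1,nat_lit 1,nat_lit 2,nat_lit 1,nat_lit 2,nat_lit 3,nat_lit 2,nat_lit 0,nat_lit 2,nat_lit 1,nat_lit 3])
)) (.node (.node (.node (.leaf [nat_lit 4,nat_lit 2,nat_lit 0,nat_lit 0,nat_lit 2,nat_lit 3,nat_lit 0,nat_lit 3,nat_lit 1,nat_lit 1,nat_lit 2,nat_lit 1,nat_lit 3,nat_lit 0,nat_lit 0,nat_lit 0,nat_lit 2,nat_lit 3,nat_lit 2,nat_lit 1,nat_lit 1])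
 (.leaf [nat_lit 5,nat_lit 0,nat_lit 2,nat_lit 1,nat_lit 3,nat_lit 0,nat_lit 0,nat_lit 3,nat_lit 0,nat_lit 2,nat_lit 1,nat_lit 1,nat_lit 3,nat_lit 1,nat_lit 1,nat_lit 3,nat_lit 0])
) (.node (.leaf [nat_lit 5,nat_lit 0,nat_lit 3,nat_lit 1,nat_lit 2,nat_lit 0,nat_lit 2,nat_lit 0,nat_lit 3,nat_lit 0,nat_lit 3,nat_lit 2,nat_lit 3,nat_lit 2,nat_lit 0,nat_lit 3,nat_lit 0,nat_lit 0,nat_lit 3])
 (.leaf [nat_lit 4,nat_lit 0,nat_lit 2,nat_lit 0,nat_lit 2,nat_lit 3,nat_lit 0,nat_lit 3,nat_lit 2,nat_lit 1,nat_lit 1,nat_lit 2,nat_lit 1,nat_lit 2,nat_lit 1,nat_lit 3,nat_lit 2,nat_lit 3,nat_lit 2])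
)) (.node (.node (.leaf [nat_lit 0,nat_lit 2,nat_lit 3,nat_lit 0,nat_lit 0,nat_lit 2,nat_lit 1,nat_lit 3,nat_lit 0,nat_lit 2,nat_lit 1,nat_lit 1,nat_lit 1,nat_lit 3,nat_lit 1,nat_lit 3,nat_lit 0,nat_lit 0,nat_lit 3])
 (.leaf [nat_lit 0,nat_lit 3,nat_lit 0,nat_lit 2,nat_lit 1,nat_lit 2,nat_lit 1,nat_lit 3,nat_lit 2,nat_lit 3,nat_lit 2,nat_lit 1,nat_lit 2,nat_lit 1,nat_lit 2,nat_lit 0,nat_lit 2,nat_lit 0,nat_lit 3,nat_lit 2])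
) (.leaf [nat_lit 4,nat_lit 0,nat_lit 3,nat_lit 0,nat_lit 0,nat_lit 2,nat_lit 0,nat_lit 3,nat_lit 1,nat_lit 1,nat_lit 3,nat_lit 2,nat_lit 3,nat_lit 2,nat_lit 3,nat_lit 1,nat_lit 1,nat_lit 1,nat_lit 3,nat_lit 2])
))))) (.node (.node (.node (.node (.node (.node (.leaf [nat_lit 5,nat_lit 1,nat_lit 1,nat_lit 3,nat_lit 1,nat_lit 2,nat_lit 1,nat_lit 1,nat_lit 1,nat_lit 3,nat_lit 1,nat_lit 1,nat_lit 1,nat_lit 2,nat_lit 3,nat_lit 1,nat_lit 3,nat_lit 2])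
 (.leaf [nat_lit 4,nat_lit 1,nat_lit 2,nat_lit 1,nat_lit 3,nat_lit 0,nat_lit 2,nat_lit 0,nat_lit 3,nat_lit 0,nat_lit 0,nat_lit 3,nat_lit 0,nat_lit 3,nat_lit 2,nat_lit 0,nat_lit 2,nat_lit 3,nat_lit 2,nat_lit 3])
) (.node (.leaf [nat_lit 4,nat_lit 0,nat_lit 3,nat_lit 1,nat_lit 1,nat_lit 3,nat_lit 2,nat_lit 3,nat_lit 2,nat_lit 0,nat_lit 0,nat_lit 0,nat_lit 2,nat_lit 0,nat_lit 0,nat_lit 0,nat_lit 2,nat_lit 0,nat_lit 0,nat_lit 3,nat_lit 1])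
 (.leaf [nat_lit 2,nat_lit 1,nat_lit 2,nat_lit 0,nat_lit 2,nat_lit 0,nat_lit 2,nat_lit 0,nat_lit 2,nat_lit 1,nat_lit 3,nat_lit 0,nat_lit 0,nat_lit 2,nat_lit 1,nat_lit 1,nat_lit 1])
)) (.node (.node (.leaf [nat_lit 4,nat_lit 0,nat_lit 0,nat_lit 0,nat_lit 2,nat_lit 3,nat_lit 1,nat_lit 3,nat_lit 0,nat_lit 3,nat_lit 1,nat_lit 3,nat_lit 0,nat_lit 0,nat_lit 2,nat_lit 1,nat_lit 1,nat_lit 1,nat_lit 2,nat_lit 1,nat_lit 3])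
 (.leaf [nat_lit 0,nat_lit 0,nat_lit 3,nat_lit 1,nat_lit 1,nat_lit 3,nat_lit 2,nat_lit 3,nat_lit 2,nat_lit 3,nat_lit 0,nat_lit 2,nat_lit 1,nat_lit 2,nat_lit 3,nat_lit 1,nat_lit 3,nat_lit 0,nat_lit 0])
) (.leaf [nat_lit 4,nat_lit 0,nat_lit 0,nat_lit 2,nat_lit 1,nat_lit 1,nat_lit 1,nat_lit 3,nat_lit 0,nat_lit 2,nat_lit 1,nat_lit 2,nat_lit 1,nat_lit 1,nat_lit 2,nat_lit 0,nat_lit 0,nat_lit 2,nat_lit 1,nat_lit 2])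
)) (.node (.node (.node (.leaf [nat_lit 3])
 (.leaf [nat_lit 5,nat_lit 3,nat_lit 0,nat_lit 3,nat_lit 1,nat_lit 2,nat_lit 1,nat_lit 2,nat_lit 1,nat_lit 3,nat_lit 0,nat_lit 3,nat_lit 0,nat_lit 0,nat_lit 2,nat_lit 0,nat_lit 3,nat_lit 2,nat_lit 3,nat_lit 2,nat_lit 1])
) (.node (.leaf [nat_lit 4,nat_lit 3,nat_lit 1,nat_lit 3,nat_lit 2,nat_lit 1,nat_lit 3,nat_lit 1,nat_lit 2,nat_lit 3,nat_lit 0,nat_lit 3,nat_lit 1,nat_lit 2,nat_lit 0,nat_lit 0,nat_lit 0,nat_lit 2,nat_lit 3,nat_lit 0])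
 (.leaf [nat_lit 5,nat_lit 1,nat_lit 3,nat_lit 1,nat_lit 2,nat_lit 0,nat_lit 0,nat_lit 0,nat_lit 3,nat_lit 2,nat_lit 1,nat_lit 3,nat_lit 2,nat_lit 1,nat_lit 1,nat_lit 3,nat_lit 0,nat_lit 0,nat_lit 2,nat_lit 3,nat_lit 0])
)) (.node (.node (.leaf [nat_lit 5,nat_lit 2,nat_lit 1,nat_lit 2,nat_lit 3,nat_lit 0,nat_lit 2,nat_lit 3,nat_lit 1,nat_lit 3,nat_lit 2,nat_lit 1,nat_lit 1,nat_lit 3,nat_lit 0,nat_lit 2,nat_lit 1,nat_lit 1,nat_lit 1])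
 (.leaf [nat_lit 4,nat_lit 0,nat_lit 0,nat_lit 0,nat_lit 2,nat_lit 3,nat_lit 1,nat_lit 3,nat_lit 0,nat_lit 3,nat_lit 1,nat_lit 3,nat_lit 0,nat_lit 0,nat_lit 2,nat_lit 1,nat_lit 1,nat_lit 1,nat_lit 2,nat_lit 1,nat_lit 3])
) (.leaf [nat_lit 5,nat_lit 1,nat_lit 1,nat_lit 3,nat_lit 0,nat_lit 0,nat_lit 2,nat_lit 3,nat_lit 1,nat_lit 2,nat_lit 0,nat_lit 2,nat_lit 3,nat_lit 2,nat_lit 1,nat_lit 3,nat_lit 1,nat_lit 1,nat_lit 1])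
))) (.node (.node (.node (.node (.leaf [nat_lit 2,nat_lit 1,nat_lit 3,nat_lit 1,nat_lit 1,nat_lit 2,nat_lit 3,nat_lit 0,nat_lit 0,nat_lit 3,nat_lit 1,nat_lit 3,nat_lit 1,nat_lit 1,nat_lit 3,nat_lit 1,nat_lit 1,nat_lit 1,nat_lit 3,nat_lit 0])
 (.leaf [nat_lit 5,nat_lit 3,nat_lit 0,nat_lit 2,nat_lit 3,nat_lit 1,nat_lit 1,nat_lit 2,nat_lit 1,nat_lit 2,nat_lit 1,nat_lit 1,nat_lit 2,nat_lit 0,nat_lit 0,nat_lit 0,nat_lit 2])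
) (.node (.leaf [nat_lit 5,nat_lit 1,nat_lit 3,nat_lit 1,nat_lit 2,nat_lit 1,nat_lit 1,nat_lit 2,nat_lit 1,nat_lit 1,nat_lit 2,nat_lit 0,nat_lit 0,nat_lit 2,nat_lit 0,nat_lit 0,nat_lit 3,nat_lit 2,nat_lit 3,nat_lit 1])
 (.leaf [nat_lit 4,nat_lit 2,nat_lit 1,nat_lit 1,nat_lit 3,nat_lit 0,nat_lit 2,nat_lit 1,nat_lit 2,nat_lit 0,nat_lit 2,nat_lit 3,nat_lit 2,nat_lit 1,nat_lit 3,nat_lit 2,nat_lit 1,nat_lit 1,nat_lit 1])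
)) (.node (.node (.leaf [nat_lit 5,nat_lit 2,nat_lit 1,nat_lit 3,nat_lit 0,nat_lit 3,nat_lit 1,nat_lit 1,nat_lit 2,nat_lit 0,nat_lit 3,nat_lit 0,nat_lit 0,nat_lit 3,nat_lit 2,nat_lit 0,nat_lit 3,nat_lit 1,nat_lit 1,nat_lit 3])
 (.leaf [nat_lit 4,nat_lit 2,nat_lit 0,nat_lit 0,nat_lit 2,nat_lit 0,nat_lit 0,nat_lit 2,nat_lit 0,nat_lit 0,nat_lit 0,nat_lit 2,nat_lit 1,nat_lit 3,nat_lit 2,nat_lit 1,nat_lit 1,nat_lit 2,nat_lit 3,nat_lit 1])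
) (.leaf [nat_lit 4,nat_lit 0,nat_lit 3,nat_lit 1,nat_lit 2,nat_lit 1,nat_lit 1,nat_lit 2,nat_lit 3,nat_lit 1,nat_lit 1,nat_lit 1,nat_lit 3,nat_lit 1,nat_lit 1,nat_lit 1,nat_lit 2,nat_lit 0])
)) (.node (.node (.node (.leaf [nat_lit 1,nat_lit 2,nat_lit 3,nat_lit 1,nat_lit 2,nat_lit 0,nat_lit 2,nat_lit 3,nat_lit 1,nat_lit 3,nat_lit 2,nat_lit 0,nat_lit 3,nat_lit 0,nat_lit 2,nat_lit 0,nat_lit 3,nat_lit 0])
 (.leaf [nat_lit 4,nat_lit 2,nat_lit 3,nat_lit 1,nat_lit 2,nat_lit 1,nat_lit 2,nat_lit 3,nat_lit 2,nat_lit 3,nat_lit 0,nat_lit 0,nat_lit 0,nat_lit 2,nat_lit 1,nat_lit 3,nat_lit 2,nat_lit 3,nat_lit 1,nat_lit 2,nat_lit 1])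
) (.node (.leaf [nat_lit 2,nat_lit 0,nat_lit 0,nat_lit 2,nat_lit 3,nat_lit 2,nat_lit 1,nat_lit 1,nat_lit 1,nat_lit 2,nat_lit 1,nat_lit 1,nat_lit 1,nat_lit 3,nat_lit 1,nat_lit 3,nat_lit 2,nat_lit 0,nat_lit 2,nat_lit 3])
 (.leaf [nat_lit 4,nat_lit 3,nat_lit 0,nat_lit 3,nat_lit 2,nat_lit 0,nat_lit 3,nat_lit 2,nat_lit 3,nat_lit 1,nat_lit 3,nat_lit 0,nat_lit 0,nat_lit 3,nat_lit 0,nat_lit 2,nat_lit 0,nat_lit 2,nat_lit 0,nat_lit 0,nat_lit 3])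
)) (.node (.node (.leaf [nat_lit 5,nat_lit 0,nat_lit 0,nat_lit 2,nat_lit 0,nat_lit 3,nat_lit 0,nat_lit 3,nat_lit 2,nat_lit 3,nat_lit 1,nat_lit 1,nat_lit 1,nat_lit 2,nat_lit 0,nat_lit 0,nat_lit 0,nat_lit 3])
 (.leaf [nat_lit 1,nat_lit 3,nat_lit 1,nat_lit 1,nat_lit 1,nat_lit 2,nat_lit 1,nat_lit 2,nat_lit 0,nat_lit 2,nat_lit 0,nat_lit 2,nat_lit 1,nat_lit 2,nat_lit 0,nat_lit 0,nat_lit 2,nat_lit 3])
) (.leaf [nat_lit 4,nat_lit 3,nat_lit 1,nat_lit 3,nat_lit 2,nat_lit 3,nat_lit 1,nat_lit 2,nat_lit 3,nat_lit 1,nat_lit 1,nat_lit 3,nat_lit 1,nat_lit 2,nat_lit 3,nat_lit 0,nat_lit 3,nat_lit 2,nat_lit 0])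
)))) (.node (.node (.node (.node (.node (.leaf [nat_lit 2])
 (.leaf [nat_lit 4])
) (.node (.leaf [nat_lit 0,nat_lit 0,nat_lit 3,nat_lit 0,nat_lit 0,nat_lit 0,nat_lit 3,nat_lit 1,nat_lit 2,nat_lit 3,nat_lit 1,nat_lit 3,nat_lit 2,nat_lit 1,nat_lit 2,nat_lit 1,nat_lit 1,nat_lit 1,nat_lit 3])
 (.leaf [nat_lit 4,nat_lit 3,nat_lit 1,nat_lit 2,nat_lit 3,nat_lit 1,nat_lit 3,nat_lit 1,nat_lit 1,nat_lit 3,nat_lit 1,nat_lit 2,nat_lit 1,nat_lit 2,nat_lit 1,nat_lit 3,nat_lit 2,nat_lit 1,nat_lit 3,nat_lit 2])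
)) (.node (.node (.leaf [nat_lit 3,nat_lit 0,nat_lit 3,nat_lit 2,nat_lit 3,nat_lit 1,nat_lit 1,nat_lit 2,nat_lit 0,nat_lit 2,nat_lit 1,nat_lit 3,nat_lit 1,nat_lit 2,nat_lit 0,nat_lit 0,nat_lit 2,nat_lit 1])
 (.leaf [nat_lit 5,nat_lit 1,nat_lit 1,nat_lit 3,nat_lit 0,nat_lit 3,nat_lit 2,nat_lit 3,nat_lit 2,nat_lit 3,nat_lit 1,nat_lit 2,nat_lit 0,nat_lit 2,nat_lit 3,nat_lit 0,nat_lit 2,nat_lit 0,nat_lit 2,nat_lit 0])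
) (.leaf [nat_lit 3,nat_lit 1,nat_lit 2,nat_lit 0,nat_lit 0,nat_lit 2,nat_lit 0,nat_lit 0,nat_lit 2,nat_lit 3,nat_lit 1,nat_lit 2,nat_lit 0,nat_lit 2,nat_lit 1,nat_lit 1,nat_lit 2])
)) (.node (.node (.node (.leaf [nat_lit 3,nat_lit 0,nat_lit 3,nat_lit 2,nat_lit 3,nat_lit 0,nat_lit 2,nat_lit 1,nat_lit 1,nat_lit 2,nat_lit 3,nat_lit 0,nat_lit 3,nat_lit 2,nat_lit 0,nat_lit 2,nat_lit 0,nat_lit 0,nat_lit 2,nat_lit 0])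
 (.leaf [nat_lit 4,nat_lit 3,nat_lit 0,nat_lit 3,nat_lit 1,nat_lit 1,nat_lit 3,nat_lit 2,nat_lit 1,nat_lit 2,nat_lit 0,nat_lit 3,nat_lit 0,nat_lit 2,nat_lit 0,nat_lit 0,nat_lit 3,nat_lit 0,nat_lit 2])
) (.node (.leaf [nat_lit 5,nat_lit 0,nat_lit 2,nat_lit 3,nat_lit 2,nat_lit 1,nat_lit 2,nat_lit 1,nat_lit 2,nat_lit 1,nat_lit 2,nat_lit 3,nat_lit 1,nat_lit 2,nat_lit 1,nat_lit 1,nat_lit 1,nat_lit 3,nat_lit 1,nat_lit 1])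
 (.leaf [nat_lit 5,nat_lit 3,nat_lit 0,nat_lit 2,nat_lit 3,nat_lit 1,nat_lit 1,nat_lit 2,nat_lit 3,nat_lit 1,nat_lit 1,nat_lit 2,nat_lit 3,nat_lit 2,nat_lit 3,nat_lit 0,nat_lit 0,nat_lit 3,nat_lit 0,nat_lit 3,nat_lit 0])
)) (.node (.node (.leaf [nat_lit 5,nat_lit 2,nat_lit 3,nat_lit 1,nat_lit 2,nat_lit 0,nat_lit 2,nat_lit 3,nat_lit 1,nat_lit 1,nat_lit 1,nat_lit 2,nat_lit 3,nat_lit 1,nat_lit 2,nat_lit 0,nat_lit 0,nat_lit 3,nat_lit 0])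
 (.leaf [nat_lit 4,nat_lit 2,nat_lit 1,nat_lit 2,nat_lit 0,nat_lit 3,nat_lit 1,nat_lit 1,nat_lit 2,nat_lit 3,nat_lit 1,nat_lit 2,nat_lit 3,nat_lit 1,nat_lit 3,nat_lit 0,nat_lit 2,nat_lit 1,nat_lit 1,nat_lit 1,nat_lit 2])
) (.leaf [nat_lit 5,nat_lit 1,nat_lit 1,nat_lit 2,nat_lit 1,nat_lit 1,nat_lit 3,nat_lit 2,nat_lit 3,nat_lit 2,nat_lit 1,nat_lit 1,nat_lit 2,nat_lit 0,nat_lit 2,nat_lit 1,nat_lit 1,nat_lit 2,nat_lit 3])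
))) (.node (.node (.node (.node (.leaf [nat_lit 5,nat_lit 1,nat_lit 1,nat_lit 3,nat_lit 0,nat_lit 3,nat_lit 2,nat_lit 3,nat_lit 2,nat_lit 3,nat_lit 1,nat_lit 2,nat_lit 0,nat_lit 2,nat_lit 3,nat_lit 0,nat_lit 2,nat_lit 0,nat_lit 2,nat_lit 0])
 (.leaf [nat_lit 4,nat_lit 1,nat_lit 3,nat_lit 0,nat_lit 0,nat_lit 3,nat_lit 0,nat_lit 2,nat_lit 3,nat_lit 0,nat_lit 2,nat_lit 0,nat_lit 0,nat_lit 2,nat_lit 3,nat_lit 2,nat_lit 1])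
) (.node (.leaf [nat_lit 2,nat_lit 1,nat_lit 1,nat_lit 3,nat_lit 2,nat_lit 3,nat_lit 1,nat_lit 2,nat_lit 1,nat_lit 1,nat_lit 3,nat_lit 0,nat_lit 3,nat_lit 2,nat_lit 0,nat_lit 0,nat_lit 0])
 (.leaf [nat_lit 5,nat_lit 2,nat_lit 1,nat_lit 2,nat_lit 0,nat_lit 2,nat_lit 3,nat_lit 2,nat_lit 1,nat_lit 1,nat_lit 2,nat_lit 3,nat_lit 2,nat_lit 0,nat_lit 3,nat_lit 1,nat_lit 1,nat_lit 2,nat_lit 3,nat_lit 0])
)) (.node (.node (.leaf [nat_lit 4,nat_lit 0,nat_lit 2,nat_lit 3,nat_lit 2,nat_lit 0,nat_lit 3,nat_lit 1,nat_lit 2,nat_lit 0,nat_lit 2,nat_lit 3,nat_lit 2,nat_lit 1,nat_lit 1,nat_lit 2,nat_lit 1,nat_lit 1])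
 (.leaf [nat_lit 2,nat_lit 0,nat_lit 3,nat_lit 1,nat_lit 3,nat_lit 2,nat_lit 1,nat_lit 3,nat_lit 0,nat_lit 0,nat_lit 0,nat_lit 3,nat_lit 0,nat_lit 3,nat_lit 2,nat_lit 3,nat_lit 2,nat_lit 1])
) (.leaf [nat_lit 5,nat_lit 1,nat_lit 2,nat_lit 0,nat_lit 2,nat_lit 3,nat_lit 0,nat_lit 0,nat_lit 3,nat_lit 2,nat_lit 1,nat_lit 2,nat_lit 1,nat_lit 2,nat_lit 0,nat_lit 2,nat_lit 0,nat_lit 2,nat_lit 1,nat_lit 2])
)) (.node (.node (.node (.leaf [nat_lit 4,nat_lit 2,nat_lit 0,nat_lit 2,nat_lit 1,nat_lit 1,nat_lit 2,nat_lit 1,nat_lit 1,nat_lit 3,nat_lit 2,nat_lit 0,nat_lit 3,nat_lit 1,nat_lit 2,nat_lit 1,nat_lit 3,nat_lit 0,nat_lit 3])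
 (.leaf [nat_lit 4,nat_lit 1,nat_lit 2,nat_lit 0,nat_lit 2,nat_lit 1,nat_lit 2,nat_lit 1,nat_lit 3,nat_lit 0,nat_lit 3,nat_lit 0,nat_lit 2,nat_lit 3,nat_lit 1,nat_lit 2,nat_lit 3,nat_lit 1,nat_lit 2,nat_lit 0])
) (.leaf [nat_lit 2,nat_lit 1,nat_lit 3,nat_lit 0,nat_lit 2,nat_lit 1,nat_lit 3,nat_lit 0,nat_lit 0,nat_lit 0,nat_lit 2,nat_lit 0,nat_lit 3,nat_lit 2,nat_lit 3,nat_lit 2])
) (.node (.node (.leaf [nat_lit 1,nat_lit 1,nat_lit 3,nat_lit 1,nat_lit 1,nat_lit 3,nat_lit 1,nat_lit 1,nat_lit 1,nat_lit 2,nat_lit 0,nat_lit 2,nat_lit 1,nat_lit 3,nat_lit 0,nat_lit 3,nat_lit 2,nat_lit 3,nat_lit 0,nat_lit 0])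
 (.leaf [nat_lit 4,nat_lit 1,nat_lit 2,nat_lit 0,nat_lit 2,nat_lit 3,nat_lit 1,nat_lit 1,nat_lit 3,nat_lit 0,nat_lit 0,nat_lit 3,nat_lit 0,nat_lit 2,nat_lit 1,nat_lit 3,nat_lit 2,nat_lit 0,nat_lit 2,nat_lit 0])
) (.leaf [nat_lit 0,nat_lit 3,nat_lit 0,nat_lit 0,nat_lit 2,nat_lit 1,nat_lit 2,nat_lit 0,nat_lit 0,nat_lit 3,nat_lit 1,nat_lit 1,nat_lit 2,nat_lit 1,nat_lit 2,nat_lit 1,nat_lit 2,nat_lit 0,nat_lit 0])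
))))))
noncomputable def Fc1 : LT :=
(.node (.node (.node (.node (.node (.node (.node (.leaf [nat_lit 1])
 (.leaf [nat_lit 5,nat_lit 2,nat_lit 0,nat_lit 0,nat_lit 2,nat_lit 0,nat_lit 3,nat_lit 0,nat_lit 2,nat_lit 0,nat_lit 3,nat_lit 1,nat_lit 1,nat_lit 1,nat_lit 2,nat_lit 0,nat_lit 0,nat_lit 2,nat_lit 3,nat_lit 1,nat_lit 1])
) (.node (.leaf [nat_lit 2,nat_lit 1,nat_lit 3,nat_lit 2,nat_lit 3,nat_lit 1,nat_lit 2,nat_lit 0,nat_lit 3,nat_lit 0,nat_lit 0,nat_lit 3,nat_lit 2,nat_lit 1,nat_lit 1,nat_lit 2,nat_lit 0,nat_lit 0,nat_lit 2])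
 (.leaf [nat_lit 1,nat_lit 1,nat_lit 2,nat_lit 1,nat_lit 2,nat_lit 1,nat_lit 2,nat_lit 0,nat_lit 0,nat_lit 3,nat_lit 0,nat_lit 0,nat_lit 0,nat_lit 2,nat_lit 3,nat_lit 2,nat_lit 1])
)) (.node (.node (.leaf [nat_lit 0,nat_lit 2,nat_lit 3,nat_lit 0,nat_lit 2,nat_lit 1,nat_lit 3,nat_lit 1,nat_lit 2,nat_lit 3,nat_lit 2,nat_lit 3,nat_lit 2,nat_lit 1,nat_lit 1,nat_lit 3,nat_lit 1,nat_lit 1])
 (.leaf [nat_lit 5,nat_lit 3,nat_lit 0,nat_lit 3,nat_lit 2,nat_lit 1,nat_lit 1,nat_lit 2,nat_lit 1,nat_lit 3,nat_lit 1,nat_lit 1,nat_lit 3,nat_lit 0,nat_lit 3,nat_lit 0,nat_lit 0,nat_lit 3,nat_lit 2,nat_lit 0])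
) (.leaf [nat_lit 5,nat_lit 0,nat_lit 3,nat_lit 2,nat_lit 3,nat_lit 1,nat_lit 3,nat_lit 2,nat_lit 1,nat_lit 1,nat_lit 1,nat_lit 2,nat_lit 1,nat_lit 3,nat_lit 0,nat_lit 3,nat_lit 2,nat_lit 1,nat_lit 3])
)) (.node (.node (.node (.leaf [nat_lit 5,nat_lit 0,nat_lit 0,nat_lit 0,nat_lit 2,nat_lit 3,nat_lit 0,nat_lit 0,nat_lit 2,nat_lit 1,nat_lit 2,nat_lit 1,nat_lit 2,nat_lit 0,nat_lit 2,nat_lit 1,nat_lit 2,nat_lit 3,nat_lit 2,nat_lit 3,nat_lit 2])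
 (.leaf [nat_lit 4,nat_lit 3,nat_lit 1,nat_lit 3,nat_lit 2,nat_lit 1,nat_lit 3,nat_lit 1,nat_lit 3,nat_lit 0,nat_lit 3,nat_lit 0,nat_lit 2,nat_lit 3,nat_lit 0,nat_lit 3,nat_lit 2])
) (.node (.leaf [nat_lit 5,nat_lit 3,nat_lit 2,nat_lit 1,nat_lit 1,nat_lit 3,nat_lit 2,nat_lit 0,nat_lit 0,nat_lit 3,nat_lit 2,nat_lit 0,nat_lit 0,nat_lit 0,nat_lit 3,nat_lit 2,nat_lit 0,nat_lit 3,nat_lit 0])
 (.leaf [nat_lit 2,nat_lit 1,nat_lit 1,nat_lit 3,nat_lit 1,nat_lit 3,nat_lit 2,nat_lit 0,nat_lit 3,nat_lit 2,nat_lit 0,nat_lit 2,nat_lit 0,nat_lit 2,nat_lit 1,nat_lit 1,nat_lit 2,nat_lit 0,nat_lit 2,nat_lit 0])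
)) (.node (.node (.leaf [nat_lit 5,nat_lit 3,nat_lit 2,nat_lit 3,nat_lit 0,nat_lit 2,nat_lit 0,nat_lit 3,nat_lit 2,nat_lit 1,nat_lit 1,nat_lit 3,nat_lit 0,nat_lit 3,nat_lit 1,nat_lit 1,nat_lit 1,nat_lit 2,nat_lit 3,nat_lit 2])
 (.leaf [nat_lit 5,nat_lit 1,nat_lit 3,nat_lit 0,nat_lit 0,nat_lit 3,nat_lit 1,nat_lit 1,nat_lit 2,nat_lit 3,nat_lit 1,nat_lit 2,nat_lit 1,nat_lit 3,nat_lit 1,nat_lit 1,nat_lit 1,nat_lit 2,nat_lit 3,nat_lit 0])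
) (.leaf [nat_lit 5,nat_lit 1,nat_lit 3,nat_lit 2,nat_lit 1,nat_lit 3,nat_lit 0,nat_lit 2,nat_lit 0,nat_lit 3,nat_lit 0,nat_lit 2,nat_lit 3,nat_lit 0,nat_lit 3,nat_lit 1,nat_lit 1,nat_lit 2,nat_lit 1,nat_lit 3])
))) (.node (.node (.node (.node (.leaf [])
 (.leaf [nat_lit 4,nat_lit 0,nat_lit 2,nat_lit 0,nat_lit 2,nat_lit 1,nat_lit 2,nat_lit 3,nat_lit 1,nat_lit 3,nat_lit 1,nat_lit 2,nat_lit 1,nat_lit 2,nat_lit 3,nat_lit 1,nat_lit 1,nat_lit 1,nat_lit 2,nat_lit 3,nat_lit 0])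
) (.node (.leaf [nat_lit 4,nat_lit 0,nat_lit 2,nat_lit 0,nat_lit 2,nat_lit 3,nat_lit 0,nat_lit 3,nat_lit 2,nat_lit 1,nat_lit 1,nat_lit 2,nat_lit 1,nat_lit 2,nat_lit 1,nat_lit 3,nat_lit 2,nat_lit 3,nat_lit 2])
 (.leaf [nat_lit 5,nat_lit 1,nat_lit 1,nat_lit 3,nat_lit 0,nat_lit 3,nat_lit 1,nat_lit 1,nat_lit 3,nat_lit 1,nat_lit 3,nat_lit 2,nat_lit 1,nat_lit 2,nat_lit 0,nat_lit 2,nat_lit 3,nat_lit 0,nat_lit 2])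
)) (.node (.node (.leaf [nat_lit 3,nat_lit 2,nat_lit 1,nat_lit 3,nat_lit 0,nat_lit 0,nat_lit 2,nat_lit 3,nat_lit 1,nat_lit 3,nat_lit 2,nat_lit 0,nat_lit 2,nat_lit 0,nat_lit 0,nat_lit 3,nat_lit 0,nat_lit 0,nat_lit 0])
 (.leaf [nat_lit 4,nat_lit 0,nat_lit 2,nat_lit 0,nat_lit 0,nat_lit 0,nat_lit 2,nat_lit 3,nat_lit 2,nat_lit 1,nat_lit 2,nat_lit 3,nat_lit 0,nat_lit 3,nat_lit 2,nat_lit 1,nat_lit 1,nat_lit 3,nat_lit 0,nat_lit 0,nat_lit 0])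
) (.leaf [nat_lit 4,nat_lit 3,nat_lit 1,nat_lit 3,nat_lit 0,nat_lit 3,nat_lit 2,nat_lit 1,nat_lit 1,nat_lit 2,nat_lit 3,nat_lit 1,nat_lit 3,nat_lit 0,nat_lit 0,nat_lit 0,nat_lit 2,nat_lit 1,nat_lit 1,nat_lit 3])
)) (.node (.node (.node (.leaf [nat_lit 3,nat_lit 1,nat_lit 2,nat_lit 3,nat_lit 2,nat_lit 1,nat_lit 1,nat_lit 2,nat_lit 1,nat_lit 3,nat_lit 2,nat_lit 1,nat_lit 1,nat_lit 2,nat_lit 1,nat_lit 1,nat_lit 1,nat_lit 2,nat_lit 0])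
 (.leaf [nat_lit 4,nat_lit 1,nat_lit 2,nat_lit 3,nat_lit 2,nat_lit 3,nat_lit 1,nat_lit 1,nat_lit 2,nat_lit 3,nat_lit 0,nat_lit 2,nat_lit 3,nat_lit 0,nat_lit 0,nat_lit 2,nat_lit 1,nat_lit 3,nat_lit 0])
) (.node (.leaf [nat_lit 0,nat_lit 0,nat_lit 2,nat_lit 3,nat_lit 2,nat_lit 0,nat_lit 0,nat_lit 0,nat_lit 2,nat_lit 1,nat_lit 3,nat_lit 2,nat_lit 3,nat_lit 2,nat_lit 0,nat_lit 3,nat_lit 2])
 (.leaf [nat_lit 4,nat_lit 1,nat_lit 2,nat_lit 1,nat_lit 3,nat_lit 1,nat_lit 2,nat_lit 0,nat_lit 2,nat_lit 3,nat_lit 1,nat_lit 3,nat_lit 0,nat_lit 3,nat_lit 0,nat_lit 2,nat_lit 1,nat_lit 3,nat_lit 2])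
)) (.node (.node (.leaf [nat_lit 0,nat_lit 2,nat_lit 1,nat_lit 1,nat_lit 1,nat_lit 3,nat_lit 0,nat_lit 3,nat_lit 1,nat_lit 2,nat_lit 1,nat_lit 2,nat_lit 3,nat_lit 2,nat_lit 3,nat_lit 1,nat_lit 1,nat_lit 2,nat_lit 0])
 (.leaf [nat_lit 1,nat_lit 2,nat_lit 1,nat_lit 3,nat_lit 1,nat_lit 2,nat_lit 3,nat_lit 0,nat_lit 3,nat_lit 2,nat_lit 3,nat_lit 0,nat_lit 0,nat_lit 2,nat_lit 1,nat_lit 1,nat_lit 3,nat_lit 1])
) (.leaf [nat_lit 5,nat_lit 2,nat_lit 3,nat_lit 1,nat_lit 1,nat_lit 3,nat_lit 0,nat_lit 0,nat_lit 3,nat_lit 1,nat_lit 2,nat_lit 1,nat_lit 3,nat_lit 1,nat_lit 1,nat_lit 3,nat_lit 1,nat_lit 2,nat_lit 0,nat_lit 0])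
)))) (.node (.node (.node (.node (.node (.leaf [nat_lit 70])
 (.leaf [nat_lit 3,nat_lit 1,nat_lit 1,nat_lit 1,nat_lit 3,nat_lit 2,nat_lit 0,nat_lit 0,nat_lit 2,nat_lit 3,nat_lit 0,nat_lit 2,nat_lit 0,nat_lit 0,nat_lit 0,nat_lit 3,nat_lit 0])
) (.node (.leaf [nat_lit 1,nat_lit 2,nat_lit 0,nat_lit 0,nat_lit 3,nat_lit 1,nat_lit 1,nat_lit 1,nat_lit 3,nat_lit 2,nat_lit 3,nat_lit 0,nat_lit 3,nat_lit 0,nat_lit 0,nat_lit 2,nat_lit 1,nat_lit 2,nat_lit 0,nat_lit 3])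
 (.leaf [nat_lit 5,nat_lit 2,nat_lit 1,nat_lit 2,nat_lit 3,nat_lit 2,nat_lit 3,nat_lit 2,nat_lit 0,nat_lit 2,nat_lit 3,nat_lit 2,nat_lit 3,nat_lit 1,nat_lit 2,nat_lit 1,nat_lit 2,nat_lit 0,nat_lit 2])
)) (.node (.node (.leaf [nat_lit 4,nat_lit 2,nat_lit 0,nat_lit 3,nat_lit 2,nat_lit 0,nat_lit 2,nat_lit 1,nat_lit 2,nat_lit 1,nat_lit 1,nat_lit 2,nat_lit 0,nat_lit 0,nat_lit 3,nat_lit 0,nat_lit 3,nat_lit 0,nat_lit 0,nat_lit 3,nat_lit 0])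
 (.leaf [nat_lit 4,nat_lit 0,nat_lit 0,nat_lit 3,nat_lit 1,nat_lit 3,nat_lit 1,nat_lit 2,nat_lit 1,nat_lit 2,nat_lit 1,nat_lit 3,nat_lit 1,nat_lit 3,nat_lit 0,nat_lit 0,nat_lit 0,nat_lit 2,nat_lit 3,nat_lit 2,nat_lit 1])
) (.leaf [nat_lit 5,nat_lit 3,nat_lit 1,nat_lit 2,nat_lit 3,nat_lit 1,nat_lit 2,nat_lit 1,nat_lit 2,nat_lit 0,nat_lit 3,nat_lit 0,nat_lit 0,nat_lit 2,nat_lit 1,nat_lit 1,nat_lit 3,nat_lit 0,nat_lit 0,nat_lit 3])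
)) (.node (.node (.node (.leaf [nat_lit 4,nat_lit 0,nat_lit 2,nat_lit 1,nat_lit 1,nat_lit 2,nat_lit 3,nat_lit 0,nat_lit 2,nat_lit 0,nat_lit 2,nat_lit 0,nat_lit 2,nat_lit 3,nat_lit 0,nat_lit 2,nat_lit 0,nat_lit 2,nat_lit 1])
 (.leaf [nat_lit 0,nat_lit 0,nat_lit 2,nat_lit 3,nat_lit 1,nat_lit 3,nat_lit 2,nat_lit 3,nat_lit 2,nat_lit 1,nat_lit 3,nat_lit 2,nat_lit 0,nat_lit 3,nat_lit 0,nat_lit 0,nat_lit 2,nat_lit 3,nat_lit 1,nat_lit 1])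
) (.node (.leaf [nat_lit 4,nat_lit 2,nat_lit 3,nat_lit 1,nat_lit 2,nat_lit 1,nat_lit 2,nat_lit 3,nat_lit 2,nat_lit 3,nat_lit 0,nat_lit 0,nat_lit 0,nat_lit 2,nat_lit 1,nat_lit 3,nat_lit 2,nat_lit 3,nat_lit 1,nat_lit 2,nat_lit 1])
 (.leaf [nat_lit 4,nat_lit 1,nat_lit 3,nat_lit 2,nat_lit 3,nat_lit 2,nat_lit 0,nat_lit 3,nat_lit 0,nat_lit 0,nat_lit 3,nat_lit 0,nat_lit 2,nat_lit 1,nat_lit 1,nat_lit 1,nat_lit 2,nat_lit 1,nat_lit 3,nat_lit 1,nat_lit 1,nat_lit 1])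
)) (.node (.node (.leaf [nat_lit 4,nat_lit 0,nat_lit 3,nat_lit 1,nat_lit 1,nat_lit 1,nat_lit 2,nat_lit 3,nat_lit 0,nat_lit 0,nat_lit 3,nat_lit 1,nat_lit 2,nat_lit 1,nat_lit 2,nat_lit 0,nat_lit 0,nat_lit 0,nat_lit 2])
 (.leaf [nat_lit 4,nat_lit 1,nat_lit 3,nat_lit 1,nat_lit 2,nat_lit 1,nat_lit 2,nat_lit 3,nat_lit 0,nat_lit 3,nat_lit 0,nat_lit 2,nat_lit 0,nat_lit 3,nat_lit 0,nat_lit 2,nat_lit 3,nat_lit 1,nat_lit 2])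
) (.leaf [nat_lit 5,nat_lit 0,nat_lit 0,nat_lit 0,nat_lit 2,nat_lit 0,nat_lit 2,nat_lit 0,nat_lit 0,nat_lit 2,nat_lit 0,nat_lit 2,nat_lit 3,nat_lit 2,nat_lit 0,nat_lit 3,nat_lit 2])
))) (.node (.node (.node (.node (.leaf [])
 (.leaf [nat_lit 4,nat_lit 3,nat_lit 0,nat_lit 0,nat_lit 2,nat_lit 3,nat_lit 0,nat_lit 3,nat_lit 1,nat_lit 1,nat_lit 2,nat_lit 1,nat_lit 1,nat_lit 1,nat_lit 3,nat_lit 1,nat_lit 3,nat_lit 0,nat_lit 0,nat_lit 3])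
) (.node (.leaf [nat_lit 1,nat_lit 2,nat_lit 1,nat_lit 3,nat_lit 2,nat_lit 1,nat_lit 1,nat_lit 1,nat_lit 2,nat_lit 0,nat_lit 0,nat_lit 2,nat_lit 1,nat_lit 2,nat_lit 0,nat_lit 3,nat_lit 0,nat_lit 3])
 (.leaf [nat_lit 5,nat_lit 2,nat_lit 1,nat_lit 1,nat_lit 3,nat_lit 1,nat_lit 3,nat_lit 2,nat_lit 0,nat_lit 2,nat_lit 0,nat_lit 3,nat_lit 2,nat_lit 1,nat_lit 2,nat_lit 1,nat_lit 3,nat_lit 0,nat_lit 0])
)) (.node (.node (.leaf [nat_lit 3,nat_lit 2,nat_lit 0,nat_lit 3,nat_lit 0,nat_lit 0,nat_lit 3,nat_lit 2,nat_lit 3,nat_lit 2,nat_lit 1,nat_lit 2,nat_lit 0,nat_lit 3,nat_lit 1,nat_lit 3,nat_lit 2])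
 (.leaf [nat_lit 3,nat_lit 2,nat_lit 3,nat_lit 1,nat_lit 3,nat_lit 0,nat_lit 2,nat_lit 0,nat_lit 0,nat_lit 0,nat_lit 3,nat_lit 1,nat_lit 2,nat_lit 3,nat_lit 0,nat_lit 0,nat_lit 3,nat_lit 0,nat_lit 0,nat_lit 2])
) (.leaf [nat_lit 2,nat_lit 0,nat_lit 2,nat_lit 0,nat_lit 2,nat_lit 0,nat_lit 0,nat_lit 3,nat_lit 0,nat_lit 0,nat_lit 3,nat_lit 1,nat_lit 1,nat_lit 2,nat_lit 3,nat_lit 0,nat_lit 2,nat_lit 3,nat_lit 1])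
)) (.node (.node (.node (.leaf [nat_lit 0,nat_lit 2,nat_lit 1,nat_lit 1,nat_lit 1,nat_lit 2,nat_lit 3,nat_lit 0,nat_lit 3,nat_lit 1,nat_lit 2,nat_lit 1,nat_lit 2,nat_lit 3,nat_lit 2,nat_lit 1,nat_lit 2,nat_lit 3])
 (.leaf [nat_lit 4,nat_lit 0,nat_lit 0,nat_lit 2,nat_lit 1,nat_lit 1,nat_lit 3,nat_lit 1,nat_lit 2,nat_lit 0,nat_lit 2,nat_lit 0,nat_lit 0,nat_lit 2,nat_lit 0,nat_lit 2,nat_lit 1,nat_lit 2,nat_lit 3])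
) (.node (.leaf [nat_lit 5,nat_lit 0,nat_lit 3,nat_lit 1,nat_lit 2,nat_lit 0,nat_lit 2,nat_lit 0,nat_lit 3,nat_lit 0,nat_lit 3,nat_lit 2,nat_lit 3,nat_lit 2,nat_lit 0,nat_lit 3,nat_lit 0,nat_lit 0,nat_lit 3])
 (.leaf [nat_lit 4,nat_lit 3,nat_lit 2,nat_lit 3,nat_lit 1,nat_lit 1,nat_lit 3,nat_lit 1,nat_lit 3,nat_lit 1,nat_lit 1,nat_lit 3,nat_lit 0,nat_lit 0,nat_lit 0,nat_lit 2,nat_lit 0,nat_lit 3,nat_lit 1,nat_lit 2])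
)) (.node (.node (.leaf [nat_lit 0,nat_lit 2,nat_lit 3,nat_lit 0,nat_lit 0,nat_lit 2,nat_lit 1,nat_lit 3,nat_lit 0,nat_lit 2,nat_lit 1,nat_lit 1,nat_lit 1,nat_lit 3,nat_lit 1,nat_lit 3,nat_lit 0,nat_lit 0,nat_lit 3])
 (.leaf [nat_lit 4,nat_lit 2,nat_lit 1,nat_lit 2,nat_lit 0,nat_lit 0,nat_lit 2,nat_lit 3,nat_lit 0,nat_lit 2,nat_lit 0,nat_lit 3,nat_lit 1,nat_lit 3,nat_lit 2,nat_lit 0,nat_lit 2,nat_lit 1,nat_lit 3,nat_lit 0])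
) (.leaf [nat_lit 1,nat_lit 1,nat_lit 3,nat_lit 1,nat_lit 1,nat_lit 3,nat_lit 0,nat_lit 3,nat_lit 1,nat_lit 1,nat_lit 2,nat_lit 0,nat_lit 0,nat_lit 3,nat_lit 1,nat_lit 2,nat_lit 1,nat_lit 3])
))))) (.node (.node (.node (.node (.node (.node (.leaf [nat_lit 1,nat_lit 2,nat_lit 3,nat_lit 2,nat_lit 3,nat_lit 2,nat_lit 1,nat_lit 2,nat_lit 1,nat_lit 1,nat_lit 2,nat_lit 0,nat_lit 0,nat_lit 2,nat_lit 0,nat_lit 2])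
 (.leaf [nat_lit 4,nat_lit 3,nat_lit 0,nat_lit 3,nat_lit 0,nat_lit 2,nat_lit 3,nat_lit 2,nat_lit 1,nat_lit 1,nat_lit 1,nat_lit 2,nat_lit 1,nat_lit 3,nat_lit 1,nat_lit 2,nat_lit 3])
) (.node (.leaf [])
 (.leaf [nat_lit 4,nat_lit 0,nat_lit 0,nat_lit 2,nat_lit 1,nat_lit 3,nat_lit 0,nat_lit 2,nat_lit 1,nat_lit 2,nat_lit 3,nat_lit 1,nat_lit 2,nat_lit 0,nat_lit 0,nat_lit 0,nat_lit 3,nat_lit 0,nat_lit 3,nat_lit 2])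
)) (.node (.node (.leaf [nat_lit 5,nat_lit 3,nat_lit 2,nat_lit 1,nat_lit 2,nat_lit 0,nat_lit 2,nat_lit 1,nat_lit 3,nat_lit 0,nat_lit 3,nat_lit 1,nat_lit 2,nat_lit 3,nat_lit 1,nat_lit 2,nat_lit 0,nat_lit 0,nat_lit 0,nat_lit 2])
 (.leaf [nat_lit 4,nat_lit 2,nat_lit 3,nat_lit 1,nat_lit 2,nat_lit 0,nat_lit 2,nat_lit 1,nat_lit 2,nat_lit 1,nat_lit 1,nat_lit 2,nat_lit 1,nat_lit 2,nat_lit 3,nat_lit 1,nat_lit 1,nat_lit 1,nat_lit 2])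
) (.leaf [nat_lit 4,nat_lit 0,nat_lit 0,nat_lit 2,nat_lit 1,nat_lit 1,nat_lit 1,nat_lit 3,nat_lit 0,nat_lit 2,nat_lit 1,nat_lit 2,nat_lit 1,nat_lit 1,nat_lit 2,nat_lit 0,nat_lit 0,nat_lit 2,nat_lit 1,nat_lit 2])
)) (.node (.node (.node (.leaf [nat_lit 4,nat_lit 1,nat_lit 2,nat_lit 1,nat_lit 3,nat_lit 1,nat_lit 2,nat_lit 3,nat_lit 1,nat_lit 3,nat_lit 2,nat_lit 1,nat_lit 1,nat_lit 3,nat_lit 2,nat_lit 0,nat_lit 3,nat_lit 1,nat_lit 1,nat_lit 3,nat_lit 1])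
 (.leaf [nat_lit 4,nat_lit 2,nat_lit 3,nat_lit 0,nat_lit 3,nat_lit 0,nat_lit 0,nat_lit 0,nat_lit 2,nat_lit 1,nat_lit 1,nat_lit 3,nat_lit 0,nat_lit 3,nat_lit 2,nat_lit 1,nat_lit 2,nat_lit 3])
) (.node (.leaf [nat_lit 4,nat_lit 2,nat_lit 1,nat_lit 2,nat_lit 3,nat_lit 2,nat_lit 1,nat_lit 1,nat_lit 1,nat_lit 2,nat_lit 3,nat_lit 0,nat_lit 3,nat_lit 2,nat_lit 0,nat_lit 3,nat_lit 2,nat_lit 1,nat_lit 3])
 (.leaf [nat_lit 3,nat_lit 1,nat_lit 1,nat_lit 3,nat_lit 0,nat_lit 2,nat_lit 3,nat_lit 2,nat_lit 1,nat_lit 2,nat_lit 0,nat_lit 0,nat_lit 2,nat_lit 0,nat_lit 2,nat_lit 0,nat_lit 2,nat_lit 0,nat_lit 3])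
)) (.node (.node (.leaf [nat_lit 5,nat_lit 1,nat_lit 3,nat_lit 1,nat_lit 2,nat_lit 0,nat_lit 3,nat_lit 1,nat_lit 1,nat_lit 3,nat_lit 0,nat_lit 0,nat_lit 3,nat_lit 0,nat_lit 3,nat_lit 0,nat_lit 0,nat_lit 0,nat_lit 2,nat_lit 1,nat_lit 3])
 (.leaf [nat_lit 4,nat_lit 2,nat_lit 0,nat_lit 2,nat_lit 3,nat_lit 2,nat_lit 3,nat_lit 1,nat_lit 1,nat_lit 3,nat_lit 0,nat_lit 3,nat_lit 0,nat_lit 2,nat_lit 0,nat_lit 2,nat_lit 0,nat_lit 3,nat_lit 2,nat_lit 3])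
) (.leaf [nat_lit 5,nat_lit 0,nat_lit 3,nat_lit 1,nat_lit 1,nat_lit 2,nat_lit 0,nat_lit 2,nat_lit 0,nat_lit 0,nat_lit 3,nat_lit 1,nat_lit 3,nat_lit 2,nat_lit 3,nat_lit 0,nat_lit 3,nat_lit 2,nat_lit 1,nat_lit 3])
))) (.node (.node (.node (.node (.leaf [nat_lit 2,nat_lit 1,nat_lit 3,nat_lit 1,nat_lit 1,nat_lit 2,nat_lit 3,nat_lit 0,nat_lit 0,nat_lit 3,nat_lit 1,nat_lit 3,nat_lit 1,nat_lit 1,nat_lit 3,nat_lit 1,nat_lit 1,nat_lit 1,nat_lit 3,nat_lit 0])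
 (.leaf [nat_lit 4,nat_lit 2,nat_lit 1,nat_lit 1,nat_lit 1,nat_lit 3,nat_lit 2,nat_lit 0,nat_lit 0,nat_lit 0,nat_lit 2,nat_lit 3,nat_lit 0,nat_lit 3,nat_lit 1,nat_lit 2,nat_lit 3,nat_lit 2,nat_lit 0,nat_lit 2])
) (.node (.leaf [nat_lit 4,nat_lit 0,nat_lit 3,nat_lit 1,nat_lit 3,nat_lit 0,nat_lit 0,nat_lit 0,nat_lit 2,nat_lit 3,nat_lit 1,nat_lit 3,nat_lit 1,nat_lit 2,nat_lit 1,nat_lit 1,nat_lit 2,nat_lit 3,nat_lit 1,nat_lit 2])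
 (.leaf [nat_lit 4,nat_lit 1,nat_lit 2,nat_lit 1,nat_lit 3,nat_lit 1,nat_lit 1,nat_lit 2,nat_lit 0,nat_lit 2,nat_lit 3,nat_lit 1,nat_lit 1,nat_lit 2,nat_lit 1,nat_lit 1,nat_lit 1,nat_lit 3,nat_lit 1,nat_lit 3])
)) (.node (.node (.leaf [nat_lit 5,nat_lit 2,nat_lit 1,nat_lit 3,nat_lit 0,nat_lit 3,nat_lit 1,nat_lit 1,nat_lit 2,nat_lit 0,nat_lit 3,nat_lit 0,nat_lit 0,nat_lit 3,nat_lit 2,nat_lit 0,nat_lit 3,nat_lit 1,nat_lit 1,nat_lit 3])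
 (.leaf [nat_lit 4,nat_lit 2,nat_lit 1,nat_lit 3,nat_lit 0,nat_lit 2,nat_lit 0,nat_lit 2,nat_lit 1,nat_lit 3,nat_lit 2,nat_lit 3,nat_lit 1,nat_lit 3,nat_lit 0,nat_lit 2,nat_lit 1])
) (.leaf [nat_lit 5,nat_lit 3,nat_lit 1,nat_lit 1,nat_lit 1,nat_lit 2,nat_lit 0,nat_lit 2,nat_lit 0,nat_lit 2,nat_lit 3,nat_lit 1,nat_lit 3,nat_lit 0,nat_lit 2,nat_lit 0,nat_lit 0,nat_lit 3,nat_lit 1])
)) (.node (.node (.node (.leaf [nat_lit 1,nat_lit 2,nat_lit 3,nat_lit 1,nat_lit 2,nat_lit 0,nat_lit 2,nat_lit 3,nat_lit 1,nat_lit 3,nat_lit 2,nat_lit 0,nat_lit 3,nat_lit 0,nat_lit 2,nat_lit 0,nat_lit 3,nat_lit 0])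
 (.leaf [nat_lit 5,nat_lit 3,nat_lit 2,nat_lit 1,nat_lit 1,nat_lit 2,nat_lit 3,nat_lit 1,nat_lit 2,nat_lit 1,nat_lit 3,nat_lit 1,nat_lit 1,nat_lit 1,nat_lit 2,nat_lit 0,nat_lit 3,nat_lit 2,nat_lit 0,nat_lit 3])
) (.node (.leaf [nat_lit 1,nat_lit 3,nat_lit 1,nat_lit 2,nat_lit 1,nat_lit 3,nat_lit 0,nat_lit 3,nat_lit 2,nat_lit 0,nat_lit 2,nat_lit 3,nat_lit 1,nat_lit 1,nat_lit 3,nat_lit 0,nat_lit 0,nat_lit 0])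
 (.leaf [nat_lit 3,nat_lit 1,nat_lit 3,nat_lit 2,nat_lit 0,nat_lit 3,nat_lit 0,nat_lit 0,nat_lit 2,nat_lit 1,nat_lit 3,nat_lit 0,nat_lit 2,nat_lit 0,nat_lit 0,nat_lit 2,nat_lit 3,nat_lit 0])
)) (.node (.node (.leaf [nat_lit 5,nat_lit 0,nat_lit 0,nat_lit 2,nat_lit 0,nat_lit 3,nat_lit 0,nat_lit 2,nat_lit 0,nat_lit 3,nat_lit 0,nat_lit 3,nat_lit 1,nat_lit 1,nat_lit 2,nat_lit 0,nat_lit 0,nat_lit 3,nat_lit 1,nat_lit 1,nat_lit 1])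
 (.leaf [nat_lit 1,nat_lit 3,nat_lit 0,nat_lit 0,nat_lit 3,nat_lit 2,nat_lit 0,nat_lit 2,nat_lit 3,nat_lit 0,nat_lit 0,nat_lit 0,nat_lit 2,nat_lit 1,nat_lit 3,nat_lit 1,nat_lit 3])
) (.leaf [nat_lit 4,nat_lit 3,nat_lit 1,nat_lit 3,nat_lit 2,nat_lit 3,nat_lit 1,nat_lit 2,nat_lit 3,nat_lit 1,nat_lit 1,nat_lit 3,nat_lit 1,nat_lit 2,nat_lit 3,nat_lit 0,nat_lit 3,nat_lit 2,nat_lit 0])
)))) (.node (.node (.node (.node (.node (.leaf [nat_lit 85])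
 (.leaf [nat_lit 24])
) (.node (.leaf [nat_lit 4,nat_lit 0,nat_lit 3,nat_lit 0,nat_lit 2,nat_lit 0,nat_lit 0,nat_lit 3,nat_lit 2,nat_lit 3,nat_lit 2,nat_lit 1,nat_lit 1,nat_lit 3,nat_lit 0,nat_lit 2,nat_lit 1,nat_lit 3,nat_lit 2,nat_lit 1])
 (.leaf [nat_lit 4,nat_lit 1,nat_lit 3,nat_lit 2,nat_lit 1,nat_lit 3,nat_lit 0,nat_lit 3,nat_lit 0,nat_lit 2,nat_lit 0,nat_lit 0,nat_lit 0,nat_lit 2,nat_lit 3,nat_lit 2,nat_lit 3,nat_lit 1])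
)) (.node (.node (.leaf [nat_lit 3,nat_lit 0,nat_lit 3,nat_lit 2,nat_lit 3,nat_lit 1,nat_lit 1,nat_lit 2,nat_lit 0,nat_lit 2,nat_lit 1,nat_lit 3,nat_lit 1,nat_lit 2,nat_lit 0,nat_lit 0,nat_lit 2,nat_lit 1])
 (.leaf [nat_lit 5,nat_lit 0,nat_lit 2,nat_lit 3,nat_lit 2,nat_lit 0,nat_lit 3,nat_lit 2,nat_lit 0,nat_lit 0,nat_lit 2,nat_lit 0,nat_lit 3,nat_lit 2,nat_lit 1,nat_lit 3,nat_lit 2,nat_lit 1,nat_lit 1,nat_lit 3])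
) (.leaf [nat_lit 4,nat_lit 3,nat_lit 2,nat_lit 3,nat_lit 1,nat_lit 1,nat_lit 1,nat_lit 2,nat_lit 1,nat_lit 2,nat_lit 3,nat_lit 2,nat_lit 1,nat_lit 2,nat_lit 1,nat_lit 2,nat_lit 0,nat_lit 2])
)) (.node (.node (.node (.leaf [nat_lit 3,nat_lit 0,nat_lit 3,nat_lit 2,nat_lit 3,nat_lit 0,nat_lit 2,nat_lit 1,nat_lit 1,nat_lit 2,nat_lit 3,nat_lit 0,nat_lit 3,nat_lit 2,nat_lit 0,nat_lit 2,nat_lit 0,nat_lit 0,nat_lit 2,nat_lit 0])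
 (.leaf [nat_lit 1,nat_lit 1,nat_lit 3,nat_lit 0,nat_lit 2,nat_lit 3,nat_lit 2,nat_lit 3,nat_lit 0,nat_lit 3,nat_lit 2,nat_lit 3,nat_lit 2,nat_lit 1,nat_lit 3,nat_lit 1,nat_lit 2,nat_lit 1,nat_lit 3,nat_lit 0])
) (.node (.leaf [nat_lit 5,nat_lit 0,nat_lit 2,nat_lit 3,nat_lit 2,nat_lit 1,nat_lit 2,nat_lit 1,nat_lit 2,nat_lit 1,nat_lit 2,nat_lit 3,nat_lit 1,nat_lit 2,nat_lit 1,nat_lit 1,nat_lit 1,nat_lit 3,nat_lit 1,nat_lit 1])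
 (.leaf [nat_lit 5,nat_lit 0,nat_lit 3,nat_lit 1,nat_lit 3,nat_lit 1,nat_lit 1,nat_lit 1,nat_lit 3,nat_lit 1,nat_lit 3,nat_lit 0,nat_lit 2,nat_lit 0,nat_lit 3,nat_lit 0,nat_lit 3,nat_lit 0,nat_lit 0])
)) (.node (.node (.leaf [nat_lit 5,nat_lit 2,nat_lit 3,nat_lit 1,nat_lit 2,nat_lit 0,nat_lit 2,nat_lit 3,nat_lit 1,nat_lit 1,nat_lit 1,nat_lit 2,nat_lit 3,nat_lit 1,nat_lit 2,nat_lit 0,nat_lit 0,nat_lit 3,nat_lit 0])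
 (.leaf [nat_lit 4,nat_lit 3,nat_lit 0,nat_lit 3,nat_lit 0,nat_lit 2,nat_lit 1,nat_lit 2,nat_lit 3,nat_lit 1,nat_lit 2,nat_lit 1,nat_lit 2,nat_lit 3,nat_lit 0,nat_lit 2,nat_lit 3,nat_lit 1])
) (.leaf [nat_lit 5,nat_lit 2,nat_lit 1,nat_lit 2,nat_lit 0,nat_lit 2,nat_lit 3,nat_lit 2,nat_lit 1,nat_lit 1,nat_lit 2,nat_lit 3,nat_lit 2,nat_lit 0,nat_lit 3,nat_lit 1,nat_lit 1,nat_lit 2,nat_lit 3,nat_lit 0])
))) (.node (.node (.node (.node (.leaf [nat_lit 5,nat_lit 2,nat_lit 1,nat_lit 2,nat_lit 1,nat_lit 3,nat_lit 1,nat_lit 2,nat_lit 3,nat_lit 0,nat_lit 3,nat_lit 2,nat_lit 3,nat_lit 2,nat_lit 1,nat_lit 1,nat_lit 3,nat_lit 2,nat_lit 1])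
 (.leaf [nat_lit 5,nat_lit 3,nat_lit 2,nat_lit 0,nat_lit 3,nat_lit 0,nat_lit 3,nat_lit 2,nat_lit 1,nat_lit 2,nat_lit 1,nat_lit 1,nat_lit 2,nat_lit 0,nat_lit 0,nat_lit 2,nat_lit 3,nat_lit 2,nat_lit 0,nat_lit 0])
) (.node (.leaf [nat_lit 3,nat_lit 1,nat_lit 1,nat_lit 3,nat_lit 0,nat_lit 2,nat_lit 1,nat_lit 2,nat_lit 3,nat_lit 1,nat_lit 1,nat_lit 1,nat_lit 2,nat_lit 0,nat_lit 0,nat_lit 2,nat_lit 1,nat_lit 3,nat_lit 2])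
 (.leaf [nat_lit 0,nat_lit 2,nat_lit 1,nat_lit 3,nat_lit 0,nat_lit 0,nat_lit 0,nat_lit 2,nat_lit 0,nat_lit 2,nat_lit 3,nat_lit 1,nat_lit 3,nat_lit 2,nat_lit 1,nat_lit 3,nat_lit 1,nat_lit 3,nat_lit 1,nat_lit 1])
)) (.node (.node (.leaf [nat_lit 5,nat_lit 1,nat_lit 3,nat_lit 1,nat_lit 3,nat_lit 0,nat_lit 0,nat_lit 2,nat_lit 1,nat_lit 3,nat_lit 0,nat_lit 0,nat_lit 0,nat_lit 2,nat_lit 3,nat_lit 0,nat_lit 2,nat_lit 1,nat_lit 1])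
 (.leaf [nat_lit 0,nat_lit 2,nat_lit 0,nat_lit 0,nat_lit 2,nat_lit 1,nat_lit 1,nat_lit 2,nat_lit 0,nat_lit 0,nat_lit 3,nat_lit 1,nat_lit 1,nat_lit 2,nat_lit 3,nat_lit 1,nat_lit 1])
) (.leaf [nat_lit 5,nat_lit 1,nat_lit 2,nat_lit 0,nat_lit 2,nat_lit 3,nat_lit 0,nat_lit 0,nat_lit 3,nat_lit 2,nat_lit 1,nat_lit 2,nat_lit 1,nat_lit 2,nat_lit 0,nat_lit 2,nat_lit 0,nat_lit 2,nat_lit 1,nat_lit 2])
)) (.node (.node (.node (.leaf [nat_lit 4,nat_lit 1,nat_lit 2,nat_lit 3,nat_lit 2,nat_lit 0,nat_lit 0,nat_lit 3,nat_lit 2,nat_lit 1,nat_lit 1,nat_lit 1,nat_lit 3,nat_lit 0,nat_lit 2,nat_lit 0,nat_lit 0,nat_lit 3,nat_lit 0])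
 (.leaf [nat_lit 5,nat_lit 3,nat_lit 1,nat_lit 1,nat_lit 2,nat_lit 3,nat_lit 2,nat_lit 0,nat_lit 0,nat_lit 2,nat_lit 3,nat_lit 0,nat_lit 3,nat_lit 2,nat_lit 1,nat_lit 3,nat_lit 0,nat_lit 0,nat_lit 2,nat_lit 3])
) (.leaf [nat_lit 4,nat_lit 3,nat_lit 1,nat_lit 1,nat_lit 1,nat_lit 2,nat_lit 1,nat_lit 1,nat_lit 2,nat_lit 0,nat_lit 0,nat_lit 3,nat_lit 0,nat_lit 2,nat_lit 1,nat_lit 1,nat_lit 1,nat_lit 2,nat_lit 1])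
) (.node (.node (.leaf [nat_lit 2,nat_lit 1,nat_lit 2,nat_lit 3,nat_lit 1,nat_lit 3,nat_lit 1,nat_lit 1,nat_lit 3,nat_lit 0,nat_lit 2,nat_lit 1,nat_lit 1,nat_lit 1,nat_lit 2,nat_lit 1,nat_lit 2,nat_lit 3])
 (.leaf [nat_lit 4,nat_lit 2,nat_lit 0,nat_lit 0,nat_lit 0,nat_lit 2,nat_lit 3,nat_lit 2,nat_lit 0,nat_lit 3,nat_lit 0,nat_lit 2,nat_lit 0,nat_lit 0,nat_lit 2,nat_lit 1,nat_lit 2,nat_lit 1,nat_lit 3])
) (.leaf [nat_lit 5,nat_lit 1,nat_lit 3,nat_lit 2,nat_lit 0,nat_lit 3,nat_lit 2,nat_lit 1,nat_lit 1,nat_lit 2,nat_lit 3,nat_lit 1,nat_lit 2,nat_lit 1,nat_lit 2,nat_lit 0,nat_lit 2,nat_lit 1])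
))))))
noncomputable def Fc2 : LT :=
(.node (.node (.node (.node (.node (.node (.node (.leaf [nat_lit 2])
 (.leaf [nat_lit 5,nat_lit 2,nat_lit 3,nat_lit 2,nat_lit 1,nat_lit 1,nat_lit 2,nat_lit 3,nat_lit 1,nat_lit 3,nat_lit 0,nat_lit 0,nat_lit 2,nat_lit 3,nat_lit 2,nat_lit 1,nat_lit 1,nat_lit 3,nat_lit 0])
) (.node (.leaf [nat_lit 2,nat_lit 1,nat_lit 3,nat_lit 2,nat_lit 3,nat_lit 1,nat_lit 2,nat_lit 0,nat_lit 3,nat_lit 0,nat_lit 0,nat_lit 3,nat_lit 2,nat_lit 1,nat_lit 1,nat_lit 2,nat_lit 0,nat_lit 0,nat_lit 2])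
 (.leaf [nat_lit 2,nat_lit 1,nat_lit 2,nat_lit 0,nat_lit 3,nat_lit 2,nat_lit 1,nat_lit 2,nat_lit 1,nat_lit 1,nat_lit 3,nat_lit 1,nat_lit 2,nat_lit 3,nat_lit 2,nat_lit 0,nat_lit 0,nat_lit 2])
)) (.node (.node (.leaf [nat_lit 2,nat_lit 3,nat_lit 2,nat_lit 1,nat_lit 3,nat_lit 1,nat_lit 2,nat_lit 0,nat_lit 3,nat_lit 2,nat_lit 1,nat_lit 2,nat_lit 1,nat_lit 2,nat_lit 1,nat_lit 3,nat_lit 1,nat_lit 2,nat_lit 1])
 (.leaf [nat_lit 2,nat_lit 1,nat_lit 3,nat_lit 1,nat_lit 1,nat_lit 2,nat_lit 3,nat_lit 0,nat_lit 0,nat_lit 3,nat_lit 1,nat_lit 3,nat_lit 1,nat_lit 1,nat_lit 3,nat_lit 1,nat_lit 1,nat_lit 1,nat_lit 3,nat_lit 0])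
) (.leaf [nat_lit 5,nat_lit 2,nat_lit 0,nat_lit 2,nat_lit 0,nat_lit 2,nat_lit 3,nat_lit 2,nat_lit 0,nat_lit 3,nat_lit 0,nat_lit 2,nat_lit 0,nat_lit 3,nat_lit 1,nat_lit 1,nat_lit 2])
)) (.node (.node (.node (.leaf [nat_lit 100])
 (.leaf [nat_lit 2])
) (.node (.leaf [nat_lit 5,nat_lit 3,nat_lit 1,nat_lit 2,nat_lit 0,nat_lit 2,nat_lit 3,nat_lit 2,nat_lit 0,nat_lit 3,nat_lit 0,nat_lit 3,nat_lit 0,nat_lit 2,nat_lit 3,nat_lit 1,nat_lit 3,nat_lit 0,nat_lit 0,nat_lit 3])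
 (.leaf [nat_lit 5,nat_lit 2,nat_lit 3,nat_lit 2,nat_lit 1,nat_lit 1,nat_lit 2,nat_lit 3,nat_lit 1,nat_lit 3,nat_lit 0,nat_lit 0,nat_lit 2,nat_lit 3,nat_lit 2,nat_lit 1,nat_lit 1,nat_lit 3,nat_lit 0])
)) (.node (.node (.leaf [nat_lit 5,nat_lit 3,nat_lit 1,nat_lit 1,nat_lit 1,nat_lit 2,nat_lit 0,nat_lit 2,nat_lit 1,nat_lit 2,nat_lit 1,nat_lit 2,nat_lit 1,nat_lit 1,nat_lit 1,nat_lit 2,nat_lit 3,nat_lit 0,nat_lit 0])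
 (.leaf [nat_lit 4,nat_lit 0,nat_lit 0,nat_lit 3,nat_lit 2,nat_lit 3,nat_lit 1,nat_lit 1,nat_lit 3,nat_lit 1,nat_lit 1,nat_lit 1,nat_lit 3,nat_lit 0,nat_lit 0,nat_lit 0])
) (.leaf [nat_lit 5,nat_lit 1,nat_lit 3,nat_lit 2,nat_lit 1,nat_lit 3,nat_lit 0,nat_lit 2,nat_lit 0,nat_lit 3,nat_lit 0,nat_lit 2,nat_lit 3,nat_lit 0,nat_lit 3,nat_lit 1,nat_lit 1,nat_lit 2,nat_lit 1,nat_lit 3])
))) (.node (.node (.node (.node (.leaf [nat_lit 2])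
 (.leaf [])
) (.node (.leaf [nat_lit 2,nat_lit 1,nat_lit 2,nat_lit 0,nat_lit 2,nat_lit 0,nat_lit 2,nat_lit 0,nat_lit 2,nat_lit 1,nat_lit 3,nat_lit 0,nat_lit 0,nat_lit 2,nat_lit 1,nat_lit 1,nat_lit 1])
 (.leaf [nat_lit 2,nat_lit 1,nat_lit 1,nat_lit 2,nat_lit 1,nat_lit 1,nat_lit 2,nat_lit 1,nat_lit 3,nat_lit 2,nat_lit 3,nat_lit 2,nat_lit 0,nat_lit 2,nat_lit 1,nat_lit 3,nat_lit 0,nat_lit 2,nat_lit 3])
)) (.node (.node (.leaf [nat_lit 3,nat_lit 2,nat_lit 1,nat_lit 3,nat_lit 0,nat_lit 0,nat_lit 2,nat_lit 3,nat_lit 1,nat_lit 3,nat_lit 2,nat_lit 0,nat_lit 2,nat_lit 0,nat_lit 0,nat_lit 3,nat_lit 0,nat_lit 0,nat_lit 0])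
 (.leaf [nat_lit 4,nat_lit 0,nat_lit 3,nat_lit 1,nat_lit 3,nat_lit 0,nat_lit 0,nat_lit 0,nat_lit 2,nat_lit 3,nat_lit 1,nat_lit 3,nat_lit 1,nat_lit 2,nat_lit 1,nat_lit 1,nat_lit 2,nat_lit 3,nat_lit 1,nat_lit 2])
) (.leaf [nat_lit 5,nat_lit 2,nat_lit 0,nat_lit 0,nat_lit 2,nat_lit 1,nat_lit 3,nat_lit 2,nat_lit 3,nat_lit 1,nat_lit 2,nat_lit 0,nat_lit 3,nat_lit 0,nat_lit 0,nat_lit 2,nat_lit 3,nat_lit 1,nat_lit 3,nat_lit 0])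
)) (.node (.node (.node (.leaf [nat_lit 4,nat_lit 0,nat_lit 3,nat_lit 0,nat_lit 2,nat_lit 0,nat_lit 2,nat_lit 1,nat_lit 1,nat_lit 2,nat_lit 3,nat_lit 1,nat_lit 2,nat_lit 3,nat_lit 0,nat_lit 2,nat_lit 1,nat_lit 3,nat_lit 2,nat_lit 3])
 (.leaf [nat_lit 4,nat_lit 0,nat_lit 2,nat_lit 0,nat_lit 2,nat_lit 1,nat_lit 2,nat_lit 3,nat_lit 1,nat_lit 1,nat_lit 3,nat_lit 1,nat_lit 3,nat_lit 2,nat_lit 0,nat_lit 0,nat_lit 3,nat_lit 1,nat_lit 1,nat_lit 1,nat_lit 2])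
) (.node (.leaf [nat_lit 0,nat_lit 0,nat_lit 2,nat_lit 3,nat_lit 2,nat_lit 0,nat_lit 0,nat_lit 0,nat_lit 2,nat_lit 1,nat_lit 3,nat_lit 2,nat_lit 3,nat_lit 2,nat_lit 0,nat_lit 3,nat_lit 2])
 (.leaf [nat_lit 5,nat_lit 2,nat_lit 1,nat_lit 1,nat_lit 1,nat_lit 2,nat_lit 3,nat_lit 2,nat_lit 1,nat_lit 2,nat_lit 0,nat_lit 3,nat_lit 0,nat_lit 0,nat_lit 0,nat_lit 2,nat_lit 1,nat_lit 3,nat_lit 2])
)) (.node (.node (.leaf [nat_lit 0,nat_lit 2,nat_lit 1,nat_lit 1,nat_lit 1,nat_lit 3,nat_lit 0,nat_lit 3,nat_lit 1,nat_lit 2,nat_lit 1,nat_lit 2,nat_lit 3,nat_lit 2,nat_lit 3,nat_lit 1,nat_lit 1,nat_lit 2,nat_lit 0])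
 (.leaf [nat_lit 1,nat_lit 1,nat_lit 3,nat_lit 0,nat_lit 0,nat_lit 3,nat_lit 0,nat_lit 2,nat_lit 1,nat_lit 2,nat_lit 0,nat_lit 3,nat_lit 1,nat_lit 2,nat_lit 3,nat_lit 1,nat_lit 1,nat_lit 2])
) (.leaf [nat_lit 5,nat_lit 3,nat_lit 1,nat_lit 1,nat_lit 2,nat_lit 1,nat_lit 3,nat_lit 1,nat_lit 1,nat_lit 1,nat_lit 2,nat_lit 3,nat_lit 1,nat_lit 1,nat_lit 2,nat_lit 1,nat_lit 3,nat_lit 1,nat_lit 2])
)))) (.node (.node (.node (.node (.node (.leaf [nat_lit 71])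
 (.leaf [nat_lit 4,nat_lit 3,nat_lit 2,nat_lit 0,nat_lit 3,nat_lit 0,nat_lit 0,nat_lit 2,nat_lit 0,nat_lit 3,nat_lit 0,nat_lit 0,nat_lit 2,nat_lit 0,nat_lit 2,nat_lit 0,nat_lit 3,nat_lit 2,nat_lit 0])
) (.node (.leaf [nat_lit 1,nat_lit 2,nat_lit 0,nat_lit 0,nat_lit 3,nat_lit 1,nat_lit 1,nat_lit 1,nat_lit 3,nat_lit 2,nat_lit 3,nat_lit 0,nat_lit 3,nat_lit 0,nat_lit 0,nat_lit 2,nat_lit 1,nat_lit 2,nat_lit 0,nat_lit 3])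
 (.leaf [nat_lit 4,nat_lit 0,nat_lit 3,nat_lit 1,nat_lit 3,nat_lit 0,nat_lit 0,nat_lit 3,nat_lit 0,nat_lit 2,nat_lit 0,nat_lit 0,nat_lit 0,nat_lit 3,nat_lit 0,nat_lit 0,nat_lit 2,nat_lit 1,nat_lit 2,nat_lit 0])
)) (.node (.node (.leaf [nat_lit 4,nat_lit 3,nat_lit 2,nat_lit 3,nat_lit 2,nat_lit 0,nat_lit 0,nat_lit 3,nat_lit 0,nat_lit 3,nat_lit 2,nat_lit 0,nat_lit 0,nat_lit 2,nat_lit 3,nat_lit 0,nat_lit 0,nat_lit 2,nat_lit 3])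
 (.leaf [nat_lit 0,nat_lit 2,nat_lit 1,nat_lit 1,nat_lit 1,nat_lit 3,nat_lit 0,nat_lit 3,nat_lit 1,nat_lit 2,nat_lit 1,nat_lit 2,nat_lit 3,nat_lit 2,nat_lit 3,nat_lit 1,nat_lit 1,nat_lit 2,nat_lit 0])
) (.leaf [nat_lit 5,nat_lit 3,nat_lit 1,nat_lit 2,nat_lit 3,nat_lit 1,nat_lit 2,nat_lit 1,nat_lit 2,nat_lit 0,nat_lit 3,nat_lit 0,nat_lit 0,nat_lit 2,nat_lit 1,nat_lit 1,nat_lit 3,nat_lit 0,nat_lit 0,nat_lit 3])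
)) (.node (.node (.node (.leaf [nat_lit 5,nat_lit 3,nat_lit 1,nat_lit 1,nat_lit 2,nat_lit 0,nat_lit 3,nat_lit 0,nat_lit 0,nat_lit 2,nat_lit 3,nat_lit 1,nat_lit 2,nat_lit 1,nat_lit 3,nat_lit 0,nat_lit 2,nat_lit 1,nat_lit 3])
 (.leaf [nat_lit 5,nat_lit 3,nat_lit 1,nat_lit 2,nat_lit 0,nat_lit 2,nat_lit 3,nat_lit 2,nat_lit 0,nat_lit 3,nat_lit 0,nat_lit 3,nat_lit 0,nat_lit 2,nat_lit 3,nat_lit 1,nat_lit 3,nat_lit 0,nat_lit 0,nat_lit 3])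
) (.node (.leaf [nat_lit 0,nat_lit 3,nat_lit 0,nat_lit 0,nat_lit 0,nat_lit 2,nat_lit 3,nat_lit 1,nat_lit 3,nat_lit 2,nat_lit 3,nat_lit 2,nat_lit 0,nat_lit 3,nat_lit 1,nat_lit 2,nat_lit 1,nat_lit 2,nat_lit 3,nat_lit 2])
 (.leaf [nat_lit 4,nat_lit 3,nat_lit 2,nat_lit 0,nat_lit 3,nat_lit 0,nat_lit 0,nat_lit 2,nat_lit 0,nat_lit 3,nat_lit 0,nat_lit 0,nat_lit 2,nat_lit 0,nat_lit 2,nat_lit 0,nat_lit 3,nat_lit 2,nat_lit 0])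
)) (.node (.node (.leaf [nat_lit 5,nat_lit 1,nat_lit 1,nat_lit 2,nat_lit 1,nat_lit 3,nat_lit 2,nat_lit 3,nat_lit 2,nat_lit 0,nat_lit 2,nat_lit 1,nat_lit 2,nat_lit 3,nat_lit 2,nat_lit 1,nat_lit 1,nat_lit 3,nat_lit 1])
 (.leaf [nat_lit 5,nat_lit 1,nat_lit 3,nat_lit 0,nat_lit 3,nat_lit 2,nat_lit 3,nat_lit 0,nat_lit 2,nat_lit 0,nat_lit 3,nat_lit 0,nat_lit 3,nat_lit 1,nat_lit 2,nat_lit 0,nat_lit 2,nat_lit 0,nat_lit 0,nat_lit 0,nat_lit 3])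
) (.leaf [nat_lit 4,nat_lit 2,nat_lit 1,nat_lit 3,nat_lit 1,nat_lit 3,nat_lit 0,nat_lit 0,nat_lit 2,nat_lit 1,nat_lit 2,nat_lit 3,nat_lit 2,nat_lit 0,nat_lit 3,nat_lit 0,nat_lit 0,nat_lit 2,nat_lit 3,nat_lit 0])
))) (.node (.node (.node (.node (.leaf [nat_lit 0,nat_lit 2,nat_lit 1,nat_lit 1,nat_lit 1,nat_lit 2])
 (.leaf [nat_lit 3,nat_lit 1,nat_lit 1,nat_lit 3,nat_lit 0,nat_lit 2,nat_lit 1,nat_lit 2,nat_lit 3,nat_lit 1,nat_lit 1,nat_lit 1,nat_lit 2,nat_lit 0,nat_lit 0,nat_lit 2,nat_lit 1,nat_lit 3,nat_lit 2])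
) (.node (.leaf [nat_lit 114])
 (.leaf [nat_lit 4,nat_lit 0,nat_lit 3,nat_lit 0,nat_lit 0,nat_lit 2,nat_lit 0,nat_lit 3,nat_lit 1,nat_lit 1,nat_lit 3,nat_lit 2,nat_lit 3,nat_lit 2,nat_lit 3,nat_lit 1,nat_lit 1,nat_lit 1,nat_lit 3,nat_lit 2])
)) (.node (.node (.leaf [nat_lit 3,nat_lit 2,nat_lit 0,nat_lit 3,nat_lit 0,nat_lit 0,nat_lit 3,nat_lit 2,nat_lit 3,nat_lit 2,nat_lit 1,nat_lit 2,nat_lit 0,nat_lit 3,nat_lit 1,nat_lit 3,nat_lit 2])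
 (.leaf [nat_lit 1,nat_lit 1,nat_lit 2,nat_lit 3,nat_lit 1,nat_lit 2,nat_lit 1,nat_lit 2,nat_lit 0,nat_lit 3,nat_lit 1,nat_lit 1,nat_lit 1,nat_lit 2,nat_lit 3,nat_lit 1,nat_lit 2,nat_lit 3,nat_lit 2])
) (.leaf [nat_lit 5,nat_lit 2,nat_lit 0,nat_lit 0,nat_lit 2,nat_lit 1,nat_lit 3,nat_lit 0,nat_lit 2,nat_lit 3,nat_lit 0,nat_lit 0,nat_lit 2,nat_lit 0,nat_lit 3,nat_lit 1,nat_lit 3,nat_lit 0,nat_lit 0,nat_lit 3,nat_lit 0])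
)) (.node (.node (.node (.leaf [nat_lit 0,nat_lit 2,nat_lit 1,nat_lit 1,nat_lit 1,nat_lit 2,nat_lit 3,nat_lit 0,nat_lit 3,nat_lit 1,nat_lit 2,nat_lit 1,nat_lit 2,nat_lit 3,nat_lit 2,nat_lit 1,nat_lit 2,nat_lit 3])
 (.leaf [nat_lit 5,nat_lit 3,nat_lit 1,nat_lit 1,nat_lit 2,nat_lit 1,nat_lit 3,nat_lit 1,nat_lit 1,nat_lit 1,nat_lit 2,nat_lit 3,nat_lit 1,nat_lit 1,nat_lit 2,nat_lit 1,nat_lit 3,nat_lit 1,nat_lit 2])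
) (.leaf [nat_lit 5,nat_lit 0,nat_lit 3,nat_lit 0,nat_lit 0,nat_lit 2,nat_lit 1,nat_lit 1,nat_lit 3,nat_lit 2,nat_lit 3,nat_lit 2,nat_lit 1,nat_lit 1,nat_lit 3,nat_lit 2,nat_lit 0,nat_lit 2])
) (.node (.node (.leaf [nat_lit 1,nat_lit 2,nat_lit 1,nat_lit 1,nat_lit 2,nat_lit 1,nat_lit 3,nat_lit 1,nat_lit 3,nat_lit 0,nat_lit 0,nat_lit 3,nat_lit 1,nat_lit 1,nat_lit 2,nat_lit 3])
 (.leaf [nat_lit 4,nat_lit 3,nat_lit 2,nat_lit 1,nat_lit 2,nat_lit 0,nat_lit 3,nat_lit 2,nat_lit 3,nat_lit 0,nat_lit 3,nat_lit 0,nat_lit 2,nat_lit 0,nat_lit 0,nat_lit 3,nat_lit 0,nat_lit 2,nat_lit 0,nat_lit 3])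
) (.leaf [nat_lit 1,nat_lit 1,nat_lit 3,nat_lit 1,nat_lit 1,nat_lit 3,nat_lit 0,nat_lit 3,nat_lit 1,nat_lit 1,nat_lit 2,nat_lit 0,nat_lit 0,nat_lit 3,nat_lit 1,nat_lit 2,nat_lit 1,nat_lit 3])
))))) (.node (.node (.node (.node (.node (.node (.leaf [nat_lit 5,nat_lit 1,nat_lit 1,nat_lit 3,nat_lit 1,nat_lit 1,nat_lit 1,nat_lit 3,nat_lit 1,nat_lit 1,nat_lit 3,nat_lit 2,nat_lit 1,nat_lit 2,nat_lit 1,nat_lit 1,nat_lit 2,nat_lit 3,nat_lit 1])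
 (.leaf [nat_lit 4,nat_lit 3,nat_lit 0,nat_lit 3,nat_lit 0,nat_lit 2,nat_lit 3,nat_lit 2,nat_lit 1,nat_lit 1,nat_lit 1,nat_lit 2,nat_lit 1,nat_lit 3,nat_lit 1,nat_lit 2,nat_lit 3])
) (.node (.leaf [nat_lit 0,nat_lit 2,nat_lit 1,nat_lit 1,nat_lit 1,nat_lit 2,nat_lit 3])
 (.leaf [nat_lit 4,nat_lit 3,nat_lit 2,nat_lit 1,nat_lit 3,nat_lit 2,nat_lit 0,nat_lit 2,nat_lit 3,nat_lit 1,nat_lit 2,nat_lit 1,nat_lit 1,nat_lit 3,nat_lit 1,nat_lit 2,nat_lit 0,nat_lit 3,nat_lit 0,nat_lit 0])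
)) (.node (.node (.leaf [nat_lit 5,nat_lit 3,nat_lit 2,nat_lit 1,nat_lit 2,nat_lit 0,nat_lit 2,nat_lit 1,nat_lit 3,nat_lit 0,nat_lit 3,nat_lit 1,nat_lit 2,nat_lit 3,nat_lit 1,nat_lit 2,nat_lit 0,nat_lit 0,nat_lit 0,nat_lit 2])
 (.leaf [nat_lit 5,nat_lit 3,nat_lit 2,nat_lit 0,nat_lit 0,nat_lit 2,nat_lit 0,nat_lit 0,nat_lit 3,nat_lit 1,nat_lit 2,nat_lit 0,nat_lit 3,nat_lit 0,nat_lit 3,nat_lit 1,nat_lit 2,nat_lit 1,nat_lit 1,nat_lit 1])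
) (.leaf [nat_lit 4,nat_lit 0,nat_lit 0,nat_lit 3,nat_lit 2,nat_lit 3,nat_lit 1,nat_lit 1,nat_lit 3,nat_lit 1,nat_lit 1,nat_lit 1,nat_lit 3,nat_lit 0,nat_lit 0,nat_lit 0])
)) (.node (.node (.node (.leaf [nat_lit 107])
 (.leaf [nat_lit 5,nat_lit 2,nat_lit 3,nat_lit 0,nat_lit 2,nat_lit 0,nat_lit 3,nat_lit 0,nat_lit 3,nat_lit 0,nat_lit 0,nat_lit 3,nat_lit 2,nat_lit 0,nat_lit 2,nat_lit 0,nat_lit 0,nat_lit 0])
) (.node (.leaf [nat_lit 4,nat_lit 2,nat_lit 1,nat_lit 2,nat_lit 3,nat_lit 2,nat_lit 1,nat_lit 1,nat_lit 1,nat_lit 2,nat_lit 3,nat_lit 0,nat_lit 3,nat_lit 2,nat_lit 0,nat_lit 3,nat_lit 2,nat_lit 1,nat_lit 3])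
 (.leaf [nat_lit 1,nat_lit 3,nat_lit 1,nat_lit 3,nat_lit 2,nat_lit 1,nat_lit 3,nat_lit 0,nat_lit 0,nat_lit 3,nat_lit 0,nat_lit 3,nat_lit 1,nat_lit 1,nat_lit 2,nat_lit 1,nat_lit 3,nat_lit 2,nat_lit 0])
)) (.node (.node (.leaf [nat_lit 5,nat_lit 1,nat_lit 3,nat_lit 1,nat_lit 2,nat_lit 0,nat_lit 3,nat_lit 1,nat_lit 1,nat_lit 3,nat_lit 0,nat_lit 0,nat_lit 3,nat_lit 0,nat_lit 3,nat_lit 0,nat_lit 0,nat_lit 0,nat_lit 2,nat_lit 1,nat_lit 3])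
 (.leaf [nat_lit 5,nat_lit 3,nat_lit 0,nat_lit 3,nat_lit 1,nat_lit 2,nat_lit 1,nat_lit 2,nat_lit 1,nat_lit 2,nat_lit 0,nat_lit 2,nat_lit 3,nat_lit 2,nat_lit 0,nat_lit 2,nat_lit 1,nat_lit 2,nat_lit 1,nat_lit 3])
) (.leaf [nat_lit 5,nat_lit 3,nat_lit 1,nat_lit 2,nat_lit 1,nat_lit 3,nat_lit 2,nat_lit 0,nat_lit 3,nat_lit 0,nat_lit 2,nat_lit 3,nat_lit 2,nat_lit 1,nat_lit 3,nat_lit 0,nat_lit 0,nat_lit 2,nat_lit 3,nat_lit 1,nat_lit 2,nat_lit 0])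
))) (.node (.node (.node (.node (.leaf [nat_lit 4,nat_lit 0,nat_lit 3,nat_lit 1,nat_lit 2,nat_lit 0,nat_lit 0,nat_lit 0,nat_lit 3,nat_lit 0,nat_lit 0,nat_lit 2,nat_lit 1,nat_lit 3,nat_lit 0,nat_lit 0,nat_lit 2,nat_lit 3,nat_lit 0])
 (.leaf [nat_lit 4,nat_lit 1,nat_lit 3,nat_lit 1,nat_lit 3,nat_lit 0,nat_lit 3,nat_lit 2,nat_lit 0,nat_lit 0,nat_lit 3,nat_lit 0,nat_lit 2,nat_lit 1,nat_lit 3,nat_lit 0,nat_lit 0,nat_lit 3,nat_lit 2])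
) (.node (.leaf [nat_lit 4,nat_lit 0,nat_lit 3,nat_lit 1,nat_lit 3,nat_lit 0,nat_lit 0,nat_lit 0,nat_lit 2,nat_lit 3,nat_lit 1,nat_lit 3,nat_lit 1,nat_lit 2,nat_lit 1,nat_lit 1,nat_lit 2,nat_lit 3,nat_lit 1,nat_lit 2])
 (.leaf [nat_lit 5,nat_lit 2,nat_lit 3,nat_lit 1,nat_lit 1,nat_lit 3,nat_lit 0,nat_lit 0,nat_lit 3,nat_lit 1,nat_lit 2,nat_lit 1,nat_lit 3,nat_lit 1,nat_lit 1,nat_lit 3,nat_lit 1,nat_lit 2,nat_lit 0,nat_lit 0])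
)) (.node (.node (.leaf [nat_lit 5,nat_lit 0,nat_lit 3,nat_lit 1,nat_lit 1,nat_lit 1,nat_lit 2,nat_lit 0,nat_lit 3,nat_lit 2,nat_lit 3,nat_lit 2,nat_lit 0,nat_lit 2,nat_lit 3,nat_lit 1,nat_lit 1,nat_lit 2,nat_lit 3])
 (.leaf [nat_lit 1,nat_lit 3,nat_lit 1,nat_lit 2,nat_lit 1,nat_lit 3,nat_lit 0,nat_lit 3,nat_lit 2,nat_lit 0,nat_lit 2,nat_lit 3,nat_lit 1,nat_lit 1,nat_lit 3,nat_lit 0,nat_lit 0,nat_lit 0])
) (.leaf [nat_lit 5,nat_lit 3,nat_lit 1,nat_lit 1,nat_lit 1,nat_lit 2,nat_lit 0,nat_lit 2,nat_lit 0,nat_lit 2,nat_lit 3,nat_lit 1,nat_lit 3,nat_lit 0,nat_lit 2,nat_lit 0,nat_lit 0,nat_lit 3,nat_lit 1])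
)) (.node (.node (.node (.leaf [nat_lit 4,nat_lit 0,nat_lit 0,nat_lit 3,nat_lit 0,nat_lit 2,nat_lit 3,nat_lit 0,nat_lit 2,nat_lit 3,nat_lit 1,nat_lit 2,nat_lit 0,nat_lit 3,nat_lit 0,nat_lit 2,nat_lit 1,nat_lit 2,nat_lit 3])
 (.leaf [nat_lit 5,nat_lit 2,nat_lit 0,nat_lit 3,nat_lit 2,nat_lit 0,nat_lit 2,nat_lit 0,nat_lit 3,nat_lit 1,nat_lit 2,nat_lit 1,nat_lit 3,nat_lit 2,nat_lit 1,nat_lit 3,nat_lit 1])
) (.node (.leaf [nat_lit 5,nat_lit 1,nat_lit 3,nat_lit 1,nat_lit 2,nat_lit 0,nat_lit 0,nat_lit 0,nat_lit 3,nat_lit 2,nat_lit 1,nat_lit 3,nat_lit 2,nat_lit 1,nat_lit 1,nat_lit 3,nat_lit 0,nat_lit 0,nat_lit 2,nat_lit 3,nat_lit 0])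
 (.leaf [nat_lit 4,nat_lit 3,nat_lit 2,nat_lit 0,nat_lit 3,nat_lit 2,nat_lit 3,nat_lit 0,nat_lit 3,nat_lit 2,nat_lit 0,nat_lit 3,nat_lit 2,nat_lit 3,nat_lit 0,nat_lit 3,nat_lit 0,nat_lit 2])
)) (.node (.node (.leaf [nat_lit 4,nat_lit 1,nat_lit 3,nat_lit 2,nat_lit 3,nat_lit 0,nat_lit 3,nat_lit 2,nat_lit 1,nat_lit 2,nat_lit 1,nat_lit 2,nat_lit 3,nat_lit 0,nat_lit 0,nat_lit 2,nat_lit 0,nat_lit 2,nat_lit 1,nat_lit 2])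
 (.leaf [nat_lit 1,nat_lit 2,nat_lit 0,nat_lit 2,nat_lit 0,nat_lit 3,nat_lit 2,nat_lit 1,nat_lit 3,nat_lit 0,nat_lit 2,nat_lit 3,nat_lit 0,nat_lit 2,nat_lit 0,nat_lit 2])
) (.leaf [nat_lit 5,nat_lit 3,nat_lit 0,nat_lit 2,nat_lit 3,nat_lit 1,nat_lit 2,nat_lit 3,nat_lit 2,nat_lit 1,nat_lit 1,nat_lit 3,nat_lit 0,nat_lit 2,nat_lit 3,nat_lit 2,nat_lit 0,nat_lit 2,nat_lit 3,nat_lit 2])
)))) (.node (.node (.node (.node (.node (.leaf [nat_lit 4,nat_lit 3,nat_lit 1,nat_lit 3,nat_lit 2,nat_lit 0,nat_lit 2,nat_lit 0,nat_lit 2,nat_lit 3,nat_lit 1,nat_lit 2,nat_lit 1,nat_lit 3,nat_lit 1,nat_lit 1,nat_lit 3,nat_lit 1,nat_lit 3,nat_lit 0])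
 (.leaf [nat_lit 18])
) (.node (.leaf [nat_lit 4,nat_lit 0,nat_lit 3,nat_lit 1,nat_lit 3,nat_lit 1,nat_lit 2,nat_lit 3,nat_lit 0,nat_lit 2,nat_lit 3,nat_lit 1,nat_lit 1,nat_lit 2,nat_lit 3,nat_lit 2,nat_lit 0,nat_lit 2,nat_lit 0])
 (.leaf [nat_lit 3,nat_lit 2,nat_lit 0,nat_lit 2,nat_lit 3,nat_lit 0,nat_lit 3,nat_lit 2,nat_lit 1,nat_lit 3,nat_lit 2,nat_lit 3,nat_lit 2,nat_lit 0,nat_lit 2,nat_lit 0,nat_lit 3,nat_lit 1])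
)) (.node (.node (.leaf [nat_lit 5,nat_lit 2,nat_lit 1,nat_lit 1,nat_lit 2,nat_lit 3,nat_lit 0,nat_lit 0,nat_lit 3,nat_lit 0,nat_lit 2,nat_lit 0,nat_lit 3,nat_lit 1,nat_lit 2,nat_lit 3,nat_lit 1,nat_lit 3,nat_lit 2,nat_lit 3])
 (.leaf [nat_lit 3])
) (.leaf [nat_lit 4,nat_lit 2,nat_lit 0,nat_lit 0,nat_lit 0,nat_lit 2,nat_lit 3,nat_lit 0,nat_lit 0,nat_lit 2,nat_lit 0,nat_lit 3,nat_lit 0,nat_lit 2,nat_lit 0,nat_lit 0,nat_lit 3,nat_lit 0,nat_lit 0,nat_lit 2,nat_lit 3])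
)) (.node (.node (.node (.leaf [nat_lit 5,nat_lit 2,nat_lit 0,nat_lit 2,nat_lit 0,nat_lit 0,nat_lit 3,nat_lit 1,nat_lit 3,nat_lit 1,nat_lit 1,nat_lit 1,nat_lit 3,nat_lit 2,nat_lit 3,nat_lit 0,nat_lit 3,nat_lit 2,nat_lit 0])
 (.leaf [nat_lit 4,nat_lit 0,nat_lit 3,nat_lit 1,nat_lit 1,nat_lit 1,nat_lit 2,nat_lit 3,nat_lit 0,nat_lit 0,nat_lit 3,nat_lit 1,nat_lit 2,nat_lit 1,nat_lit 2,nat_lit 0,nat_lit 0,nat_lit 0,nat_lit 2])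
) (.node (.leaf [nat_lit 0,nat_lit 0,nat_lit 3,nat_lit 1,nat_lit 1,nat_lit 3,nat_lit 2,nat_lit 3,nat_lit 2,nat_lit 3,nat_lit 0,nat_lit 2,nat_lit 1,nat_lit 2,nat_lit 3,nat_lit 1,nat_lit 3,nat_lit 0,nat_lit 0])
 (.leaf [nat_lit 5,nat_lit 0,nat_lit 3,nat_lit 0,nat_lit 2,nat_lit 0,nat_lit 2,nat_lit 0,nat_lit 2,nat_lit 1,nat_lit 3,nat_lit 0,nat_lit 0,nat_lit 2,nat_lit 3,nat_lit 1,nat_lit 1,nat_lit 1,nat_lit 3,nat_lit 1])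
)) (.node (.node (.leaf [nat_lit 1,nat_lit 3,nat_lit 2,nat_lit 0,nat_lit 0,nat_lit 3,nat_lit 1,nat_lit 1,nat_lit 3,nat_lit 1,nat_lit 2,nat_lit 0,nat_lit 3,nat_lit 1,nat_lit 3,nat_lit 0,nat_lit 0,nat_lit 3,nat_lit 2])
 (.leaf [nat_lit 4,nat_lit 2,nat_lit 0,nat_lit 3,nat_lit 2,nat_lit 0,nat_lit 2,nat_lit 1,nat_lit 2,nat_lit 1,nat_lit 1,nat_lit 2,nat_lit 0,nat_lit 0,nat_lit 3,nat_lit 0,nat_lit 3,nat_lit 0,nat_lit 0,nat_lit 3,nat_lit 0])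
) (.leaf [nat_lit 5,nat_lit 2,nat_lit 1,nat_lit 2,nat_lit 0,nat_lit 2,nat_lit 3,nat_lit 2,nat_lit 1,nat_lit 1,nat_lit 2,nat_lit 3,nat_lit 2,nat_lit 0,nat_lit 3,nat_lit 1,nat_lit 1,nat_lit 2,nat_lit 3,nat_lit 0])
))) (.node (.node (.node (.node (.leaf [nat_lit 4,nat_lit 1,nat_lit 1,nat_lit 3,nat_lit 1,nat_lit 2,nat_lit 1,nat_lit 3,nat_lit 0,nat_lit 2,nat_lit 0,nat_lit 0,nat_lit 2,nat_lit 3,nat_lit 2,nat_lit 0,nat_lit 2,nat_lit 1,nat_lit 1,nat_lit 2])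
 (.leaf [nat_lit 3,nat_lit 0,nat_lit 2,nat_lit 3,nat_lit 2,nat_lit 1,nat_lit 2,nat_lit 1,nat_lit 1,nat_lit 1,nat_lit 2,nat_lit 1,nat_lit 2,nat_lit 0,nat_lit 3,nat_lit 2,nat_lit 0,nat_lit 3])
) (.node (.leaf [nat_lit 4,nat_lit 0,nat_lit 2,nat_lit 3,nat_lit 1,nat_lit 3,nat_lit 1,nat_lit 1,nat_lit 3,nat_lit 2,nat_lit 3,nat_lit 1,nat_lit 1,nat_lit 3,nat_lit 1,nat_lit 1,nat_lit 1,nat_lit 2,nat_lit 1,nat_lit 2,nat_lit 0,nat_lit 2])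
 (.leaf [nat_lit 4,nat_lit 3,nat_lit 1,nat_lit 3,nat_lit 2,nat_lit 3,nat_lit 1,nat_lit 2,nat_lit 3,nat_lit 1,nat_lit 1,nat_lit 3,nat_lit 1,nat_lit 2,nat_lit 3,nat_lit 0,nat_lit 3,nat_lit 2,nat_lit 0])
)) (.node (.node (.leaf [nat_lit 5,nat_lit 0,nat_lit 2,nat_lit 3,nat_lit 2,nat_lit 0,nat_lit 3,nat_lit 0,nat_lit 3,nat_lit 2,nat_lit 1,nat_lit 1,nat_lit 1,nat_lit 2,nat_lit 1,nat_lit 3,nat_lit 0,nat_lit 3])
 (.leaf [nat_lit 4,nat_lit 1,nat_lit 2,nat_lit 3,nat_lit 0,nat_lit 3,nat_lit 1,nat_lit 2,nat_lit 1,nat_lit 2,nat_lit 3,nat_lit 1,nat_lit 2,nat_lit 3,nat_lit 1,nat_lit 2,nat_lit 1,nat_lit 3,nat_lit 1])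
) (.leaf [nat_lit 5,nat_lit 0,nat_lit 3,nat_lit 2,nat_lit 0,nat_lit 2,nat_lit 3,nat_lit 1,nat_lit 1,nat_lit 2,nat_lit 0,nat_lit 0,nat_lit 3,nat_lit 1,nat_lit 1,nat_lit 3,nat_lit 2,nat_lit 1,nat_lit 3])
)) (.node (.node (.node (.leaf [nat_lit 4,nat_lit 0,nat_lit 3,nat_lit 1,nat_lit 3,nat_lit 1,nat_lit 2,nat_lit 3,nat_lit 2,nat_lit 0,nat_lit 2,nat_lit 1,nat_lit 3,nat_lit 0,nat_lit 3,nat_lit 0,nat_lit 0,nat_lit 0,nat_lit 3,nat_lit 0])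
 (.leaf [nat_lit 4,nat_lit 2,nat_lit 0,nat_lit 0,nat_lit 2,nat_lit 3,nat_lit 0,nat_lit 3,nat_lit 1,nat_lit 1,nat_lit 2,nat_lit 1,nat_lit 3,nat_lit 0,nat_lit 0,nat_lit 0,nat_lit 2,nat_lit 3,nat_lit 2,nat_lit 1,nat_lit 1])
) (.leaf [nat_lit 4,nat_lit 3,nat_lit 1,nat_lit 1,nat_lit 1,nat_lit 2,nat_lit 1,nat_lit 1,nat_lit 2,nat_lit 0,nat_lit 0,nat_lit 3,nat_lit 0,nat_lit 2,nat_lit 1,nat_lit 1,nat_lit 1,nat_lit 2,nat_lit 1])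
) (.node (.node (.leaf [nat_lit 2,nat_lit 1,nat_lit 2,nat_lit 3,nat_lit 1,nat_lit 3,nat_lit 1,nat_lit 1,nat_lit 3,nat_lit 0,nat_lit 2,nat_lit 1,nat_lit 1,nat_lit 1,nat_lit 2,nat_lit 1,nat_lit 2,nat_lit 3])
 (.leaf [nat_lit 5,nat_lit 2,nat_lit 1,nat_lit 1,nat_lit 3,nat_lit 2,nat_lit 0,nat_lit 0,nat_lit 0,nat_lit 2,nat_lit 1,nat_lit 2,nat_lit 1,nat_lit 1,nat_lit 3,nat_lit 1,nat_lit 1,nat_lit 2,nat_lit 1])
) (.leaf [nat_lit 5,nat_lit 3,nat_lit 0,nat_lit 3,nat_lit 1,nat_lit 2,nat_lit 1,nat_lit 2,nat_lit 1,nat_lit 3,nat_lit 0,nat_lit 3,nat_lit 0,nat_lit 0,nat_lit 2,nat_lit 0,nat_lit 3,nat_lit 2,nat_lit 3,nat_lit 2,nat_lit 1])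
))))))
noncomputable def Fc3 : LT :=
(.node (.node (.node (.node (.node (.node (.node (.leaf [nat_lit 3])
 (.leaf [nat_lit 1,nat_lit 1,nat_lit 3,nat_lit 0,nat_lit 0,nat_lit 2,nat_lit 3,nat_lit 2,nat_lit 0,nat_lit 0,nat_lit 2,nat_lit 0,nat_lit 2,nat_lit 0,nat_lit 2,nat_lit 0])
) (.node (.leaf [nat_lit 5,nat_lit 1,nat_lit 1,nat_lit 3,nat_lit 1,nat_lit 2,nat_lit 3,nat_lit 0,nat_lit 3,nat_lit 0,nat_lit 2,nat_lit 3,nat_lit 2,nat_lit 0,nat_lit 0,nat_lit 3,nat_lit 2,nat_lit 0,nat_lit 0])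
 (.leaf [nat_lit 4,nat_lit 0,nat_lit 0,nat_lit 2,nat_lit 1,nat_lit 1,nat_lit 2,nat_lit 3,nat_lit 2,nat_lit 3,nat_lit 1,nat_lit 1,nat_lit 1,nat_lit 3,nat_lit 1,nat_lit 1,nat_lit 1,nat_lit 2,nat_lit 3])
)) (.node (.node (.leaf [nat_lit 5,nat_lit 1,nat_lit 3,nat_lit 0,nat_lit 3,nat_lit 2,nat_lit 3,nat_lit 0,nat_lit 2,nat_lit 0,nat_lit 3,nat_lit 0,nat_lit 3,nat_lit 1,nat_lit 2,nat_lit 0,nat_lit 2,nat_lit 0,nat_lit 0,nat_lit 0,nat_lit 3])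
 (.leaf [nat_lit 5,nat_lit 0,nat_lit 0,nat_lit 0,nat_lit 2,nat_lit 3,nat_lit 2,nat_lit 3,nat_lit 1,nat_lit 2,nat_lit 1,nat_lit 3,nat_lit 0,nat_lit 3,nat_lit 1,nat_lit 2,nat_lit 0,nat_lit 2,nat_lit 0,nat_lit 2])
) (.leaf [nat_lit 5,nat_lit 2,nat_lit 0,nat_lit 2,nat_lit 0,nat_lit 2,nat_lit 3,nat_lit 2,nat_lit 0,nat_lit 3,nat_lit 0,nat_lit 2,nat_lit 0,nat_lit 3,nat_lit 1,nat_lit 1,nat_lit 2])
)) (.node (.node (.node (.leaf [nat_lit 2,nat_lit 3,nat_lit 1,nat_lit 2,nat_lit 0,nat_lit 3,nat_lit 2,nat_lit 3,nat_lit 0,nat_lit 0,nat_lit 2,nat_lit 0,nat_lit 0,nat_lit 0,nat_lit 2])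
 (.leaf [nat_lit 4,nat_lit 0,nat_lit 2,nat_lit 0,nat_lit 2,nat_lit 1,nat_lit 2,nat_lit 3,nat_lit 1,nat_lit 3,nat_lit 1,nat_lit 2,nat_lit 1,nat_lit 2,nat_lit 3,nat_lit 1,nat_lit 1,nat_lit 1,nat_lit 2,nat_lit 3,nat_lit 0])
) (.node (.leaf [nat_lit 5,nat_lit 0,nat_lit 0,nat_lit 0,nat_lit 2,nat_lit 0,nat_lit 2,nat_lit 0,nat_lit 0,nat_lit 0,nat_lit 2,nat_lit 3,nat_lit 2,nat_lit 1,nat_lit 3,nat_lit 1,nat_lit 1,nat_lit 3,nat_lit 1])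
 (.leaf [nat_lit 3,nat_lit 2,nat_lit 3,nat_lit 2,nat_lit 0,nat_lit 3,nat_lit 2,nat_lit 1,nat_lit 3,nat_lit 1,nat_lit 1,nat_lit 1,nat_lit 2,nat_lit 1,nat_lit 3])
)) (.node (.node (.leaf [nat_lit 3,nat_lit 2,nat_lit 1,nat_lit 3,nat_lit 2,nat_lit 3,nat_lit 2,nat_lit 1,nat_lit 1,nat_lit 3,nat_lit 1,nat_lit 1,nat_lit 2,nat_lit 0,nat_lit 0,nat_lit 2,nat_lit 3,nat_lit 0])
 (.leaf [nat_lit 5,nat_lit 2,nat_lit 0,nat_lit 2,nat_lit 0,nat_lit 2,nat_lit 3,nat_lit 0,nat_lit 2,nat_lit 1,nat_lit 3,nat_lit 0,nat_lit 3,nat_lit 2,nat_lit 1,nat_lit 2,nat_lit 0,nat_lit 3,nat_lit 0,nat_lit 0,nat_lit 0])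
) (.leaf [nat_lit 3,nat_lit 2,nat_lit 3,nat_lit 0,nat_lit 3,nat_lit 1,nat_lit 2,nat_lit 3,nat_lit 1,nat_lit 3,nat_lit 1,nat_lit 1,nat_lit 1,nat_lit 2,nat_lit 3,nat_lit 1,nat_lit 3,nat_lit 1,nat_lit 1,nat_lit 3])
))) (.node (.node (.node (.node (.leaf [nat_lit 93])
 (.leaf [nat_lit 4,nat_lit 0,nat_lit 2,nat_lit 0,nat_lit 2,nat_lit 1,nat_lit 2,nat_lit 3,nat_lit 1,nat_lit 3,nat_lit 1,nat_lit 2,nat_lit 1,nat_lit 2,nat_lit 3,nat_lit 1,nat_lit 1,nat_lit 1,nat_lit 2,nat_lit 3,nat_lit 0])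
) (.node (.leaf [nat_lit 5,nat_lit 3,nat_lit 0,nat_lit 2,nat_lit 0,nat_lit 0,nat_lit 0,nat_lit 2,nat_lit 3,nat_lit 0,nat_lit 3,nat_lit 1,nat_lit 2,nat_lit 1,nat_lit 2,nat_lit 3,nat_lit 0,nat_lit 3])
 (.leaf [nat_lit 5,nat_lit 3,nat_lit 1,nat_lit 1,nat_lit 3,nat_lit 1,nat_lit 2,nat_lit 0,nat_lit 3,nat_lit 0,nat_lit 2,nat_lit 0,nat_lit 2,nat_lit 3,nat_lit 0,nat_lit 3,nat_lit 0,nat_lit 2])
)) (.node (.node (.leaf [nat_lit 1,nat_lit 2,nat_lit 0,nat_lit 2,nat_lit 0,nat_lit 3,nat_lit 2,nat_lit 1,nat_lit 3,nat_lit 0,nat_lit 2,nat_lit 3,nat_lit 0,nat_lit 2,nat_lit 0,nat_lit 2])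
 (.leaf [nat_lit 5,nat_lit 2,nat_lit 3,nat_lit 0,nat_lit 0,nat_lit 3,nat_lit 2,nat_lit 1,nat_lit 2,nat_lit 0,nat_lit 2,nat_lit 3,nat_lit 0,nat_lit 2,nat_lit 1,nat_lit 1,nat_lit 1,nat_lit 3,nat_lit 2])
) (.leaf [nat_lit 5,nat_lit 0,nat_lit 3,nat_lit 0,nat_lit 0,nat_lit 2,nat_lit 0,nat_lit 3,nat_lit 0,nat_lit 0,nat_lit 3,nat_lit 1,nat_lit 2,nat_lit 1,nat_lit 2,nat_lit 1,nat_lit 2,nat_lit 0,nat_lit 3])
)) (.node (.node (.node (.leaf [nat_lit 4,nat_lit 0,nat_lit 3,nat_lit 0,nat_lit 2,nat_lit 0,nat_lit 2,nat_lit 1,nat_lit 1,nat_lit 2,nat_lit 3,nat_lit 1,nat_lit 2,nat_lit 3,nat_lit 0,nat_lit 2,nat_lit 1,nat_lit 3,nat_lit 2,nat_lit 3])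
 (.leaf [nat_lit 2,nat_lit 3,nat_lit 2,nat_lit 1,nat_lit 2,nat_lit 0,nat_lit 2,nat_lit 1,nat_lit 3,nat_lit 0,nat_lit 0,nat_lit 2,nat_lit 1,nat_lit 2,nat_lit 0,nat_lit 3,nat_lit 0,nat_lit 0])
) (.node (.leaf [nat_lit 4,nat_lit 1,nat_lit 2,nat_lit 1,nat_lit 3,nat_lit 1,nat_lit 3,nat_lit 1,nat_lit 2,nat_lit 1,nat_lit 1,nat_lit 2,nat_lit 3,nat_lit 1,nat_lit 3,nat_lit 0,nat_lit 2,nat_lit 1,nat_lit 3])
 (.leaf [nat_lit 4,nat_lit 3,nat_lit 0,nat_lit 0,nat_lit 0,nat_lit 2,nat_lit 1,nat_lit 3,nat_lit 0,nat_lit 3,nat_lit 2,nat_lit 0,nat_lit 0,nat_lit 3,nat_lit 0,nat_lit 0,nat_lit 3,nat_lit 2,nat_lit 0,nat_lit 0])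
)) (.node (.node (.leaf [nat_lit 5,nat_lit 3,nat_lit 1,nat_lit 3,nat_lit 2,nat_lit 0,nat_lit 0,nat_lit 0,nat_lit 3,nat_lit 2,nat_lit 0,nat_lit 3,nat_lit 0,nat_lit 2,nat_lit 1,nat_lit 3,nat_lit 0,nat_lit 0])
 (.leaf [nat_lit 5,nat_lit 2,nat_lit 1,nat_lit 3,nat_lit 1,nat_lit 1,nat_lit 2,nat_lit 1,nat_lit 3,nat_lit 2,nat_lit 1,nat_lit 2,nat_lit 1,nat_lit 3,nat_lit 2,nat_lit 1,nat_lit 1,nat_lit 3,nat_lit 0,nat_lit 0])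
) (.leaf [nat_lit 5,nat_lit 3,nat_lit 1,nat_lit 1,nat_lit 2,nat_lit 1,nat_lit 3,nat_lit 1,nat_lit 1,nat_lit 1,nat_lit 2,nat_lit 3,nat_lit 1,nat_lit 1,nat_lit 2,nat_lit 1,nat_lit 3,nat_lit 1,nat_lit 2])
)))) (.node (.node (.node (.node (.node (.leaf [nat_lit 2,nat_lit 0,nat_lit 2,nat_lit 1,nat_lit 3,nat_lit 1,nat_lit 1,nat_lit 3,nat_lit 1,nat_lit 1,nat_lit 3,nat_lit 0,nat_lit 0,nat_lit 2,nat_lit 3,nat_lit 1,nat_lit 1,nat_lit 1])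
 (.leaf [nat_lit 0,nat_lit 0,nat_lit 3,nat_lit 2,nat_lit 0,nat_lit 3,nat_lit 0,nat_lit 0,nat_lit 3,nat_lit 2,nat_lit 1,nat_lit 3,nat_lit 0,nat_lit 0,nat_lit 0,nat_lit 3,nat_lit 1,nat_lit 2,nat_lit 3])
) (.node (.leaf [nat_lit 5,nat_lit 3,nat_lit 1,nat_lit 1,nat_lit 1,nat_lit 3,nat_lit 0,nat_lit 2,nat_lit 3,nat_lit 1,nat_lit 2,nat_lit 3,nat_lit 0,nat_lit 2,nat_lit 3,nat_lit 0,nat_lit 3,nat_lit 0,nat_lit 2,nat_lit 0])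
 (.leaf [nat_lit 5,nat_lit 2,nat_lit 1,nat_lit 1,nat_lit 3,nat_lit 1,nat_lit 2,nat_lit 3,nat_lit 2,nat_lit 3,nat_lit 1,nat_lit 3,nat_lit 1,nat_lit 2,nat_lit 3,nat_lit 0,nat_lit 0,nat_lit 0,nat_lit 2,nat_lit 1])
)) (.node (.node (.leaf [nat_lit 4,nat_lit 3,nat_lit 2,nat_lit 3,nat_lit 2,nat_lit 0,nat_lit 0,nat_lit 3,nat_lit 0,nat_lit 3,nat_lit 2,nat_lit 0,nat_lit 0,nat_lit 2,nat_lit 3,nat_lit 0,nat_lit 0,nat_lit 2,nat_lit 3])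
 (.leaf [nat_lit 0,nat_lit 0,nat_lit 3,nat_lit 0,nat_lit 3,nat_lit 1,nat_lit 1,nat_lit 1,nat_lit 2,nat_lit 0,nat_lit 2,nat_lit 0,nat_lit 2,nat_lit 0,nat_lit 0,nat_lit 2,nat_lit 0,nat_lit 3])
) (.leaf [nat_lit 5,nat_lit 3,nat_lit 0,nat_lit 3,nat_lit 1,nat_lit 2,nat_lit 1,nat_lit 2,nat_lit 1,nat_lit 2,nat_lit 0,nat_lit 2,nat_lit 3,nat_lit 2,nat_lit 0,nat_lit 2,nat_lit 1,nat_lit 2,nat_lit 1,nat_lit 3])
)) (.node (.node (.node (.leaf [nat_lit 5,nat_lit 3,nat_lit 1,nat_lit 1,nat_lit 2,nat_lit 0,nat_lit 3,nat_lit 0,nat_lit 0,nat_lit 2,nat_lit 3,nat_lit 1,nat_lit 2,nat_lit 1,nat_lit 3,nat_lit 0,nat_lit 2,nat_lit 1,nat_lit 3])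
 (.leaf [nat_lit 5,nat_lit 1,nat_lit 3,nat_lit 1,nat_lit 2,nat_lit 3,nat_lit 1,nat_lit 2,nat_lit 1,nat_lit 2,nat_lit 3,nat_lit 0,nat_lit 2,nat_lit 0,nat_lit 0,nat_lit 3,nat_lit 0,nat_lit 2])
) (.node (.leaf [nat_lit 0,nat_lit 3,nat_lit 0,nat_lit 0,nat_lit 0,nat_lit 2,nat_lit 3,nat_lit 1,nat_lit 3,nat_lit 2,nat_lit 3,nat_lit 2,nat_lit 0,nat_lit 3,nat_lit 1,nat_lit 2,nat_lit 1,nat_lit 2,nat_lit 3,nat_lit 2])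
 (.leaf [nat_lit 0,nat_lit 3,nat_lit 2,nat_lit 3,nat_lit 1,nat_lit 3,nat_lit 1,nat_lit 2,nat_lit 0,nat_lit 0,nat_lit 3,nat_lit 1,nat_lit 1,nat_lit 1,nat_lit 3,nat_lit 2,nat_lit 1,nat_lit 2,nat_lit 3])
)) (.node (.node (.leaf [nat_lit 5,nat_lit 1,nat_lit 1,nat_lit 2,nat_lit 1,nat_lit 3,nat_lit 2,nat_lit 3,nat_lit 2,nat_lit 0,nat_lit 2,nat_lit 1,nat_lit 2,nat_lit 3,nat_lit 2,nat_lit 1,nat_lit 1,nat_lit 3,nat_lit 1])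
 (.leaf [nat_lit 0,nat_lit 2,nat_lit 1,nat_lit 1,nat_lit 3,nat_lit 0,nat_lit 0,nat_lit 3,nat_lit 0,nat_lit 3,nat_lit 0,nat_lit 2,nat_lit 1,nat_lit 1,nat_lit 2,nat_lit 1,nat_lit 1,nat_lit 1,nat_lit 3])
) (.leaf [nat_lit 4,nat_lit 0,nat_lit 0,nat_lit 2,nat_lit 0,nat_lit 2,nat_lit 3,nat_lit 0,nat_lit 2,nat_lit 3,nat_lit 0,nat_lit 3,nat_lit 2,nat_lit 1,nat_lit 2,nat_lit 1,nat_lit 1,nat_lit 3,nat_lit 1,nat_lit 2])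
))) (.node (.node (.node (.node (.leaf [nat_lit 4,nat_lit 0,nat_lit 2,nat_lit 1,nat_lit 1,nat_lit 2,nat_lit 3,nat_lit 0,nat_lit 2,nat_lit 3,nat_lit 0,nat_lit 3,nat_lit 1,nat_lit 3,nat_lit 1,nat_lit 2,nat_lit 1,nat_lit 2,nat_lit 3,nat_lit 2])
 (.leaf [nat_lit 2,nat_lit 1,nat_lit 3,nat_lit 0,nat_lit 2,nat_lit 3,nat_lit 1,nat_lit 1,nat_lit 3,nat_lit 0,nat_lit 3,nat_lit 1,nat_lit 3,nat_lit 1,nat_lit 2,nat_lit 1,nat_lit 3,nat_lit 2,nat_lit 1])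
) (.node (.leaf [nat_lit 5,nat_lit 0,nat_lit 3,nat_lit 0,nat_lit 2,nat_lit 0,nat_lit 2,nat_lit 0,nat_lit 2,nat_lit 1,nat_lit 3,nat_lit 0,nat_lit 0,nat_lit 2,nat_lit 3,nat_lit 1,nat_lit 1,nat_lit 1,nat_lit 3,nat_lit 1])
 (.leaf [nat_lit 3,nat_lit 0,nat_lit 2,nat_lit 1,nat_lit 3,nat_lit 0,nat_lit 2,nat_lit 0,nat_lit 0,nat_lit 3,nat_lit 1,nat_lit 2,nat_lit 0,nat_lit 3,nat_lit 0,nat_lit 2,nat_lit 1,nat_lit 2,nat_lit 3,nat_lit 0])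
)) (.node (.node (.leaf [nat_lit 3,nat_lit 1,nat_lit 1,nat_lit 2,nat_lit 1,nat_lit 1,nat_lit 1,nat_lit 2,nat_lit 3,nat_lit 1,nat_lit 1,nat_lit 1,nat_lit 2,nat_lit 0,nat_lit 3,nat_lit 0,nat_lit 0,nat_lit 2])
 (.leaf [nat_lit 4,nat_lit 2,nat_lit 1,nat_lit 2,nat_lit 3,nat_lit 0,nat_lit 2,nat_lit 3,nat_lit 0,nat_lit 3,nat_lit 0,nat_lit 2,nat_lit 1,nat_lit 1,nat_lit 3,nat_lit 0,nat_lit 3,nat_lit 1,nat_lit 1,nat_lit 3])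
) (.leaf [nat_lit 5,nat_lit 2,nat_lit 0,nat_lit 0,nat_lit 2,nat_lit 1,nat_lit 3,nat_lit 0,nat_lit 2,nat_lit 3,nat_lit 0,nat_lit 0,nat_lit 2,nat_lit 0,nat_lit 3,nat_lit 1,nat_lit 3,nat_lit 0,nat_lit 0,nat_lit 3,nat_lit 0])
)) (.node (.node (.node (.leaf [nat_lit 3,nat_lit 0,nat_lit 3,nat_lit 1,nat_lit 3,nat_lit 1,nat_lit 1,nat_lit 3,nat_lit 0,nat_lit 3,nat_lit 0,nat_lit 2,nat_lit 1,nat_lit 2,nat_lit 1,nat_lit 3,nat_lit 1,nat_lit 2])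
 (.leaf [nat_lit 5,nat_lit 1,nat_lit 1,nat_lit 1,nat_lit 3,nat_lit 1,nat_lit 1,nat_lit 1,nat_lit 2,nat_lit 3,nat_lit 2,nat_lit 1,nat_lit 1,nat_lit 3,nat_lit 1,nat_lit 1,nat_lit 2,nat_lit 1,nat_lit 2,nat_lit 3,nat_lit 1])
) (.leaf [nat_lit 0,nat_lit 3,nat_lit 2,nat_lit 1,nat_lit 1,nat_lit 2,nat_lit 3,nat_lit 1,nat_lit 3,nat_lit 1,nat_lit 2,nat_lit 3,nat_lit 1,nat_lit 2,nat_lit 3,nat_lit 0,nat_lit 2,nat_lit 0,nat_lit 0])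
) (.node (.node (.leaf [nat_lit 3,nat_lit 1,nat_lit 2,nat_lit 3,nat_lit 0,nat_lit 2,nat_lit 3,nat_lit 1,nat_lit 1,nat_lit 3,nat_lit 1,nat_lit 1,nat_lit 2,nat_lit 3,nat_lit 2,nat_lit 1,nat_lit 2,nat_lit 3])
 (.leaf [nat_lit 4,nat_lit 3,nat_lit 1,nat_lit 3,nat_lit 0,nat_lit 0,nat_lit 0,nat_lit 2,nat_lit 3,nat_lit 2,nat_lit 0,nat_lit 0,nat_lit 3,nat_lit 0,nat_lit 0,nat_lit 0,nat_lit 2,nat_lit 0,nat_lit 0,nat_lit 0,nat_lit 2,nat_lit 3])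
) (.leaf [nat_lit 5,nat_lit 3,nat_lit 1,nat_lit 2,nat_lit 3,nat_lit 0,nat_lit 0,nat_lit 2,nat_lit 0,nat_lit 0,nat_lit 3,nat_lit 1,nat_lit 2,nat_lit 0,nat_lit 0,nat_lit 3,nat_lit 0,nat_lit 0,nat_lit 2])
))))) (.node (.node (.node (.node (.node (.node (.leaf [nat_lit 5,nat_lit 0,nat_lit 2,nat_lit 0,nat_lit 0,nat_lit 0,nat_lit 3,nat_lit 2,nat_lit 1,nat_lit 3,nat_lit 0,nat_lit 3,nat_lit 0,nat_lit 0,nat_lit 0,nat_lit 3,nat_lit 0])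
 (.leaf [nat_lit 5,nat_lit 2,nat_lit 3,nat_lit 1,nat_lit 1,nat_lit 2,nat_lit 0,nat_lit 3,nat_lit 2,nat_lit 0,nat_lit 3,nat_lit 2,nat_lit 3,nat_lit 2,nat_lit 1,nat_lit 1,nat_lit 1,nat_lit 3])
) (.node (.leaf [nat_lit 4,nat_lit 1,nat_lit 3,nat_lit 2,nat_lit 0,nat_lit 3,nat_lit 1,nat_lit 3,nat_lit 1,nat_lit 2,nat_lit 0,nat_lit 0,nat_lit 2,nat_lit 1,nat_lit 3,nat_lit 0,nat_lit 0,nat_lit 3,nat_lit 0,nat_lit 3])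
 (.leaf [nat_lit 5,nat_lit 1,nat_lit 2,nat_lit 1,nat_lit 3,nat_lit 1,nat_lit 1,nat_lit 1,nat_lit 2,nat_lit 1,nat_lit 3,nat_lit 2,nat_lit 1,nat_lit 2,nat_lit 1,nat_lit 1,nat_lit 3,nat_lit 1,nat_lit 2,nat_lit 3])
)) (.node (.node (.leaf [nat_lit 3,nat_lit 1,nat_lit 3,nat_lit 1,nat_lit 1,nat_lit 2,nat_lit 1,nat_lit 2,nat_lit 3,nat_lit 0,nat_lit 3,nat_lit 0,nat_lit 0,nat_lit 3,nat_lit 1,nat_lit 3,nat_lit 2,nat_lit 3])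
 (.leaf [nat_lit 5,nat_lit 0,nat_lit 3,nat_lit 0,nat_lit 0,nat_lit 2,nat_lit 0,nat_lit 2,nat_lit 0,nat_lit 2,nat_lit 3,nat_lit 1,nat_lit 3,nat_lit 0,nat_lit 2,nat_lit 1,nat_lit 2,nat_lit 1])
) (.leaf [nat_lit 4,nat_lit 1,nat_lit 3,nat_lit 1,nat_lit 1,nat_lit 3,nat_lit 2,nat_lit 0,nat_lit 0,nat_lit 3,nat_lit 1,nat_lit 1,nat_lit 2,nat_lit 3,nat_lit 1,nat_lit 1,nat_lit 2,nat_lit 3,nat_lit 0,nat_lit 2])
)) (.node (.node (.node (.leaf [nat_lit 1,nat_lit 3,nat_lit 2,nat_lit 3,nat_lit 2,nat_lit 1,nat_lit 3,nat_lit 0,nat_lit 0,nat_lit 2,nat_lit 0,nat_lit 0,nat_lit 2,nat_lit 3,nat_lit 2,nat_lit 1,nat_lit 1,nat_lit 3,nat_lit 2])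
 (.leaf [nat_lit 5,nat_lit 0,nat_lit 0,nat_lit 2,nat_lit 3,nat_lit 1,nat_lit 2,nat_lit 3,nat_lit 0,nat_lit 3,nat_lit 1,nat_lit 3,nat_lit 1,nat_lit 1,nat_lit 3,nat_lit 0,nat_lit 0,nat_lit 2])
) (.node (.leaf [nat_lit 3,nat_lit 1,nat_lit 2,nat_lit 1,nat_lit 1,nat_lit 3,nat_lit 1,nat_lit 3,nat_lit 2,nat_lit 1,nat_lit 3,nat_lit 1,nat_lit 1,nat_lit 3,nat_lit 2,nat_lit 1,nat_lit 3,nat_lit 2])
 (.leaf [nat_lit 1,nat_lit 1,nat_lit 3,nat_lit 2,nat_lit 0,nat_lit 0,nat_lit 2,nat_lit 3,nat_lit 1,nat_lit 2,nat_lit 3,nat_lit 0,nat_lit 3,nat_lit 2,nat_lit 3,nat_lit 0,nat_lit 2])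
)) (.node (.node (.leaf [nat_lit 4,nat_lit 1,nat_lit 2,nat_lit 1,nat_lit 3,nat_lit 0,nat_lit 2,nat_lit 0,nat_lit 2,nat_lit 0,nat_lit 2,nat_lit 3,nat_lit 0,nat_lit 3,nat_lit 1,nat_lit 1,nat_lit 3,nat_lit 1,nat_lit 2,nat_lit 0,nat_lit 0])
 (.leaf [nat_lit 2,nat_lit 1,nat_lit 1,nat_lit 1,nat_lit 2,nat_lit 3,nat_lit 0,nat_lit 3,nat_lit 2,nat_lit 3,nat_lit 1,nat_lit 3,nat_lit 2,nat_lit 1,nat_lit 3,nat_lit 1,nat_lit 1,nat_lit 3,nat_lit 1])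
) (.leaf [nat_lit 5,nat_lit 3,nat_lit 1,nat_lit 2,nat_lit 1,nat_lit 3,nat_lit 2,nat_lit 0,nat_lit 3,nat_lit 0,nat_lit 2,nat_lit 3,nat_lit 2,nat_lit 1,nat_lit 3,nat_lit 0,nat_lit 0,nat_lit 2,nat_lit 3,nat_lit 1,nat_lit 2,nat_lit 0])
))) (.node (.node (.node (.node (.leaf [nat_lit 4,nat_lit 3,nat_lit 0,nat_lit 3,nat_lit 2,nat_lit 0,nat_lit 3,nat_lit 0,nat_lit 3,nat_lit 1,nat_lit 3,nat_lit 2,nat_lit 1,nat_lit 3,nat_lit 1,nat_lit 2,nat_lit 3,nat_lit 1,nat_lit 3])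
 (.leaf [nat_lit 1,nat_lit 2,nat_lit 3,nat_lit 2,nat_lit 1,nat_lit 3,nat_lit 1,nat_lit 3,nat_lit 1,nat_lit 2,nat_lit 0,nat_lit 3,nat_lit 1,nat_lit 1,nat_lit 1,nat_lit 3,nat_lit 0,nat_lit 3,nat_lit 1])
) (.node (.leaf [nat_lit 5,nat_lit 0,nat_lit 2,nat_lit 1,nat_lit 2,nat_lit 1,nat_lit 3,nat_lit 1,nat_lit 1,nat_lit 1,nat_lit 2,nat_lit 3,nat_lit 2,nat_lit 3,nat_lit 2,nat_lit 0,nat_lit 2,nat_lit 3])
 (.leaf [nat_lit 5,nat_lit 1,nat_lit 1,nat_lit 1,nat_lit 3,nat_lit 1,nat_lit 2,nat_lit 1,nat_lit 2,nat_lit 1,nat_lit 1,nat_lit 2,nat_lit 0,nat_lit 3,nat_lit 1,nat_lit 3,nat_lit 2,nat_lit 1,nat_lit 1,nat_lit 2])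
)) (.node (.node (.leaf [nat_lit 5,nat_lit 3,nat_lit 2,nat_lit 0,nat_lit 0,nat_lit 2,nat_lit 0,nat_lit 0,nat_lit 3,nat_lit 1,nat_lit 2,nat_lit 0,nat_lit 3,nat_lit 0,nat_lit 3,nat_lit 1,nat_lit 2,nat_lit 1,nat_lit 1,nat_lit 1])
 (.leaf [nat_lit 2,nat_lit 3,nat_lit 1,nat_lit 1,nat_lit 1,nat_lit 3,nat_lit 0,nat_lit 0,nat_lit 3,nat_lit 2,nat_lit 0,nat_lit 0,nat_lit 2,nat_lit 1,nat_lit 3,nat_lit 2,nat_lit 0,nat_lit 3])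
) (.leaf [nat_lit 5,nat_lit 3,nat_lit 0,nat_lit 2,nat_lit 0,nat_lit 3,nat_lit 2,nat_lit 1,nat_lit 3,nat_lit 0,nat_lit 3,nat_lit 1,nat_lit 2,nat_lit 1,nat_lit 2,nat_lit 0,nat_lit 3,nat_lit 1,nat_lit 2,nat_lit 0])
)) (.node (.node (.node (.leaf [nat_lit 1,nat_lit 1,nat_lit 2,nat_lit 3,nat_lit 0,nat_lit 3,nat_lit 1,nat_lit 2,nat_lit 3,nat_lit 2,nat_lit 1,nat_lit 3,nat_lit 0,nat_lit 2,nat_lit 0,nat_lit 0,nat_lit 0,nat_lit 3,nat_lit 2])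
 (.leaf [nat_lit 0,nat_lit 2,nat_lit 0,nat_lit 3,nat_lit 1,nat_lit 2,nat_lit 1,nat_lit 3,nat_lit 1,nat_lit 3,nat_lit 2,nat_lit 1,nat_lit 3,nat_lit 2,nat_lit 0,nat_lit 3,nat_lit 0,nat_lit 0,nat_lit 2])
) (.node (.leaf [nat_lit 5,nat_lit 1,nat_lit 3,nat_lit 1,nat_lit 2,nat_lit 0,nat_lit 0,nat_lit 0,nat_lit 3,nat_lit 2,nat_lit 1,nat_lit 3,nat_lit 2,nat_lit 1,nat_lit 1,nat_lit 3,nat_lit 0,nat_lit 0,nat_lit 2,nat_lit 3,nat_lit 0])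
 (.leaf [nat_lit 4,nat_lit 3,nat_lit 2,nat_lit 1,nat_lit 1,nat_lit 2,nat_lit 3,nat_lit 0,nat_lit 2,nat_lit 1,nat_lit 2,nat_lit 1,nat_lit 3,nat_lit 2,nat_lit 3,nat_lit 0,nat_lit 0,nat_lit 0,nat_lit 3,nat_lit 2])
)) (.node (.node (.leaf [nat_lit 4,nat_lit 1,nat_lit 3,nat_lit 2,nat_lit 3,nat_lit 0,nat_lit 3,nat_lit 2,nat_lit 1,nat_lit 2,nat_lit 1,nat_lit 2,nat_lit 3,nat_lit 0,nat_lit 0,nat_lit 2,nat_lit 0,nat_lit 2,nat_lit 1,nat_lit 2])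
 (.leaf [nat_lit 5,nat_lit 1,nat_lit 1,nat_lit 3,nat_lit 1,nat_lit 2,nat_lit 0,nat_lit 3,nat_lit 2,nat_lit 1,nat_lit 3,nat_lit 1,nat_lit 2,nat_lit 3,nat_lit 2,nat_lit 3,nat_lit 0,nat_lit 3,nat_lit 0])
) (.leaf [nat_lit 1,nat_lit 2,nat_lit 1,nat_lit 3,nat_lit 0,nat_lit 2,nat_lit 0,nat_lit 0,nat_lit 0,nat_lit 2,nat_lit 3,nat_lit 0,nat_lit 3,nat_lit 0,nat_lit 2,nat_lit 0,nat_lit 3])
)))) (.node (.node (.node (.node (.node (.leaf [nat_lit 4,nat_lit 1,nat_lit 3,nat_lit 2,nat_lit 3,nat_lit 2,nat_lit 3,nat_lit 1,nat_lit 2,nat_lit 0,nat_lit 2,nat_lit 3,nat_lit 2,nat_lit 0,nat_lit 3,nat_lit 2,nat_lit 1,nat_lit 3,nat_lit 1])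
 (.leaf [nat_lit 25])
) (.node (.leaf [nat_lit 4,nat_lit 0,nat_lit 3,nat_lit 1,nat_lit 3,nat_lit 1,nat_lit 2,nat_lit 3,nat_lit 0,nat_lit 2,nat_lit 3,nat_lit 1,nat_lit 1,nat_lit 2,nat_lit 3,nat_lit 2,nat_lit 0,nat_lit 2,nat_lit 0])
 (.leaf [nat_lit 3,nat_lit 0,nat_lit 2,nat_lit 0,nat_lit 2,nat_lit 1,nat_lit 2,nat_lit 3,nat_lit 0,nat_lit 3,nat_lit 1,nat_lit 3,nat_lit 0,nat_lit 2,nat_lit 0,nat_lit 2,nat_lit 1,nat_lit 3,nat_lit 0])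
)) (.node (.node (.leaf [nat_lit 5,nat_lit 1,nat_lit 3,nat_lit 1,nat_lit 2,nat_lit 1,nat_lit 3,nat_lit 0,nat_lit 2,nat_lit 3,nat_lit 1,nat_lit 3,nat_lit 2,nat_lit 0,nat_lit 3,nat_lit 0,nat_lit 0,nat_lit 3,nat_lit 1,nat_lit 1,nat_lit 1])
 (.leaf [nat_lit 4,nat_lit 1,nat_lit 1,nat_lit 3,nat_lit 2,nat_lit 3,nat_lit 0,nat_lit 3,nat_lit 2,nat_lit 1,nat_lit 2,nat_lit 3,nat_lit 2,nat_lit 3,nat_lit 1,nat_lit 3,nat_lit 1,nat_lit 1,nat_lit 2,nat_lit 3])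
) (.leaf [nat_lit 4,nat_lit 2,nat_lit 0,nat_lit 0,nat_lit 0,nat_lit 2,nat_lit 3,nat_lit 0,nat_lit 0,nat_lit 2,nat_lit 0,nat_lit 3,nat_lit 0,nat_lit 2,nat_lit 0,nat_lit 0,nat_lit 3,nat_lit 0,nat_lit 0,nat_lit 2,nat_lit 3])
)) (.node (.node (.node (.leaf [nat_lit 5,nat_lit 2,nat_lit 1,nat_lit 2,nat_lit 1,nat_lit 2,nat_lit 0,nat_lit 0,nat_lit 3,nat_lit 1,nat_lit 3,nat_lit 0,nat_lit 3,nat_lit 1,nat_lit 2,nat_lit 0,nat_lit 0,nat_lit 2,nat_lit 1,nat_lit 1])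
 (.leaf [nat_lit 5,nat_lit 3,nat_lit 1,nat_lit 3,nat_lit 0,nat_lit 0,nat_lit 3,nat_lit 1,nat_lit 3,nat_lit 2,nat_lit 0,nat_lit 2,nat_lit 3,nat_lit 1,nat_lit 2,nat_lit 1,nat_lit 1,nat_lit 2,nat_lit 0,nat_lit 2])
) (.node (.leaf [nat_lit 3,nat_lit 2,nat_lit 0,nat_lit 2,nat_lit 3,nat_lit 0,nat_lit 3,nat_lit 2,nat_lit 1,nat_lit 3,nat_lit 2,nat_lit 3,nat_lit 2,nat_lit 0,nat_lit 2,nat_lit 0,nat_lit 3,nat_lit 1])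
 (.leaf [nat_lit 1,nat_lit 1,nat_lit 2,nat_lit 0,nat_lit 0,nat_lit 0,nat_lit 2,nat_lit 0,nat_lit 3,nat_lit 0,nat_lit 0,nat_lit 3,nat_lit 0,nat_lit 3,nat_lit 0,nat_lit 0,nat_lit 3,nat_lit 1,nat_lit 1,nat_lit 2,nat_lit 0])
)) (.node (.node (.leaf [nat_lit 4,nat_lit 1,nat_lit 2,nat_lit 1,nat_lit 2,nat_lit 1,nat_lit 3,nat_lit 2,nat_lit 3,nat_lit 0,nat_lit 0,nat_lit 2,nat_lit 1,nat_lit 2,nat_lit 3,nat_lit 1,nat_lit 2,nat_lit 3,nat_lit 2,nat_lit 1])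
 (.leaf [nat_lit 2,nat_lit 3,nat_lit 0,nat_lit 2,nat_lit 0,nat_lit 0,nat_lit 3,nat_lit 0,nat_lit 2,nat_lit 0,nat_lit 0,nat_lit 3,nat_lit 1,nat_lit 3,nat_lit 2,nat_lit 0])
) (.leaf [nat_lit 0,nat_lit 2,nat_lit 1,nat_lit 3,nat_lit 2,nat_lit 1,nat_lit 3,nat_lit 1,nat_lit 2,nat_lit 1,nat_lit 3,nat_lit 1,nat_lit 1,nat_lit 2,nat_lit 3,nat_lit 1,nat_lit 1,nat_lit 1,nat_lit 2])
))) (.node (.node (.node (.node (.leaf [nat_lit 5,nat_lit 2,nat_lit 1,nat_lit 2,nat_lit 1,nat_lit 3,nat_lit 1,nat_lit 2,nat_lit 3,nat_lit 0,nat_lit 3,nat_lit 2,nat_lit 3,nat_lit 2,nat_lit 1,nat_lit 1,nat_lit 3,nat_lit 2,nat_lit 1])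
 (.leaf [nat_lit 5,nat_lit 2,nat_lit 0,nat_lit 3,nat_lit 2,nat_lit 0,nat_lit 0,nat_lit 2,nat_lit 1,nat_lit 2,nat_lit 1,nat_lit 3,nat_lit 0,nat_lit 2,nat_lit 0,nat_lit 0,nat_lit 3,nat_lit 1,nat_lit 3])
) (.node (.leaf [nat_lit 4,nat_lit 0,nat_lit 2,nat_lit 3,nat_lit 1,nat_lit 3,nat_lit 1,nat_lit 1,nat_lit 3,nat_lit 2,nat_lit 3,nat_lit 1,nat_lit 1,nat_lit 3,nat_lit 1,nat_lit 1,nat_lit 1,nat_lit 2,nat_lit 1,nat_lit 2,nat_lit 0,nat_lit 2])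
 (.leaf [nat_lit 0,nat_lit 2,nat_lit 1,nat_lit 1,nat_lit 3,nat_lit 2,nat_lit 0,nat_lit 3,nat_lit 2,nat_lit 3,nat_lit 2,nat_lit 0,nat_lit 3,nat_lit 2,nat_lit 0,nat_lit 0,nat_lit 3,nat_lit 2,nat_lit 1])
)) (.node (.node (.leaf [nat_lit 5,nat_lit 0,nat_lit 2,nat_lit 3,nat_lit 2,nat_lit 0,nat_lit 3,nat_lit 0,nat_lit 3,nat_lit 2,nat_lit 1,nat_lit 1,nat_lit 1,nat_lit 2,nat_lit 1,nat_lit 3,nat_lit 0,nat_lit 3])
 (.leaf [nat_lit 0,nat_lit 3,nat_lit 0,nat_lit 2,nat_lit 3,nat_lit 2,nat_lit 0,nat_lit 2,nat_lit 1,nat_lit 2,nat_lit 1,nat_lit 1,nat_lit 2,nat_lit 1,nat_lit 1,nat_lit 2,nat_lit 3,nat_lit 0,nat_lit 0,nat_lit 2])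
) (.leaf [nat_lit 4,nat_lit 2,nat_lit 1,nat_lit 3,nat_lit 2,nat_lit 1,nat_lit 2,nat_lit 0,nat_lit 3,nat_lit 2,nat_lit 1,nat_lit 2,nat_lit 3,nat_lit 0,nat_lit 3,nat_lit 2,nat_lit 0,nat_lit 3,nat_lit 1])
)) (.node (.node (.node (.leaf [nat_lit 4,nat_lit 0,nat_lit 3,nat_lit 1,nat_lit 3,nat_lit 1,nat_lit 2,nat_lit 3,nat_lit 2,nat_lit 0,nat_lit 2,nat_lit 1,nat_lit 3,nat_lit 0,nat_lit 3,nat_lit 0,nat_lit 0,nat_lit 0,nat_lit 3,nat_lit 0])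
 (.leaf [nat_lit 4,nat_lit 1,nat_lit 1,nat_lit 3,nat_lit 1,nat_lit 1,nat_lit 3,nat_lit 1,nat_lit 2,nat_lit 0,nat_lit 3,nat_lit 0,nat_lit 3,nat_lit 2,nat_lit 0,nat_lit 3,nat_lit 1,nat_lit 3,nat_lit 1,nat_lit 1])
) (.leaf [nat_lit 2,nat_lit 0,nat_lit 3,nat_lit 1,nat_lit 3,nat_lit 2,nat_lit 1,nat_lit 3,nat_lit 0,nat_lit 0,nat_lit 0,nat_lit 3,nat_lit 0,nat_lit 3,nat_lit 2,nat_lit 3,nat_lit 2,nat_lit 1])
) (.node (.node (.leaf [nat_lit 4,nat_lit 2,nat_lit 0,nat_lit 0,nat_lit 2,nat_lit 0,nat_lit 0,nat_lit 2,nat_lit 0,nat_lit 0,nat_lit 0,nat_lit 2,nat_lit 1,nat_lit 3,nat_lit 2,nat_lit 1,nat_lit 1,nat_lit 2,nat_lit 3,nat_lit 1])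
 (.leaf [nat_lit 4,nat_lit 2,nat_lit 1,nat_lit 3,nat_lit 0,nat_lit 2,nat_lit 1,nat_lit 3,nat_lit 0,nat_lit 0,nat_lit 3,nat_lit 1,nat_lit 3,nat_lit 2,nat_lit 1,nat_lit 1,nat_lit 3,nat_lit 0,nat_lit 0])
) (.leaf [nat_lit 5,nat_lit 3,nat_lit 0,nat_lit 3,nat_lit 1,nat_lit 2,nat_lit 1,nat_lit 2,nat_lit 1,nat_lit 3,nat_lit 0,nat_lit 3,nat_lit 0,nat_lit 0,nat_lit 2,nat_lit 0,nat_lit 3,nat_lit 2,nat_lit 3,nat_lit 2,nat_lit 1])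
))))))
noncomputable def Fc4 : LT :=
(.node (.node (.node (.node (.node (.node (.node (.leaf [])
 (.leaf [nat_lit 1,nat_lit 1,nat_lit 3,nat_lit 0,nat_lit 0,nat_lit 2,nat_lit 3,nat_lit 2,nat_lit 0,nat_lit 0,nat_lit 2,nat_lit 0,nat_lit 2,nat_lit 0,nat_lit 2,nat_lit 0])
) (.node (.leaf [nat_lit 4,nat_lit 0,nat_lit 3,nat_lit 0,nat_lit 2,nat_lit 1,nat_lit 1,nat_lit 1,nat_lit 2,nat_lit 0,nat_lit 3,nat_lit 0,nat_lit 0,nat_lit 0,nat_lit 3,nat_lit 1,nat_lit 2,nat_lit 1,nat_lit 1])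
 (.leaf [nat_lit 5,nat_lit 3,nat_lit 1,nat_lit 3,nat_lit 2,nat_lit 1,nat_lit 2,nat_lit 0,nat_lit 3,nat_lit 1,nat_lit 3,nat_lit 0,nat_lit 3,nat_lit 1,nat_lit 2,nat_lit 1,nat_lit 2,nat_lit 3,nat_lit 1])
)) (.node (.node (.leaf [nat_lit 5,nat_lit 1,nat_lit 3,nat_lit 0,nat_lit 3,nat_lit 2,nat_lit 3,nat_lit 0,nat_lit 2,nat_lit 0,nat_lit 3,nat_lit 0,nat_lit 3,nat_lit 1,nat_lit 2,nat_lit 0,nat_lit 2,nat_lit 0,nat_lit 0,nat_lit 0,nat_lit 3])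
 (.leaf [nat_lit 4,nat_lit 3,nat_lit 0,nat_lit 3,nat_lit 2,nat_lit 0,nat_lit 3,nat_lit 0,nat_lit 3,nat_lit 1,nat_lit 3,nat_lit 2,nat_lit 1,nat_lit 3,nat_lit 1,nat_lit 2,nat_lit 3,nat_lit 1,nat_lit 3])
) (.leaf [nat_lit 5,nat_lit 2,nat_lit 0,nat_lit 3,nat_lit 0,nat_lit 2,nat_lit 3,nat_lit 2,nat_lit 1,nat_lit 1,nat_lit 3,nat_lit 1,nat_lit 2,nat_lit 3,nat_lit 1,nat_lit 3,nat_lit 1,nat_lit 2,nat_lit 1,nat_lit 1])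
)) (.node (.node (.node (.leaf [nat_lit 5,nat_lit 2,nat_lit 3,nat_lit 1,nat_lit 3,nat_lit 0,nat_lit 0,nat_lit 3,nat_lit 2,nat_lit 0,nat_lit 0,nat_lit 0,nat_lit 3,nat_lit 1,nat_lit 2,nat_lit 1,nat_lit 1,nat_lit 2])
 (.leaf [nat_lit 4,nat_lit 0,nat_lit 3,nat_lit 1,nat_lit 1,nat_lit 3,nat_lit 2,nat_lit 3,nat_lit 2,nat_lit 0,nat_lit 0,nat_lit 0,nat_lit 2,nat_lit 0,nat_lit 0,nat_lit 0,nat_lit 2,nat_lit 0,nat_lit 0,nat_lit 3,nat_lit 1])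
) (.node (.leaf [nat_lit 5,nat_lit 0,nat_lit 0,nat_lit 0,nat_lit 2,nat_lit 0,nat_lit 2,nat_lit 0,nat_lit 0,nat_lit 0,nat_lit 2,nat_lit 3,nat_lit 2,nat_lit 1,nat_lit 3,nat_lit 1,nat_lit 1,nat_lit 3,nat_lit 1])
 (.leaf [nat_lit 4,nat_lit 1,nat_lit 3,nat_lit 2,nat_lit 3,nat_lit 0,nat_lit 3,nat_lit 0,nat_lit 2,nat_lit 0,nat_lit 3,nat_lit 0,nat_lit 3,nat_lit 0,nat_lit 0,nat_lit 2,nat_lit 0,nat_lit 3,nat_lit 0,nat_lit 2])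
)) (.node (.node (.leaf [nat_lit 3,nat_lit 2,nat_lit 1,nat_lit 3,nat_lit 2,nat_lit 3,nat_lit 2,nat_lit 1,nat_lit 1,nat_lit 3,nat_lit 1,nat_lit 1,nat_lit 2,nat_lit 0,nat_lit 0,nat_lit 2,nat_lit 3,nat_lit 0])
 (.leaf [nat_lit 5,nat_lit 3,nat_lit 0,nat_lit 2,nat_lit 3,nat_lit 2,nat_lit 0,nat_lit 0,nat_lit 0,nat_lit 2,nat_lit 3,nat_lit 0,nat_lit 0,nat_lit 3,nat_lit 2,nat_lit 1,nat_lit 3,nat_lit 0])
) (.leaf [nat_lit 2,nat_lit 1,nat_lit 1,nat_lit 1,nat_lit 2,nat_lit 0,nat_lit 3,nat_lit 2,nat_lit 0,nat_lit 3,nat_lit 0,nat_lit 0,nat_lit 3,nat_lit 0,nat_lit 2,nat_lit 3])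
))) (.node (.node (.node (.node (.leaf [nat_lit 4,nat_lit 0,nat_lit 0,nat_lit 2,nat_lit 0,nat_lit 3,nat_lit 0,nat_lit 0,nat_lit 0,nat_lit 3,nat_lit 1,nat_lit 2,nat_lit 1,nat_lit 1,nat_lit 2,nat_lit 3,nat_lit 2,nat_lit 0,nat_lit 3])
 (.leaf [])
) (.node (.leaf [nat_lit 5,nat_lit 3,nat_lit 0,nat_lit 2,nat_lit 0,nat_lit 0,nat_lit 0,nat_lit 2,nat_lit 3,nat_lit 0,nat_lit 3,nat_lit 1,nat_lit 2,nat_lit 1,nat_lit 2,nat_lit 3,nat_lit 0,nat_lit 3])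
 (.leaf [nat_lit 4,nat_lit 0,nat_lit 0,nat_lit 2,nat_lit 1,nat_lit 1,nat_lit 1,nat_lit 3,nat_lit 0,nat_lit 2,nat_lit 1,nat_lit 2,nat_lit 1,nat_lit 1,nat_lit 2,nat_lit 0,nat_lit 0,nat_lit 2,nat_lit 1,nat_lit 2])
)) (.node (.node (.leaf [nat_lit 5,nat_lit 1,nat_lit 2,nat_lit 1,nat_lit 3,nat_lit 2,nat_lit 1,nat_lit 3,nat_lit 0,nat_lit 3,nat_lit 1,nat_lit 3,nat_lit 0,nat_lit 0,nat_lit 2,nat_lit 1,nat_lit 2,nat_lit 0,nat_lit 2])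
 (.leaf [nat_lit 3,nat_lit 1,nat_lit 2,nat_lit 3,nat_lit 2,nat_lit 1,nat_lit 1,nat_lit 2,nat_lit 1,nat_lit 3,nat_lit 2,nat_lit 1,nat_lit 1,nat_lit 2,nat_lit 1,nat_lit 1,nat_lit 1,nat_lit 2,nat_lit 0])
) (.leaf [nat_lit 5,nat_lit 0,nat_lit 3,nat_lit 0,nat_lit 0,nat_lit 2,nat_lit 0,nat_lit 3,nat_lit 0,nat_lit 0,nat_lit 3,nat_lit 1,nat_lit 2,nat_lit 1,nat_lit 2,nat_lit 1,nat_lit 2,nat_lit 0,nat_lit 3])
)) (.node (.node (.node (.leaf [nat_lit 4,nat_lit 2,nat_lit 3,nat_lit 0,nat_lit 2,nat_lit 1,nat_lit 1,nat_lit 1,nat_lit 3,nat_lit 0,nat_lit 3,nat_lit 2,nat_lit 3,nat_lit 0,nat_lit 0,nat_lit 0,nat_lit 2,nat_lit 3,nat_lit 0,nat_lit 3])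
 (.leaf [nat_lit 1,nat_lit 3,nat_lit 2,nat_lit 0,nat_lit 0,nat_lit 3,nat_lit 1,nat_lit 1,nat_lit 3,nat_lit 1,nat_lit 2,nat_lit 0,nat_lit 3,nat_lit 1,nat_lit 3,nat_lit 0,nat_lit 0,nat_lit 3,nat_lit 2])
) (.node (.leaf [nat_lit 3,nat_lit 2,nat_lit 0,nat_lit 2,nat_lit 0,nat_lit 2,nat_lit 1,nat_lit 2,nat_lit 3,nat_lit 1,nat_lit 3,nat_lit 2,nat_lit 1])
 (.leaf [nat_lit 5,nat_lit 1,nat_lit 3,nat_lit 1,nat_lit 2,nat_lit 1,nat_lit 1,nat_lit 2,nat_lit 1,nat_lit 1,nat_lit 2,nat_lit 0,nat_lit 0,nat_lit 2,nat_lit 0,nat_lit 0,nat_lit 3,nat_lit 2,nat_lit 3,nat_lit 1])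
)) (.node (.node (.leaf [nat_lit 4,nat_lit 1,nat_lit 3,nat_lit 0,nat_lit 0,nat_lit 3,nat_lit 0,nat_lit 2,nat_lit 3,nat_lit 0,nat_lit 2,nat_lit 0,nat_lit 0,nat_lit 2,nat_lit 3,nat_lit 2,nat_lit 1])
 (.leaf [nat_lit 5,nat_lit 2,nat_lit 1,nat_lit 2,nat_lit 1,nat_lit 3,nat_lit 0,nat_lit 0,nat_lit 0,nat_lit 2,nat_lit 1,nat_lit 3,nat_lit 2,nat_lit 0,nat_lit 2,nat_lit 0,nat_lit 0,nat_lit 2,nat_lit 1,nat_lit 3])
) (.leaf [nat_lit 4,nat_lit 1,nat_lit 1,nat_lit 2,nat_lit 0,nat_lit 2,nat_lit 0,nat_lit 3,nat_lit 2,nat_lit 0,nat_lit 2,nat_lit 3,nat_lit 0,nat_lit 2,nat_lit 0,nat_lit 0,nat_lit 3,nat_lit 2])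
)))) (.node (.node (.node (.node (.node (.leaf [nat_lit 3,nat_lit 2,nat_lit 0,nat_lit 2,nat_lit 0,nat_lit 2,nat_lit 3,nat_lit 1,nat_lit 1,nat_lit 1,nat_lit 3,nat_lit 2,nat_lit 3,nat_lit 2,nat_lit 3])
 (.leaf [nat_lit 5,nat_lit 3,nat_lit 0,nat_lit 2,nat_lit 3,nat_lit 1,nat_lit 1,nat_lit 2,nat_lit 3,nat_lit 1,nat_lit 1,nat_lit 2,nat_lit 3,nat_lit 2,nat_lit 3,nat_lit 0,nat_lit 0,nat_lit 3,nat_lit 0,nat_lit 3,nat_lit 0])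
) (.node (.leaf [nat_lit 4,nat_lit 3,nat_lit 2,nat_lit 0,nat_lit 3,nat_lit 2,nat_lit 3,nat_lit 0,nat_lit 3,nat_lit 2,nat_lit 0,nat_lit 3,nat_lit 2,nat_lit 3,nat_lit 0,nat_lit 3,nat_lit 0,nat_lit 2])
 (.leaf [nat_lit 2,nat_lit 3,nat_lit 2,nat_lit 1,nat_lit 3,nat_lit 1,nat_lit 2,nat_lit 1,nat_lit 3,nat_lit 1,nat_lit 2,nat_lit 3,nat_lit 0,nat_lit 0,nat_lit 0,nat_lit 3,nat_lit 0,nat_lit 2])
)) (.node (.node (.leaf [nat_lit 4,nat_lit 2,nat_lit 0,nat_lit 0,nat_lit 3,nat_lit 2,nat_lit 1,nat_lit 2,nat_lit 3,nat_lit 1,nat_lit 2,nat_lit 1,nat_lit 1,nat_lit 1,nat_lit 3,nat_lit 0,nat_lit 2,nat_lit 0,nat_lit 3,nat_lit 0,nat_lit 2,nat_lit 1])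
 (.leaf [nat_lit 1,nat_lit 1,nat_lit 2,nat_lit 3,nat_lit 0,nat_lit 3,nat_lit 1,nat_lit 2,nat_lit 3,nat_lit 2,nat_lit 1,nat_lit 3,nat_lit 0,nat_lit 2,nat_lit 0,nat_lit 0,nat_lit 0,nat_lit 3,nat_lit 2])
) (.leaf [nat_lit 4,nat_lit 3,nat_lit 2,nat_lit 0,nat_lit 2,nat_lit 3,nat_lit 2,nat_lit 0,nat_lit 0,nat_lit 2,nat_lit 0,nat_lit 0,nat_lit 3,nat_lit 1,nat_lit 3,nat_lit 0,nat_lit 0,nat_lit 3,nat_lit 2])
)) (.node (.node (.node (.leaf [nat_lit 2,nat_lit 1,nat_lit 2,nat_lit 0,nat_lit 3,nat_lit 2,nat_lit 1,nat_lit 2,nat_lit 1,nat_lit 1,nat_lit 3,nat_lit 1,nat_lit 2,nat_lit 3,nat_lit 2,nat_lit 0,nat_lit 0,nat_lit 2])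
 (.leaf [nat_lit 4,nat_lit 3,nat_lit 0,nat_lit 3,nat_lit 0,nat_lit 0,nat_lit 3,nat_lit 0,nat_lit 3,nat_lit 2,nat_lit 3,nat_lit 2,nat_lit 0,nat_lit 0,nat_lit 3,nat_lit 1,nat_lit 2,nat_lit 0,nat_lit 2])
) (.node (.leaf [nat_lit 5,nat_lit 0,nat_lit 2,nat_lit 0,nat_lit 2,nat_lit 3,nat_lit 0,nat_lit 3,nat_lit 0,nat_lit 0,nat_lit 3,nat_lit 1,nat_lit 2,nat_lit 3,nat_lit 0,nat_lit 2,nat_lit 3,nat_lit 1,nat_lit 3])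
 (.leaf [nat_lit 5,nat_lit 0,nat_lit 0,nat_lit 2,nat_lit 3,nat_lit 1,nat_lit 1,nat_lit 3,nat_lit 1,nat_lit 3,nat_lit 1,nat_lit 1,nat_lit 1,nat_lit 2,nat_lit 0,nat_lit 0,nat_lit 3,nat_lit 1,nat_lit 3,nat_lit 0,nat_lit 3])
)) (.node (.node (.leaf [nat_lit 4,nat_lit 2,nat_lit 1,nat_lit 1,nat_lit 1,nat_lit 2,nat_lit 1,nat_lit 2,nat_lit 3,nat_lit 2,nat_lit 0,nat_lit 2,nat_lit 1,nat_lit 3,nat_lit 2,nat_lit 1,nat_lit 1,nat_lit 1])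
 (.leaf [nat_lit 4,nat_lit 0,nat_lit 2,nat_lit 0,nat_lit 3,nat_lit 1,nat_lit 3,nat_lit 1,nat_lit 1,nat_lit 2,nat_lit 3,nat_lit 0,nat_lit 3,nat_lit 2,nat_lit 1])
) (.leaf [nat_lit 4,nat_lit 0,nat_lit 0,nat_lit 2,nat_lit 0,nat_lit 2,nat_lit 3,nat_lit 0,nat_lit 2,nat_lit 3,nat_lit 0,nat_lit 3,nat_lit 2,nat_lit 1,nat_lit 2,nat_lit 1,nat_lit 1,nat_lit 3,nat_lit 1,nat_lit 2])
))) (.node (.node (.node (.node (.leaf [nat_lit 2,nat_lit 3,nat_lit 2,nat_lit 0,nat_lit 3,nat_lit 2,nat_lit 3,nat_lit 2,nat_lit 0,nat_lit 0,nat_lit 3,nat_lit 2,nat_lit 1,nat_lit 3,nat_lit 2,nat_lit 1])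
 (.leaf [nat_lit 5,nat_lit 0,nat_lit 3,nat_lit 1,nat_lit 1,nat_lit 2,nat_lit 0,nat_lit 3,nat_lit 1,nat_lit 1,nat_lit 2,nat_lit 1,nat_lit 3,nat_lit 1,nat_lit 3,nat_lit 0,nat_lit 3,nat_lit 0,nat_lit 3])
) (.node (.leaf [nat_lit 4,nat_lit 0,nat_lit 2,nat_lit 0,nat_lit 3,nat_lit 0,nat_lit 3,nat_lit 0,nat_lit 0,nat_lit 2,nat_lit 0,nat_lit 2,nat_lit 3,nat_lit 0,nat_lit 2,nat_lit 3,nat_lit 1,nat_lit 1])
 (.leaf [nat_lit 5,nat_lit 3,nat_lit 1,nat_lit 2,nat_lit 3,nat_lit 1,nat_lit 2,nat_lit 1,nat_lit 2,nat_lit 0,nat_lit 3,nat_lit 0,nat_lit 0,nat_lit 2,nat_lit 1,nat_lit 1,nat_lit 3,nat_lit 0,nat_lit 0,nat_lit 3])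
)) (.node (.node (.leaf [nat_lit 5,nat_lit 2,nat_lit 0,nat_lit 0,nat_lit 3,nat_lit 0,nat_lit 0,nat_lit 2,nat_lit 0,nat_lit 3,nat_lit 2,nat_lit 3,nat_lit 0,nat_lit 0,nat_lit 2,nat_lit 1,nat_lit 3,nat_lit 2,nat_lit 1,nat_lit 1])
 (.leaf [nat_lit 5,nat_lit 1,nat_lit 3,nat_lit 2,nat_lit 1,nat_lit 1,nat_lit 1,nat_lit 3,nat_lit 2,nat_lit 0,nat_lit 3,nat_lit 0,nat_lit 0,nat_lit 3,nat_lit 2,nat_lit 3,nat_lit 1,nat_lit 1,nat_lit 3])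
) (.leaf [nat_lit 1,nat_lit 1,nat_lit 3,nat_lit 0,nat_lit 3,nat_lit 2,nat_lit 3,nat_lit 0,nat_lit 2,nat_lit 3,nat_lit 1,nat_lit 3,nat_lit 2,nat_lit 3,nat_lit 2,nat_lit 0,nat_lit 2])
)) (.node (.node (.node (.leaf [nat_lit 5,nat_lit 3,nat_lit 0,nat_lit 2,nat_lit 3,nat_lit 1,nat_lit 1,nat_lit 2,nat_lit 1,nat_lit 2,nat_lit 1,nat_lit 1,nat_lit 2,nat_lit 0,nat_lit 0,nat_lit 0,nat_lit 2])
 (.leaf [nat_lit 5,nat_lit 2,nat_lit 0,nat_lit 0,nat_lit 3,nat_lit 0,nat_lit 0,nat_lit 2,nat_lit 0,nat_lit 3,nat_lit 2,nat_lit 3,nat_lit 0,nat_lit 0,nat_lit 2,nat_lit 1,nat_lit 3,nat_lit 2,nat_lit 1,nat_lit 1])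
) (.leaf [nat_lit 0,nat_lit 3,nat_lit 2,nat_lit 1,nat_lit 1,nat_lit 2,nat_lit 3,nat_lit 1,nat_lit 3,nat_lit 1,nat_lit 2,nat_lit 3,nat_lit 1,nat_lit 2,nat_lit 3,nat_lit 0,nat_lit 2,nat_lit 0,nat_lit 0])
) (.node (.node (.leaf [nat_lit 3,nat_lit 1,nat_lit 2,nat_lit 3,nat_lit 0,nat_lit 2,nat_lit 3,nat_lit 1,nat_lit 1,nat_lit 3,nat_lit 1,nat_lit 1,nat_lit 2,nat_lit 3,nat_lit 2,nat_lit 1,nat_lit 2,nat_lit 3])
 (.leaf [nat_lit 5,nat_lit 0,nat_lit 3,nat_lit 2,nat_lit 0,nat_lit 2,nat_lit 3,nat_lit 1,nat_lit 1,nat_lit 2,nat_lit 0,nat_lit 0,nat_lit 3,nat_lit 1,nat_lit 1,nat_lit 3,nat_lit 2,nat_lit 1,nat_lit 3])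
) (.leaf [nat_lit 4,nat_lit 0,nat_lit 2,nat_lit 0,nat_lit 0,nat_lit 0,nat_lit 3,nat_lit 2,nat_lit 1,nat_lit 2,nat_lit 1,nat_lit 1,nat_lit 1,nat_lit 3,nat_lit 2,nat_lit 3,nat_lit 0,nat_lit 2,nat_lit 0,nat_lit 0])
))))) (.node (.node (.node (.node (.node (.node (.leaf [])
 (.leaf [nat_lit 5,nat_lit 0,nat_lit 0,nat_lit 0,nat_lit 3,nat_lit 2,nat_lit 1,nat_lit 3,nat_lit 2,nat_lit 0,nat_lit 3,nat_lit 2,nat_lit 0,nat_lit 3,nat_lit 1,nat_lit 1,nat_lit 2,nat_lit 1])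
) (.node (.leaf [nat_lit 113])
 (.leaf [nat_lit 4,nat_lit 3,nat_lit 1,nat_lit 1,nat_lit 1,nat_lit 2,nat_lit 1,nat_lit 1,nat_lit 2,nat_lit 0,nat_lit 0,nat_lit 3,nat_lit 0,nat_lit 2,nat_lit 1,nat_lit 1,nat_lit 1,nat_lit 2,nat_lit 1])
)) (.node (.node (.leaf [nat_lit 4,nat_lit 2,nat_lit 1,nat_lit 2,nat_lit 0,nat_lit 3,nat_lit 1,nat_lit 1,nat_lit 2,nat_lit 3,nat_lit 1,nat_lit 2,nat_lit 3,nat_lit 1,nat_lit 3,nat_lit 0,nat_lit 2,nat_lit 1,nat_lit 1,nat_lit 1,nat_lit 2])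
 (.leaf [nat_lit 3,nat_lit 1,nat_lit 3,nat_lit 0,nat_lit 0,nat_lit 2,nat_lit 1,nat_lit 3,nat_lit 1,nat_lit 1,nat_lit 1,nat_lit 2,nat_lit 0,nat_lit 3,nat_lit 0,nat_lit 2,nat_lit 1,nat_lit 3,nat_lit 1])
) (.leaf [nat_lit 4,nat_lit 1,nat_lit 3,nat_lit 1,nat_lit 1,nat_lit 3,nat_lit 2,nat_lit 0,nat_lit 0,nat_lit 3,nat_lit 1,nat_lit 1,nat_lit 2,nat_lit 3,nat_lit 1,nat_lit 1,nat_lit 2,nat_lit 3,nat_lit 0,nat_lit 2])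
)) (.node (.node (.node (.leaf [nat_lit 5,nat_lit 1,nat_lit 2,nat_lit 3,nat_lit 1,nat_lit 2,nat_lit 0,nat_lit 0,nat_lit 2,nat_lit 1,nat_lit 3,nat_lit 0,nat_lit 0,nat_lit 2,nat_lit 3,nat_lit 0,nat_lit 0,nat_lit 2,nat_lit 3])
 (.leaf [nat_lit 0,nat_lit 3,nat_lit 2,nat_lit 0,nat_lit 3,nat_lit 0,nat_lit 0,nat_lit 2,nat_lit 0,nat_lit 0,nat_lit 2,nat_lit 1,nat_lit 1,nat_lit 2,nat_lit 3,nat_lit 1,nat_lit 2])
) (.node (.leaf [nat_lit 5,nat_lit 2,nat_lit 1,nat_lit 2,nat_lit 1,nat_lit 1,nat_lit 3,nat_lit 1,nat_lit 3,nat_lit 1,nat_lit 2,nat_lit 1,nat_lit 3,nat_lit 1,nat_lit 3,nat_lit 1,nat_lit 2,nat_lit 0,nat_lit 3,nat_lit 2])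
 (.leaf [nat_lit 3,nat_lit 2,nat_lit 0,nat_lit 3,nat_lit 0,nat_lit 3,nat_lit 1,nat_lit 3,nat_lit 0,nat_lit 2,nat_lit 3,nat_lit 0,nat_lit 2,nat_lit 1,nat_lit 2,nat_lit 0,nat_lit 3,nat_lit 1])
)) (.node (.node (.leaf [nat_lit 4,nat_lit 2,nat_lit 1,nat_lit 1,nat_lit 2,nat_lit 0,nat_lit 2,nat_lit 1,nat_lit 2,nat_lit 0,nat_lit 0,nat_lit 3,nat_lit 0,nat_lit 3,nat_lit 2,nat_lit 1,nat_lit 2,nat_lit 1,nat_lit 1,nat_lit 1])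
 (.leaf [nat_lit 2,nat_lit 1,nat_lit 3,nat_lit 2,nat_lit 3,nat_lit 1,nat_lit 2,nat_lit 0,nat_lit 3,nat_lit 0,nat_lit 0,nat_lit 3,nat_lit 2,nat_lit 1,nat_lit 1,nat_lit 2,nat_lit 0,nat_lit 0,nat_lit 2])
) (.leaf [nat_lit 4,nat_lit 0,nat_lit 3,nat_lit 1,nat_lit 3,nat_lit 0,nat_lit 0,nat_lit 3,nat_lit 0,nat_lit 2,nat_lit 0,nat_lit 0,nat_lit 0,nat_lit 3,nat_lit 0,nat_lit 0,nat_lit 2,nat_lit 1,nat_lit 2,nat_lit 0])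
))) (.node (.node (.node (.node (.leaf [nat_lit 4,nat_lit 3,nat_lit 0,nat_lit 3,nat_lit 2,nat_lit 0,nat_lit 3,nat_lit 0,nat_lit 3,nat_lit 1,nat_lit 3,nat_lit 2,nat_lit 1,nat_lit 3,nat_lit 1,nat_lit 2,nat_lit 3,nat_lit 1,nat_lit 3])
 (.leaf [nat_lit 5,nat_lit 0,nat_lit 2,nat_lit 0,nat_lit 0,nat_lit 0,nat_lit 3,nat_lit 2,nat_lit 1,nat_lit 3,nat_lit 0,nat_lit 3,nat_lit 0,nat_lit 0,nat_lit 0,nat_lit 3,nat_lit 0])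
) (.node (.leaf [nat_lit 3,nat_lit 2,nat_lit 0,nat_lit 2,nat_lit 0,nat_lit 0,nat_lit 3,nat_lit 2,nat_lit 1,nat_lit 1,nat_lit 1,nat_lit 2,nat_lit 1,nat_lit 3,nat_lit 1,nat_lit 3])
 (.leaf [nat_lit 5,nat_lit 0,nat_lit 3,nat_lit 0,nat_lit 0,nat_lit 2,nat_lit 0,nat_lit 3,nat_lit 0,nat_lit 0,nat_lit 3,nat_lit 1,nat_lit 2,nat_lit 1,nat_lit 2,nat_lit 1,nat_lit 2,nat_lit 0,nat_lit 3])
)) (.node (.node (.leaf [nat_lit 5,nat_lit 3,nat_lit 2,nat_lit 0,nat_lit 0,nat_lit 2,nat_lit 0,nat_lit 0,nat_lit 3,nat_lit 1,nat_lit 2,nat_lit 0,nat_lit 3,nat_lit 0,nat_lit 3,nat_lit 1,nat_lit 2,nat_lit 1,nat_lit 1,nat_lit 1])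
 (.leaf [nat_lit 4,nat_lit 0,nat_lit 3,nat_lit 1,nat_lit 3,nat_lit 1,nat_lit 2,nat_lit 3,nat_lit 2,nat_lit 0,nat_lit 2,nat_lit 1,nat_lit 3,nat_lit 0,nat_lit 3,nat_lit 0,nat_lit 0,nat_lit 0,nat_lit 3,nat_lit 0])
) (.leaf [nat_lit 1,nat_lit 3,nat_lit 1,nat_lit 3,nat_lit 2,nat_lit 1,nat_lit 3,nat_lit 0,nat_lit 0,nat_lit 3,nat_lit 0,nat_lit 3,nat_lit 1,nat_lit 1,nat_lit 2,nat_lit 1,nat_lit 3,nat_lit 2,nat_lit 0])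
)) (.node (.node (.node (.leaf [nat_lit 1,nat_lit 1,nat_lit 2,nat_lit 3,nat_lit 0,nat_lit 3,nat_lit 1,nat_lit 2,nat_lit 3,nat_lit 2,nat_lit 1,nat_lit 3,nat_lit 0,nat_lit 2,nat_lit 0,nat_lit 0,nat_lit 0,nat_lit 3,nat_lit 2])
 (.leaf [nat_lit 5,nat_lit 1,nat_lit 2,nat_lit 1,nat_lit 3,nat_lit 2,nat_lit 1,nat_lit 3,nat_lit 0,nat_lit 3,nat_lit 1,nat_lit 3,nat_lit 0,nat_lit 0,nat_lit 2,nat_lit 1,nat_lit 2,nat_lit 0,nat_lit 2])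
) (.node (.leaf [nat_lit 3,nat_lit 2,nat_lit 0,nat_lit 3,nat_lit 0,nat_lit 3,nat_lit 2,nat_lit 1,nat_lit 3,nat_lit 0,nat_lit 3,nat_lit 1,nat_lit 1,nat_lit 2,nat_lit 3,nat_lit 1,nat_lit 3])
 (.leaf [nat_lit 0,nat_lit 0,nat_lit 3,nat_lit 0,nat_lit 0,nat_lit 0,nat_lit 3,nat_lit 1,nat_lit 2,nat_lit 3,nat_lit 1,nat_lit 3,nat_lit 2,nat_lit 1,nat_lit 2,nat_lit 1,nat_lit 1,nat_lit 1,nat_lit 3])
)) (.node (.node (.leaf [nat_lit 1,nat_lit 3,nat_lit 2,nat_lit 1,nat_lit 1,nat_lit 1,nat_lit 3,nat_lit 1,nat_lit 3,nat_lit 1,nat_lit 1,nat_lit 2,nat_lit 1,nat_lit 1,nat_lit 3,nat_lit 2])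
 (.leaf [nat_lit 5,nat_lit 3,nat_lit 0,nat_lit 2,nat_lit 0,nat_lit 3,nat_lit 2,nat_lit 1,nat_lit 3,nat_lit 0,nat_lit 3,nat_lit 1,nat_lit 2,nat_lit 1,nat_lit 2,nat_lit 0,nat_lit 3,nat_lit 1,nat_lit 2,nat_lit 0])
) (.leaf [nat_lit 1,nat_lit 2,nat_lit 1,nat_lit 3,nat_lit 0,nat_lit 2,nat_lit 0,nat_lit 0,nat_lit 0,nat_lit 2,nat_lit 3,nat_lit 0,nat_lit 3,nat_lit 0,nat_lit 2,nat_lit 0,nat_lit 3])
)))) (.node (.node (.node (.node (.node (.leaf [nat_lit 1,nat_lit 2,nat_lit 3,nat_lit 1,nat_lit 1,nat_lit 3,nat_lit 2,nat_lit 3,nat_lit 0,nat_lit 0,nat_lit 3,nat_lit 2,nat_lit 3,nat_lit 1,nat_lit 3,nat_lit 2,nat_lit 0,nat_lit 0])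
 (.leaf [nat_lit 49])
) (.node (.leaf [nat_lit 5,nat_lit 2,nat_lit 1,nat_lit 2,nat_lit 1,nat_lit 3,nat_lit 0,nat_lit 0,nat_lit 0,nat_lit 2,nat_lit 1,nat_lit 3,nat_lit 2,nat_lit 0,nat_lit 2,nat_lit 0,nat_lit 0,nat_lit 2,nat_lit 1,nat_lit 3])
 (.leaf [nat_lit 5,nat_lit 1,nat_lit 3,nat_lit 2,nat_lit 1,nat_lit 3,nat_lit 0,nat_lit 2,nat_lit 0,nat_lit 3,nat_lit 0,nat_lit 2,nat_lit 3,nat_lit 0,nat_lit 3,nat_lit 1,nat_lit 1,nat_lit 2,nat_lit 1,nat_lit 3])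
)) (.node (.node (.leaf [nat_lit 5,nat_lit 1,nat_lit 3,nat_lit 1,nat_lit 2,nat_lit 1,nat_lit 3,nat_lit 0,nat_lit 2,nat_lit 3,nat_lit 1,nat_lit 3,nat_lit 2,nat_lit 0,nat_lit 3,nat_lit 0,nat_lit 0,nat_lit 3,nat_lit 1,nat_lit 1,nat_lit 1])
 (.leaf [nat_lit 5,nat_lit 1,nat_lit 1,nat_lit 2,nat_lit 1,nat_lit 3,nat_lit 2,nat_lit 1,nat_lit 1,nat_lit 1,nat_lit 2,nat_lit 1,nat_lit 2,nat_lit 1,nat_lit 1,nat_lit 1,nat_lit 2,nat_lit 3,nat_lit 2,nat_lit 1,nat_lit 3])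
) (.leaf [nat_lit 4,nat_lit 1,nat_lit 1,nat_lit 3,nat_lit 0,nat_lit 0,nat_lit 3,nat_lit 2,nat_lit 1,nat_lit 1,nat_lit 2,nat_lit 3,nat_lit 0,nat_lit 2,nat_lit 3,nat_lit 0,nat_lit 0,nat_lit 0,nat_lit 2,nat_lit 0,nat_lit 2])
)) (.node (.node (.node (.leaf [nat_lit 3,nat_lit 2,nat_lit 1,nat_lit 1,nat_lit 1,nat_lit 3,nat_lit 0,nat_lit 3,nat_lit 0,nat_lit 2,nat_lit 3,nat_lit 0,nat_lit 3,nat_lit 2,nat_lit 0,nat_lit 0,nat_lit 2])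
 (.leaf [nat_lit 3,nat_lit 1,nat_lit 2,nat_lit 1,nat_lit 1,nat_lit 3,nat_lit 1,nat_lit 3,nat_lit 2,nat_lit 1,nat_lit 3,nat_lit 1,nat_lit 1,nat_lit 3,nat_lit 2,nat_lit 1,nat_lit 3,nat_lit 2])
) (.node (.leaf [nat_lit 3,nat_lit 2,nat_lit 0,nat_lit 2,nat_lit 3,nat_lit 0,nat_lit 3,nat_lit 2,nat_lit 1,nat_lit 3,nat_lit 2,nat_lit 3,nat_lit 2,nat_lit 0,nat_lit 2,nat_lit 0,nat_lit 3,nat_lit 1])
 (.leaf [nat_lit 4,nat_lit 2,nat_lit 0,nat_lit 0,nat_lit 0,nat_lit 2,nat_lit 3,nat_lit 0,nat_lit 0,nat_lit 2,nat_lit 0,nat_lit 3,nat_lit 0,nat_lit 2,nat_lit 0,nat_lit 0,nat_lit 3,nat_lit 0,nat_lit 0,nat_lit 2,nat_lit 3])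
)) (.node (.node (.leaf [nat_lit 4,nat_lit 1,nat_lit 2,nat_lit 1,nat_lit 2,nat_lit 1,nat_lit 3,nat_lit 2,nat_lit 3,nat_lit 0,nat_lit 0,nat_lit 2,nat_lit 1,nat_lit 2,nat_lit 3,nat_lit 1,nat_lit 2,nat_lit 3,nat_lit 2,nat_lit 1])
 (.leaf [nat_lit 4,nat_lit 2,nat_lit 0,nat_lit 0,nat_lit 3,nat_lit 2,nat_lit 1,nat_lit 2,nat_lit 3,nat_lit 1,nat_lit 2,nat_lit 1,nat_lit 1,nat_lit 1,nat_lit 3,nat_lit 0,nat_lit 2,nat_lit 0,nat_lit 3,nat_lit 0,nat_lit 2,nat_lit 1])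
) (.leaf [nat_lit 5,nat_lit 0,nat_lit 3,nat_lit 2,nat_lit 3,nat_lit 0,nat_lit 3,nat_lit 2,nat_lit 0,nat_lit 0,nat_lit 0,nat_lit 2,nat_lit 3,nat_lit 1,nat_lit 2,nat_lit 0,nat_lit 2,nat_lit 0,nat_lit 0,nat_lit 2])
))) (.node (.node (.node (.node (.leaf [nat_lit 4,nat_lit 1,nat_lit 2,nat_lit 0,nat_lit 0,nat_lit 2,nat_lit 0,nat_lit 0,nat_lit 3,nat_lit 2,nat_lit 1,nat_lit 3,nat_lit 1,nat_lit 1,nat_lit 1,nat_lit 3,nat_lit 1,nat_lit 1,nat_lit 1,nat_lit 3,nat_lit 1])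
 (.leaf [nat_lit 5,nat_lit 1,nat_lit 3,nat_lit 1,nat_lit 3,nat_lit 0,nat_lit 0,nat_lit 2,nat_lit 1,nat_lit 3,nat_lit 0,nat_lit 0,nat_lit 0,nat_lit 2,nat_lit 3,nat_lit 0,nat_lit 2,nat_lit 1,nat_lit 1])
) (.node (.leaf [nat_lit 4,nat_lit 1,nat_lit 2,nat_lit 0,nat_lit 0,nat_lit 0,nat_lit 3,nat_lit 0,nat_lit 2,nat_lit 1,nat_lit 3,nat_lit 2,nat_lit 1,nat_lit 1,nat_lit 1,nat_lit 3,nat_lit 2,nat_lit 1,nat_lit 3,nat_lit 2])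
 (.leaf [nat_lit 5,nat_lit 0,nat_lit 0,nat_lit 0,nat_lit 2,nat_lit 0,nat_lit 2,nat_lit 0,nat_lit 0,nat_lit 2,nat_lit 0,nat_lit 2,nat_lit 3,nat_lit 2,nat_lit 0,nat_lit 3,nat_lit 2])
)) (.node (.node (.leaf [nat_lit 4,nat_lit 3,nat_lit 2,nat_lit 3,nat_lit 0,nat_lit 2,nat_lit 3,nat_lit 2,nat_lit 3,nat_lit 2,nat_lit 0,nat_lit 2,nat_lit 0,nat_lit 3,nat_lit 1,nat_lit 1,nat_lit 1,nat_lit 3,nat_lit 0])
 (.leaf [nat_lit 5,nat_lit 0,nat_lit 3,nat_lit 2,nat_lit 3,nat_lit 1,nat_lit 3,nat_lit 2,nat_lit 1,nat_lit 1,nat_lit 1,nat_lit 2,nat_lit 1,nat_lit 3,nat_lit 0,nat_lit 3,nat_lit 2,nat_lit 1,nat_lit 3])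
) (.leaf [nat_lit 4,nat_lit 2,nat_lit 1,nat_lit 3,nat_lit 2,nat_lit 1,nat_lit 2,nat_lit 0,nat_lit 3,nat_lit 2,nat_lit 1,nat_lit 2,nat_lit 3,nat_lit 0,nat_lit 3,nat_lit 2,nat_lit 0,nat_lit 3,nat_lit 1])
)) (.node (.node (.node (.leaf [nat_lit 5,nat_lit 1,nat_lit 1,nat_lit 2,nat_lit 0,nat_lit 2,nat_lit 0,nat_lit 3,nat_lit 1,nat_lit 2,nat_lit 1,nat_lit 3,nat_lit 1,nat_lit 1,nat_lit 3,nat_lit 1,nat_lit 1,nat_lit 3,nat_lit 1,nat_lit 1,nat_lit 1])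
 (.leaf [nat_lit 1,nat_lit 2,nat_lit 1,nat_lit 3,nat_lit 0,nat_lit 3,nat_lit 1,nat_lit 1,nat_lit 3,nat_lit 2,nat_lit 0,nat_lit 2,nat_lit 3,nat_lit 0,nat_lit 2,nat_lit 0,nat_lit 0,nat_lit 0,nat_lit 3])
) (.leaf [nat_lit 4,nat_lit 2,nat_lit 1,nat_lit 1,nat_lit 2,nat_lit 1,nat_lit 2,nat_lit 0,nat_lit 2,nat_lit 1,nat_lit 2,nat_lit 3,nat_lit 1,nat_lit 3,nat_lit 0,nat_lit 2,nat_lit 0,nat_lit 2,nat_lit 1])
) (.node (.node (.leaf [nat_lit 1,nat_lit 3,nat_lit 1,nat_lit 1,nat_lit 1,nat_lit 2,nat_lit 1,nat_lit 2,nat_lit 0,nat_lit 2,nat_lit 0,nat_lit 2,nat_lit 1,nat_lit 2,nat_lit 0,nat_lit 0,nat_lit 2,nat_lit 3])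
 (.leaf [nat_lit 5,nat_lit 3,nat_lit 1,nat_lit 1,nat_lit 2,nat_lit 0,nat_lit 3,nat_lit 0,nat_lit 0,nat_lit 2,nat_lit 3,nat_lit 1,nat_lit 2,nat_lit 1,nat_lit 3,nat_lit 0,nat_lit 2,nat_lit 1,nat_lit 3])
) (.leaf [nat_lit 5,nat_lit 2,nat_lit 3,nat_lit 1,nat_lit 1,nat_lit 2,nat_lit 3,nat_lit 2,nat_lit 0,nat_lit 3,nat_lit 1,nat_lit 2,nat_lit 3,nat_lit 0,nat_lit 0,nat_lit 3,nat_lit 0])
))))))
noncomputable def Fc5 : LT :=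
(.node (.node (.node (.node (.node (.node (.node (.leaf [])
 (.leaf [nat_lit 4,nat_lit 1,nat_lit 3,nat_lit 2,nat_lit 3,nat_lit 0,nat_lit 3,nat_lit 0,nat_lit 2,nat_lit 0,nat_lit 3,nat_lit 0,nat_lit 3,nat_lit 0,nat_lit 0,nat_lit 2,nat_lit 0,nat_lit 3,nat_lit 0,nat_lit 2])
) (.node (.leaf [nat_lit 4,nat_lit 0,nat_lit 3,nat_lit 0,nat_lit 2,nat_lit 1,nat_lit 1,nat_lit 1,nat_lit 2,nat_lit 0,nat_lit 3,nat_lit 0,nat_lit 0,nat_lit 0,nat_lit 3,nat_lit 1,nat_lit 2,nat_lit 1,nat_lit 1])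
 (.leaf [nat_lit 2,nat_lit 3,nat_lit 1,nat_lit 1,nat_lit 1,nat_lit 2,nat_lit 1,nat_lit 3,nat_lit 0,nat_lit 3,nat_lit 2,nat_lit 1,nat_lit 2,nat_lit 3,nat_lit 1,nat_lit 3,nat_lit 2,nat_lit 1,nat_lit 3])
)) (.node (.node (.leaf [nat_lit 5,nat_lit 3,nat_lit 0,nat_lit 2,nat_lit 3,nat_lit 2,nat_lit 0,nat_lit 0,nat_lit 0,nat_lit 2,nat_lit 3,nat_lit 0,nat_lit 0,nat_lit 3,nat_lit 2,nat_lit 1,nat_lit 3,nat_lit 0])
 (.leaf [nat_lit 0,nat_lit 3,nat_lit 2,nat_lit 3,nat_lit 0,nat_lit 0,nat_lit 2,nat_lit 0,nat_lit 2,nat_lit 3,nat_lit 1,nat_lit 3,nat_lit 0,nat_lit 3,nat_lit 1,nat_lit 2,nat_lit 1,nat_lit 3,nat_lit 0])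
) (.leaf [nat_lit 3,nat_lit 2,nat_lit 1,nat_lit 3,nat_lit 2,nat_lit 1,nat_lit 2,nat_lit 1,nat_lit 2,nat_lit 1,nat_lit 3,nat_lit 2,nat_lit 0,nat_lit 0,nat_lit 3,nat_lit 0,nat_lit 0,nat_lit 3])
)) (.node (.node (.node (.leaf [nat_lit 2,nat_lit 1,nat_lit 2,nat_lit 0,nat_lit 3,nat_lit 0,nat_lit 2,nat_lit 0,nat_lit 0,nat_lit 0,nat_lit 3,nat_lit 1,nat_lit 3,nat_lit 2,nat_lit 1,nat_lit 1,nat_lit 3,nat_lit 2,nat_lit 3])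
 (.leaf [nat_lit 4,nat_lit 2,nat_lit 0,nat_lit 2,nat_lit 3,nat_lit 0,nat_lit 0,nat_lit 2,nat_lit 1,nat_lit 2,nat_lit 1,nat_lit 1,nat_lit 3,nat_lit 0,nat_lit 0,nat_lit 3,nat_lit 1,nat_lit 1,nat_lit 1])
) (.node (.leaf [nat_lit 4,nat_lit 3,nat_lit 0,nat_lit 3,nat_lit 0,nat_lit 0,nat_lit 3,nat_lit 0,nat_lit 3,nat_lit 2,nat_lit 3,nat_lit 2,nat_lit 0,nat_lit 0,nat_lit 3,nat_lit 1,nat_lit 2,nat_lit 0,nat_lit 2])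
 (.leaf [nat_lit 4,nat_lit 0,nat_lit 3,nat_lit 0,nat_lit 3,nat_lit 0,nat_lit 0,nat_lit 3,nat_lit 0,nat_lit 0,nat_lit 2,nat_lit 3,nat_lit 0,nat_lit 0,nat_lit 0,nat_lit 2,nat_lit 1,nat_lit 2,nat_lit 3])
)) (.node (.node (.leaf [nat_lit 5,nat_lit 1,nat_lit 3,nat_lit 1,nat_lit 2,nat_lit 0,nat_lit 0,nat_lit 3,nat_lit 1,nat_lit 3,nat_lit 0,nat_lit 2,nat_lit 1,nat_lit 1,nat_lit 3,nat_lit 0,nat_lit 3,nat_lit 2,nat_lit 3,nat_lit 2])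
 (.leaf [nat_lit 4,nat_lit 1,nat_lit 2,nat_lit 1,nat_lit 1,nat_lit 3,nat_lit 1,nat_lit 1,nat_lit 1,nat_lit 3,nat_lit 2,nat_lit 3,nat_lit 2,nat_lit 3,nat_lit 0,nat_lit 0,nat_lit 2,nat_lit 3,nat_lit 2,nat_lit 0])
) (.leaf [nat_lit 2,nat_lit 1,nat_lit 1,nat_lit 1,nat_lit 2,nat_lit 0,nat_lit 3,nat_lit 2,nat_lit 0,nat_lit 3,nat_lit 0,nat_lit 0,nat_lit 3,nat_lit 0,nat_lit 2,nat_lit 3])
))) (.node (.node (.node (.node (.leaf [nat_lit 3,nat_lit 2,nat_lit 1,nat_lit 3,nat_lit 2,nat_lit 3,nat_lit 1,nat_lit 3,nat_lit 0,nat_lit 3,nat_lit 1,nat_lit 3,nat_lit 0,nat_lit 0,nat_lit 0,nat_lit 2,nat_lit 3,nat_lit 1])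
 (.leaf [nat_lit 3,nat_lit 0,nat_lit 0,nat_lit 2,nat_lit 0,nat_lit 0,nat_lit 0,nat_lit 3,nat_lit 0,nat_lit 2,nat_lit 3,nat_lit 0,nat_lit 3,nat_lit 1,nat_lit 1,nat_lit 2,nat_lit 3,nat_lit 2,nat_lit 1,nat_lit 2])
) (.node (.leaf [nat_lit 5,nat_lit 2,nat_lit 1,nat_lit 1,nat_lit 1,nat_lit 2,nat_lit 3,nat_lit 2,nat_lit 1,nat_lit 2,nat_lit 0,nat_lit 3,nat_lit 0,nat_lit 0,nat_lit 0,nat_lit 2,nat_lit 1,nat_lit 3,nat_lit 2])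
 (.leaf [nat_lit 4,nat_lit 3,nat_lit 1,nat_lit 1,nat_lit 3,nat_lit 0,nat_lit 0,nat_lit 2,nat_lit 0,nat_lit 3,nat_lit 2,nat_lit 1,nat_lit 2,nat_lit 1,nat_lit 3,nat_lit 1])
)) (.node (.node (.leaf [nat_lit 5,nat_lit 1,nat_lit 2,nat_lit 1,nat_lit 3,nat_lit 2,nat_lit 1,nat_lit 3,nat_lit 0,nat_lit 3,nat_lit 1,nat_lit 3,nat_lit 0,nat_lit 0,nat_lit 2,nat_lit 1,nat_lit 2,nat_lit 0,nat_lit 2])
 (.leaf [nat_lit 1,nat_lit 2,nat_lit 0,nat_lit 3,nat_lit 1,nat_lit 2,nat_lit 3,nat_lit 1,nat_lit 3,nat_lit 2,nat_lit 1,nat_lit 3,nat_lit 1,nat_lit 1,nat_lit 1,nat_lit 2,nat_lit 1])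
) (.leaf [nat_lit 4,nat_lit 3,nat_lit 2,nat_lit 3,nat_lit 1,nat_lit 2,nat_lit 3,nat_lit 2,nat_lit 3,nat_lit 0,nat_lit 2,nat_lit 1,nat_lit 1,nat_lit 3,nat_lit 2,nat_lit 1,nat_lit 3,nat_lit 2,nat_lit 3,nat_lit 2])
)) (.node (.node (.node (.leaf [nat_lit 5,nat_lit 0,nat_lit 2,nat_lit 3,nat_lit 0,nat_lit 0,nat_lit 3,nat_lit 0,nat_lit 2,nat_lit 0,nat_lit 0,nat_lit 2,nat_lit 0,nat_lit 2,nat_lit 3,nat_lit 0,nat_lit 0,nat_lit 3,nat_lit 1,nat_lit 3,nat_lit 1])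
 (.leaf [nat_lit 4,nat_lit 2,nat_lit 1,nat_lit 1,nat_lit 2,nat_lit 1,nat_lit 2,nat_lit 0,nat_lit 2,nat_lit 1,nat_lit 3,nat_lit 1,nat_lit 2,nat_lit 1,nat_lit 3,nat_lit 2,nat_lit 0,nat_lit 0,nat_lit 2])
) (.node (.leaf [nat_lit 3,nat_lit 2,nat_lit 0,nat_lit 2,nat_lit 0,nat_lit 2,nat_lit 1,nat_lit 2,nat_lit 3,nat_lit 1,nat_lit 3,nat_lit 2,nat_lit 1])
 (.leaf [nat_lit 4,nat_lit 2,nat_lit 1,nat_lit 3,nat_lit 0,nat_lit 3,nat_lit 1,nat_lit 2,nat_lit 3,nat_lit 1,nat_lit 2,nat_lit 3,nat_lit 0,nat_lit 2,nat_lit 1,nat_lit 2,nat_lit 1,nat_lit 1,nat_lit 3,nat_lit 1])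
)) (.node (.node (.leaf [nat_lit 4,nat_lit 1,nat_lit 3,nat_lit 0,nat_lit 0,nat_lit 3,nat_lit 0,nat_lit 2,nat_lit 3,nat_lit 0,nat_lit 2,nat_lit 0,nat_lit 0,nat_lit 2,nat_lit 3,nat_lit 2,nat_lit 1])
 (.leaf [nat_lit 5,nat_lit 0,nat_lit 3,nat_lit 2,nat_lit 0,nat_lit 0,nat_lit 2,nat_lit 3,nat_lit 0,nat_lit 3,nat_lit 1,nat_lit 3,nat_lit 0,nat_lit 2,nat_lit 3,nat_lit 1,nat_lit 1,nat_lit 2,nat_lit 0])
) (.leaf [nat_lit 0,nat_lit 0,nat_lit 0,nat_lit 2,nat_lit 3,nat_lit 1,nat_lit 1,nat_lit 1,nat_lit 3,nat_lit 2,nat_lit 1,nat_lit 2,nat_lit 3,nat_lit 2,nat_lit 1,nat_lit 3,nat_lit 0,nat_lit 3,nat_lit 2])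
)))) (.node (.node (.node (.node (.node (.leaf [nat_lit 4,nat_lit 3,nat_lit 2,nat_lit 3,nat_lit 1,nat_lit 3,nat_lit 2,nat_lit 0,nat_lit 3,nat_lit 1,nat_lit 1,nat_lit 1,nat_lit 2,nat_lit 1,nat_lit 3,nat_lit 0,nat_lit 0,nat_lit 2,nat_lit 3,nat_lit 1])
 (.leaf [nat_lit 5,nat_lit 3,nat_lit 0,nat_lit 2,nat_lit 3,nat_lit 1,nat_lit 1,nat_lit 2,nat_lit 3,nat_lit 1,nat_lit 1,nat_lit 2,nat_lit 3,nat_lit 2,nat_lit 3,nat_lit 0,nat_lit 0,nat_lit 3,nat_lit 0,nat_lit 3,nat_lit 0])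
) (.node (.leaf [nat_lit 4,nat_lit 3,nat_lit 2,nat_lit 0,nat_lit 3,nat_lit 2,nat_lit 3,nat_lit 0,nat_lit 3,nat_lit 2,nat_lit 0,nat_lit 3,nat_lit 2,nat_lit 3,nat_lit 0,nat_lit 3,nat_lit 0,nat_lit 2])
 (.leaf [nat_lit 2,nat_lit 0,nat_lit 3,nat_lit 0,nat_lit 2,nat_lit 0,nat_lit 2,nat_lit 3,nat_lit 0,nat_lit 3,nat_lit 1,nat_lit 2,nat_lit 3,nat_lit 1,nat_lit 2,nat_lit 1,nat_lit 2,nat_lit 0,nat_lit 0])
)) (.node (.node (.leaf [nat_lit 4,nat_lit 0,nat_lit 2,nat_lit 0,nat_lit 2,nat_lit 1,nat_lit 2,nat_lit 3,nat_lit 1,nat_lit 1,nat_lit 3,nat_lit 1,nat_lit 3,nat_lit 2,nat_lit 0,nat_lit 0,nat_lit 3,nat_lit 1,nat_lit 1,nat_lit 1,nat_lit 2])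
 (.leaf [nat_lit 4,nat_lit 3,nat_lit 1,nat_lit 1,nat_lit 2,nat_lit 3,nat_lit 2,nat_lit 1,nat_lit 3,nat_lit 2,nat_lit 3,nat_lit 0,nat_lit 3,nat_lit 2,nat_lit 1,nat_lit 1,nat_lit 1,nat_lit 3,nat_lit 1,nat_lit 1])
) (.leaf [nat_lit 4,nat_lit 3,nat_lit 2,nat_lit 0,nat_lit 2,nat_lit 3,nat_lit 2,nat_lit 0,nat_lit 0,nat_lit 2,nat_lit 0,nat_lit 0,nat_lit 3,nat_lit 1,nat_lit 3,nat_lit 0,nat_lit 0,nat_lit 3,nat_lit 2])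
)) (.node (.node (.node (.leaf [nat_lit 4,nat_lit 1,nat_lit 2,nat_lit 0,nat_lit 2,nat_lit 3,nat_lit 1,nat_lit 1,nat_lit 3,nat_lit 0,nat_lit 0,nat_lit 3,nat_lit 0,nat_lit 2,nat_lit 1,nat_lit 3,nat_lit 2,nat_lit 0,nat_lit 2,nat_lit 0])
 (.leaf [nat_lit 4,nat_lit 3,nat_lit 1,nat_lit 2,nat_lit 1,nat_lit 1,nat_lit 3,nat_lit 0,nat_lit 3,nat_lit 2,nat_lit 0,nat_lit 2,nat_lit 1,nat_lit 3,nat_lit 0,nat_lit 3,nat_lit 2,nat_lit 1,nat_lit 3,nat_lit 0])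
) (.node (.leaf [nat_lit 1,nat_lit 2,nat_lit 1,nat_lit 3,nat_lit 2,nat_lit 0,nat_lit 0,nat_lit 3,nat_lit 0,nat_lit 2,nat_lit 1,nat_lit 3,nat_lit 2,nat_lit 0,nat_lit 0,nat_lit 0,nat_lit 2,nat_lit 1,nat_lit 3])
 (.leaf [nat_lit 4,nat_lit 1,nat_lit 3,nat_lit 2,nat_lit 1,nat_lit 3,nat_lit 1,nat_lit 2,nat_lit 1,nat_lit 3,nat_lit 2,nat_lit 3,nat_lit 2,nat_lit 3,nat_lit 1,nat_lit 3,nat_lit 0,nat_lit 0,nat_lit 3])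
)) (.node (.node (.leaf [nat_lit 5,nat_lit 1,nat_lit 3,nat_lit 2,nat_lit 1,nat_lit 3,nat_lit 1,nat_lit 1,nat_lit 1,nat_lit 3,nat_lit 1,nat_lit 1,nat_lit 2,nat_lit 3,nat_lit 2,nat_lit 1,nat_lit 2,nat_lit 1,nat_lit 2,nat_lit 3])
 (.leaf [nat_lit 4,nat_lit 2,nat_lit 3,nat_lit 0,nat_lit 2,nat_lit 0,nat_lit 3,nat_lit 0,nat_lit 0,nat_lit 3,nat_lit 0,nat_lit 0,nat_lit 2,nat_lit 3,nat_lit 1,nat_lit 1,nat_lit 1,nat_lit 3,nat_lit 1,nat_lit 3])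
) (.leaf [nat_lit 3,nat_lit 2,nat_lit 0,nat_lit 0,nat_lit 2,nat_lit 1,nat_lit 2,nat_lit 1,nat_lit 1,nat_lit 3,nat_lit 2,nat_lit 1,nat_lit 3,nat_lit 0,nat_lit 0,nat_lit 0,nat_lit 3,nat_lit 1])
))) (.node (.node (.node (.node (.leaf [nat_lit 4,nat_lit 1,nat_lit 3,nat_lit 1,nat_lit 3,nat_lit 1,nat_lit 1,nat_lit 3,nat_lit 2,nat_lit 1,nat_lit 3,nat_lit 1,nat_lit 1,nat_lit 3,nat_lit 0,nat_lit 2,nat_lit 3,nat_lit 0,nat_lit 3,nat_lit 0])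
 (.leaf [nat_lit 4,nat_lit 0,nat_lit 3,nat_lit 0,nat_lit 3,nat_lit 2,nat_lit 3,nat_lit 2,nat_lit 3,nat_lit 0,nat_lit 2,nat_lit 0,nat_lit 0,nat_lit 2,nat_lit 3,nat_lit 1,nat_lit 3,nat_lit 1])
) (.node (.leaf [nat_lit 4,nat_lit 0,nat_lit 2,nat_lit 0,nat_lit 3,nat_lit 0,nat_lit 3,nat_lit 0,nat_lit 0,nat_lit 2,nat_lit 0,nat_lit 2,nat_lit 3,nat_lit 0,nat_lit 2,nat_lit 3,nat_lit 1,nat_lit 1])
 (.leaf [nat_lit 3,nat_lit 0,nat_lit 3,nat_lit 2,nat_lit 3,nat_lit 1,nat_lit 3,nat_lit 2,nat_lit 3,nat_lit 0,nat_lit 3,nat_lit 0,nat_lit 0,nat_lit 2,nat_lit 3,nat_lit 1,nat_lit 3,nat_lit 0,nat_lit 0])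
)) (.node (.node (.leaf [nat_lit 5,nat_lit 2,nat_lit 0,nat_lit 0,nat_lit 3,nat_lit 0,nat_lit 0,nat_lit 2,nat_lit 0,nat_lit 3,nat_lit 2,nat_lit 3,nat_lit 0,nat_lit 0,nat_lit 2,nat_lit 1,nat_lit 3,nat_lit 2,nat_lit 1,nat_lit 1])
 (.leaf [nat_lit 5,nat_lit 0,nat_lit 2,nat_lit 3,nat_lit 0,nat_lit 3,nat_lit 1,nat_lit 1,nat_lit 1,nat_lit 2,nat_lit 1,nat_lit 2,nat_lit 3,nat_lit 2,nat_lit 3,nat_lit 0,nat_lit 0,nat_lit 0,nat_lit 3,nat_lit 1])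
) (.leaf [nat_lit 4,nat_lit 0,nat_lit 3,nat_lit 2,nat_lit 3,nat_lit 1,nat_lit 1,nat_lit 2,nat_lit 3,nat_lit 0,nat_lit 2,nat_lit 1,nat_lit 3,nat_lit 1,nat_lit 1,nat_lit 2,nat_lit 1,nat_lit 1,nat_lit 1,nat_lit 2])
)) (.node (.node (.node (.leaf [nat_lit 5,nat_lit 3,nat_lit 0,nat_lit 2,nat_lit 3,nat_lit 1,nat_lit 1,nat_lit 2,nat_lit 1,nat_lit 2,nat_lit 1,nat_lit 1,nat_lit 2,nat_lit 0,nat_lit 0,nat_lit 0,nat_lit 2])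
 (.leaf [nat_lit 3,nat_lit 1,nat_lit 3,nat_lit 1,nat_lit 2,nat_lit 0,nat_lit 3,nat_lit 0,nat_lit 3,nat_lit 1,nat_lit 2,nat_lit 0,nat_lit 0,nat_lit 3,nat_lit 1,nat_lit 2,nat_lit 1,nat_lit 3,nat_lit 2])
) (.leaf [nat_lit 1,nat_lit 1,nat_lit 2,nat_lit 3,nat_lit 1,nat_lit 2,nat_lit 1,nat_lit 2,nat_lit 0,nat_lit 3,nat_lit 1,nat_lit 1,nat_lit 1,nat_lit 2,nat_lit 3,nat_lit 1,nat_lit 2,nat_lit 3,nat_lit 2])
) (.node (.node (.leaf [nat_lit 0,nat_lit 0,nat_lit 0,nat_lit 3,nat_lit 1,nat_lit 2,nat_lit 0,nat_lit 3,nat_lit 2,nat_lit 1,nat_lit 2,nat_lit 0,nat_lit 3,nat_lit 2,nat_lit 1])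
 (.leaf [nat_lit 2,nat_lit 0,nat_lit 3,nat_lit 2,nat_lit 3,nat_lit 0,nat_lit 0,nat_lit 0,nat_lit 3,nat_lit 1,nat_lit 2,nat_lit 1,nat_lit 3,nat_lit 2,nat_lit 1,nat_lit 2,nat_lit 3,nat_lit 2,nat_lit 3])
) (.leaf [nat_lit 4,nat_lit 0,nat_lit 2,nat_lit 0,nat_lit 0,nat_lit 0,nat_lit 3,nat_lit 2,nat_lit 1,nat_lit 2,nat_lit 1,nat_lit 1,nat_lit 1,nat_lit 3,nat_lit 2,nat_lit 3,nat_lit 0,nat_lit 2,nat_lit 0,nat_lit 0])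
))))) (.node (.node (.node (.node (.node (.node (.leaf [nat_lit 0,nat_lit 2,nat_lit 1,nat_lit 1,nat_lit 1,nat_lit 2])
 (.leaf [nat_lit 5,nat_lit 0,nat_lit 0,nat_lit 0,nat_lit 3,nat_lit 2,nat_lit 1,nat_lit 3,nat_lit 2,nat_lit 0,nat_lit 3,nat_lit 2,nat_lit 0,nat_lit 3,nat_lit 1,nat_lit 1,nat_lit 2,nat_lit 1])
) (.node (.leaf [nat_lit 4,nat_lit 1,nat_lit 2,nat_lit 0,nat_lit 2,nat_lit 1,nat_lit 2,nat_lit 1,nat_lit 3,nat_lit 0,nat_lit 3,nat_lit 0,nat_lit 2,nat_lit 3,nat_lit 1,nat_lit 2,nat_lit 3,nat_lit 1,nat_lit 2,nat_lit 0])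
 (.leaf [nat_lit 4,nat_lit 3,nat_lit 2,nat_lit 1,nat_lit 2,nat_lit 1,nat_lit 3,nat_lit 1,nat_lit 1,nat_lit 3,nat_lit 2,nat_lit 0,nat_lit 2,nat_lit 1,nat_lit 2,nat_lit 1,nat_lit 1,nat_lit 1,nat_lit 2])
)) (.node (.node (.leaf [nat_lit 4,nat_lit 2,nat_lit 1,nat_lit 2,nat_lit 0,nat_lit 3,nat_lit 1,nat_lit 1,nat_lit 2,nat_lit 3,nat_lit 1,nat_lit 2,nat_lit 3,nat_lit 1,nat_lit 3,nat_lit 0,nat_lit 2,nat_lit 1,nat_lit 1,nat_lit 1,nat_lit 2])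
 (.leaf [nat_lit 0,nat_lit 2,nat_lit 0,nat_lit 0,nat_lit 0,nat_lit 2,nat_lit 3,nat_lit 1,nat_lit 1,nat_lit 2,nat_lit 1,nat_lit 3,nat_lit 1,nat_lit 3,nat_lit 0,nat_lit 2,nat_lit 0,nat_lit 2,nat_lit 3])
) (.leaf [nat_lit 4,nat_lit 1,nat_lit 2,nat_lit 3,nat_lit 2,nat_lit 1,nat_lit 3,nat_lit 1,nat_lit 2,nat_lit 3,nat_lit 2,nat_lit 0,nat_lit 3,nat_lit 1,nat_lit 1,nat_lit 1,nat_lit 2])
)) (.node (.node (.node (.leaf [nat_lit 5,nat_lit 1,nat_lit 2,nat_lit 3,nat_lit 1,nat_lit 2,nat_lit 0,nat_lit 0,nat_lit 2,nat_lit 1,nat_lit 3,nat_lit 0,nat_lit 0,nat_lit 2,nat_lit 3,nat_lit 0,nat_lit 0,nat_lit 2,nat_lit 3])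
 (.leaf [nat_lit 4,nat_lit 1,nat_lit 2,nat_lit 0,nat_lit 0,nat_lit 2,nat_lit 3,nat_lit 0,nat_lit 2,nat_lit 3,nat_lit 0,nat_lit 3,nat_lit 1,nat_lit 1,nat_lit 2,nat_lit 1,nat_lit 1,nat_lit 3,nat_lit 2,nat_lit 1,nat_lit 2])
) (.node (.leaf [nat_lit 5,nat_lit 2,nat_lit 1,nat_lit 2,nat_lit 1,nat_lit 1,nat_lit 3,nat_lit 1,nat_lit 3,nat_lit 1,nat_lit 2,nat_lit 1,nat_lit 3,nat_lit 1,nat_lit 3,nat_lit 1,nat_lit 2,nat_lit 0,nat_lit 3,nat_lit 2])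
 (.leaf [nat_lit 3,nat_lit 2,nat_lit 3,nat_lit 0,nat_lit 2,nat_lit 1,nat_lit 1,nat_lit 1,nat_lit 2,nat_lit 3,nat_lit 2,nat_lit 0,nat_lit 3,nat_lit 1,nat_lit 1,nat_lit 3,nat_lit 1,nat_lit 3,nat_lit 0])
)) (.node (.node (.leaf [nat_lit 4,nat_lit 2,nat_lit 1,nat_lit 1,nat_lit 2,nat_lit 0,nat_lit 2,nat_lit 1,nat_lit 2,nat_lit 0,nat_lit 0,nat_lit 3,nat_lit 0,nat_lit 3,nat_lit 2,nat_lit 1,nat_lit 2,nat_lit 1,nat_lit 1,nat_lit 1])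
 (.leaf [nat_lit 0,nat_lit 2,nat_lit 3,nat_lit 2,nat_lit 1,nat_lit 2,nat_lit 3,nat_lit 2,nat_lit 1,nat_lit 1,nat_lit 3,nat_lit 1,nat_lit 3,nat_lit 2,nat_lit 3,nat_lit 0,nat_lit 3])
) (.leaf [nat_lit 4,nat_lit 2,nat_lit 3,nat_lit 1,nat_lit 1,nat_lit 2,nat_lit 0,nat_lit 2,nat_lit 0,nat_lit 0,nat_lit 2,nat_lit 3,nat_lit 1,nat_lit 1,nat_lit 3,nat_lit 0,nat_lit 2,nat_lit 3,nat_lit 0,nat_lit 0,nat_lit 3])
))) (.node (.node (.node (.node (.leaf [nat_lit 4,nat_lit 0,nat_lit 3,nat_lit 0,nat_lit 0,nat_lit 0,nat_lit 3,nat_lit 0,nat_lit 0,nat_lit 2,nat_lit 0,nat_lit 2,nat_lit 1,nat_lit 1,nat_lit 1,nat_lit 3,nat_lit 1,nat_lit 2,nat_lit 3,nat_lit 2])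
 (.leaf [nat_lit 5,nat_lit 3,nat_lit 0,nat_lit 0,nat_lit 2,nat_lit 1,nat_lit 3,nat_lit 2,nat_lit 1,nat_lit 3,nat_lit 0,nat_lit 2,nat_lit 1,nat_lit 2,nat_lit 3,nat_lit 2,nat_lit 1])
) (.node (.leaf [nat_lit 3,nat_lit 2,nat_lit 0,nat_lit 2,nat_lit 0,nat_lit 0,nat_lit 3,nat_lit 2,nat_lit 1,nat_lit 1,nat_lit 1,nat_lit 2,nat_lit 1,nat_lit 3,nat_lit 1,nat_lit 3])
 (.leaf [nat_lit 4,nat_lit 3,nat_lit 0,nat_lit 0,nat_lit 3,nat_lit 0,nat_lit 3,nat_lit 0,nat_lit 0,nat_lit 3,nat_lit 2,nat_lit 1,nat_lit 3,nat_lit 0,nat_lit 2,nat_lit 1,nat_lit 2,nat_lit 1,nat_lit 1,nat_lit 2])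
)) (.node (.node (.leaf [nat_lit 5,nat_lit 2,nat_lit 1,nat_lit 1,nat_lit 2,nat_lit 3,nat_lit 0,nat_lit 2,nat_lit 1,nat_lit 2,nat_lit 0,nat_lit 3,nat_lit 1,nat_lit 1,nat_lit 3,nat_lit 2,nat_lit 0,nat_lit 2,nat_lit 1])
 (.leaf [nat_lit 2,nat_lit 0,nat_lit 2,nat_lit 1,nat_lit 2,nat_lit 1,nat_lit 2,nat_lit 3,nat_lit 1,nat_lit 3,nat_lit 1,nat_lit 2,nat_lit 1,nat_lit 3,nat_lit 0,nat_lit 2,nat_lit 1,nat_lit 3,nat_lit 1,nat_lit 2])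
) (.leaf [nat_lit 1,nat_lit 3,nat_lit 1,nat_lit 3,nat_lit 2,nat_lit 1,nat_lit 3,nat_lit 0,nat_lit 0,nat_lit 3,nat_lit 0,nat_lit 3,nat_lit 1,nat_lit 1,nat_lit 2,nat_lit 1,nat_lit 3,nat_lit 2,nat_lit 0])
)) (.node (.node (.node (.leaf [nat_lit 5,nat_lit 1,nat_lit 2,nat_lit 1,nat_lit 1,nat_lit 2,nat_lit 0,nat_lit 3,nat_lit 1,nat_lit 1,nat_lit 1,nat_lit 3,nat_lit 1,nat_lit 2,nat_lit 3,nat_lit 2,nat_lit 3,nat_lit 2,nat_lit 3,nat_lit 0])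
 (.leaf [nat_lit 0,nat_lit 0,nat_lit 2,nat_lit 3,nat_lit 2,nat_lit 3,nat_lit 1,nat_lit 1,nat_lit 2,nat_lit 1,nat_lit 1,nat_lit 2,nat_lit 3,nat_lit 0,nat_lit 0,nat_lit 2,nat_lit 1,nat_lit 3,nat_lit 1])
) (.node (.leaf [nat_lit 3,nat_lit 2,nat_lit 0,nat_lit 3,nat_lit 0,nat_lit 3,nat_lit 1,nat_lit 3,nat_lit 0,nat_lit 2,nat_lit 3,nat_lit 0,nat_lit 2,nat_lit 1,nat_lit 2,nat_lit 0,nat_lit 3,nat_lit 1])
 (.leaf [nat_lit 4,nat_lit 3,nat_lit 1,nat_lit 3,nat_lit 0,nat_lit 3,nat_lit 0,nat_lit 2,nat_lit 1,nat_lit 3,nat_lit 2,nat_lit 1,nat_lit 2,nat_lit 3,nat_lit 1,nat_lit 2,nat_lit 3,nat_lit 0])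
)) (.node (.node (.leaf [nat_lit 3,nat_lit 2,nat_lit 0,nat_lit 0,nat_lit 3,nat_lit 0,nat_lit 0,nat_lit 2,nat_lit 0,nat_lit 3,nat_lit 2,nat_lit 3,nat_lit 2,nat_lit 0,nat_lit 2,nat_lit 1,nat_lit 1,nat_lit 3,nat_lit 0])
 (.leaf [nat_lit 5,nat_lit 1,nat_lit 3,nat_lit 2,nat_lit 3,nat_lit 1,nat_lit 2,nat_lit 3,nat_lit 1,nat_lit 3,nat_lit 1,nat_lit 2,nat_lit 1,nat_lit 1,nat_lit 3,nat_lit 2,nat_lit 1,nat_lit 1,nat_lit 3,nat_lit 2])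
) (.leaf [nat_lit 3,nat_lit 1,nat_lit 3,nat_lit 0,nat_lit 3,nat_lit 1,nat_lit 1,nat_lit 2,nat_lit 3,nat_lit 2,nat_lit 3,nat_lit 1,nat_lit 1,nat_lit 3,nat_lit 0,nat_lit 2,nat_lit 0,nat_lit 3,nat_lit 0,nat_lit 0])
)))) (.node (.node (.node (.node (.node (.leaf [nat_lit 5,nat_lit 0,nat_lit 2,nat_lit 3,nat_lit 1,nat_lit 3,nat_lit 0,nat_lit 3,nat_lit 0,nat_lit 0,nat_lit 0,nat_lit 2,nat_lit 0,nat_lit 3,nat_lit 0,nat_lit 2,nat_lit 3,nat_lit 0,nat_lit 0,nat_lit 2])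
 (.leaf [nat_lit 26])
) (.node (.leaf [nat_lit 4,nat_lit 2,nat_lit 1,nat_lit 2,nat_lit 3,nat_lit 0,nat_lit 3,nat_lit 2,nat_lit 1,nat_lit 1,nat_lit 3,nat_lit 1,nat_lit 3,nat_lit 0,nat_lit 0,nat_lit 2,nat_lit 3,nat_lit 1,nat_lit 2,nat_lit 3,nat_lit 2])
 (.leaf [nat_lit 5,nat_lit 1,nat_lit 1,nat_lit 2,nat_lit 3,nat_lit 0,nat_lit 0,nat_lit 3,nat_lit 2,nat_lit 3,nat_lit 1,nat_lit 1,nat_lit 2,nat_lit 3,nat_lit 1,nat_lit 1,nat_lit 3,nat_lit 0])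
)) (.node (.node (.leaf [nat_lit 0,nat_lit 0,nat_lit 3,nat_lit 1,nat_lit 1,nat_lit 3,nat_lit 1,nat_lit 2,nat_lit 3,nat_lit 0,nat_lit 2,nat_lit 1,nat_lit 3,nat_lit 1,nat_lit 1,nat_lit 3,nat_lit 2,nat_lit 1,nat_lit 2])
 (.leaf [nat_lit 0,nat_lit 0,nat_lit 3,nat_lit 2,nat_lit 0,nat_lit 2,nat_lit 3,nat_lit 0,nat_lit 2,nat_lit 3,nat_lit 1,nat_lit 3,nat_lit 0,nat_lit 3,nat_lit 1,nat_lit 1,nat_lit 2,nat_lit 3,nat_lit 2])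
) (.leaf [nat_lit 5,nat_lit 0,nat_lit 0,nat_lit 2,nat_lit 3,nat_lit 1,nat_lit 1,nat_lit 3,nat_lit 1,nat_lit 3,nat_lit 1,nat_lit 1,nat_lit 1,nat_lit 2,nat_lit 0,nat_lit 0,nat_lit 3,nat_lit 1,nat_lit 3,nat_lit 0,nat_lit 3])
)) (.node (.node (.node (.leaf [nat_lit 108])
 (.leaf [nat_lit 5,nat_lit 0,nat_lit 0,nat_lit 2,nat_lit 3,nat_lit 1,nat_lit 2,nat_lit 1,nat_lit 3,nat_lit 0,nat_lit 0,nat_lit 0,nat_lit 3,nat_lit 0,nat_lit 2,nat_lit 3,nat_lit 2,nat_lit 0,nat_lit 3])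
) (.node (.leaf [nat_lit 3,nat_lit 0,nat_lit 0,nat_lit 3,nat_lit 1,nat_lit 3,nat_lit 1,nat_lit 2,nat_lit 1,nat_lit 3,nat_lit 1,nat_lit 3,nat_lit 1,nat_lit 2,nat_lit 3,nat_lit 1])
 (.leaf [nat_lit 5,nat_lit 0,nat_lit 3,nat_lit 1,nat_lit 1,nat_lit 3,nat_lit 2,nat_lit 0,nat_lit 3,nat_lit 2,nat_lit 1,nat_lit 2,nat_lit 1,nat_lit 3,nat_lit 1,nat_lit 3,nat_lit 0,nat_lit 3,nat_lit 1])
)) (.node (.node (.leaf [nat_lit 4,nat_lit 3,nat_lit 0,nat_lit 3,nat_lit 2,nat_lit 1,nat_lit 2,nat_lit 1,nat_lit 2,nat_lit 1,nat_lit 2,nat_lit 1,nat_lit 1,nat_lit 3,nat_lit 1,nat_lit 1,nat_lit 2,nat_lit 0,nat_lit 3,nat_lit 2,nat_lit 1])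
 (.leaf [nat_lit 1,nat_lit 1,nat_lit 2,nat_lit 3,nat_lit 1,nat_lit 2,nat_lit 3,nat_lit 0,nat_lit 2,nat_lit 0,nat_lit 2,nat_lit 3,nat_lit 2,nat_lit 3,nat_lit 0,nat_lit 0,nat_lit 2,nat_lit 3,nat_lit 1])
) (.leaf [nat_lit 5,nat_lit 0,nat_lit 3,nat_lit 2,nat_lit 3,nat_lit 0,nat_lit 3,nat_lit 2,nat_lit 0,nat_lit 0,nat_lit 0,nat_lit 2,nat_lit 3,nat_lit 1,nat_lit 2,nat_lit 0,nat_lit 2,nat_lit 0,nat_lit 0,nat_lit 2])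
))) (.node (.node (.node (.node (.leaf [nat_lit 99])
 (.leaf [nat_lit 1,nat_lit 1,nat_lit 3,nat_lit 2,nat_lit 0,nat_lit 0,nat_lit 2,nat_lit 1,nat_lit 1,nat_lit 2,nat_lit 3,nat_lit 1,nat_lit 2,nat_lit 1,nat_lit 3,nat_lit 0,nat_lit 2])
) (.node (.leaf [nat_lit 5,nat_lit 0,nat_lit 0,nat_lit 3,nat_lit 2,nat_lit 3,nat_lit 1,nat_lit 2,nat_lit 3,nat_lit 2,nat_lit 0,nat_lit 3,nat_lit 0,nat_lit 3,nat_lit 1,nat_lit 2,nat_lit 0,nat_lit 3,nat_lit 2,nat_lit 3])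
 (.leaf [nat_lit 0,nat_lit 2,nat_lit 1,nat_lit 3,nat_lit 0,nat_lit 0,nat_lit 3,nat_lit 1,nat_lit 2,nat_lit 0,nat_lit 0,nat_lit 3,nat_lit 2,nat_lit 3,nat_lit 1,nat_lit 1,nat_lit 3,nat_lit 2,nat_lit 3])
)) (.node (.node (.leaf [nat_lit 5,nat_lit 2,nat_lit 3,nat_lit 0,nat_lit 3,nat_lit 2,nat_lit 1,nat_lit 2,nat_lit 3,nat_lit 0,nat_lit 2,nat_lit 0,nat_lit 3,nat_lit 2,nat_lit 1,nat_lit 1,nat_lit 3,nat_lit 0,nat_lit 0])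
 (.leaf [nat_lit 5,nat_lit 2,nat_lit 3,nat_lit 2,nat_lit 0,nat_lit 3,nat_lit 1,nat_lit 1,nat_lit 2,nat_lit 3,nat_lit 2,nat_lit 3,nat_lit 1,nat_lit 2,nat_lit 1,nat_lit 2,nat_lit 0,nat_lit 3,nat_lit 0,nat_lit 0])
) (.leaf [nat_lit 4,nat_lit 2,nat_lit 1,nat_lit 3,nat_lit 1,nat_lit 2,nat_lit 0,nat_lit 3,nat_lit 1,nat_lit 3,nat_lit 0,nat_lit 2,nat_lit 0,nat_lit 0,nat_lit 0,nat_lit 3,nat_lit 1,nat_lit 1,nat_lit 3])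
)) (.node (.node (.node (.leaf [nat_lit 5,nat_lit 3,nat_lit 0,nat_lit 2,nat_lit 1,nat_lit 2,nat_lit 0,nat_lit 0,nat_lit 0,nat_lit 2,nat_lit 3,nat_lit 2,nat_lit 3,nat_lit 1,nat_lit 1,nat_lit 3,nat_lit 1,nat_lit 1,nat_lit 1])
 (.leaf [nat_lit 1,nat_lit 1,nat_lit 1,nat_lit 2,nat_lit 3,nat_lit 0,nat_lit 0,nat_lit 2,nat_lit 0,nat_lit 2,nat_lit 1,nat_lit 1,nat_lit 2,nat_lit 0,nat_lit 0,nat_lit 2,nat_lit 0,nat_lit 3,nat_lit 1])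
) (.leaf [nat_lit 4,nat_lit 2,nat_lit 1,nat_lit 1,nat_lit 2,nat_lit 1,nat_lit 2,nat_lit 0,nat_lit 2,nat_lit 1,nat_lit 2,nat_lit 3,nat_lit 1,nat_lit 3,nat_lit 0,nat_lit 2,nat_lit 0,nat_lit 2,nat_lit 1])
) (.node (.node (.leaf [nat_lit 4,nat_lit 3,nat_lit 2,nat_lit 1,nat_lit 2,nat_lit 3,nat_lit 2,nat_lit 3,nat_lit 2,nat_lit 0,nat_lit 3,nat_lit 0,nat_lit 0,nat_lit 2,nat_lit 3,nat_lit 0,nat_lit 3,nat_lit 2,nat_lit 3,nat_lit 1,nat_lit 2])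
 (.leaf [nat_lit 4,nat_lit 2,nat_lit 3,nat_lit 1,nat_lit 2,nat_lit 1,nat_lit 2,nat_lit 1,nat_lit 1,nat_lit 3,nat_lit 0,nat_lit 3,nat_lit 1,nat_lit 1,nat_lit 2,nat_lit 1,nat_lit 2,nat_lit 3,nat_lit 1,nat_lit 2])
) (.leaf [nat_lit 4,nat_lit 2,nat_lit 3,nat_lit 1,nat_lit 2,nat_lit 0,nat_lit 3,nat_lit 0,nat_lit 3,nat_lit 1,nat_lit 1,nat_lit 3,nat_lit 0,nat_lit 2,nat_lit 0,nat_lit 2,nat_lit 3,nat_lit 0,nat_lit 2,nat_lit 0])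
))))))
noncomputable def Fc6 : LT :=
(.node (.node (.node (.node (.node (.node (.node (.leaf [nat_lit 5,nat_lit 2,nat_lit 1,nat_lit 1,nat_lit 3,nat_lit 0,nat_lit 2,nat_lit 3,nat_lit 1,nat_lit 3,nat_lit 1,nat_lit 2,nat_lit 0,nat_lit 2,nat_lit 3,nat_lit 1,nat_lit 1,nat_lit 1,nat_lit 3])
 (.leaf [nat_lit 4,nat_lit 2,nat_lit 1,nat_lit 3,nat_lit 1,nat_lit 3,nat_lit 1,nat_lit 1,nat_lit 1,nat_lit 2,nat_lit 3,nat_lit 0,nat_lit 3,nat_lit 2,nat_lit 0,nat_lit 2,nat_lit 0,nat_lit 0,nat_lit 2,nat_lit 1])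
) (.node (.leaf [nat_lit 5,nat_lit 3,nat_lit 2,nat_lit 1,nat_lit 1,nat_lit 1,nat_lit 2,nat_lit 1,nat_lit 2,nat_lit 3,nat_lit 2,nat_lit 1,nat_lit 1,nat_lit 1,nat_lit 2,nat_lit 0,nat_lit 2,nat_lit 1,nat_lit 2])
 (.leaf [nat_lit 0,nat_lit 2,nat_lit 1,nat_lit 1,nat_lit 1,nat_lit 2,nat_lit 3])
)) (.node (.node (.leaf [nat_lit 5,nat_lit 1,nat_lit 3,nat_lit 2,nat_lit 1,nat_lit 1,nat_lit 1,nat_lit 3,nat_lit 2,nat_lit 0,nat_lit 3,nat_lit 0,nat_lit 0,nat_lit 3,nat_lit 2,nat_lit 3,nat_lit 1,nat_lit 1,nat_lit 3])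
 (.leaf [nat_lit 4,nat_lit 0,nat_lit 3,nat_lit 1,nat_lit 2,nat_lit 0,nat_lit 0,nat_lit 0,nat_lit 3,nat_lit 0,nat_lit 0,nat_lit 2,nat_lit 1,nat_lit 3,nat_lit 0,nat_lit 0,nat_lit 2,nat_lit 3,nat_lit 0])
) (.leaf [nat_lit 3,nat_lit 2,nat_lit 1,nat_lit 3,nat_lit 2,nat_lit 1,nat_lit 2,nat_lit 1,nat_lit 2,nat_lit 1,nat_lit 3,nat_lit 2,nat_lit 0,nat_lit 0,nat_lit 3,nat_lit 0,nat_lit 0,nat_lit 3])
)) (.node (.node (.node (.leaf [nat_lit 2,nat_lit 1,nat_lit 2,nat_lit 0,nat_lit 3,nat_lit 0,nat_lit 2,nat_lit 0,nat_lit 0,nat_lit 0,nat_lit 3,nat_lit 1,nat_lit 3,nat_lit 2,nat_lit 1,nat_lit 1,nat_lit 3,nat_lit 2,nat_lit 3])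
 (.leaf [nat_lit 2,nat_lit 1,nat_lit 2,nat_lit 3,nat_lit 1,nat_lit 3,nat_lit 1,nat_lit 1,nat_lit 3,nat_lit 0,nat_lit 2,nat_lit 1,nat_lit 1,nat_lit 1,nat_lit 2,nat_lit 1,nat_lit 2,nat_lit 3])
) (.node (.leaf [nat_lit 5,nat_lit 0,nat_lit 2,nat_lit 0,nat_lit 2,nat_lit 1,nat_lit 3,nat_lit 1,nat_lit 2,nat_lit 1,nat_lit 3,nat_lit 1,nat_lit 1,nat_lit 2,nat_lit 3,nat_lit 0,nat_lit 2,nat_lit 1,nat_lit 1,nat_lit 2,nat_lit 1,nat_lit 3])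
 (.leaf [nat_lit 3,nat_lit 1,nat_lit 3,nat_lit 2,nat_lit 0,nat_lit 3,nat_lit 1,nat_lit 3,nat_lit 2,nat_lit 0,nat_lit 2,nat_lit 0,nat_lit 3,nat_lit 0,nat_lit 2,nat_lit 3,nat_lit 1,nat_lit 2,nat_lit 3])
)) (.node (.node (.leaf [nat_lit 5,nat_lit 2,nat_lit 0,nat_lit 0,nat_lit 0,nat_lit 2,nat_lit 1,nat_lit 2,nat_lit 1,nat_lit 3,nat_lit 2,nat_lit 0,nat_lit 2,nat_lit 3,nat_lit 1,nat_lit 2,nat_lit 0,nat_lit 3])
 (.leaf [nat_lit 5,nat_lit 2,nat_lit 3,nat_lit 1,nat_lit 2,nat_lit 0,nat_lit 2,nat_lit 3,nat_lit 1,nat_lit 1,nat_lit 1,nat_lit 2,nat_lit 3,nat_lit 1,nat_lit 2,nat_lit 0,nat_lit 0,nat_lit 3,nat_lit 0])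
) (.leaf [nat_lit 4,nat_lit 1,nat_lit 2,nat_lit 0,nat_lit 2,nat_lit 0,nat_lit 0,nat_lit 0,nat_lit 3,nat_lit 0,nat_lit 3,nat_lit 1,nat_lit 1,nat_lit 3,nat_lit 2,nat_lit 0,nat_lit 3,nat_lit 1,nat_lit 1,nat_lit 3,nat_lit 2])
))) (.node (.node (.node (.node (.leaf [nat_lit 3,nat_lit 0,nat_lit 2,nat_lit 3,nat_lit 2,nat_lit 1,nat_lit 2,nat_lit 1,nat_lit 1,nat_lit 1,nat_lit 2,nat_lit 1,nat_lit 2,nat_lit 0,nat_lit 3,nat_lit 2,nat_lit 0,nat_lit 3])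
 (.leaf [])
) (.node (.leaf [nat_lit 3,nat_lit 1,nat_lit 3,nat_lit 0,nat_lit 0,nat_lit 2,nat_lit 1,nat_lit 3,nat_lit 1,nat_lit 1,nat_lit 1,nat_lit 2,nat_lit 0,nat_lit 3,nat_lit 0,nat_lit 2,nat_lit 1,nat_lit 3,nat_lit 1])
 (.leaf [nat_lit 5,nat_lit 2,nat_lit 0,nat_lit 2,nat_lit 0,nat_lit 2,nat_lit 3,nat_lit 2,nat_lit 0,nat_lit 3,nat_lit 0,nat_lit 2,nat_lit 0,nat_lit 3,nat_lit 1,nat_lit 1,nat_lit 2])
)) (.node (.node (.leaf [nat_lit 3,nat_lit 0,nat_lit 3,nat_lit 2,nat_lit 3,nat_lit 1,nat_lit 2,nat_lit 0,nat_lit 2,nat_lit 3,nat_lit 2,nat_lit 3,nat_lit 1,nat_lit 3,nat_lit 1,nat_lit 1,nat_lit 2,nat_lit 0,nat_lit 3])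
 (.leaf [nat_lit 1,nat_lit 1,nat_lit 3,nat_lit 1,nat_lit 1,nat_lit 3,nat_lit 1,nat_lit 1,nat_lit 1,nat_lit 2,nat_lit 0,nat_lit 2,nat_lit 1,nat_lit 3,nat_lit 0,nat_lit 3,nat_lit 2,nat_lit 3,nat_lit 0,nat_lit 0])
) (.leaf [nat_lit 5,nat_lit 2,nat_lit 1,nat_lit 3,nat_lit 0,nat_lit 2,nat_lit 3,nat_lit 2,nat_lit 1,nat_lit 2,nat_lit 0,nat_lit 0,nat_lit 0,nat_lit 3,nat_lit 1,nat_lit 2,nat_lit 1,nat_lit 3,nat_lit 2])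
)) (.node (.node (.node (.leaf [nat_lit 5,nat_lit 0,nat_lit 2,nat_lit 3,nat_lit 0,nat_lit 0,nat_lit 3,nat_lit 0,nat_lit 2,nat_lit 0,nat_lit 0,nat_lit 2,nat_lit 0,nat_lit 2,nat_lit 3,nat_lit 0,nat_lit 0,nat_lit 3,nat_lit 1,nat_lit 3,nat_lit 1])
 (.leaf [nat_lit 3,nat_lit 2,nat_lit 0,nat_lit 3,nat_lit 0,nat_lit 0,nat_lit 3,nat_lit 2,nat_lit 3,nat_lit 2,nat_lit 1,nat_lit 2,nat_lit 0,nat_lit 3,nat_lit 1,nat_lit 3,nat_lit 2])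
) (.node (.leaf [nat_lit 2,nat_lit 1,nat_lit 3,nat_lit 2,nat_lit 0,nat_lit 3,nat_lit 1,nat_lit 1,nat_lit 2,nat_lit 3,nat_lit 1,nat_lit 1,nat_lit 2,nat_lit 1,nat_lit 1,nat_lit 2,nat_lit 1,nat_lit 1,nat_lit 3,nat_lit 1])
 (.leaf [nat_lit 5,nat_lit 0,nat_lit 2,nat_lit 1,nat_lit 2,nat_lit 1,nat_lit 3,nat_lit 1,nat_lit 1,nat_lit 1,nat_lit 2,nat_lit 3,nat_lit 2,nat_lit 3,nat_lit 2,nat_lit 0,nat_lit 2,nat_lit 3])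
)) (.node (.node (.leaf [nat_lit 5,nat_lit 0,nat_lit 2,nat_lit 1,nat_lit 3,nat_lit 0,nat_lit 0,nat_lit 3,nat_lit 0,nat_lit 2,nat_lit 1,nat_lit 1,nat_lit 3,nat_lit 1,nat_lit 1,nat_lit 3,nat_lit 0])
 (.leaf [nat_lit 3,nat_lit 1,nat_lit 2,nat_lit 0,nat_lit 2,nat_lit 3,nat_lit 1,nat_lit 2,nat_lit 3,nat_lit 0,nat_lit 0,nat_lit 0,nat_lit 3,nat_lit 2,nat_lit 1,nat_lit 2,nat_lit 1,nat_lit 2,nat_lit 3])
) (.leaf [nat_lit 0,nat_lit 0,nat_lit 0,nat_lit 2,nat_lit 3,nat_lit 1,nat_lit 1,nat_lit 1,nat_lit 3,nat_lit 2,nat_lit 1,nat_lit 2,nat_lit 3,nat_lit 2,nat_lit 1,nat_lit 3,nat_lit 0,nat_lit 3,nat_lit 2])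
)))) (.node (.node (.node (.node (.node (.leaf [nat_lit 72])
 (.leaf [nat_lit 24])
) (.node (.leaf [nat_lit 4,nat_lit 0,nat_lit 2,nat_lit 0,nat_lit 3,nat_lit 1,nat_lit 3,nat_lit 1,nat_lit 1,nat_lit 2,nat_lit 3,nat_lit 0,nat_lit 3,nat_lit 2,nat_lit 1])
 (.leaf [nat_lit 4,nat_lit 1,nat_lit 3,nat_lit 1,nat_lit 1,nat_lit 3,nat_lit 2,nat_lit 0,nat_lit 0,nat_lit 3,nat_lit 1,nat_lit 1,nat_lit 2,nat_lit 3,nat_lit 1,nat_lit 1,nat_lit 2,nat_lit 3,nat_lit 0,nat_lit 2])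
)) (.node (.node (.leaf [nat_lit 4,nat_lit 0,nat_lit 2,nat_lit 0,nat_lit 2,nat_lit 1,nat_lit 2,nat_lit 3,nat_lit 1,nat_lit 1,nat_lit 3,nat_lit 1,nat_lit 3,nat_lit 2,nat_lit 0,nat_lit 0,nat_lit 3,nat_lit 1,nat_lit 1,nat_lit 1,nat_lit 2])
 (.leaf [nat_lit 0,nat_lit 2,nat_lit 1,nat_lit 1,nat_lit 1,nat_lit 2])
) (.leaf [nat_lit 1,nat_lit 3,nat_lit 1,nat_lit 2,nat_lit 0,nat_lit 0,nat_lit 2,nat_lit 0,nat_lit 3,nat_lit 0,nat_lit 2,nat_lit 1,nat_lit 1,nat_lit 3,nat_lit 2,nat_lit 1,nat_lit 2])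
)) (.node (.node (.node (.leaf [nat_lit 4,nat_lit 1,nat_lit 2,nat_lit 0,nat_lit 2,nat_lit 3,nat_lit 1,nat_lit 1,nat_lit 3,nat_lit 0,nat_lit 0,nat_lit 3,nat_lit 0,nat_lit 2,nat_lit 1,nat_lit 3,nat_lit 2,nat_lit 0,nat_lit 2,nat_lit 0])
 (.leaf [nat_lit 4,nat_lit 3,nat_lit 1,nat_lit 3,nat_lit 2,nat_lit 1,nat_lit 3,nat_lit 1,nat_lit 2,nat_lit 3,nat_lit 0,nat_lit 3,nat_lit 1,nat_lit 2,nat_lit 0,nat_lit 0,nat_lit 0,nat_lit 2,nat_lit 3,nat_lit 0])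
) (.node (.leaf [nat_lit 1,nat_lit 2,nat_lit 1,nat_lit 3,nat_lit 2,nat_lit 0,nat_lit 0,nat_lit 3,nat_lit 0,nat_lit 2,nat_lit 1,nat_lit 3,nat_lit 2,nat_lit 0,nat_lit 0,nat_lit 0,nat_lit 2,nat_lit 1,nat_lit 3])
 (.leaf [nat_lit 5,nat_lit 3,nat_lit 1,nat_lit 1,nat_lit 1,nat_lit 2,nat_lit 0,nat_lit 2,nat_lit 0,nat_lit 2,nat_lit 3,nat_lit 1,nat_lit 3,nat_lit 0,nat_lit 2,nat_lit 0,nat_lit 0,nat_lit 3,nat_lit 1])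
)) (.node (.node (.leaf [nat_lit 5,nat_lit 1,nat_lit 3,nat_lit 2,nat_lit 1,nat_lit 3,nat_lit 1,nat_lit 1,nat_lit 1,nat_lit 3,nat_lit 1,nat_lit 1,nat_lit 2,nat_lit 3,nat_lit 2,nat_lit 1,nat_lit 2,nat_lit 1,nat_lit 2,nat_lit 3])
 (.leaf [nat_lit 4,nat_lit 1,nat_lit 1,nat_lit 3,nat_lit 0,nat_lit 2,nat_lit 0,nat_lit 2,nat_lit 1,nat_lit 1,nat_lit 3,nat_lit 0,nat_lit 3,nat_lit 2,nat_lit 0,nat_lit 0,nat_lit 0,nat_lit 3,nat_lit 1,nat_lit 3])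
) (.leaf [nat_lit 2,nat_lit 1,nat_lit 1,nat_lit 3,nat_lit 1,nat_lit 2,nat_lit 0,nat_lit 2,nat_lit 3,nat_lit 1,nat_lit 3,nat_lit 2,nat_lit 3,nat_lit 2,nat_lit 0,nat_lit 3,nat_lit 1])
))) (.node (.node (.node (.node (.leaf [nat_lit 1,nat_lit 1,nat_lit 1,nat_lit 3,nat_lit 2,nat_lit 3,nat_lit 1,nat_lit 3,nat_lit 1,nat_lit 2,nat_lit 3,nat_lit 0,nat_lit 2,nat_lit 3,nat_lit 0,nat_lit 0,nat_lit 3,nat_lit 2])
 (.leaf [nat_lit 5,nat_lit 1,nat_lit 2,nat_lit 3,nat_lit 1,nat_lit 2,nat_lit 0,nat_lit 0,nat_lit 2,nat_lit 1,nat_lit 3,nat_lit 0,nat_lit 0,nat_lit 2,nat_lit 3,nat_lit 0,nat_lit 0,nat_lit 2,nat_lit 3])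
) (.node (.leaf [nat_lit 4,nat_lit 3,nat_lit 0,nat_lit 3,nat_lit 1,nat_lit 2,nat_lit 3,nat_lit 1,nat_lit 2,nat_lit 3,nat_lit 0,nat_lit 3,nat_lit 2,nat_lit 1,nat_lit 2,nat_lit 0,nat_lit 3,nat_lit 2])
 (.leaf [nat_lit 5,nat_lit 0,nat_lit 0,nat_lit 3,nat_lit 0,nat_lit 2,nat_lit 0,nat_lit 0,nat_lit 2,nat_lit 1,nat_lit 3,nat_lit 1,nat_lit 2,nat_lit 0,nat_lit 3,nat_lit 0,nat_lit 2,nat_lit 0,nat_lit 0,nat_lit 3,nat_lit 2])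
)) (.node (.node (.leaf [nat_lit 3,nat_lit 2,nat_lit 0,nat_lit 3,nat_lit 0,nat_lit 2,nat_lit 1,nat_lit 2,nat_lit 1,nat_lit 3,nat_lit 1,nat_lit 3,nat_lit 2,nat_lit 3,nat_lit 2,nat_lit 1])
 (.leaf [nat_lit 4,nat_lit 0,nat_lit 0,nat_lit 3,nat_lit 2,nat_lit 3,nat_lit 1,nat_lit 2,nat_lit 1,nat_lit 2,nat_lit 1,nat_lit 2,nat_lit 0,nat_lit 2,nat_lit 1,nat_lit 2,nat_lit 1,nat_lit 3,nat_lit 1,nat_lit 1])
) (.leaf [nat_lit 4,nat_lit 0,nat_lit 3,nat_lit 2,nat_lit 3,nat_lit 1,nat_lit 1,nat_lit 2,nat_lit 3,nat_lit 0,nat_lit 2,nat_lit 1,nat_lit 3,nat_lit 1,nat_lit 1,nat_lit 2,nat_lit 1,nat_lit 1,nat_lit 1,nat_lit 2])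
)) (.node (.node (.node (.leaf [nat_lit 5,nat_lit 1,nat_lit 1,nat_lit 2,nat_lit 1,nat_lit 3,nat_lit 2,nat_lit 1,nat_lit 1,nat_lit 1,nat_lit 2,nat_lit 1,nat_lit 2,nat_lit 1,nat_lit 1,nat_lit 1,nat_lit 2,nat_lit 3,nat_lit 2,nat_lit 1,nat_lit 3])
 (.leaf [nat_lit 1,nat_lit 3,nat_lit 2,nat_lit 1,nat_lit 1,nat_lit 1,nat_lit 3,nat_lit 1,nat_lit 3,nat_lit 1,nat_lit 1,nat_lit 2,nat_lit 1,nat_lit 1,nat_lit 3,nat_lit 2])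
) (.leaf [nat_lit 4,nat_lit 3,nat_lit 1,nat_lit 2,nat_lit 3,nat_lit 1,nat_lit 3,nat_lit 1,nat_lit 1,nat_lit 3,nat_lit 1,nat_lit 2,nat_lit 1,nat_lit 2,nat_lit 1,nat_lit 3,nat_lit 2,nat_lit 1,nat_lit 3,nat_lit 2])
) (.node (.node (.leaf [nat_lit 4,nat_lit 1,nat_lit 2,nat_lit 3,nat_lit 0,nat_lit 3,nat_lit 1,nat_lit 2,nat_lit 1,nat_lit 2,nat_lit 3,nat_lit 1,nat_lit 2,nat_lit 3,nat_lit 1,nat_lit 2,nat_lit 1,nat_lit 3,nat_lit 1])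
 (.leaf [nat_lit 2,nat_lit 3,nat_lit 0,nat_lit 2,nat_lit 1,nat_lit 1,nat_lit 2,nat_lit 1,nat_lit 1,nat_lit 2,nat_lit 1,nat_lit 3,nat_lit 0,nat_lit 0,nat_lit 2,nat_lit 0,nat_lit 2,nat_lit 1,nat_lit 3])
) (.leaf [nat_lit 5,nat_lit 0,nat_lit 0,nat_lit 3,nat_lit 0,nat_lit 2,nat_lit 0,nat_lit 0,nat_lit 2,nat_lit 1,nat_lit 3,nat_lit 1,nat_lit 2,nat_lit 0,nat_lit 3,nat_lit 0,nat_lit 2,nat_lit 0,nat_lit 0,nat_lit 3,nat_lit 2])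
))))) (.node (.node (.node (.node (.node (.node (.leaf [nat_lit 67])
 (.leaf [nat_lit 4,nat_lit 3,nat_lit 0,nat_lit 0,nat_lit 2,nat_lit 3,nat_lit 2,nat_lit 0,nat_lit 3,nat_lit 2,nat_lit 1,nat_lit 3,nat_lit 2,nat_lit 0,nat_lit 3,nat_lit 1,nat_lit 2,nat_lit 1,nat_lit 2,nat_lit 1])
) (.node (.leaf [nat_lit 4,nat_lit 3,nat_lit 0,nat_lit 3,nat_lit 2,nat_lit 0,nat_lit 3,nat_lit 2,nat_lit 3,nat_lit 1,nat_lit 3,nat_lit 0,nat_lit 0,nat_lit 3,nat_lit 0,nat_lit 2,nat_lit 0,nat_lit 2,nat_lit 0,nat_lit 0,nat_lit 3])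
 (.leaf [nat_lit 4,nat_lit 3,nat_lit 2,nat_lit 0,nat_lit 2,nat_lit 3,nat_lit 2,nat_lit 0,nat_lit 0,nat_lit 2,nat_lit 0,nat_lit 0,nat_lit 3,nat_lit 1,nat_lit 3,nat_lit 0,nat_lit 0,nat_lit 3,nat_lit 2])
)) (.node (.node (.leaf [nat_lit 4,nat_lit 1,nat_lit 1,nat_lit 3,nat_lit 0,nat_lit 2,nat_lit 0,nat_lit 2,nat_lit 1,nat_lit 1,nat_lit 3,nat_lit 0,nat_lit 3,nat_lit 2,nat_lit 0,nat_lit 0,nat_lit 0,nat_lit 3,nat_lit 1,nat_lit 3])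
 (.leaf [nat_lit 1,nat_lit 2,nat_lit 1,nat_lit 3,nat_lit 2,nat_lit 0,nat_lit 3,nat_lit 2,nat_lit 1,nat_lit 1,nat_lit 3,nat_lit 0,nat_lit 3,nat_lit 1,nat_lit 1,nat_lit 2,nat_lit 1,nat_lit 1,nat_lit 2,nat_lit 3,nat_lit 0])
) (.leaf [nat_lit 4,nat_lit 3,nat_lit 0,nat_lit 0,nat_lit 2,nat_lit 0,nat_lit 2,nat_lit 0,nat_lit 2,nat_lit 1,nat_lit 2,nat_lit 1,nat_lit 1,nat_lit 3,nat_lit 2,nat_lit 1,nat_lit 1,nat_lit 3,nat_lit 0,nat_lit 2,nat_lit 3])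
)) (.node (.node (.node (.leaf [nat_lit 5,nat_lit 2,nat_lit 1,nat_lit 1,nat_lit 3,nat_lit 2,nat_lit 0,nat_lit 0,nat_lit 0,nat_lit 2,nat_lit 1,nat_lit 2,nat_lit 1,nat_lit 1,nat_lit 3,nat_lit 1,nat_lit 1,nat_lit 2,nat_lit 1])
 (.leaf [nat_lit 5,nat_lit 3,nat_lit 1,nat_lit 1,nat_lit 1,nat_lit 2,nat_lit 0,nat_lit 2,nat_lit 1,nat_lit 2,nat_lit 1,nat_lit 2,nat_lit 1,nat_lit 1,nat_lit 1,nat_lit 2,nat_lit 3,nat_lit 0,nat_lit 0])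
) (.node (.leaf [nat_lit 4,nat_lit 0,nat_lit 0,nat_lit 2,nat_lit 1,nat_lit 3,nat_lit 0,nat_lit 3,nat_lit 1,nat_lit 1,nat_lit 1,nat_lit 2,nat_lit 3,nat_lit 0,nat_lit 0,nat_lit 0,nat_lit 2,nat_lit 1,nat_lit 1])
 (.leaf [nat_lit 3,nat_lit 2,nat_lit 0,nat_lit 2,nat_lit 0,nat_lit 2,nat_lit 1,nat_lit 2,nat_lit 3,nat_lit 1,nat_lit 3,nat_lit 2,nat_lit 1])
)) (.node (.node (.leaf [nat_lit 4,nat_lit 1,nat_lit 2,nat_lit 0,nat_lit 2,nat_lit 1,nat_lit 1,nat_lit 3,nat_lit 0,nat_lit 2,nat_lit 0,nat_lit 2,nat_lit 0,nat_lit 2,nat_lit 1,nat_lit 3,nat_lit 0,nat_lit 2,nat_lit 1])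
 (.leaf [nat_lit 5,nat_lit 3,nat_lit 2,nat_lit 1,nat_lit 1,nat_lit 1,nat_lit 2,nat_lit 1,nat_lit 2,nat_lit 3,nat_lit 2,nat_lit 1,nat_lit 1,nat_lit 1,nat_lit 2,nat_lit 0,nat_lit 2,nat_lit 1,nat_lit 2])
) (.leaf [nat_lit 4,nat_lit 2,nat_lit 3,nat_lit 1,nat_lit 1,nat_lit 2,nat_lit 0,nat_lit 2,nat_lit 0,nat_lit 0,nat_lit 2,nat_lit 3,nat_lit 1,nat_lit 1,nat_lit 3,nat_lit 0,nat_lit 2,nat_lit 3,nat_lit 0,nat_lit 0,nat_lit 3])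
))) (.node (.node (.node (.node (.leaf [nat_lit 94])
 (.leaf [nat_lit 0,nat_lit 2,nat_lit 1,nat_lit 1,nat_lit 1,nat_lit 2])
) (.node (.leaf [nat_lit 5,nat_lit 0,nat_lit 0,nat_lit 3,nat_lit 2,nat_lit 0,nat_lit 3,nat_lit 0,nat_lit 0,nat_lit 2,nat_lit 1,nat_lit 2,nat_lit 3,nat_lit 0,nat_lit 3,nat_lit 1,nat_lit 1,nat_lit 2,nat_lit 0,nat_lit 2])
 (.leaf [nat_lit 0,nat_lit 0,nat_lit 0,nat_lit 2,nat_lit 3,nat_lit 1,nat_lit 1,nat_lit 1,nat_lit 3,nat_lit 2,nat_lit 1,nat_lit 2,nat_lit 3,nat_lit 2,nat_lit 1,nat_lit 3,nat_lit 0,nat_lit 3,nat_lit 2])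
)) (.node (.node (.leaf [nat_lit 4,nat_lit 2,nat_lit 1,nat_lit 1,nat_lit 2,nat_lit 1,nat_lit 1,nat_lit 2,nat_lit 1,nat_lit 2,nat_lit 1,nat_lit 1,nat_lit 2,nat_lit 1,nat_lit 1,nat_lit 2])
 (.leaf [nat_lit 4,nat_lit 3,nat_lit 2,nat_lit 1,nat_lit 2,nat_lit 3,nat_lit 2,nat_lit 3,nat_lit 2,nat_lit 0,nat_lit 3,nat_lit 0,nat_lit 0,nat_lit 2,nat_lit 3,nat_lit 0,nat_lit 3,nat_lit 2,nat_lit 3,nat_lit 1,nat_lit 2])
) (.leaf [nat_lit 1,nat_lit 1,nat_lit 2,nat_lit 1,nat_lit 1,nat_lit 1,nat_lit 2,nat_lit 1,nat_lit 1,nat_lit 1,nat_lit 2,nat_lit 1,nat_lit 1,nat_lit 3,nat_lit 1,nat_lit 1])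
)) (.node (.node (.node (.leaf [nat_lit 0,nat_lit 3,nat_lit 0,nat_lit 2,nat_lit 1,nat_lit 2,nat_lit 1,nat_lit 3,nat_lit 2,nat_lit 3,nat_lit 2,nat_lit 1,nat_lit 2,nat_lit 1,nat_lit 2,nat_lit 0,nat_lit 2,nat_lit 0,nat_lit 3,nat_lit 2])
 (.leaf [nat_lit 4,nat_lit 1,nat_lit 2,nat_lit 0,nat_lit 3,nat_lit 2,nat_lit 0,nat_lit 0,nat_lit 3,nat_lit 0,nat_lit 0,nat_lit 2,nat_lit 1,nat_lit 1,nat_lit 2,nat_lit 1,nat_lit 2,nat_lit 3])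
) (.node (.leaf [nat_lit 3,nat_lit 2,nat_lit 0,nat_lit 3,nat_lit 0,nat_lit 3,nat_lit 1,nat_lit 3,nat_lit 0,nat_lit 2,nat_lit 3,nat_lit 0,nat_lit 2,nat_lit 1,nat_lit 2,nat_lit 0,nat_lit 3,nat_lit 1])
 (.leaf [nat_lit 4,nat_lit 2,nat_lit 1,nat_lit 2,nat_lit 3,nat_lit 0,nat_lit 3,nat_lit 2,nat_lit 1,nat_lit 1,nat_lit 3,nat_lit 1,nat_lit 3,nat_lit 0,nat_lit 0,nat_lit 2,nat_lit 3,nat_lit 1,nat_lit 2,nat_lit 3,nat_lit 2])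
)) (.node (.node (.leaf [nat_lit 3,nat_lit 2,nat_lit 0,nat_lit 0,nat_lit 3,nat_lit 0,nat_lit 0,nat_lit 2,nat_lit 0,nat_lit 3,nat_lit 2,nat_lit 3,nat_lit 2,nat_lit 0,nat_lit 2,nat_lit 1,nat_lit 1,nat_lit 3,nat_lit 0])
 (.leaf [nat_lit 2,nat_lit 0,nat_lit 2,nat_lit 0,nat_lit 2,nat_lit 0,nat_lit 0,nat_lit 3,nat_lit 0,nat_lit 0,nat_lit 3,nat_lit 1,nat_lit 1,nat_lit 2,nat_lit 3,nat_lit 0,nat_lit 2,nat_lit 3,nat_lit 1])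
) (.leaf [nat_lit 3,nat_lit 1,nat_lit 3,nat_lit 2,nat_lit 1,nat_lit 2,nat_lit 1,nat_lit 1,nat_lit 2,nat_lit 1,nat_lit 2,nat_lit 0,nat_lit 3,nat_lit 0,nat_lit 0,nat_lit 3,nat_lit 1,nat_lit 3,nat_lit 2])
)))) (.node (.node (.node (.node (.node (.leaf [nat_lit 1,nat_lit 2,nat_lit 3,nat_lit 1,nat_lit 1,nat_lit 3,nat_lit 2,nat_lit 3,nat_lit 0,nat_lit 0,nat_lit 3,nat_lit 2,nat_lit 3,nat_lit 1,nat_lit 3,nat_lit 2,nat_lit 0,nat_lit 0])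
 (.leaf [nat_lit 51])
) (.node (.leaf [nat_lit 4,nat_lit 2,nat_lit 1,nat_lit 2,nat_lit 3,nat_lit 0,nat_lit 3,nat_lit 2,nat_lit 1,nat_lit 1,nat_lit 3,nat_lit 1,nat_lit 3,nat_lit 0,nat_lit 0,nat_lit 2,nat_lit 3,nat_lit 1,nat_lit 2,nat_lit 3,nat_lit 2])
 (.leaf [nat_lit 3,nat_lit 2,nat_lit 0,nat_lit 0,nat_lit 2,nat_lit 1,nat_lit 2,nat_lit 1,nat_lit 1,nat_lit 3,nat_lit 2,nat_lit 1,nat_lit 3,nat_lit 0,nat_lit 0,nat_lit 0,nat_lit 3,nat_lit 1])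
)) (.node (.node (.leaf [nat_lit 4,nat_lit 3,nat_lit 0,nat_lit 3,nat_lit 1,nat_lit 1,nat_lit 3,nat_lit 2,nat_lit 1,nat_lit 2,nat_lit 0,nat_lit 3,nat_lit 0,nat_lit 2,nat_lit 0,nat_lit 0,nat_lit 3,nat_lit 0,nat_lit 2])
 (.leaf [nat_lit 3,nat_lit 0,nat_lit 0,nat_lit 3,nat_lit 1,nat_lit 3,nat_lit 1,nat_lit 2,nat_lit 1,nat_lit 3,nat_lit 1,nat_lit 3,nat_lit 1,nat_lit 2,nat_lit 3,nat_lit 1])
) (.leaf [nat_lit 5,nat_lit 0,nat_lit 0,nat_lit 2,nat_lit 3,nat_lit 1,nat_lit 1,nat_lit 3,nat_lit 1,nat_lit 3,nat_lit 1,nat_lit 1,nat_lit 1,nat_lit 2,nat_lit 0,nat_lit 0,nat_lit 3,nat_lit 1,nat_lit 3,nat_lit 0,nat_lit 3])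
)) (.node (.node (.node (.leaf [nat_lit 0,nat_lit 0,nat_lit 0,nat_lit 3,nat_lit 2,nat_lit 0,nat_lit 0,nat_lit 0,nat_lit 2,nat_lit 3,nat_lit 2,nat_lit 3,nat_lit 0,nat_lit 2,nat_lit 0,nat_lit 3,nat_lit 1,nat_lit 1,nat_lit 3])
 (.leaf [nat_lit 1,nat_lit 1,nat_lit 3,nat_lit 1,nat_lit 1,nat_lit 3,nat_lit 0,nat_lit 3,nat_lit 1,nat_lit 1,nat_lit 2,nat_lit 0,nat_lit 0,nat_lit 3,nat_lit 1,nat_lit 2,nat_lit 1,nat_lit 3])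
) (.node (.leaf [nat_lit 2,nat_lit 1,nat_lit 1,nat_lit 2,nat_lit 1,nat_lit 1,nat_lit 2,nat_lit 1,nat_lit 3,nat_lit 2,nat_lit 3,nat_lit 2,nat_lit 0,nat_lit 2,nat_lit 1,nat_lit 3,nat_lit 0,nat_lit 2,nat_lit 3])
 (.leaf [nat_lit 1,nat_lit 2,nat_lit 0,nat_lit 0,nat_lit 3,nat_lit 1,nat_lit 1,nat_lit 1,nat_lit 3,nat_lit 2,nat_lit 3,nat_lit 0,nat_lit 3,nat_lit 0,nat_lit 0,nat_lit 2,nat_lit 1,nat_lit 2,nat_lit 0,nat_lit 3])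
)) (.node (.node (.leaf [nat_lit 1,nat_lit 2,nat_lit 1,nat_lit 3,nat_lit 2,nat_lit 0,nat_lit 3,nat_lit 2,nat_lit 1,nat_lit 1,nat_lit 3,nat_lit 0,nat_lit 3,nat_lit 1,nat_lit 1,nat_lit 2,nat_lit 1,nat_lit 1,nat_lit 2,nat_lit 3,nat_lit 0])
 (.leaf [nat_lit 4,nat_lit 0,nat_lit 3,nat_lit 0,nat_lit 2,nat_lit 0,nat_lit 0,nat_lit 3,nat_lit 2,nat_lit 3,nat_lit 2,nat_lit 1,nat_lit 1,nat_lit 3,nat_lit 0,nat_lit 2,nat_lit 1,nat_lit 3,nat_lit 2,nat_lit 1])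
) (.leaf [nat_lit 4,nat_lit 2,nat_lit 1,nat_lit 1,nat_lit 3,nat_lit 0,nat_lit 2,nat_lit 1,nat_lit 2,nat_lit 0,nat_lit 2,nat_lit 3,nat_lit 2,nat_lit 1,nat_lit 3,nat_lit 2,nat_lit 1,nat_lit 1,nat_lit 1])
))) (.node (.node (.node (.node (.leaf [nat_lit 4,nat_lit 1,nat_lit 1,nat_lit 1,nat_lit 3,nat_lit 0,nat_lit 0,nat_lit 2,nat_lit 3,nat_lit 1,nat_lit 3,nat_lit 0,nat_lit 2,nat_lit 3,nat_lit 1,nat_lit 1,nat_lit 1,nat_lit 2,nat_lit 1,nat_lit 3,nat_lit 1])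
 (.leaf [nat_lit 2])
) (.node (.leaf [nat_lit 5,nat_lit 0,nat_lit 0,nat_lit 3,nat_lit 2,nat_lit 3,nat_lit 1,nat_lit 2,nat_lit 3,nat_lit 2,nat_lit 0,nat_lit 3,nat_lit 0,nat_lit 3,nat_lit 1,nat_lit 2,nat_lit 0,nat_lit 3,nat_lit 2,nat_lit 3])
 (.leaf [nat_lit 4,nat_lit 0,nat_lit 0,nat_lit 2,nat_lit 0,nat_lit 2,nat_lit 3,nat_lit 0,nat_lit 2,nat_lit 3,nat_lit 0,nat_lit 3,nat_lit 2,nat_lit 1,nat_lit 2,nat_lit 1,nat_lit 1,nat_lit 3,nat_lit 1,nat_lit 2])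
)) (.node (.node (.leaf [nat_lit 5,nat_lit 2,nat_lit 3,nat_lit 0,nat_lit 3,nat_lit 2,nat_lit 1,nat_lit 2,nat_lit 3,nat_lit 0,nat_lit 2,nat_lit 0,nat_lit 3,nat_lit 2,nat_lit 1,nat_lit 1,nat_lit 3,nat_lit 0,nat_lit 0])
 (.leaf [nat_lit 5,nat_lit 2,nat_lit 0,nat_lit 3,nat_lit 0,nat_lit 2,nat_lit 3,nat_lit 2,nat_lit 1,nat_lit 1,nat_lit 3,nat_lit 1,nat_lit 2,nat_lit 3,nat_lit 1,nat_lit 3,nat_lit 1,nat_lit 2,nat_lit 1,nat_lit 1])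
) (.leaf [nat_lit 4,nat_lit 3,nat_lit 1,nat_lit 3,nat_lit 2,nat_lit 1,nat_lit 1,nat_lit 2,nat_lit 0,nat_lit 0,nat_lit 2,nat_lit 3,nat_lit 2,nat_lit 1,nat_lit 3,nat_lit 1,nat_lit 1,nat_lit 3,nat_lit 1,nat_lit 3,nat_lit 0])
)) (.node (.node (.node (.leaf [nat_lit 5,nat_lit 3,nat_lit 0,nat_lit 2,nat_lit 1,nat_lit 2,nat_lit 0,nat_lit 0,nat_lit 0,nat_lit 2,nat_lit 3,nat_lit 2,nat_lit 3,nat_lit 1,nat_lit 1,nat_lit 3,nat_lit 1,nat_lit 1,nat_lit 1])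
 (.leaf [nat_lit 5,nat_lit 0,nat_lit 2,nat_lit 3,nat_lit 2,nat_lit 0,nat_lit 3,nat_lit 0,nat_lit 3,nat_lit 2,nat_lit 1,nat_lit 1,nat_lit 1,nat_lit 2,nat_lit 1,nat_lit 3,nat_lit 0,nat_lit 3])
) (.leaf [nat_lit 4,nat_lit 1,nat_lit 2,nat_lit 0,nat_lit 2,nat_lit 3,nat_lit 2,nat_lit 0,nat_lit 3,nat_lit 1,nat_lit 1,nat_lit 2,nat_lit 3,nat_lit 0,nat_lit 2,nat_lit 0,nat_lit 3,nat_lit 2])
) (.node (.node (.leaf [nat_lit 5,nat_lit 2,nat_lit 1,nat_lit 3,nat_lit 1,nat_lit 2,nat_lit 3,nat_lit 1,nat_lit 1,nat_lit 2,nat_lit 0,nat_lit 2,nat_lit 3,nat_lit 1,nat_lit 3,nat_lit 2,nat_lit 0,nat_lit 0,nat_lit 3,nat_lit 1])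
 (.leaf [nat_lit 5,nat_lit 2,nat_lit 0,nat_lit 2,nat_lit 0,nat_lit 0,nat_lit 3,nat_lit 1,nat_lit 3,nat_lit 1,nat_lit 1,nat_lit 1,nat_lit 3,nat_lit 2,nat_lit 3,nat_lit 0,nat_lit 3,nat_lit 2,nat_lit 0])
) (.leaf [nat_lit 4,nat_lit 2,nat_lit 3,nat_lit 1,nat_lit 2,nat_lit 0,nat_lit 3,nat_lit 0,nat_lit 3,nat_lit 1,nat_lit 1,nat_lit 3,nat_lit 0,nat_lit 2,nat_lit 0,nat_lit 2,nat_lit 3,nat_lit 0,nat_lit 2,nat_lit 0])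
))))))
noncomputable def Fc7 : LT :=
(.node (.node (.node (.node (.node (.node (.node (.leaf [nat_lit 5,nat_lit 0,nat_lit 0,nat_lit 0,nat_lit 3,nat_lit 0,nat_lit 2,nat_lit 0,nat_lit 3,nat_lit 2,nat_lit 0,nat_lit 3,nat_lit 1,nat_lit 2,nat_lit 3,nat_lit 0,nat_lit 3,nat_lit 2,nat_lit 0])
 (.leaf [nat_lit 4,nat_lit 2,nat_lit 1,nat_lit 3,nat_lit 1,nat_lit 3,nat_lit 1,nat_lit 1,nat_lit 1,nat_lit 2,nat_lit 3,nat_lit 0,nat_lit 3,nat_lit 2,nat_lit 0,nat_lit 2,nat_lit 0,nat_lit 0,nat_lit 2,nat_lit 1])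
) (.node (.leaf [nat_lit 4,nat_lit 0,nat_lit 3,nat_lit 1,nat_lit 1,nat_lit 3,nat_lit 2,nat_lit 3,nat_lit 2,nat_lit 0,nat_lit 0,nat_lit 0,nat_lit 2,nat_lit 0,nat_lit 0,nat_lit 0,nat_lit 2,nat_lit 0,nat_lit 0,nat_lit 3,nat_lit 1])
 (.leaf [nat_lit 4,nat_lit 0,nat_lit 0,nat_lit 2,nat_lit 0,nat_lit 0,nat_lit 2,nat_lit 1,nat_lit 2,nat_lit 3,nat_lit 1,nat_lit 1,nat_lit 1,nat_lit 2,nat_lit 0,nat_lit 0,nat_lit 3])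
)) (.node (.node (.leaf [nat_lit 5,nat_lit 1,nat_lit 3,nat_lit 2,nat_lit 1,nat_lit 1,nat_lit 1,nat_lit 3,nat_lit 2,nat_lit 0,nat_lit 3,nat_lit 0,nat_lit 0,nat_lit 3,nat_lit 2,nat_lit 3,nat_lit 1,nat_lit 1,nat_lit 3])
 (.leaf [nat_lit 5,nat_lit 0,nat_lit 2,nat_lit 1,nat_lit 2,nat_lit 0,nat_lit 0,nat_lit 0,nat_lit 3,nat_lit 0,nat_lit 0,nat_lit 3,nat_lit 1,nat_lit 3,nat_lit 2,nat_lit 1,nat_lit 2])
) (.leaf [nat_lit 4,nat_lit 3,nat_lit 2,nat_lit 3,nat_lit 2,nat_lit 3,nat_lit 2,nat_lit 1,nat_lit 3,nat_lit 2,nat_lit 0,nat_lit 0,nat_lit 3,nat_lit 2,nat_lit 1,nat_lit 3,nat_lit 0,nat_lit 2,nat_lit 1])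
)) (.node (.node (.node (.leaf [])
 (.leaf [nat_lit 5,nat_lit 1,nat_lit 3,nat_lit 1,nat_lit 3,nat_lit 0,nat_lit 2,nat_lit 3,nat_lit 2,nat_lit 1,nat_lit 3,nat_lit 0,nat_lit 3,nat_lit 0,nat_lit 0,nat_lit 2,nat_lit 1,nat_lit 1])
) (.node (.leaf [nat_lit 5,nat_lit 0,nat_lit 2,nat_lit 0,nat_lit 2,nat_lit 1,nat_lit 3,nat_lit 1,nat_lit 2,nat_lit 1,nat_lit 3,nat_lit 1,nat_lit 1,nat_lit 2,nat_lit 3,nat_lit 0,nat_lit 2,nat_lit 1,nat_lit 1,nat_lit 2,nat_lit 1,nat_lit 3])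
 (.leaf [nat_lit 4,nat_lit 3,nat_lit 2,nat_lit 1,nat_lit 3,nat_lit 2,nat_lit 0,nat_lit 2,nat_lit 3,nat_lit 2,nat_lit 1,nat_lit 3,nat_lit 2,nat_lit 1,nat_lit 3,nat_lit 1,nat_lit 1,nat_lit 1,nat_lit 2])
)) (.node (.node (.leaf [nat_lit 5,nat_lit 2,nat_lit 0,nat_lit 0,nat_lit 0,nat_lit 2,nat_lit 1,nat_lit 2,nat_lit 1,nat_lit 3,nat_lit 2,nat_lit 0,nat_lit 2,nat_lit 3,nat_lit 1,nat_lit 2,nat_lit 0,nat_lit 3])
 (.leaf [nat_lit 0,nat_lit 2,nat_lit 3,nat_lit 1,nat_lit 1,nat_lit 3,nat_lit 1,nat_lit 2,nat_lit 3,nat_lit 0,nat_lit 0,nat_lit 2,nat_lit 1,nat_lit 3,nat_lit 2,nat_lit 3,nat_lit 0])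
) (.leaf [nat_lit 5,nat_lit 1,nat_lit 1,nat_lit 3,nat_lit 0,nat_lit 0,nat_lit 2,nat_lit 3,nat_lit 1,nat_lit 2,nat_lit 0,nat_lit 2,nat_lit 3,nat_lit 2,nat_lit 1,nat_lit 3,nat_lit 1,nat_lit 1,nat_lit 1])
))) (.node (.node (.node (.node (.leaf [nat_lit 4,nat_lit 1,nat_lit 3,nat_lit 1,nat_lit 3,nat_lit 0,nat_lit 3,nat_lit 2,nat_lit 0,nat_lit 0,nat_lit 3,nat_lit 0,nat_lit 2,nat_lit 1,nat_lit 3,nat_lit 0,nat_lit 0,nat_lit 3,nat_lit 2])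
 (.leaf [nat_lit 4,nat_lit 0,nat_lit 2,nat_lit 0,nat_lit 2,nat_lit 1,nat_lit 2,nat_lit 3,nat_lit 1,nat_lit 3,nat_lit 1,nat_lit 2,nat_lit 1,nat_lit 2,nat_lit 3,nat_lit 1,nat_lit 1,nat_lit 1,nat_lit 2,nat_lit 3,nat_lit 0])
) (.node (.leaf [nat_lit 3,nat_lit 1,nat_lit 3,nat_lit 0,nat_lit 0,nat_lit 2,nat_lit 1,nat_lit 3,nat_lit 1,nat_lit 1,nat_lit 1,nat_lit 2,nat_lit 0,nat_lit 3,nat_lit 0,nat_lit 2,nat_lit 1,nat_lit 3,nat_lit 1])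
 (.leaf [nat_lit 0,nat_lit 3,nat_lit 0,nat_lit 3,nat_lit 2,nat_lit 1,nat_lit 3,nat_lit 1,nat_lit 2,nat_lit 0,nat_lit 0,nat_lit 0,nat_lit 3,nat_lit 1,nat_lit 1,nat_lit 3,nat_lit 1,nat_lit 2])
)) (.node (.node (.leaf [nat_lit 5,nat_lit 3,nat_lit 0,nat_lit 3,nat_lit 0,nat_lit 2,nat_lit 3,nat_lit 1,nat_lit 1,nat_lit 3,nat_lit 2,nat_lit 3,nat_lit 1,nat_lit 3,nat_lit 2,nat_lit 1,nat_lit 3,nat_lit 1,nat_lit 1,nat_lit 2])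
 (.leaf [nat_lit 1,nat_lit 3,nat_lit 1,nat_lit 3,nat_lit 2,nat_lit 0,nat_lit 3,nat_lit 2,nat_lit 0,nat_lit 2,nat_lit 1,nat_lit 3,nat_lit 2,nat_lit 3,nat_lit 0,nat_lit 2,nat_lit 0,nat_lit 0,nat_lit 3,nat_lit 2])
) (.leaf [nat_lit 5,nat_lit 2,nat_lit 1,nat_lit 3,nat_lit 0,nat_lit 2,nat_lit 3,nat_lit 2,nat_lit 1,nat_lit 2,nat_lit 0,nat_lit 0,nat_lit 0,nat_lit 3,nat_lit 1,nat_lit 2,nat_lit 1,nat_lit 3,nat_lit 2])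
)) (.node (.node (.node (.leaf [nat_lit 4,nat_lit 2,nat_lit 0,nat_lit 3,nat_lit 1,nat_lit 1,nat_lit 2,nat_lit 0,nat_lit 2,nat_lit 0,nat_lit 0,nat_lit 3,nat_lit 0,nat_lit 3,nat_lit 2,nat_lit 1,nat_lit 1,nat_lit 1,nat_lit 2,nat_lit 1])
 (.leaf [nat_lit 5,nat_lit 0,nat_lit 3,nat_lit 2,nat_lit 3,nat_lit 0,nat_lit 3,nat_lit 0,nat_lit 0,nat_lit 3,nat_lit 0,nat_lit 2,nat_lit 3,nat_lit 2,nat_lit 0,nat_lit 0,nat_lit 0,nat_lit 2,nat_lit 3,nat_lit 1])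
) (.node (.leaf [nat_lit 2,nat_lit 0,nat_lit 0,nat_lit 2,nat_lit 3,nat_lit 2,nat_lit 1,nat_lit 1,nat_lit 1,nat_lit 2,nat_lit 1,nat_lit 1,nat_lit 1,nat_lit 3,nat_lit 1,nat_lit 3,nat_lit 2,nat_lit 0,nat_lit 2,nat_lit 3])
 (.leaf [nat_lit 4,nat_lit 3,nat_lit 0,nat_lit 0,nat_lit 0,nat_lit 3,nat_lit 0,nat_lit 0,nat_lit 0,nat_lit 2,nat_lit 0,nat_lit 0,nat_lit 0,nat_lit 3,nat_lit 2,nat_lit 3])
)) (.node (.node (.leaf [nat_lit 5,nat_lit 0,nat_lit 0,nat_lit 2,nat_lit 0,nat_lit 3,nat_lit 0,nat_lit 3,nat_lit 2,nat_lit 3,nat_lit 1,nat_lit 1,nat_lit 1,nat_lit 2,nat_lit 0,nat_lit 0,nat_lit 0,nat_lit 3])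
 (.leaf [nat_lit 3,nat_lit 1,nat_lit 2,nat_lit 0,nat_lit 2,nat_lit 0,nat_lit 0,nat_lit 3,nat_lit 0,nat_lit 2,nat_lit 3,nat_lit 0,nat_lit 0,nat_lit 0,nat_lit 3,nat_lit 1,nat_lit 3,nat_lit 2,nat_lit 0])
) (.leaf [nat_lit 3,nat_lit 2,nat_lit 0,nat_lit 2,nat_lit 1,nat_lit 3,nat_lit 0,nat_lit 0,nat_lit 2,nat_lit 3,nat_lit 2,nat_lit 0,nat_lit 0,nat_lit 0,nat_lit 2,nat_lit 1,nat_lit 2,nat_lit 3,nat_lit 1])
)))) (.node (.node (.node (.node (.node (.leaf [])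
 (.leaf [nat_lit 23])
) (.node (.leaf [nat_lit 0,nat_lit 0,nat_lit 3,nat_lit 0,nat_lit 0,nat_lit 0,nat_lit 3,nat_lit 1,nat_lit 2,nat_lit 3,nat_lit 1,nat_lit 3,nat_lit 2,nat_lit 1,nat_lit 2,nat_lit 1,nat_lit 1,nat_lit 1,nat_lit 3])
 (.leaf [nat_lit 5,nat_lit 3,nat_lit 2,nat_lit 0,nat_lit 2,nat_lit 0,nat_lit 2,nat_lit 1,nat_lit 3,nat_lit 1,nat_lit 3,nat_lit 0,nat_lit 0,nat_lit 3,nat_lit 1,nat_lit 1,nat_lit 2,nat_lit 0,nat_lit 3])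
)) (.node (.node (.leaf [nat_lit 4,nat_lit 1,nat_lit 2,nat_lit 0,nat_lit 3,nat_lit 1,nat_lit 1,nat_lit 1,nat_lit 2,nat_lit 1,nat_lit 3,nat_lit 0,nat_lit 3,nat_lit 2,nat_lit 0,nat_lit 3,nat_lit 0,nat_lit 0,nat_lit 2,nat_lit 0])
 (.leaf [nat_lit 4,nat_lit 1,nat_lit 2,nat_lit 3,nat_lit 2,nat_lit 1,nat_lit 2,nat_lit 1,nat_lit 1,nat_lit 3,nat_lit 0,nat_lit 2,nat_lit 1,nat_lit 2,nat_lit 3,nat_lit 2,nat_lit 3,nat_lit 2,nat_lit 0,nat_lit 3])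
) (.leaf [nat_lit 3,nat_lit 1,nat_lit 2,nat_lit 0,nat_lit 0,nat_lit 2,nat_lit 0,nat_lit 0,nat_lit 2,nat_lit 3,nat_lit 1,nat_lit 2,nat_lit 0,nat_lit 2,nat_lit 1,nat_lit 1,nat_lit 2])
)) (.node (.node (.node (.leaf [nat_lit 5,nat_lit 3,nat_lit 1,nat_lit 3,nat_lit 2,nat_lit 1,nat_lit 2,nat_lit 0,nat_lit 3,nat_lit 1,nat_lit 3,nat_lit 0,nat_lit 3,nat_lit 1,nat_lit 2,nat_lit 1,nat_lit 2,nat_lit 3,nat_lit 1])
 (.leaf [nat_lit 4,nat_lit 1,nat_lit 3,nat_lit 2,nat_lit 1,nat_lit 2,nat_lit 0,nat_lit 2,nat_lit 0,nat_lit 3,nat_lit 1,nat_lit 2,nat_lit 0,nat_lit 2,nat_lit 1,nat_lit 1,nat_lit 1,nat_lit 3,nat_lit 2,nat_lit 0])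
) (.node (.leaf [nat_lit 4,nat_lit 1,nat_lit 2,nat_lit 0,nat_lit 3,nat_lit 2,nat_lit 0,nat_lit 0,nat_lit 3,nat_lit 0,nat_lit 0,nat_lit 2,nat_lit 1,nat_lit 1,nat_lit 2,nat_lit 1,nat_lit 2,nat_lit 3])
 (.leaf [nat_lit 5,nat_lit 0,nat_lit 0,nat_lit 3,nat_lit 0,nat_lit 3,nat_lit 2,nat_lit 1,nat_lit 3,nat_lit 2,nat_lit 1,nat_lit 3,nat_lit 0,nat_lit 0,nat_lit 2,nat_lit 1,nat_lit 3,nat_lit 0,nat_lit 2,nat_lit 3])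
)) (.node (.node (.leaf [nat_lit 2,nat_lit 3,nat_lit 0,nat_lit 0,nat_lit 3,nat_lit 0,nat_lit 0,nat_lit 3,nat_lit 2,nat_lit 0,nat_lit 0,nat_lit 2,nat_lit 0,nat_lit 0,nat_lit 2,nat_lit 3,nat_lit 0])
 (.leaf [nat_lit 2,nat_lit 3,nat_lit 2,nat_lit 3,nat_lit 0,nat_lit 0,nat_lit 3,nat_lit 0,nat_lit 0,nat_lit 2,nat_lit 0,nat_lit 3,nat_lit 1,nat_lit 1,nat_lit 3,nat_lit 1,nat_lit 1,nat_lit 1,nat_lit 3])
) (.leaf [nat_lit 2,nat_lit 1,nat_lit 1,nat_lit 3,nat_lit 1,nat_lit 2,nat_lit 0,nat_lit 2,nat_lit 3,nat_lit 1,nat_lit 3,nat_lit 2,nat_lit 3,nat_lit 2,nat_lit 0,nat_lit 3,nat_lit 1])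
))) (.node (.node (.node (.node (.leaf [nat_lit 5,nat_lit 1,nat_lit 1,nat_lit 3,nat_lit 0,nat_lit 3,nat_lit 2,nat_lit 3,nat_lit 2,nat_lit 3,nat_lit 1,nat_lit 2,nat_lit 0,nat_lit 2,nat_lit 3,nat_lit 0,nat_lit 2,nat_lit 0,nat_lit 2,nat_lit 0])
 (.leaf [nat_lit 5,nat_lit 0,nat_lit 0,nat_lit 2,nat_lit 3,nat_lit 1,nat_lit 2,nat_lit 1,nat_lit 3,nat_lit 2,nat_lit 1,nat_lit 1,nat_lit 3,nat_lit 0,nat_lit 3,nat_lit 2,nat_lit 3,nat_lit 0,nat_lit 3,nat_lit 2])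
) (.node (.leaf [nat_lit 2,nat_lit 1,nat_lit 1,nat_lit 3,nat_lit 2,nat_lit 3,nat_lit 1,nat_lit 2,nat_lit 1,nat_lit 1,nat_lit 3,nat_lit 0,nat_lit 3,nat_lit 2,nat_lit 0,nat_lit 0,nat_lit 0])
 (.leaf [nat_lit 3,nat_lit 1,nat_lit 2,nat_lit 0,nat_lit 0,nat_lit 2,nat_lit 3,nat_lit 0,nat_lit 0,nat_lit 2,nat_lit 3,nat_lit 2,nat_lit 1,nat_lit 1,nat_lit 3,nat_lit 2,nat_lit 0,nat_lit 0,nat_lit 2])
)) (.node (.node (.leaf [nat_lit 4,nat_lit 0,nat_lit 2,nat_lit 3,nat_lit 2,nat_lit 0,nat_lit 3,nat_lit 1,nat_lit 2,nat_lit 0,nat_lit 2,nat_lit 3,nat_lit 2,nat_lit 1,nat_lit 1,nat_lit 2,nat_lit 1,nat_lit 1])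
 (.leaf [nat_lit 4,nat_lit 2,nat_lit 3,nat_lit 0,nat_lit 3,nat_lit 0,nat_lit 2,nat_lit 1,nat_lit 2,nat_lit 1,nat_lit 3,nat_lit 1,nat_lit 1,nat_lit 1,nat_lit 2,nat_lit 1,nat_lit 1,nat_lit 2])
) (.leaf [nat_lit 1,nat_lit 2,nat_lit 0,nat_lit 2,nat_lit 3,nat_lit 2,nat_lit 1,nat_lit 1,nat_lit 3,nat_lit 2,nat_lit 3,nat_lit 1,nat_lit 3,nat_lit 2,nat_lit 1,nat_lit 3,nat_lit 2,nat_lit 0,nat_lit 0,nat_lit 0])
)) (.node (.node (.node (.leaf [nat_lit 4,nat_lit 2,nat_lit 0,nat_lit 2,nat_lit 1,nat_lit 1,nat_lit 2,nat_lit 1,nat_lit 1,nat_lit 3,nat_lit 2,nat_lit 0,nat_lit 3,nat_lit 1,nat_lit 2,nat_lit 1,nat_lit 3,nat_lit 0,nat_lit 3])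
 (.leaf [nat_lit 1,nat_lit 3,nat_lit 0,nat_lit 2,nat_lit 3,nat_lit 1,nat_lit 3,nat_lit 0,nat_lit 0,nat_lit 2,nat_lit 3,nat_lit 2,nat_lit 0,nat_lit 2,nat_lit 1,nat_lit 1,nat_lit 3])
) (.leaf [nat_lit 4,nat_lit 3,nat_lit 1,nat_lit 2,nat_lit 3,nat_lit 1,nat_lit 3,nat_lit 1,nat_lit 1,nat_lit 3,nat_lit 1,nat_lit 2,nat_lit 1,nat_lit 2,nat_lit 1,nat_lit 3,nat_lit 2,nat_lit 1,nat_lit 3,nat_lit 2])
) (.node (.node (.leaf [nat_lit 4,nat_lit 1,nat_lit 2,nat_lit 3,nat_lit 0,nat_lit 3,nat_lit 1,nat_lit 2,nat_lit 1,nat_lit 2,nat_lit 3,nat_lit 1,nat_lit 2,nat_lit 3,nat_lit 1,nat_lit 2,nat_lit 1,nat_lit 3,nat_lit 1])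
 (.leaf [nat_lit 1,nat_lit 1,nat_lit 1,nat_lit 2,nat_lit 3,nat_lit 1,nat_lit 2,nat_lit 3,nat_lit 2,nat_lit 3,nat_lit 1,nat_lit 3,nat_lit 2,nat_lit 0,nat_lit 0,nat_lit 3,nat_lit 1])
) (.leaf [nat_lit 0,nat_lit 3,nat_lit 0,nat_lit 0,nat_lit 2,nat_lit 1,nat_lit 2,nat_lit 0,nat_lit 0,nat_lit 3,nat_lit 1,nat_lit 1,nat_lit 2,nat_lit 1,nat_lit 2,nat_lit 1,nat_lit 2,nat_lit 0,nat_lit 0])
))))) (.node (.node (.node (.node (.node (.node (.leaf [nat_lit 68])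
 (.leaf [nat_lit 5,nat_lit 3,nat_lit 1,nat_lit 1,nat_lit 2,nat_lit 0,nat_lit 2,nat_lit 3,nat_lit 0,nat_lit 3,nat_lit 0,nat_lit 0,nat_lit 2,nat_lit 1,nat_lit 2,nat_lit 1,nat_lit 1,nat_lit 1,nat_lit 2,nat_lit 1,nat_lit 2,nat_lit 1])
) (.node (.leaf [nat_lit 4,nat_lit 3,nat_lit 0,nat_lit 3,nat_lit 2,nat_lit 0,nat_lit 3,nat_lit 2,nat_lit 3,nat_lit 1,nat_lit 3,nat_lit 0,nat_lit 0,nat_lit 3,nat_lit 0,nat_lit 2,nat_lit 0,nat_lit 2,nat_lit 0,nat_lit 0,nat_lit 3])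
 (.leaf [nat_lit 5,nat_lit 1,nat_lit 2,nat_lit 0,nat_lit 2,nat_lit 0,nat_lit 2,nat_lit 3,nat_lit 2,nat_lit 0,nat_lit 0,nat_lit 3,nat_lit 1,nat_lit 1,nat_lit 3,nat_lit 0,nat_lit 0,nat_lit 0,nat_lit 2,nat_lit 1])
)) (.node (.node (.leaf [nat_lit 4,nat_lit 3,nat_lit 2,nat_lit 1,nat_lit 2,nat_lit 0,nat_lit 3,nat_lit 2,nat_lit 3,nat_lit 0,nat_lit 3,nat_lit 0,nat_lit 2,nat_lit 0,nat_lit 0,nat_lit 3,nat_lit 0,nat_lit 2,nat_lit 0,nat_lit 3])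
 (.leaf [nat_lit 5,nat_lit 0,nat_lit 0,nat_lit 0,nat_lit 3,nat_lit 2,nat_lit 1,nat_lit 3,nat_lit 0,nat_lit 2,nat_lit 1,nat_lit 3,nat_lit 2,nat_lit 3,nat_lit 1,nat_lit 3,nat_lit 1,nat_lit 1,nat_lit 1,nat_lit 3,nat_lit 1])
) (.leaf [nat_lit 4,nat_lit 3,nat_lit 0,nat_lit 0,nat_lit 2,nat_lit 0,nat_lit 2,nat_lit 0,nat_lit 2,nat_lit 1,nat_lit 2,nat_lit 1,nat_lit 1,nat_lit 3,nat_lit 2,nat_lit 1,nat_lit 1,nat_lit 3,nat_lit 0,nat_lit 2,nat_lit 3])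
)) (.node (.node (.node (.leaf [nat_lit 2,nat_lit 3,nat_lit 0,nat_lit 2,nat_lit 1,nat_lit 1,nat_lit 2,nat_lit 1,nat_lit 1,nat_lit 2,nat_lit 1,nat_lit 3,nat_lit 0,nat_lit 0,nat_lit 2,nat_lit 0,nat_lit 2,nat_lit 1,nat_lit 3])
 (.leaf [nat_lit 4,nat_lit 3,nat_lit 2,nat_lit 0,nat_lit 0,nat_lit 3,nat_lit 1,nat_lit 2,nat_lit 0,nat_lit 0,nat_lit 2,nat_lit 3,nat_lit 0,nat_lit 0,nat_lit 3,nat_lit 1,nat_lit 2,nat_lit 3,nat_lit 0])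
) (.node (.leaf [nat_lit 4,nat_lit 3,nat_lit 2,nat_lit 1,nat_lit 3,nat_lit 2,nat_lit 0,nat_lit 2,nat_lit 3,nat_lit 1,nat_lit 2,nat_lit 1,nat_lit 1,nat_lit 3,nat_lit 1,nat_lit 2,nat_lit 0,nat_lit 3,nat_lit 0,nat_lit 0])
 (.leaf [nat_lit 2,nat_lit 0,nat_lit 2,nat_lit 3,nat_lit 2,nat_lit 0,nat_lit 0,nat_lit 3,nat_lit 1,nat_lit 1,nat_lit 2,nat_lit 0,nat_lit 2,nat_lit 3,nat_lit 2,nat_lit 1,nat_lit 3,nat_lit 2,nat_lit 0,nat_lit 3])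
)) (.node (.node (.leaf [nat_lit 4,nat_lit 0,nat_lit 2,nat_lit 3,nat_lit 2,nat_lit 3,nat_lit 0,nat_lit 2,nat_lit 3,nat_lit 1,nat_lit 1,nat_lit 2,nat_lit 3,nat_lit 2,nat_lit 3,nat_lit 1,nat_lit 1,nat_lit 2])
 (.leaf [nat_lit 3,nat_lit 0,nat_lit 2,nat_lit 0,nat_lit 3,nat_lit 1,nat_lit 3,nat_lit 2,nat_lit 3,nat_lit 0,nat_lit 3,nat_lit 1,nat_lit 2,nat_lit 3,nat_lit 1,nat_lit 1,nat_lit 1,nat_lit 2])
) (.leaf [nat_lit 2,nat_lit 3,nat_lit 2,nat_lit 1,nat_lit 3,nat_lit 1,nat_lit 2,nat_lit 1,nat_lit 3,nat_lit 1,nat_lit 2,nat_lit 3,nat_lit 0,nat_lit 0,nat_lit 0,nat_lit 3,nat_lit 0,nat_lit 2])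
))) (.node (.node (.node (.node (.leaf [nat_lit 0,nat_lit 0,nat_lit 2,nat_lit 3,nat_lit 0,nat_lit 0,nat_lit 0,nat_lit 3,nat_lit 1,nat_lit 3,nat_lit 0,nat_lit 2,nat_lit 0,nat_lit 3,nat_lit 0,nat_lit 0,nat_lit 0])
 (.leaf [nat_lit 5,nat_lit 0,nat_lit 3,nat_lit 0,nat_lit 3,nat_lit 2,nat_lit 1,nat_lit 3,nat_lit 1,nat_lit 3,nat_lit 2,nat_lit 1,nat_lit 3,nat_lit 2,nat_lit 0,nat_lit 3,nat_lit 1,nat_lit 2,nat_lit 3,nat_lit 1])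
) (.node (.leaf [nat_lit 1,nat_lit 1,nat_lit 3,nat_lit 2,nat_lit 3,nat_lit 1,nat_lit 3,nat_lit 2,nat_lit 3,nat_lit 2,nat_lit 3,nat_lit 1,nat_lit 3,nat_lit 0,nat_lit 0,nat_lit 0,nat_lit 3,nat_lit 0])
 (.leaf [nat_lit 5,nat_lit 3,nat_lit 1,nat_lit 3,nat_lit 2,nat_lit 3,nat_lit 1,nat_lit 1,nat_lit 1,nat_lit 2,nat_lit 1,nat_lit 3,nat_lit 0,nat_lit 0,nat_lit 3,nat_lit 0,nat_lit 0,nat_lit 3,nat_lit 1,nat_lit 3,nat_lit 0])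
)) (.node (.node (.leaf [nat_lit 4,nat_lit 2,nat_lit 1,nat_lit 1,nat_lit 2,nat_lit 1,nat_lit 1,nat_lit 2,nat_lit 1,nat_lit 2,nat_lit 1,nat_lit 1,nat_lit 2,nat_lit 1,nat_lit 1,nat_lit 2])
 (.leaf [nat_lit 5,nat_lit 1,nat_lit 3,nat_lit 2,nat_lit 0,nat_lit 3,nat_lit 0,nat_lit 3,nat_lit 1,nat_lit 2,nat_lit 0,nat_lit 0,nat_lit 2,nat_lit 3,nat_lit 0,nat_lit 0,nat_lit 0,nat_lit 2,nat_lit 1])
) (.leaf [nat_lit 0,nat_lit 3,nat_lit 1,nat_lit 1,nat_lit 3,nat_lit 1,nat_lit 3,nat_lit 1,nat_lit 1,nat_lit 2,nat_lit 1,nat_lit 2,nat_lit 3,nat_lit 2,nat_lit 0,nat_lit 2,nat_lit 1,nat_lit 3])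
)) (.node (.node (.node (.leaf [nat_lit 0,nat_lit 3,nat_lit 0,nat_lit 2,nat_lit 1,nat_lit 2,nat_lit 1,nat_lit 3,nat_lit 2,nat_lit 3,nat_lit 2,nat_lit 1,nat_lit 2,nat_lit 1,nat_lit 2,nat_lit 0,nat_lit 2,nat_lit 0,nat_lit 3,nat_lit 2])
 (.leaf [nat_lit 0,nat_lit 3,nat_lit 0,nat_lit 2,nat_lit 0,nat_lit 3,nat_lit 0,nat_lit 2,nat_lit 0,nat_lit 2,nat_lit 3,nat_lit 1,nat_lit 2,nat_lit 3,nat_lit 2,nat_lit 3,nat_lit 2,nat_lit 3,nat_lit 1])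
) (.node (.leaf [nat_lit 3,nat_lit 2,nat_lit 1,nat_lit 1,nat_lit 1,nat_lit 3,nat_lit 0,nat_lit 0,nat_lit 0,nat_lit 3,nat_lit 1,nat_lit 1,nat_lit 3,nat_lit 0,nat_lit 2,nat_lit 0,nat_lit 0,nat_lit 2,nat_lit 3,nat_lit 0])
 (.leaf [nat_lit 4,nat_lit 0,nat_lit 0,nat_lit 0,nat_lit 2,nat_lit 3,nat_lit 2,nat_lit 1,nat_lit 1,nat_lit 2,nat_lit 3,nat_lit 2,nat_lit 1,nat_lit 1,nat_lit 2,nat_lit 1,nat_lit 1,nat_lit 2,nat_lit 1])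
)) (.node (.node (.leaf [nat_lit 1,nat_lit 2,nat_lit 1,nat_lit 3,nat_lit 0,nat_lit 3,nat_lit 1,nat_lit 1,nat_lit 3,nat_lit 2,nat_lit 0,nat_lit 2,nat_lit 3,nat_lit 0,nat_lit 2,nat_lit 0,nat_lit 0,nat_lit 0,nat_lit 3])
 (.leaf [nat_lit 4,nat_lit 1,nat_lit 1,nat_lit 1,nat_lit 2,nat_lit 1,nat_lit 3,nat_lit 0,nat_lit 2,nat_lit 3,nat_lit 2,nat_lit 1,nat_lit 3,nat_lit 1,nat_lit 3,nat_lit 0,nat_lit 0,nat_lit 3,nat_lit 1,nat_lit 3,nat_lit 1])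
) (.leaf [nat_lit 3,nat_lit 1,nat_lit 3,nat_lit 2,nat_lit 1,nat_lit 2,nat_lit 1,nat_lit 1,nat_lit 2,nat_lit 1,nat_lit 2,nat_lit 0,nat_lit 3,nat_lit 0,nat_lit 0,nat_lit 3,nat_lit 1,nat_lit 3,nat_lit 2])
)))) (.node (.node (.node (.node (.node (.leaf [nat_lit 4,nat_lit 0,nat_lit 2,nat_lit 1,nat_lit 2,nat_lit 3,nat_lit 2,nat_lit 0,nat_lit 0,nat_lit 3,nat_lit 1,nat_lit 2,nat_lit 0,nat_lit 0,nat_lit 3,nat_lit 0,nat_lit 0,nat_lit 2,nat_lit 1,nat_lit 2])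
 (.leaf [nat_lit 27])
) (.node (.leaf [nat_lit 3,nat_lit 1,nat_lit 2,nat_lit 0,nat_lit 2,nat_lit 3,nat_lit 1,nat_lit 2,nat_lit 3,nat_lit 0,nat_lit 0,nat_lit 0,nat_lit 3,nat_lit 2,nat_lit 1,nat_lit 2,nat_lit 1,nat_lit 2,nat_lit 3])
 (.leaf [nat_lit 2,nat_lit 0,nat_lit 2,nat_lit 1,nat_lit 1,nat_lit 2,nat_lit 3,nat_lit 1,nat_lit 3,nat_lit 2,nat_lit 0,nat_lit 0,nat_lit 2,nat_lit 3,nat_lit 2,nat_lit 0,nat_lit 3])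
)) (.node (.node (.leaf [nat_lit 4,nat_lit 3,nat_lit 0,nat_lit 3,nat_lit 1,nat_lit 1,nat_lit 3,nat_lit 2,nat_lit 1,nat_lit 2,nat_lit 0,nat_lit 3,nat_lit 0,nat_lit 2,nat_lit 0,nat_lit 0,nat_lit 3,nat_lit 0,nat_lit 2])
 (.leaf [nat_lit 4,nat_lit 1,nat_lit 1,nat_lit 2,nat_lit 0,nat_lit 2,nat_lit 3,nat_lit 0,nat_lit 2,nat_lit 0,nat_lit 0,nat_lit 0,nat_lit 3,nat_lit 0,nat_lit 3,nat_lit 1,nat_lit 3,nat_lit 1,nat_lit 3,nat_lit 0,nat_lit 0])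
) (.leaf [nat_lit 5,nat_lit 0,nat_lit 3,nat_lit 0,nat_lit 0,nat_lit 0,nat_lit 3,nat_lit 2,nat_lit 3,nat_lit 1,nat_lit 3,nat_lit 0,nat_lit 0,nat_lit 3,nat_lit 2,nat_lit 0,nat_lit 2,nat_lit 1,nat_lit 3])
)) (.node (.node (.node (.leaf [nat_lit 4,nat_lit 0,nat_lit 0,nat_lit 3,nat_lit 2,nat_lit 3,nat_lit 1,nat_lit 2,nat_lit 1,nat_lit 2,nat_lit 1,nat_lit 2,nat_lit 0,nat_lit 2,nat_lit 1,nat_lit 2,nat_lit 1,nat_lit 3,nat_lit 1,nat_lit 1])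
 (.leaf [nat_lit 1,nat_lit 3,nat_lit 1,nat_lit 2,nat_lit 1,nat_lit 1,nat_lit 3,nat_lit 1,nat_lit 2,nat_lit 0,nat_lit 2,nat_lit 3,nat_lit 2,nat_lit 1,nat_lit 1,nat_lit 2,nat_lit 1,nat_lit 2,nat_lit 1])
) (.node (.leaf [nat_lit 2,nat_lit 1,nat_lit 1,nat_lit 2,nat_lit 1,nat_lit 1,nat_lit 2,nat_lit 1,nat_lit 3,nat_lit 2,nat_lit 3,nat_lit 2,nat_lit 0,nat_lit 2,nat_lit 1,nat_lit 3,nat_lit 0,nat_lit 2,nat_lit 3])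
 (.leaf [nat_lit 1,nat_lit 2,nat_lit 1,nat_lit 3,nat_lit 2,nat_lit 3,nat_lit 1,nat_lit 1,nat_lit 3,nat_lit 2,nat_lit 0,nat_lit 3,nat_lit 0,nat_lit 0,nat_lit 3,nat_lit 2,nat_lit 0])
)) (.node (.node (.leaf [nat_lit 1,nat_lit 2,nat_lit 1,nat_lit 3,nat_lit 2,nat_lit 0,nat_lit 3,nat_lit 2,nat_lit 1,nat_lit 1,nat_lit 3,nat_lit 0,nat_lit 3,nat_lit 1,nat_lit 1,nat_lit 2,nat_lit 1,nat_lit 1,nat_lit 2,nat_lit 3,nat_lit 0])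
 (.leaf [nat_lit 4,nat_lit 2,nat_lit 1,nat_lit 3,nat_lit 1,nat_lit 1,nat_lit 2,nat_lit 0,nat_lit 2,nat_lit 3,nat_lit 2,nat_lit 3,nat_lit 1,nat_lit 1,nat_lit 1,nat_lit 3,nat_lit 2,nat_lit 1,nat_lit 1])
) (.leaf [nat_lit 0,nat_lit 3,nat_lit 2,nat_lit 0,nat_lit 3,nat_lit 0,nat_lit 0,nat_lit 2,nat_lit 0,nat_lit 0,nat_lit 2,nat_lit 1,nat_lit 1,nat_lit 2,nat_lit 3,nat_lit 1,nat_lit 2])
))) (.node (.node (.node (.node (.leaf [nat_lit 5,nat_lit 2,nat_lit 0,nat_lit 2,nat_lit 1,nat_lit 3,nat_lit 0,nat_lit 3,nat_lit 1,nat_lit 3,nat_lit 0,nat_lit 0,nat_lit 0,nat_lit 2,nat_lit 3,nat_lit 0,nat_lit 0,nat_lit 2,nat_lit 1,nat_lit 1,nat_lit 1])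
 (.leaf [nat_lit 5,nat_lit 0,nat_lit 0,nat_lit 3,nat_lit 1,nat_lit 3,nat_lit 1,nat_lit 2,nat_lit 1,nat_lit 3,nat_lit 1,nat_lit 3,nat_lit 2,nat_lit 1,nat_lit 3,nat_lit 2,nat_lit 3,nat_lit 0,nat_lit 2,nat_lit 0])
) (.node (.leaf [nat_lit 5,nat_lit 2,nat_lit 3,nat_lit 0,nat_lit 2,nat_lit 0,nat_lit 3,nat_lit 0,nat_lit 3,nat_lit 0,nat_lit 0,nat_lit 3,nat_lit 2,nat_lit 0,nat_lit 2,nat_lit 0,nat_lit 0,nat_lit 0])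
 (.leaf [nat_lit 5,nat_lit 1,nat_lit 2,nat_lit 3,nat_lit 1,nat_lit 1,nat_lit 3,nat_lit 2,nat_lit 3,nat_lit 0,nat_lit 2,nat_lit 3,nat_lit 2,nat_lit 1,nat_lit 3,nat_lit 2,nat_lit 1,nat_lit 3,nat_lit 1,nat_lit 2,nat_lit 0])
)) (.node (.node (.leaf [nat_lit 5,nat_lit 3,nat_lit 0,nat_lit 3,nat_lit 1,nat_lit 2,nat_lit 1,nat_lit 3,nat_lit 2,nat_lit 3,nat_lit 0,nat_lit 2,nat_lit 3,nat_lit 2,nat_lit 0,nat_lit 2,nat_lit 3,nat_lit 2,nat_lit 1])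
 (.leaf [nat_lit 4,nat_lit 3,nat_lit 2,nat_lit 3,nat_lit 2,nat_lit 3,nat_lit 1,nat_lit 3,nat_lit 2,nat_lit 1,nat_lit 2,nat_lit 3,nat_lit 2,nat_lit 3,nat_lit 1,nat_lit 1,nat_lit 3,nat_lit 2,nat_lit 3])
) (.leaf [nat_lit 4,nat_lit 3,nat_lit 1,nat_lit 3,nat_lit 2,nat_lit 1,nat_lit 1,nat_lit 2,nat_lit 0,nat_lit 0,nat_lit 2,nat_lit 3,nat_lit 2,nat_lit 1,nat_lit 3,nat_lit 1,nat_lit 1,nat_lit 3,nat_lit 1,nat_lit 3,nat_lit 0])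
)) (.node (.node (.node (.leaf [nat_lit 1,nat_lit 1,nat_lit 3,nat_lit 2,nat_lit 0,nat_lit 2,nat_lit 1,nat_lit 1,nat_lit 3,nat_lit 1,nat_lit 2,nat_lit 3,nat_lit 0,nat_lit 3,nat_lit 2,nat_lit 3,nat_lit 0,nat_lit 3])
 (.leaf [nat_lit 5,nat_lit 2,nat_lit 0,nat_lit 2,nat_lit 3,nat_lit 1,nat_lit 3,nat_lit 0,nat_lit 3,nat_lit 1,nat_lit 2,nat_lit 1,nat_lit 1,nat_lit 3,nat_lit 1,nat_lit 2,nat_lit 1,nat_lit 3,nat_lit 0,nat_lit 2])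
) (.leaf [nat_lit 3,nat_lit 1,nat_lit 3,nat_lit 2,nat_lit 0,nat_lit 3,nat_lit 1,nat_lit 3,nat_lit 2,nat_lit 0,nat_lit 2,nat_lit 0,nat_lit 3,nat_lit 0,nat_lit 2,nat_lit 3,nat_lit 1,nat_lit 2,nat_lit 3])
) (.node (.node (.leaf [nat_lit 5,nat_lit 2,nat_lit 1,nat_lit 3,nat_lit 1,nat_lit 2,nat_lit 3,nat_lit 1,nat_lit 1,nat_lit 2,nat_lit 0,nat_lit 2,nat_lit 3,nat_lit 1,nat_lit 3,nat_lit 2,nat_lit 0,nat_lit 0,nat_lit 3,nat_lit 1])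
 (.leaf [nat_lit 4,nat_lit 1,nat_lit 1,nat_lit 3,nat_lit 0,nat_lit 2,nat_lit 0,nat_lit 0,nat_lit 3,nat_lit 1,nat_lit 2,nat_lit 3,nat_lit 0,nat_lit 0,nat_lit 0,nat_lit 3,nat_lit 1,nat_lit 2,nat_lit 1,nat_lit 2])
) (.leaf [nat_lit 4,nat_lit 0,nat_lit 0,nat_lit 2,nat_lit 0,nat_lit 3,nat_lit 2,nat_lit 0,nat_lit 2,nat_lit 1,nat_lit 3,nat_lit 2,nat_lit 0,nat_lit 3,nat_lit 1,nat_lit 1,nat_lit 2,nat_lit 1,nat_lit 3,nat_lit 0])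
))))))
noncomputable def Fc : LT :=
(.node (.node (.node Fc0 Fc4) (.node Fc2 Fc6)) (.node (.node Fc1 Fc5) (.node Fc3 Fc7)))

noncomputable def Fm0 : LT :=
(.node (.node (.node (.node (.node (.node (.node (.node (.leaf [])
 (.leaf [])
) (.node (.leaf [nat_lit 187,nat_lit 148,nat_lit 147,nat_lit 246,nat_lit 186,nat_lit 148,nat_lit 187,nat_lit 148,nat_lit 187,nat_lit 172])
 (.leaf [nat_lit 150])
)) (.node (.node (.leaf [])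
 (.leaf [nat_lit 94])
) (.leaf [nat_lit 534,nat_lit 534,nat_lit 613,nat_lit 536,nat_lit 612,nat_lit 536,nat_lit 766])
)) (.node (.node (.node (.leaf [])
 (.leaf [nat_lit 66])
) (.node (.leaf [])
 (.leaf [nat_lit 1022])
)) (.node (.node (.leaf [])
 (.leaf [nat_lit 782])
) (.leaf [nat_lit 536,nat_lit 612,nat_lit 536,nat_lit 612,nat_lit 535,nat_lit 660,nat_lit 74,nat_lit 71,nat_lit 93,nat_lit 70,nat_lit 674])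
))) (.node (.node (.node (.node (.leaf [nat_lit 62])
 (.leaf [nat_lit 8])
) (.node (.leaf [])
 (.leaf [nat_lit 846])
)) (.node (.node (.leaf [nat_lit 187,nat_lit 149,nat_lit 186,nat_lit 148,nat_lit 187,nat_lit 149,nat_lit 166,nat_lit 102,nat_lit 107,nat_lit 133,nat_lit 123,nat_lit 123,nat_lit 162])
 (.leaf [nat_lit 704])
) (.leaf [])
)) (.node (.node (.node (.leaf [nat_lit 147,nat_lit 187,nat_lit 148,nat_lit 187,nat_lit 148,nat_lit 190])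
 (.leaf [nat_lit 398])
) (.node (.leaf [nat_lit 148,nat_lit 187,nat_lit 148,nat_lit 187,nat_lit 146,nat_lit 146,nat_lit 334,nat_lit 92,nat_lit 72,nat_lit 71,nat_lit 71,nat_lit 644])
 (.leaf [nat_lit 566])
)) (.node (.node (.leaf [nat_lit 75,nat_lit 71,nat_lit 75,nat_lit 73,nat_lit 71,nat_lit 412,nat_lit 149,nat_lit 187,nat_lit 148,nat_lit 147,nat_lit 147,nat_lit 236])
 (.leaf [nat_lit 308])
) (.leaf [nat_lit 93,nat_lit 71,nat_lit 958])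
)))) (.node (.node (.node (.node (.node (.leaf [nat_lit 26,nat_lit 16,nat_lit 24])
 (.leaf [nat_lit 534,nat_lit 536,nat_lit 613,nat_lit 537,nat_lit 613,nat_lit 536,nat_lit 612,nat_lit 1054])
) (.node (.leaf [nat_lit 123,nat_lit 112,nat_lit 15,nat_lit 20,nat_lit 16,nat_lit 20,nat_lit 530])
 (.leaf [nat_lit 660])
)) (.node (.node (.leaf [nat_lit 149,nat_lit 186,nat_lit 286])
 (.leaf [nat_lit 134])
) (.leaf [nat_lit 148,nat_lit 187,nat_lit 147,nat_lit 147,nat_lit 504,nat_lit 149,nat_lit 187,nat_lit 147,nat_lit 147,nat_lit 752])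
)) (.node (.node (.node (.leaf [nat_lit 146,nat_lit 146,nat_lit 158])
 (.leaf [nat_lit 464])
) (.node (.leaf [nat_lit 534,nat_lit 534,nat_lit 613,nat_lit 537,nat_lit 670])
 (.leaf [nat_lit 1058])
)) (.node (.node (.leaf [nat_lit 148,nat_lit 187,nat_lit 148,nat_lit 186,nat_lit 149,nat_lit 414])
 (.leaf [nat_lit 278])
) (.leaf [])
))) (.node (.node (.node (.node (.leaf [nat_lit 93,nat_lit 70,nat_lit 72,nat_lit 94,nat_lit 70,nat_lit 92,nat_lit 73,nat_lit 71,nat_lit 94])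
 (.leaf [nat_lit 620])
) (.node (.leaf [])
 (.leaf [nat_lit 882])
)) (.node (.node (.leaf [nat_lit 51,nat_lit 65,nat_lit 51,nat_lit 64,nat_lit 51,nat_lit 53,nat_lit 65,nat_lit 51,nat_lit 346,nat_lit 187,nat_lit 148,nat_lit 186,nat_lit 149,nat_lit 187,nat_lit 149,nat_lit 308])
 (.leaf [nat_lit 440])
) (.leaf [nat_lit 534,nat_lit 612,nat_lit 537,nat_lit 862])
)) (.node (.node (.node (.leaf [nat_lit 82,nat_lit 20,nat_lit 16,nat_lit 19,nat_lit 14,nat_lit 13,nat_lit 142])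
 (.leaf [nat_lit 460])
) (.node (.leaf [])
 (.leaf [nat_lit 578])
)) (.node (.node (.leaf [])
 (.leaf [nat_lit 222])
) (.leaf [nat_lit 612,nat_lit 537,nat_lit 535,nat_lit 535,nat_lit 792,nat_lit 149,nat_lit 186,nat_lit 148,nat_lit 187,nat_lit 149,nat_lit 187,nat_lit 314])
))))) (.node (.node (.node (.node (.node (.node (.leaf [nat_lit 10,nat_lit 0,nat_lit 4,nat_lit 1,nat_lit 1,nat_lit 1,nat_lit 4,nat_lit 1,nat_lit 1,nat_lit 6,nat_lit 5,nat_lit 0,nat_lit 5,nat_lit 0,nat_lit 7,nat_lit 5,nat_lit 0,nat_lit 5,nat_lit 8])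
 (.leaf [nat_lit 537,nat_lit 613,nat_lit 537,nat_lit 613,nat_lit 536,nat_lit 612,nat_lit 536,nat_lit 954,nat_lit 537,nat_lit 613,nat_lit 537,nat_lit 534,nat_lit 534,nat_lit 956])
) (.node (.leaf [nat_lit 74,nat_lit 71,nat_lit 92,nat_lit 71,nat_lit 92,nat_lit 526])
 (.leaf [nat_lit 580])
)) (.node (.node (.leaf [nat_lit 149,nat_lit 194,nat_lit 186,nat_lit 149,nat_lit 186,nat_lit 148,nat_lit 186,nat_lit 264])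
 (.leaf [nat_lit 692])
) (.leaf [])
)) (.node (.node (.node (.leaf [])
 (.leaf [nat_lit 1014])
) (.node (.leaf [nat_lit 70,nat_lit 72,nat_lit 70,nat_lit 500,nat_lit 187,nat_lit 148,nat_lit 187,nat_lit 550])
 (.leaf [nat_lit 726])
)) (.node (.node (.leaf [nat_lit 70,nat_lit 318,nat_lit 186,nat_lit 149,nat_lit 186,nat_lit 146,nat_lit 222])
 (.leaf [nat_lit 272])
) (.leaf [nat_lit 535,nat_lit 536,nat_lit 613,nat_lit 910])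
))) (.node (.node (.node (.node (.leaf [])
 (.leaf [nat_lit 234])
) (.node (.leaf [nat_lit 535,nat_lit 535,nat_lit 578,nat_lit 186,nat_lit 148,nat_lit 187,nat_lit 148,nat_lit 187,nat_lit 149,nat_lit 147,nat_lit 252])
 (.leaf [nat_lit 956])
)) (.node (.node (.leaf [])
 (.leaf [nat_lit 502])
) (.leaf [nat_lit 187,nat_lit 148,nat_lit 187,nat_lit 148,nat_lit 186,nat_lit 192,nat_lit 73,nat_lit 71,nat_lit 92,nat_lit 71,nat_lit 71,nat_lit 662])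
)) (.node (.node (.node (.leaf [])
 (.leaf [nat_lit 674])
) (.node (.leaf [nat_lit 534,nat_lit 534,nat_lit 536,nat_lit 613,nat_lit 718])
 (.leaf [nat_lit 542])
)) (.node (.node (.leaf [nat_lit 70,nat_lit 92,nat_lit 71,nat_lit 72,nat_lit 462])
 (.leaf [nat_lit 504])
) (.leaf [])
)))) (.node (.node (.node (.node (.node (.leaf [])
 (.leaf [])
) (.node (.leaf [nat_lit 534,nat_lit 534,nat_lit 558])
 (.leaf [nat_lit 750])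
)) (.node (.node (.leaf [])
 (.leaf [nat_lit 112])
) (.leaf [nat_lit 535,nat_lit 536,nat_lit 613,nat_lit 537,nat_lit 613,nat_lit 537,nat_lit 612,nat_lit 814])
)) (.node (.node (.node (.leaf [])
 (.leaf [nat_lit 318])
) (.node (.leaf [])
 (.leaf [nat_lit 1066])
)) (.node (.node (.leaf [])
 (.leaf [nat_lit 282])
) (.leaf [nat_lit 612,nat_lit 534,nat_lit 534,nat_lit 864,nat_lit 186,nat_lit 149,nat_lit 147,nat_lit 824])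
))) (.node (.node (.node (.node (.leaf [nat_lit 102,nat_lit 106,nat_lit 103,nat_lit 110])
 (.leaf [nat_lit 458])
) (.node (.leaf [nat_lit 536,nat_lit 612,nat_lit 536,nat_lit 613,nat_lit 537,nat_lit 613,nat_lit 537,nat_lit 622])
 (.leaf [nat_lit 948])
)) (.node (.node (.leaf [nat_lit 74,nat_lit 92,nat_lit 366])
 (.leaf [nat_lit 758])
) (.leaf [])
)) (.node (.node (.node (.leaf [nat_lit 103,nat_lit 132,nat_lit 105,nat_lit 132,nat_lit 123,nat_lit 238])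
 (.leaf [nat_lit 538])
) (.leaf [nat_lit 186,nat_lit 148,nat_lit 187,nat_lit 147,nat_lit 272,nat_lit 187,nat_lit 149,nat_lit 146,nat_lit 146,nat_lit 722])
) (.node (.node (.leaf [nat_lit 149,nat_lit 187,nat_lit 146,nat_lit 260,nat_lit 149,nat_lit 187,nat_lit 148,nat_lit 186,nat_lit 148,nat_lit 386])
 (.leaf [nat_lit 172])
) (.leaf [nat_lit 75,nat_lit 92,nat_lit 71,nat_lit 73,nat_lit 1006])
)))))) (.node (.node (.node (.node (.node (.node (.node (.leaf [])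
 (.leaf [nat_lit 535,nat_lit 535,nat_lit 613,nat_lit 537,nat_lit 613,nat_lit 537,nat_lit 1030])
) (.node (.leaf [])
 (.leaf [nat_lit 174])
)) (.node (.node (.leaf [nat_lit 147,nat_lit 187,nat_lit 262])
 (.leaf [nat_lit 88])
) (.leaf [nat_lit 187,nat_lit 149,nat_lit 186,nat_lit 148,nat_lit 187,nat_lit 149,nat_lit 146,nat_lit 272,nat_lit 149,nat_lit 187,nat_lit 148,nat_lit 187,nat_lit 147,nat_lit 147,nat_lit 758])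
)) (.node (.node (.node (.leaf [nat_lit 133,nat_lit 112,nat_lit 17,nat_lit 19,nat_lit 46])
 (.leaf [nat_lit 528])
) (.node (.leaf [nat_lit 536,nat_lit 613,nat_lit 537,nat_lit 612,nat_lit 536,nat_lit 646])
 (.leaf [nat_lit 1034])
)) (.node (.node (.leaf [nat_lit 70,nat_lit 73,nat_lit 75,nat_lit 390])
 (.leaf [nat_lit 266])
) (.leaf [])
))) (.node (.node (.node (.node (.leaf [nat_lit 68,nat_lit 52,nat_lit 66])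
 (.leaf [nat_lit 46])
) (.node (.leaf [nat_lit 71,nat_lit 75,nat_lit 92,nat_lit 582])
 (.leaf [nat_lit 786])
)) (.node (.node (.leaf [])
 (.leaf [nat_lit 194])
) (.leaf [nat_lit 534,nat_lit 612,nat_lit 536,nat_lit 613,nat_lit 537,nat_lit 613,nat_lit 537,nat_lit 838])
)) (.node (.node (.node (.leaf [nat_lit 55,nat_lit 51,nat_lit 52,nat_lit 51,nat_lit 140,nat_lit 102,nat_lit 132,nat_lit 106,nat_lit 132,nat_lit 105,nat_lit 103,nat_lit 162])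
 (.leaf [nat_lit 436])
) (.node (.leaf [])
 (.leaf [nat_lit 592])
)) (.node (.node (.leaf [])
 (.leaf [nat_lit 568])
) (.leaf [nat_lit 613,nat_lit 536,nat_lit 612,nat_lit 536,nat_lit 554,nat_lit 148,nat_lit 187,nat_lit 148,nat_lit 824])
)))) (.node (.node (.node (.node (.node (.leaf [])
 (.leaf [])
) (.node (.leaf [])
 (.leaf [nat_lit 926])
)) (.node (.node (.leaf [nat_lit 148,nat_lit 187,nat_lit 146,nat_lit 146,nat_lit 194,nat_lit 186,nat_lit 148,nat_lit 187,nat_lit 148,nat_lit 187,nat_lit 222])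
 (.leaf [nat_lit 216])
) (.leaf [])
)) (.node (.node (.node (.leaf [nat_lit 148,nat_lit 166,nat_lit 122,nat_lit 102,nat_lit 133,nat_lit 122,nat_lit 162])
 (.leaf [nat_lit 650])
) (.node (.leaf [nat_lit 93,nat_lit 71,nat_lit 71,nat_lit 356,nat_lit 51,nat_lit 65,nat_lit 50,nat_lit 64,nat_lit 51,nat_lit 53,nat_lit 64,nat_lit 620])
 (.leaf [nat_lit 828])
)) (.node (.node (.leaf [nat_lit 72,nat_lit 70,nat_lit 93,nat_lit 406,nat_lit 149,nat_lit 187,nat_lit 148,nat_lit 186,nat_lit 147,nat_lit 180])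
 (.leaf [nat_lit 556])
) (.leaf [nat_lit 535,nat_lit 536,nat_lit 612,nat_lit 536,nat_lit 934])
))) (.node (.node (.node (.node (.leaf [nat_lit 100,nat_lit 72,nat_lit 98])
 (.leaf [nat_lit 352])
) (.node (.leaf [])
 (.leaf [nat_lit 804])
)) (.node (.node (.leaf [])
 (.leaf [nat_lit 270])
) (.leaf [nat_lit 186,nat_lit 149,nat_lit 186,nat_lit 148,nat_lit 187,nat_lit 148,nat_lit 147,nat_lit 258,nat_lit 148,nat_lit 186,nat_lit 149,nat_lit 187,nat_lit 148,nat_lit 186,nat_lit 740])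
)) (.node (.node (.node (.leaf [])
 (.leaf [nat_lit 362])
) (.leaf [nat_lit 534,nat_lit 534,nat_lit 613,nat_lit 537,nat_lit 613,nat_lit 536,nat_lit 612,nat_lit 742])
) (.node (.node (.leaf [nat_lit 107,nat_lit 122,nat_lit 133,nat_lit 122,nat_lit 486])
 (.leaf [nat_lit 884])
) (.leaf [])
))))) (.node (.node (.node (.node (.node (.node (.leaf [])
 (.leaf [])
) (.node (.leaf [nat_lit 532,nat_lit 12,nat_lit 20,nat_lit 17,nat_lit 13,nat_lit 18,nat_lit 20,nat_lit 17,nat_lit 12,nat_lit 18,nat_lit 530])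
 (.leaf [nat_lit 756])
)) (.node (.node (.leaf [])
 (.leaf [nat_lit 590])
) (.leaf [nat_lit 534,nat_lit 534,nat_lit 536,nat_lit 612,nat_lit 790])
)) (.node (.node (.node (.leaf [])
 (.leaf [nat_lit 960])
) (.node (.leaf [])
 (.leaf [nat_lit 732])
)) (.node (.node (.leaf [])
 (.leaf [nat_lit 516])
) (.leaf [nat_lit 612,nat_lit 536,nat_lit 613,nat_lit 537,nat_lit 612,nat_lit 536,nat_lit 554,nat_lit 186,nat_lit 148,nat_lit 187,nat_lit 149,nat_lit 147,nat_lit 884])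
))) (.node (.node (.node (.node (.leaf [nat_lit 74,nat_lit 86])
 (.leaf [nat_lit 22])
) (.node (.leaf [])
 (.leaf [nat_lit 840])
)) (.node (.node (.leaf [nat_lit 103,nat_lit 132,nat_lit 103,nat_lit 342])
 (.leaf [nat_lit 246])
) (.leaf [])
)) (.node (.node (.node (.leaf [nat_lit 105,nat_lit 122,nat_lit 214])
 (.leaf [nat_lit 330])
) (.node (.leaf [nat_lit 148,nat_lit 187,nat_lit 148,nat_lit 186,nat_lit 149,nat_lit 147,nat_lit 166,nat_lit 107,nat_lit 123,nat_lit 132,nat_lit 103,nat_lit 590])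
 (.leaf [nat_lit 560])
)) (.node (.node (.leaf [nat_lit 73,nat_lit 71,nat_lit 92,nat_lit 70,nat_lit 418,nat_lit 187,nat_lit 149,nat_lit 147,nat_lit 147,nat_lit 350])
 (.leaf [nat_lit 854])
) (.leaf [nat_lit 535,nat_lit 535,nat_lit 612,nat_lit 982])
)))) (.node (.node (.node (.node (.node (.leaf [nat_lit 48,nat_lit 18,nat_lit 22])
 (.leaf [])
) (.node (.leaf [nat_lit 149,nat_lit 187,nat_lit 149,nat_lit 186,nat_lit 148,nat_lit 187,nat_lit 149,nat_lit 272,nat_lit 148,nat_lit 186,nat_lit 149,nat_lit 186,nat_lit 146,nat_lit 556])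
 (.leaf [nat_lit 900])
)) (.node (.node (.leaf [nat_lit 70,nat_lit 72,nat_lit 74,nat_lit 70,nat_lit 75,nat_lit 310])
 (.leaf [nat_lit 236])
) (.leaf [nat_lit 148,nat_lit 186,nat_lit 149,nat_lit 187,nat_lit 149,nat_lit 290,nat_lit 187,nat_lit 148,nat_lit 187,nat_lit 818])
)) (.node (.node (.node (.leaf [nat_lit 182,nat_lit 148,nat_lit 180])
 (.leaf [nat_lit 662])
) (.node (.leaf [nat_lit 612,nat_lit 536,nat_lit 613,nat_lit 537,nat_lit 613,nat_lit 537,nat_lit 694])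
 (.leaf [nat_lit 822])
)) (.node (.node (.leaf [nat_lit 149,nat_lit 187,nat_lit 438])
 (.leaf [nat_lit 296])
) (.leaf [])
))) (.node (.node (.node (.node (.leaf [nat_lit 118,nat_lit 98])
 (.leaf [nat_lit 370])
) (.node (.leaf [nat_lit 53,nat_lit 50,nat_lit 64,nat_lit 53,nat_lit 51,nat_lit 154,nat_lit 187,nat_lit 147,nat_lit 602])
 (.leaf [nat_lit 930])
)) (.node (.node (.leaf [nat_lit 74,nat_lit 71,nat_lit 93,nat_lit 70,nat_lit 224,nat_lit 148,nat_lit 187,nat_lit 149,nat_lit 186,nat_lit 149,nat_lit 186,nat_lit 246])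
 (.leaf [nat_lit 770])
) (.leaf [nat_lit 535,nat_lit 537,nat_lit 613,nat_lit 536,nat_lit 886])
)) (.node (.node (.node (.leaf [nat_lit 187,nat_lit 148,nat_lit 186,nat_lit 149,nat_lit 166,nat_lit 132,nat_lit 105,nat_lit 102,nat_lit 133,nat_lit 102,nat_lit 162])
 (.leaf [nat_lit 478])
) (.leaf [])
) (.node (.node (.leaf [])
 (.leaf [nat_lit 166])
) (.leaf [nat_lit 612,nat_lit 536,nat_lit 612,nat_lit 535,nat_lit 535,nat_lit 926,nat_lit 613,nat_lit 536,nat_lit 612,nat_lit 537,nat_lit 816])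
)))))))
noncomputable def Fm1 : LT :=
(.node (.node (.node (.node (.node (.node (.node (.node (.leaf [])
 (.leaf [nat_lit 535,nat_lit 1024])
) (.node (.leaf [])
 (.leaf [nat_lit 186,nat_lit 148,nat_lit 187,nat_lit 149,nat_lit 187,nat_lit 147,nat_lit 340])
)) (.node (.node (.leaf [nat_lit 148,nat_lit 187,nat_lit 148,nat_lit 187,nat_lit 149,nat_lit 256])
 (.leaf [nat_lit 96])
) (.leaf [nat_lit 149,nat_lit 186,nat_lit 149,nat_lit 187,nat_lit 147,nat_lit 350,nat_lit 55,nat_lit 50,nat_lit 65,nat_lit 50,nat_lit 64,nat_lit 50,nat_lit 55,nat_lit 620])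
)) (.node (.node (.node (.leaf [nat_lit 128,nat_lit 93,nat_lit 98])
 (.leaf [nat_lit 65,nat_lit 65,nat_lit 54,nat_lit 66])
) (.node (.leaf [nat_lit 534,nat_lit 536,nat_lit 612,nat_lit 640])
 (.leaf [nat_lit 834])
)) (.node (.node (.leaf [nat_lit 149,nat_lit 187,nat_lit 149,nat_lit 186,nat_lit 384])
 (.leaf [nat_lit 260])
) (.leaf [])
))) (.node (.node (.node (.node (.leaf [])
 (.leaf [nat_lit 5,nat_lit 0,nat_lit 0,nat_lit 0,nat_lit 5,nat_lit 1,nat_lit 8])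
) (.node (.leaf [nat_lit 534,nat_lit 576])
 (.leaf [nat_lit 944])
)) (.node (.node (.leaf [])
 (.leaf [nat_lit 198])
) (.leaf [nat_lit 613,nat_lit 537,nat_lit 613,nat_lit 832])
)) (.node (.node (.node (.leaf [nat_lit 148,nat_lit 187,nat_lit 180,nat_lit 186,nat_lit 149,nat_lit 187,nat_lit 148,nat_lit 147,nat_lit 168])
 (.leaf [nat_lit 392])
) (.node (.leaf [])
 (.leaf [nat_lit 612,nat_lit 534,nat_lit 534,nat_lit 986])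
)) (.node (.node (.leaf [])
 (.leaf [nat_lit 314])
) (.leaf [nat_lit 537,nat_lit 612,nat_lit 536,nat_lit 613,nat_lit 535,nat_lit 936,nat_lit 612,nat_lit 537,nat_lit 612,nat_lit 536,nat_lit 580])
)))) (.node (.node (.node (.node (.node (.leaf [nat_lit 26,nat_lit 18,nat_lit 24])
 (.leaf [nat_lit 536,nat_lit 612,nat_lit 537,nat_lit 535,nat_lit 580,nat_lit 70,nat_lit 93,nat_lit 70,nat_lit 638])
) (.node (.leaf [])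
 (.leaf [nat_lit 914])
)) (.node (.node (.leaf [nat_lit 148,nat_lit 187,nat_lit 149,nat_lit 186,nat_lit 149,nat_lit 147,nat_lit 266,nat_lit 187,nat_lit 149,nat_lit 186,nat_lit 148,nat_lit 187,nat_lit 148,nat_lit 266])
 (.leaf [nat_lit 136])
) (.leaf [])
)) (.node (.node (.node (.leaf [nat_lit 123,nat_lit 133,nat_lit 136,nat_lit 51,nat_lit 64,nat_lit 51,nat_lit 65,nat_lit 54,nat_lit 154])
 (.leaf [nat_lit 400])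
) (.node (.leaf [nat_lit 92,nat_lit 70,nat_lit 92,nat_lit 70,nat_lit 376,nat_lit 148,nat_lit 187,nat_lit 149,nat_lit 186,nat_lit 596])
 (.leaf [nat_lit 738])
)) (.node (.node (.leaf [nat_lit 92,nat_lit 73,nat_lit 71,nat_lit 93,nat_lit 382,nat_lit 148,nat_lit 186,nat_lit 149,nat_lit 187,nat_lit 148,nat_lit 147,nat_lit 290])
 (.leaf [nat_lit 818])
) (.leaf [nat_lit 534,nat_lit 536,nat_lit 612,nat_lit 537,nat_lit 928])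
))) (.node (.node (.node (.node (.leaf [])
 (.leaf [nat_lit 346])
) (.node (.leaf [nat_lit 608,nat_lit 107,nat_lit 133,nat_lit 102,nat_lit 133,nat_lit 103,nat_lit 544])
 (.leaf [nat_lit 980])
)) (.node (.node (.leaf [])
 (.leaf [nat_lit 422])
) (.leaf [nat_lit 148,nat_lit 186,nat_lit 147,nat_lit 510,nat_lit 148,nat_lit 187,nat_lit 146,nat_lit 848])
)) (.node (.node (.node (.leaf [])
 (.leaf [nat_lit 404])
) (.node (.leaf [nat_lit 537,nat_lit 612,nat_lit 536,nat_lit 612,nat_lit 736])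
 (.leaf [nat_lit 536,nat_lit 612,nat_lit 536,nat_lit 612,nat_lit 535,nat_lit 535,nat_lit 974])
)) (.node (.node (.leaf [nat_lit 133,nat_lit 103,nat_lit 132,nat_lit 480])
 (.leaf [nat_lit 334])
) (.leaf [])
))))) (.node (.node (.node (.node (.node (.node (.leaf [nat_lit 10,nat_lit 0,nat_lit 4,nat_lit 1,nat_lit 1,nat_lit 1,nat_lit 4,nat_lit 6,nat_lit 4,nat_lit 0,nat_lit 5,nat_lit 7,nat_lit 0,nat_lit 5,nat_lit 1,nat_lit 5,nat_lit 7,nat_lit 1,nat_lit 1,nat_lit 8])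
 (.leaf [])
) (.node (.leaf [])
 (.leaf [nat_lit 642])
)) (.node (.node (.leaf [])
 (.leaf [nat_lit 240])
) (.leaf [nat_lit 534,nat_lit 534,nat_lit 612,nat_lit 536,nat_lit 784])
)) (.node (.node (.node (.leaf [nat_lit 144,nat_lit 12,nat_lit 20,nat_lit 17,nat_lit 13,nat_lit 16,nat_lit 14,nat_lit 20,nat_lit 19,nat_lit 19,nat_lit 142])
 (.leaf [nat_lit 376])
) (.node (.leaf [])
 (.leaf [nat_lit 1052])
)) (.node (.node (.leaf [])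
 (.leaf [nat_lit 800])
) (.leaf [nat_lit 536,nat_lit 613,nat_lit 536,nat_lit 534,nat_lit 774,nat_lit 148,nat_lit 187,nat_lit 148,nat_lit 187,nat_lit 148,nat_lit 524])
))) (.node (.node (.node (.node (.leaf [nat_lit 74,nat_lit 70,nat_lit 74,nat_lit 80])
 (.leaf [nat_lit 894])
) (.node (.leaf [])
 (.leaf [nat_lit 654])
)) (.node (.node (.leaf [nat_lit 73,nat_lit 74,nat_lit 92,nat_lit 336])
 (.leaf [nat_lit 716])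
) (.leaf [])
)) (.node (.node (.node (.leaf [nat_lit 148,nat_lit 186,nat_lit 148,nat_lit 187,nat_lit 149,nat_lit 186,nat_lit 208])
 (.leaf [nat_lit 338])
) (.node (.leaf [nat_lit 186,nat_lit 148,nat_lit 187,nat_lit 149,nat_lit 187,nat_lit 147,nat_lit 428,nat_lit 71,nat_lit 92,nat_lit 70,nat_lit 75,nat_lit 644])
 (.leaf [nat_lit 613,nat_lit 537,nat_lit 613,nat_lit 537,nat_lit 612,nat_lit 535,nat_lit 678])
)) (.node (.node (.leaf [nat_lit 71,nat_lit 93,nat_lit 71,nat_lit 74,nat_lit 71,nat_lit 300,nat_lit 187,nat_lit 149,nat_lit 186,nat_lit 146,nat_lit 166])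
 (.leaf [nat_lit 848])
) (.leaf [nat_lit 535,nat_lit 537,nat_lit 613,nat_lit 537,nat_lit 976])
)))) (.node (.node (.node (.node (.node (.leaf [nat_lit 48,nat_lit 16,nat_lit 20,nat_lit 14,nat_lit 18,nat_lit 12,nat_lit 12,nat_lit 21,nat_lit 19,nat_lit 15,nat_lit 46])
 (.leaf [nat_lit 10,nat_lit 1072,nat_lit 8])
) (.node (.leaf [nat_lit 186,nat_lit 148,nat_lit 146,nat_lit 146,nat_lit 294,nat_lit 187,nat_lit 149,nat_lit 187,nat_lit 148,nat_lit 186,nat_lit 149,nat_lit 147,nat_lit 556])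
 (.leaf [nat_lit 932])
)) (.node (.node (.leaf [nat_lit 146,nat_lit 186,nat_lit 148,nat_lit 186,nat_lit 304])
 (.leaf [nat_lit 105,nat_lit 102,nat_lit 112])
) (.leaf [nat_lit 187,nat_lit 149,nat_lit 186,nat_lit 194,nat_lit 148,nat_lit 186,nat_lit 149,nat_lit 186,nat_lit 148,nat_lit 147,nat_lit 740])
)) (.node (.node (.node (.leaf [nat_lit 72,nat_lit 92,nat_lit 71,nat_lit 92,nat_lit 176])
 (.leaf [nat_lit 918])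
) (.node (.leaf [nat_lit 534,nat_lit 537,nat_lit 613,nat_lit 688])
 (.leaf [nat_lit 720])
)) (.node (.node (.leaf [nat_lit 146,nat_lit 186,nat_lit 149,nat_lit 186,nat_lit 149,nat_lit 432])
 (.leaf [nat_lit 830])
) (.leaf [])
))) (.node (.node (.node (.node (.leaf [nat_lit 104,nat_lit 112,nat_lit 18,nat_lit 21,nat_lit 18,nat_lit 14,nat_lit 78])
 (.leaf [nat_lit 364])
) (.node (.leaf [nat_lit 65,nat_lit 51,nat_lit 64,nat_lit 51,nat_lit 64,nat_lit 51,nat_lit 53,nat_lit 51,nat_lit 200,nat_lit 149,nat_lit 186,nat_lit 148,nat_lit 187,nat_lit 149,nat_lit 187,nat_lit 147,nat_lit 602])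
 (.leaf [nat_lit 888])
)) (.node (.node (.leaf [nat_lit 54,nat_lit 65,nat_lit 51,nat_lit 64,nat_lit 346,nat_lit 148,nat_lit 187,nat_lit 148,nat_lit 192])
 (.leaf [nat_lit 294])
) (.leaf [nat_lit 612,nat_lit 537,nat_lit 612,nat_lit 536,nat_lit 880])
)) (.node (.node (.node (.leaf [nat_lit 149,nat_lit 187,nat_lit 148,nat_lit 186,nat_lit 149,nat_lit 187,nat_lit 192,nat_lit 70,nat_lit 72,nat_lit 70,nat_lit 178])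
 (.leaf [nat_lit 218])
) (.leaf [])
) (.node (.node (.leaf [])
 (.leaf [nat_lit 149,nat_lit 186,nat_lit 147,nat_lit 740])
) (.leaf [nat_lit 613,nat_lit 536,nat_lit 612,nat_lit 536,nat_lit 535,nat_lit 938,nat_lit 612,nat_lit 536,nat_lit 612,nat_lit 537,nat_lit 613,nat_lit 666])
)))))) (.node (.node (.node (.node (.node (.node (.node (.leaf [])
 (.leaf [nat_lit 612,nat_lit 537,nat_lit 613,nat_lit 534,nat_lit 534,nat_lit 708,nat_lit 187,nat_lit 149,nat_lit 187,nat_lit 148,nat_lit 186,nat_lit 149,nat_lit 524])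
) (.node (.leaf [nat_lit 147,nat_lit 186,nat_lit 148,nat_lit 187,nat_lit 148,nat_lit 187,nat_lit 149,nat_lit 520])
 (.leaf [nat_lit 186,nat_lit 149,nat_lit 186,nat_lit 149,nat_lit 187,nat_lit 147,nat_lit 210])
)) (.node (.node (.leaf [nat_lit 149,nat_lit 187,nat_lit 147,nat_lit 150,nat_lit 50,nat_lit 64,nat_lit 52,nat_lit 50,nat_lit 65,nat_lit 154])
 (.leaf [nat_lit 92,nat_lit 75,nat_lit 88])
) (.leaf [])
)) (.node (.node (.node (.leaf [])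
 (.leaf [nat_lit 584])
) (.node (.leaf [nat_lit 74,nat_lit 72,nat_lit 356,nat_lit 51,nat_lit 64,nat_lit 51,nat_lit 64,nat_lit 51,nat_lit 65,nat_lit 55,nat_lit 620])
 (.leaf [nat_lit 1040])
)) (.node (.node (.leaf [nat_lit 70,nat_lit 92,nat_lit 70,nat_lit 224,nat_lit 186,nat_lit 149,nat_lit 186,nat_lit 149,nat_lit 187,nat_lit 222])
 (.leaf [nat_lit 794])
) (.leaf [nat_lit 534,nat_lit 537,nat_lit 613,nat_lit 536,nat_lit 904])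
))) (.node (.node (.node (.node (.leaf [nat_lit 68,nat_lit 54,nat_lit 65,nat_lit 51,nat_lit 54,nat_lit 50,nat_lit 65,nat_lit 66])
 (.leaf [nat_lit 108])
) (.node (.leaf [nat_lit 534,nat_lit 580,nat_lit 93,nat_lit 72,nat_lit 70,nat_lit 212])
 (.leaf [nat_lit 912])
)) (.node (.node (.leaf [nat_lit 75,nat_lit 93,nat_lit 328])
 (.leaf [nat_lit 710])
) (.leaf [nat_lit 148,nat_lit 187,nat_lit 148,nat_lit 186,nat_lit 147,nat_lit 302,nat_lit 148,nat_lit 186,nat_lit 149,nat_lit 187,nat_lit 148,nat_lit 806])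
)) (.node (.node (.node (.leaf [])
 (.leaf [nat_lit 1038])
) (.node (.leaf [nat_lit 535,nat_lit 536,nat_lit 612,nat_lit 536,nat_lit 612,nat_lit 536,nat_lit 712])
 (.leaf [nat_lit 612,nat_lit 537,nat_lit 535,nat_lit 535,nat_lit 1050])
)) (.node (.node (.leaf [nat_lit 65,nat_lit 51,nat_lit 52,nat_lit 65,nat_lit 50,nat_lit 456])
 (.leaf [nat_lit 306])
) (.leaf [])
)))) (.node (.node (.node (.node (.node (.leaf [nat_lit 40,nat_lit 24])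
 (.leaf [nat_lit 535,nat_lit 613,nat_lit 537,nat_lit 612,nat_lit 1064])
) (.node (.leaf [nat_lit 534,nat_lit 534,nat_lit 552])
 (.leaf [nat_lit 876])
)) (.node (.node (.leaf [])
 (.leaf [nat_lit 488])
) (.leaf [nat_lit 612,nat_lit 537,nat_lit 613,nat_lit 537,nat_lit 612,nat_lit 536,nat_lit 808])
)) (.node (.node (.node (.leaf [])
 (.leaf [nat_lit 412])
) (.node (.leaf [])
 (.leaf [nat_lit 984])
)) (.node (.node (.leaf [])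
 (.leaf [nat_lit 276])
) (.leaf [nat_lit 536,nat_lit 612,nat_lit 536,nat_lit 612,nat_lit 537,nat_lit 535,nat_lit 572,nat_lit 187,nat_lit 149,nat_lit 186,nat_lit 149,nat_lit 147,nat_lit 147,nat_lit 710])
))) (.node (.node (.node (.node (.leaf [nat_lit 100,nat_lit 74,nat_lit 98])
 (.leaf [nat_lit 358])
) (.node (.leaf [nat_lit 70,nat_lit 70,nat_lit 93,nat_lit 70,nat_lit 616])
 (.leaf [nat_lit 998])
)) (.node (.node (.leaf [nat_lit 71,nat_lit 75,nat_lit 360])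
 (.leaf [nat_lit 602])
) (.leaf [])
)) (.node (.node (.node (.leaf [nat_lit 14,nat_lit 12,nat_lit 20,nat_lit 13,nat_lit 232])
 (.leaf [nat_lit 466])
) (.leaf [nat_lit 187,nat_lit 149,nat_lit 187,nat_lit 148,nat_lit 147,nat_lit 260,nat_lit 149,nat_lit 187,nat_lit 149,nat_lit 147,nat_lit 602])
) (.node (.node (.leaf [nat_lit 186,nat_lit 149,nat_lit 186,nat_lit 148,nat_lit 187,nat_lit 272,nat_lit 186,nat_lit 149,nat_lit 187,nat_lit 148,nat_lit 186,nat_lit 148,nat_lit 276])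
 (.leaf [nat_lit 324])
) (.leaf [nat_lit 534,nat_lit 612,nat_lit 537,nat_lit 613,nat_lit 1000])
))))) (.node (.node (.node (.node (.node (.node (.leaf [])
 (.leaf [nat_lit 534,nat_lit 537,nat_lit 612,nat_lit 536,nat_lit 612,nat_lit 536,nat_lit 613,nat_lit 1048])
) (.node (.leaf [nat_lit 71,nat_lit 93,nat_lit 82,nat_lit 16,nat_lit 15,nat_lit 20,nat_lit 20,nat_lit 15,nat_lit 530])
 (.leaf [nat_lit 896])
)) (.node (.node (.leaf [nat_lit 147,nat_lit 147,nat_lit 187,nat_lit 280])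
 (.leaf [nat_lit 162])
) (.leaf [nat_lit 186,nat_lit 149,nat_lit 187,nat_lit 148,nat_lit 186,nat_lit 149,nat_lit 258,nat_lit 149,nat_lit 186,nat_lit 149,nat_lit 187,nat_lit 146,nat_lit 704])
)) (.node (.node (.node (.leaf [nat_lit 55,nat_lit 50,nat_lit 64,nat_lit 50,nat_lit 64,nat_lit 152])
 (.leaf [nat_lit 188])
) (.node (.leaf [nat_lit 534,nat_lit 534,nat_lit 612,nat_lit 537,nat_lit 613,nat_lit 664])
 (.leaf [nat_lit 1056])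
)) (.node (.node (.leaf [nat_lit 147,nat_lit 148,nat_lit 186,nat_lit 149,nat_lit 186,nat_lit 408])
 (.leaf [nat_lit 812])
) (.leaf [])
))) (.node (.node (.node (.node (.leaf [nat_lit 80,nat_lit 15,nat_lit 19,nat_lit 16,nat_lit 18,nat_lit 12,nat_lit 18,nat_lit 21,nat_lit 12,nat_lit 16,nat_lit 12,nat_lit 78])
 (.leaf [nat_lit 20,nat_lit 19,nat_lit 17,nat_lit 13,nat_lit 22])
) (.node (.leaf [nat_lit 147,nat_lit 149,nat_lit 186,nat_lit 149,nat_lit 187,nat_lit 148,nat_lit 187,nat_lit 600])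
 (.leaf [nat_lit 968])
)) (.node (.node (.leaf [nat_lit 65,nat_lit 51,nat_lit 65,nat_lit 50,nat_lit 65,nat_lit 53,nat_lit 50,nat_lit 200,nat_lit 187,nat_lit 148,nat_lit 186,nat_lit 148,nat_lit 168])
 (.leaf [nat_lit 728])
) (.leaf [nat_lit 534,nat_lit 534,nat_lit 537,nat_lit 613,nat_lit 537,nat_lit 612,nat_lit 856])
)) (.node (.node (.node (.leaf [nat_lit 71,nat_lit 75,nat_lit 70,nat_lit 178,nat_lit 149,nat_lit 186,nat_lit 148,nat_lit 187,nat_lit 147,nat_lit 168])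
 (.leaf [nat_lit 680])
) (.node (.leaf [])
 (.leaf [nat_lit 613,nat_lit 537,nat_lit 613,nat_lit 536,nat_lit 612,nat_lit 534,nat_lit 1002])
)) (.node (.node (.leaf [])
 (.leaf [nat_lit 522])
) (.leaf [nat_lit 612,nat_lit 536,nat_lit 612,nat_lit 536,nat_lit 534,nat_lit 900,nat_lit 537,nat_lit 613,nat_lit 537,nat_lit 613,nat_lit 536,nat_lit 612,nat_lit 536,nat_lit 978])
)))) (.node (.node (.node (.node (.node (.leaf [])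
 (.leaf [nat_lit 10,nat_lit 1080,nat_lit 8])
) (.node (.leaf [])
 (.leaf [nat_lit 744])
)) (.node (.node (.leaf [nat_lit 187,nat_lit 148,nat_lit 186,nat_lit 149,nat_lit 270,nat_lit 148,nat_lit 187,nat_lit 149,nat_lit 186,nat_lit 149,nat_lit 147,nat_lit 308])
 (.leaf [nat_lit 350])
) (.leaf [])
)) (.node (.node (.node (.leaf [nat_lit 184])
 (.leaf [nat_lit 424])
) (.node (.leaf [nat_lit 186,nat_lit 148,nat_lit 187,nat_lit 149,nat_lit 186,nat_lit 166,nat_lit 123,nat_lit 132,nat_lit 106,nat_lit 132,nat_lit 544])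
 (.leaf [nat_lit 1026])
)) (.node (.node (.leaf [nat_lit 74,nat_lit 71,nat_lit 93,nat_lit 71,nat_lit 300,nat_lit 187,nat_lit 147,nat_lit 340])
 (.leaf [nat_lit 410])
) (.leaf [nat_lit 536,nat_lit 612,nat_lit 537,nat_lit 613,nat_lit 536,nat_lit 612,nat_lit 952])
))) (.node (.node (.node (.node (.leaf [nat_lit 120])
 (.leaf [nat_lit 476])
) (.node (.leaf [])
 (.leaf [nat_lit 864])
)) (.node (.node (.leaf [])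
 (.leaf [nat_lit 248])
) (.leaf [nat_lit 613,nat_lit 534,nat_lit 614,nat_lit 70,nat_lit 93,nat_lit 82])
)) (.node (.node (.node (.leaf [])
 (.leaf [nat_lit 368])
) (.leaf [nat_lit 535,nat_lit 613,nat_lit 536,nat_lit 760])
) (.node (.node (.leaf [nat_lit 148,nat_lit 187,nat_lit 148,nat_lit 187,nat_lit 149,nat_lit 302,nat_lit 148,nat_lit 187,nat_lit 149,nat_lit 186,nat_lit 148,nat_lit 187,nat_lit 266])
 (.leaf [nat_lit 148,nat_lit 186,nat_lit 146,nat_lit 146,nat_lit 204])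
) (.leaf [])
)))))))
noncomputable def Fm2 : LT :=
(.node (.node (.node (.node (.node (.node (.node (.node (.leaf [])
 (.leaf [nat_lit 612,nat_lit 537,nat_lit 613,nat_lit 536,nat_lit 535,nat_lit 578,nat_lit 148,nat_lit 187,nat_lit 148,nat_lit 187,nat_lit 148,nat_lit 147,nat_lit 556])
) (.node (.leaf [nat_lit 146,nat_lit 187,nat_lit 148,nat_lit 186,nat_lit 149,nat_lit 187,nat_lit 514])
 (.leaf [nat_lit 168])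
)) (.node (.node (.leaf [nat_lit 187,nat_lit 148,nat_lit 186,nat_lit 148,nat_lit 194,nat_lit 187,nat_lit 149,nat_lit 186,nat_lit 148,nat_lit 187,nat_lit 149,nat_lit 146,nat_lit 246])
 (.leaf [nat_lit 82])
) (.leaf [])
)) (.node (.node (.node (.leaf [nat_lit 130])
 (.leaf [nat_lit 68])
) (.node (.leaf [nat_lit 71,nat_lit 73,nat_lit 368,nat_lit 50,nat_lit 64,nat_lit 51,nat_lit 64,nat_lit 50,nat_lit 64,nat_lit 54,nat_lit 51,nat_lit 626])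
 (.leaf [nat_lit 1028])
)) (.node (.node (.leaf [nat_lit 93,nat_lit 74,nat_lit 72,nat_lit 330,nat_lit 187,nat_lit 148,nat_lit 187,nat_lit 148,nat_lit 147,nat_lit 147,nat_lit 386])
 (.leaf [nat_lit 788])
) (.leaf [nat_lit 534,nat_lit 534,nat_lit 898])
))) (.node (.node (.node (.node (.leaf [])
 (.leaf [nat_lit 10])
) (.node (.leaf [nat_lit 536,nat_lit 534,nat_lit 534,nat_lit 554,nat_lit 187,nat_lit 148,nat_lit 186,nat_lit 148,nat_lit 524])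
 (.leaf [nat_lit 702])
)) (.node (.node (.leaf [nat_lit 149,nat_lit 187,nat_lit 148,nat_lit 187,nat_lit 322])
 (.leaf [nat_lit 596])
) (.leaf [nat_lit 149,nat_lit 187,nat_lit 148,nat_lit 186,nat_lit 149,nat_lit 187,nat_lit 147,nat_lit 422,nat_lit 70,nat_lit 93,nat_lit 74,nat_lit 73,nat_lit 668])
)) (.node (.node (.node (.leaf [])
 (.leaf [nat_lit 300])
) (.node (.leaf [nat_lit 535,nat_lit 535,nat_lit 537,nat_lit 613,nat_lit 537,nat_lit 613,nat_lit 706])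
 (.leaf [nat_lit 586])
)) (.node (.node (.leaf [nat_lit 102,nat_lit 104,nat_lit 107,nat_lit 133,nat_lit 450])
 (.leaf [nat_lit 320])
) (.leaf [])
)))) (.node (.node (.node (.node (.node (.leaf [nat_lit 26,nat_lit 20,nat_lit 24])
 (.leaf [nat_lit 612,nat_lit 537,nat_lit 613,nat_lit 536,nat_lit 534,nat_lit 822,nat_lit 186,nat_lit 149,nat_lit 187,nat_lit 148,nat_lit 147,nat_lit 550])
) (.node (.leaf [nat_lit 534,nat_lit 534,nat_lit 546])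
 (.leaf [nat_lit 920])
)) (.node (.node (.leaf [])
 (.leaf [nat_lit 452])
) (.leaf [nat_lit 535,nat_lit 536,nat_lit 612,nat_lit 536,nat_lit 612,nat_lit 802])
)) (.node (.node (.node (.leaf [])
 (.leaf [nat_lit 644])
) (.node (.leaf [])
 (.leaf [nat_lit 1060])
)) (.node (.node (.leaf [])
 (.leaf [nat_lit 264])
) (.leaf [nat_lit 537,nat_lit 613,nat_lit 537,nat_lit 612,nat_lit 535,nat_lit 535,nat_lit 592,nat_lit 149,nat_lit 187,nat_lit 148,nat_lit 187,nat_lit 147,nat_lit 147,nat_lit 848])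
))) (.node (.node (.node (.node (.leaf [])
 (.leaf [nat_lit 626])
) (.node (.leaf [nat_lit 610])
 (.leaf [nat_lit 992])
)) (.node (.node (.leaf [nat_lit 73,nat_lit 75,nat_lit 71,nat_lit 354])
 (.leaf [nat_lit 746])
) (.leaf [])
)) (.node (.node (.node (.leaf [nat_lit 146,nat_lit 149,nat_lit 186,nat_lit 226])
 (.leaf [nat_lit 966])
) (.leaf [nat_lit 186,nat_lit 148,nat_lit 187,nat_lit 149,nat_lit 186,nat_lit 149,nat_lit 266,nat_lit 149,nat_lit 186,nat_lit 550])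
) (.node (.node (.leaf [nat_lit 93,nat_lit 72,nat_lit 71,nat_lit 93,nat_lit 73,nat_lit 188,nat_lit 149,nat_lit 186,nat_lit 148,nat_lit 187,nat_lit 148,nat_lit 146,nat_lit 236])
 (.leaf [nat_lit 288])
) (.leaf [nat_lit 70,nat_lit 92,nat_lit 70,nat_lit 92,nat_lit 994])
))))) (.node (.node (.node (.node (.node (.node (.leaf [nat_lit 10,nat_lit 4,nat_lit 0,nat_lit 0,nat_lit 0,nat_lit 4,nat_lit 0,nat_lit 0,nat_lit 6,nat_lit 1,nat_lit 1,nat_lit 7,nat_lit 1,nat_lit 7,nat_lit 0,nat_lit 7,nat_lit 1,nat_lit 8])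
 (.leaf [nat_lit 70,nat_lit 70,nat_lit 93,nat_lit 70,nat_lit 93,nat_lit 1042])
) (.node (.leaf [])
 (.leaf [nat_lit 672])
)) (.node (.node (.leaf [nat_lit 147,nat_lit 147,nat_lit 149,nat_lit 187,nat_lit 274])
 (.leaf [nat_lit 344])
) (.leaf [nat_lit 149,nat_lit 187,nat_lit 148,nat_lit 186,nat_lit 146,nat_lit 524,nat_lit 92,nat_lit 71,nat_lit 92,nat_lit 72,nat_lit 656])
)) (.node (.node (.node (.leaf [nat_lit 144,nat_lit 12,nat_lit 20,nat_lit 17,nat_lit 13,nat_lit 18,nat_lit 20,nat_lit 17,nat_lit 12,nat_lit 18,nat_lit 142])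
 (.leaf [nat_lit 638])
) (.node (.leaf [nat_lit 534,nat_lit 537,nat_lit 613,nat_lit 537,nat_lit 612,nat_lit 658])
 (.leaf [nat_lit 858])
)) (.node (.node (.leaf [nat_lit 92,nat_lit 71,nat_lit 93,nat_lit 71,nat_lit 402])
 (.leaf [nat_lit 806])
) (.leaf [])
))) (.node (.node (.node (.node (.leaf [nat_lit 75,nat_lit 73,nat_lit 71,nat_lit 82,nat_lit 20,nat_lit 18,nat_lit 18,nat_lit 17,nat_lit 78])
 (.leaf [nat_lit 78])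
) (.node (.leaf [nat_lit 186,nat_lit 148,nat_lit 186,nat_lit 149,nat_lit 187,nat_lit 594])
 (.leaf [nat_lit 962])
)) (.node (.node (.leaf [nat_lit 187,nat_lit 148,nat_lit 187,nat_lit 254,nat_lit 149,nat_lit 187,nat_lit 148,nat_lit 236])
 (.leaf [nat_lit 722])
) (.leaf [nat_lit 534,nat_lit 613,nat_lit 537,nat_lit 613,nat_lit 536,nat_lit 612,nat_lit 850])
)) (.node (.node (.node (.leaf [nat_lit 93,nat_lit 70,nat_lit 72,nat_lit 70,nat_lit 188,nat_lit 149,nat_lit 186,nat_lit 149,nat_lit 186,nat_lit 147,nat_lit 147,nat_lit 166])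
 (.leaf [nat_lit 448])
) (.node (.leaf [])
 (.leaf [nat_lit 554])
)) (.node (.node (.leaf [])
 (.leaf [nat_lit 326])
) (.leaf [nat_lit 537,nat_lit 534,nat_lit 762,nat_lit 186,nat_lit 149,nat_lit 186,nat_lit 147,nat_lit 866])
)))) (.node (.node (.node (.node (.node (.leaf [nat_lit 48,nat_lit 16,nat_lit 20,nat_lit 14,nat_lit 18,nat_lit 14,nat_lit 20,nat_lit 20,nat_lit 16,nat_lit 14,nat_lit 46])
 (.leaf [])
) (.node (.leaf [])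
 (.leaf [nat_lit 696])
)) (.node (.node (.leaf [nat_lit 187,nat_lit 148,nat_lit 146,nat_lit 270,nat_lit 149,nat_lit 187,nat_lit 146,nat_lit 146,nat_lit 228])
 (.leaf [nat_lit 144])
) (.leaf [])
)) (.node (.node (.node (.leaf [nat_lit 149,nat_lit 147,nat_lit 147,nat_lit 166,nat_lit 106,nat_lit 132,nat_lit 122,nat_lit 133,nat_lit 133,nat_lit 162])
 (.leaf [nat_lit 418])
) (.node (.leaf [nat_lit 123,nat_lit 103,nat_lit 133,nat_lit 102,nat_lit 162,nat_lit 187,nat_lit 148,nat_lit 186,nat_lit 149,nat_lit 556])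
 (.leaf [nat_lit 614])
)) (.node (.node (.leaf [nat_lit 70,nat_lit 92,nat_lit 70,nat_lit 72,nat_lit 404,nat_lit 93,nat_lit 75,nat_lit 71,nat_lit 312])
 (.leaf [nat_lit 290])
) (.leaf [nat_lit 535,nat_lit 535,nat_lit 536,nat_lit 612,nat_lit 536,nat_lit 612,nat_lit 946])
))) (.node (.node (.node (.node (.leaf [])
 (.leaf [nat_lit 76])
) (.node (.leaf [])
 (.leaf [nat_lit 978])
)) (.node (.node (.leaf [])
 (.leaf [nat_lit 494])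
) (.leaf [nat_lit 148,nat_lit 186,nat_lit 148,nat_lit 306,nat_lit 186,nat_lit 149,nat_lit 186,nat_lit 148,nat_lit 187,nat_lit 148,nat_lit 146,nat_lit 770])
)) (.node (.node (.node (.leaf [])
 (.leaf [nat_lit 224])
) (.leaf [nat_lit 612,nat_lit 536,nat_lit 613,nat_lit 537,nat_lit 613,nat_lit 754])
) (.node (.node (.leaf [nat_lit 92,nat_lit 70,nat_lit 75,nat_lit 498])
 (.leaf [nat_lit 156])
) (.leaf [])
)))))) (.node (.node (.node (.node (.node (.node (.node (.leaf [nat_lit 10,nat_lit 0,nat_lit 4,nat_lit 1,nat_lit 1,nat_lit 1,nat_lit 4,nat_lit 0,nat_lit 5,nat_lit 1,nat_lit 1,nat_lit 1,nat_lit 5,nat_lit 8])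
 (.leaf [])
) (.node (.leaf [nat_lit 148,nat_lit 187,nat_lit 146,nat_lit 180,nat_lit 148,nat_lit 186,nat_lit 149,nat_lit 186,nat_lit 148,nat_lit 386])
 (.leaf [nat_lit 532])
)) (.node (.node (.leaf [])
 (.leaf [nat_lit 84])
) (.leaf [nat_lit 534,nat_lit 536,nat_lit 612,nat_lit 536,nat_lit 778])
)) (.node (.node (.node (.leaf [nat_lit 65,nat_lit 50,nat_lit 65,nat_lit 51,nat_lit 65,nat_lit 50,nat_lit 138])
 (.leaf [nat_lit 500])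
) (.node (.leaf [])
 (.leaf [nat_lit 768])
)) (.node (.node (.leaf [])
 (.leaf [nat_lit 434])
) (.leaf [nat_lit 537,nat_lit 612,nat_lit 536,nat_lit 612,nat_lit 696,nat_lit 103,nat_lit 133,nat_lit 133,nat_lit 102,nat_lit 105,nat_lit 692])
))) (.node (.node (.node (.node (.leaf [nat_lit 51,nat_lit 64,nat_lit 51,nat_lit 65,nat_lit 51,nat_lit 65,nat_lit 48,nat_lit 15,nat_lit 21,nat_lit 12,nat_lit 46])
 (.leaf [nat_lit 142])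
) (.node (.leaf [])
 (.leaf [nat_lit 774])
)) (.node (.node (.leaf [nat_lit 187,nat_lit 148,nat_lit 186,nat_lit 149,nat_lit 186,nat_lit 146,nat_lit 264,nat_lit 187,nat_lit 149,nat_lit 187,nat_lit 282])
 (.leaf [nat_lit 496])
) (.leaf [])
)) (.node (.node (.node (.leaf [nat_lit 186,nat_lit 148,nat_lit 187,nat_lit 148,nat_lit 202])
 (.leaf [nat_lit 356])
) (.node (.leaf [nat_lit 148,nat_lit 186,nat_lit 149,nat_lit 146,nat_lit 308,nat_lit 92,nat_lit 71,nat_lit 93,nat_lit 73,nat_lit 662])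
 (.leaf [nat_lit 598])
)) (.node (.node (.leaf [nat_lit 70,nat_lit 92,nat_lit 70,nat_lit 92,nat_lit 412,nat_lit 186,nat_lit 149,nat_lit 186,nat_lit 148,nat_lit 146,nat_lit 296])
 (.leaf [nat_lit 574])
) (.leaf [nat_lit 535,nat_lit 537,nat_lit 613,nat_lit 537,nat_lit 612,nat_lit 970])
)))) (.node (.node (.node (.node (.node (.leaf [nat_lit 42])
 (.leaf [])
) (.node (.leaf [nat_lit 186,nat_lit 149,nat_lit 187,nat_lit 148,nat_lit 186,nat_lit 147,nat_lit 524,nat_lit 92,nat_lit 71,nat_lit 92,nat_lit 71,nat_lit 71,nat_lit 538])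
 (.leaf [nat_lit 792])
)) (.node (.node (.leaf [nat_lit 74,nat_lit 71,nat_lit 93,nat_lit 70,nat_lit 298])
 (.leaf [nat_lit 100])
) (.leaf [nat_lit 148,nat_lit 187,nat_lit 148,nat_lit 187,nat_lit 149,nat_lit 146,nat_lit 494,nat_lit 187,nat_lit 149,nat_lit 187,nat_lit 148,nat_lit 186,nat_lit 149,nat_lit 556])
)) (.node (.node (.node (.leaf [nat_lit 146,nat_lit 146,nat_lit 149,nat_lit 170])
 (.leaf [nat_lit 656])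
) (.node (.leaf [nat_lit 613,nat_lit 536,nat_lit 612,nat_lit 537,nat_lit 682])
 (.leaf [nat_lit 852])
)) (.node (.node (.leaf [nat_lit 147,nat_lit 426])
 (.leaf [nat_lit 284])
) (.leaf [])
))) (.node (.node (.node (.node (.leaf [nat_lit 21,nat_lit 16,nat_lit 13,nat_lit 17,nat_lit 78,nat_lit 93,nat_lit 98])
 (.leaf [nat_lit 154])
) (.node (.leaf [nat_lit 50,nat_lit 65,nat_lit 53,nat_lit 50,nat_lit 65,nat_lit 51,nat_lit 53,nat_lit 346,nat_lit 186,nat_lit 148,nat_lit 186,nat_lit 596])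
 (.leaf [nat_lit 1004])
)) (.node (.node (.leaf [nat_lit 65,nat_lit 50,nat_lit 65,nat_lit 50,nat_lit 65,nat_lit 51,nat_lit 64,nat_lit 53,nat_lit 200,nat_lit 149,nat_lit 186,nat_lit 147,nat_lit 308])
 (.leaf [nat_lit 192])
) (.leaf [nat_lit 534,nat_lit 536,nat_lit 613,nat_lit 536,nat_lit 874])
)) (.node (.node (.node (.leaf [nat_lit 148,nat_lit 146,nat_lit 204,nat_lit 65,nat_lit 50,nat_lit 50,nat_lit 65,nat_lit 53,nat_lit 140])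
 (.leaf [nat_lit 472])
) (.leaf [])
) (.node (.node (.leaf [])
 (.leaf [nat_lit 160])
) (.leaf [nat_lit 536,nat_lit 612,nat_lit 537,nat_lit 534,nat_lit 956,nat_lit 93,nat_lit 93,nat_lit 73,nat_lit 388])
))))) (.node (.node (.node (.node (.node (.node (.leaf [nat_lit 26,nat_lit 12,nat_lit 24])
 (.leaf [nat_lit 536,nat_lit 613,nat_lit 537,nat_lit 613,nat_lit 537,nat_lit 612,nat_lit 592,nat_lit 149,nat_lit 186,nat_lit 148,nat_lit 187,nat_lit 149,nat_lit 147,nat_lit 722])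
) (.node (.leaf [])
 (.leaf [nat_lit 810])
)) (.node (.node (.leaf [nat_lit 186,nat_lit 149,nat_lit 186,nat_lit 147,nat_lit 210,nat_lit 75,nat_lit 206])
 (.leaf [nat_lit 446])
) (.leaf [])
)) (.node (.node (.node (.leaf [nat_lit 146,nat_lit 150,nat_lit 51,nat_lit 65,nat_lit 51,nat_lit 65,nat_lit 51,nat_lit 54,nat_lit 51,nat_lit 154])
 (.leaf [nat_lit 388])
) (.node (.leaf [nat_lit 71,nat_lit 75,nat_lit 72,nat_lit 71,nat_lit 442,nat_lit 132,nat_lit 122,nat_lit 133,nat_lit 133,nat_lit 590])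
 (.leaf [nat_lit 714])
)) (.node (.node (.leaf [nat_lit 73,nat_lit 70,nat_lit 70,nat_lit 318,nat_lit 149,nat_lit 187,nat_lit 148,nat_lit 147,nat_lit 252])
 (.leaf [nat_lit 524])
) (.leaf [nat_lit 534,nat_lit 534,nat_lit 536,nat_lit 612,nat_lit 536,nat_lit 612,nat_lit 536,nat_lit 922])
))) (.node (.node (.node (.node (.leaf [nat_lit 90])
 (.leaf [nat_lit 26])
) (.node (.leaf [nat_lit 534,nat_lit 566,nat_lit 186,nat_lit 149,nat_lit 186,nat_lit 149,nat_lit 187,nat_lit 147,nat_lit 147,nat_lit 166])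
 (.leaf [nat_lit 972])
)) (.node (.node (.leaf [])
 (.leaf [nat_lit 506])
) (.leaf [nat_lit 187,nat_lit 149,nat_lit 186,nat_lit 148,nat_lit 187,nat_lit 149,nat_lit 166,nat_lit 105,nat_lit 132,nat_lit 103,nat_lit 133,nat_lit 544])
)) (.node (.node (.node (.leaf [])
 (.leaf [nat_lit 686])
) (.node (.leaf [nat_lit 613,nat_lit 536,nat_lit 730])
 (.leaf [nat_lit 572])
)) (.node (.node (.leaf [nat_lit 54,nat_lit 64,nat_lit 51,nat_lit 53,nat_lit 474])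
 (.leaf [nat_lit 866])
) (.leaf [])
)))) (.node (.node (.node (.node (.node (.leaf [])
 (.leaf [])
) (.node (.leaf [nat_lit 535,nat_lit 570])
 (.leaf [nat_lit 938])
)) (.node (.node (.leaf [])
 (.leaf [nat_lit 698])
) (.leaf [nat_lit 535,nat_lit 612,nat_lit 536,nat_lit 612,nat_lit 537,nat_lit 613,nat_lit 826])
)) (.node (.node (.node (.leaf [nat_lit 72,nat_lit 70,nat_lit 74,nat_lit 178,nat_lit 148,nat_lit 187,nat_lit 148,nat_lit 187,nat_lit 146,nat_lit 146,nat_lit 156])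
 (.leaf [nat_lit 996])
) (.node (.leaf [])
 (.leaf [nat_lit 548])
)) (.node (.node (.leaf [])
 (.leaf [nat_lit 562])
) (.leaf [nat_lit 536,nat_lit 612,nat_lit 536,nat_lit 750,nat_lit 149,nat_lit 187,nat_lit 148,nat_lit 186,nat_lit 149,nat_lit 146,nat_lit 422])
))) (.node (.node (.node (.node (.leaf [nat_lit 123,nat_lit 112,nat_lit 16,nat_lit 12,nat_lit 17,nat_lit 78])
 (.leaf [nat_lit 48])
) (.node (.leaf [nat_lit 534,nat_lit 537,nat_lit 613,nat_lit 634])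
 (.leaf [nat_lit 936])
)) (.node (.node (.leaf [nat_lit 146,nat_lit 186,nat_lit 148,nat_lit 187,nat_lit 378])
 (.leaf [nat_lit 776])
) (.leaf [])
)) (.node (.node (.node (.leaf [nat_lit 147,nat_lit 147,nat_lit 187,nat_lit 148,nat_lit 187,nat_lit 250])
 (.leaf [nat_lit 374])
) (.leaf [nat_lit 149,nat_lit 186,nat_lit 149,nat_lit 186,nat_lit 148,nat_lit 248,nat_lit 149,nat_lit 187,nat_lit 146,nat_lit 716])
) (.node (.node (.leaf [])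
 (.leaf [nat_lit 180])
) (.leaf [nat_lit 187,nat_lit 148,nat_lit 1018])
)))))))
noncomputable def Fm3 : LT :=
(.node (.node (.node (.node (.node (.node (.node (.node (.leaf [])
 (.leaf [])
) (.node (.leaf [nat_lit 186,nat_lit 148,nat_lit 187,nat_lit 149,nat_lit 186,nat_lit 148,nat_lit 248,nat_lit 187,nat_lit 148,nat_lit 146,nat_lit 146,nat_lit 324])
 (.leaf [nat_lit 187,nat_lit 148,nat_lit 186,nat_lit 149,nat_lit 186,nat_lit 149,nat_lit 752])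
)) (.node (.node (.leaf [])
 (.leaf [nat_lit 72,nat_lit 71,nat_lit 82])
) (.leaf [nat_lit 612,nat_lit 536,nat_lit 613,nat_lit 772])
)) (.node (.node (.node (.leaf [nat_lit 107,nat_lit 103,nat_lit 112,nat_lit 16,nat_lit 19,nat_lit 15,nat_lit 108])
 (.leaf [nat_lit 98])
) (.node (.leaf [])
 (.leaf [nat_lit 708])
)) (.node (.node (.leaf [])
 (.leaf [nat_lit 512])
) (.leaf [nat_lit 536,nat_lit 612,nat_lit 536,nat_lit 612,nat_lit 534,nat_lit 804,nat_lit 186,nat_lit 148,nat_lit 187,nat_lit 148,nat_lit 187,nat_lit 149,nat_lit 776])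
))) (.node (.node (.node (.node (.leaf [nat_lit 68,nat_lit 50,nat_lit 66])
 (.leaf [nat_lit 24])
) (.node (.leaf [])
 (.leaf [nat_lit 950])
)) (.node (.node (.leaf [nat_lit 149,nat_lit 186,nat_lit 146,nat_lit 222,nat_lit 71,nat_lit 93,nat_lit 70,nat_lit 84])
 (.leaf [nat_lit 490])
) (.leaf [])
)) (.node (.node (.node (.leaf [nat_lit 146,nat_lit 148,nat_lit 186,nat_lit 148,nat_lit 187,nat_lit 149,nat_lit 196])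
 (.leaf [nat_lit 668])
) (.node (.leaf [nat_lit 148,nat_lit 186,nat_lit 149,nat_lit 187,nat_lit 149,nat_lit 518,nat_lit 148,nat_lit 186,nat_lit 556])
 (.leaf [nat_lit 613,nat_lit 536,nat_lit 612,nat_lit 537,nat_lit 630])
)) (.node (.node (.leaf [nat_lit 93,nat_lit 72,nat_lit 70,nat_lit 74,nat_lit 70,nat_lit 436,nat_lit 186,nat_lit 149,nat_lit 186,nat_lit 149,nat_lit 187,nat_lit 350])
 (.leaf [nat_lit 842])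
) (.leaf [nat_lit 74,nat_lit 92,nat_lit 964])
)))) (.node (.node (.node (.node (.node (.leaf [nat_lit 19,nat_lit 21,nat_lit 15,nat_lit 22,nat_lit 24])
 (.leaf [nat_lit 612,nat_lit 537,nat_lit 613,nat_lit 537,nat_lit 612,nat_lit 534,nat_lit 630,nat_lit 54,nat_lit 51,nat_lit 64,nat_lit 50,nat_lit 65,nat_lit 51,nat_lit 54,nat_lit 620])
) (.node (.leaf [nat_lit 186,nat_lit 149,nat_lit 186,nat_lit 148,nat_lit 187,nat_lit 149,nat_lit 166,nat_lit 123,nat_lit 133,nat_lit 123,nat_lit 132,nat_lit 104,nat_lit 544])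
 (.leaf [nat_lit 816])
)) (.node (.node (.leaf [nat_lit 147,nat_lit 147,nat_lit 148,nat_lit 187,nat_lit 292])
 (.leaf [nat_lit 482])
) (.leaf [nat_lit 187,nat_lit 149,nat_lit 186,nat_lit 148,nat_lit 187,nat_lit 148,nat_lit 314,nat_lit 92,nat_lit 70,nat_lit 93,nat_lit 650])
)) (.node (.node (.node (.leaf [nat_lit 147,nat_lit 147,nat_lit 164])
 (.leaf [nat_lit 406])
) (.node (.leaf [nat_lit 613,nat_lit 536,nat_lit 612,nat_lit 536,nat_lit 612,nat_lit 676])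
 (.leaf [nat_lit 870])
)) (.node (.node (.leaf [nat_lit 146,nat_lit 187,nat_lit 149,nat_lit 186,nat_lit 148,nat_lit 187,nat_lit 149,nat_lit 420])
 (.leaf [nat_lit 550])
) (.leaf [])
))) (.node (.node (.node (.node (.leaf [nat_lit 100,nat_lit 70,nat_lit 98])
 (.leaf [nat_lit 200])
) (.node (.leaf [nat_lit 537,nat_lit 613,nat_lit 535,nat_lit 598,nat_lit 148,nat_lit 186,nat_lit 149,nat_lit 187,nat_lit 496])
 (.leaf [nat_lit 666])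
)) (.node (.node (.leaf [nat_lit 51,nat_lit 64,nat_lit 51,nat_lit 64,nat_lit 51,nat_lit 65,nat_lit 55,nat_lit 346,nat_lit 187,nat_lit 149,nat_lit 187,nat_lit 148,nat_lit 186,nat_lit 149,nat_lit 192])
 (.leaf [nat_lit 510])
) (.leaf [nat_lit 612,nat_lit 536,nat_lit 612,nat_lit 536,nat_lit 868])
)) (.node (.node (.node (.leaf [nat_lit 222,nat_lit 92,nat_lit 70,nat_lit 82])
 (.leaf [nat_lit 206])
) (.leaf [])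
) (.node (.node (.leaf [])
 (.leaf [nat_lit 878])
) (.leaf [nat_lit 535,nat_lit 535,nat_lit 858,nat_lit 149,nat_lit 186,nat_lit 149,nat_lit 186,nat_lit 148,nat_lit 146,nat_lit 806])
))))) (.node (.node (.node (.node (.node (.node (.leaf [nat_lit 10,nat_lit 7,nat_lit 1,nat_lit 7,nat_lit 5,nat_lit 7,nat_lit 0,nat_lit 0,nat_lit 5,nat_lit 8])
 (.leaf [nat_lit 613,nat_lit 536,nat_lit 612,nat_lit 536,nat_lit 535,nat_lit 535,nat_lit 708,nat_lit 186,nat_lit 148,nat_lit 187,nat_lit 149,nat_lit 186,nat_lit 149,nat_lit 764])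
) (.node (.leaf [nat_lit 532,nat_lit 12,nat_lit 20,nat_lit 17,nat_lit 13,nat_lit 16,nat_lit 14,nat_lit 20,nat_lit 19,nat_lit 19,nat_lit 530])
 (.leaf [nat_lit 648])
)) (.node (.node (.leaf [nat_lit 148,nat_lit 146,nat_lit 210,nat_lit 71,nat_lit 92,nat_lit 70,nat_lit 178])
 (.leaf [nat_lit 544])
) (.leaf [])
)) (.node (.node (.node (.leaf [nat_lit 144,nat_lit 19,nat_lit 15,nat_lit 18,nat_lit 13,nat_lit 46])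
 (.leaf [nat_lit 382])
) (.node (.leaf [nat_lit 93,nat_lit 70,nat_lit 93,nat_lit 392,nat_lit 71,nat_lit 92,nat_lit 71,nat_lit 92,nat_lit 644])
 (.leaf [nat_lit 906])
)) (.node (.node (.leaf [nat_lit 70,nat_lit 92,nat_lit 71,nat_lit 93,nat_lit 318,nat_lit 148,nat_lit 186,nat_lit 149,nat_lit 186,nat_lit 149,nat_lit 248])
 (.leaf [nat_lit 518])
) (.leaf [nat_lit 92,nat_lit 70,nat_lit 72,nat_lit 92,nat_lit 916])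
))) (.node (.node (.node (.node (.leaf [])
 (.leaf [nat_lit 19,nat_lit 17,nat_lit 18,nat_lit 14,nat_lit 78])
) (.node (.leaf [nat_lit 536,nat_lit 535,nat_lit 535,nat_lit 578,nat_lit 147,nat_lit 147,nat_lit 242])
 (.leaf [nat_lit 690])
)) (.node (.node (.leaf [])
 (.leaf [nat_lit 242])
) (.leaf [nat_lit 148,nat_lit 187,nat_lit 149,nat_lit 186,nat_lit 518,nat_lit 148,nat_lit 186,nat_lit 149,nat_lit 186,nat_lit 149,nat_lit 187,nat_lit 146,nat_lit 770])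
)) (.node (.node (.node (.leaf [])
 (.leaf [nat_lit 454])
) (.node (.leaf [nat_lit 613,nat_lit 536,nat_lit 724])
 (.leaf [nat_lit 536,nat_lit 613,nat_lit 537,nat_lit 613,nat_lit 536,nat_lit 535,nat_lit 908])
)) (.node (.node (.leaf [nat_lit 103,nat_lit 104,nat_lit 103,nat_lit 132,nat_lit 468])
 (.leaf [nat_lit 228])
) (.leaf [])
)))) (.node (.node (.node (.node (.node (.leaf [nat_lit 48,nat_lit 16,nat_lit 20,nat_lit 14,nat_lit 18,nat_lit 16,nat_lit 20,nat_lit 18,nat_lit 18,nat_lit 12,nat_lit 46])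
 (.leaf [nat_lit 10,nat_lit 1076,nat_lit 8])
) (.node (.leaf [nat_lit 534,nat_lit 536,nat_lit 564])
 (.leaf [nat_lit 624])
)) (.node (.node (.leaf [])
 (.leaf [nat_lit 230])
) (.leaf [nat_lit 613,nat_lit 536,nat_lit 612,nat_lit 820])
)) (.node (.node (.node (.leaf [])
 (.leaf [nat_lit 1044])
) (.node (.leaf [])
 (.leaf [nat_lit 684])
)) (.node (.node (.leaf [])
 (.leaf [nat_lit 836])
) (.leaf [nat_lit 613,nat_lit 536,nat_lit 535,nat_lit 535,nat_lit 586,nat_lit 133,nat_lit 103,nat_lit 132,nat_lit 123,nat_lit 590])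
))) (.node (.node (.node (.node (.leaf [])
 (.leaf [nat_lit 140])
) (.node (.leaf [nat_lit 612,nat_lit 537,nat_lit 613,nat_lit 537,nat_lit 612,nat_lit 628])
 (.leaf [nat_lit 780])
)) (.node (.node (.leaf [nat_lit 73,nat_lit 74,nat_lit 92,nat_lit 372])
 (.leaf [nat_lit 764])
) (.leaf [])
)) (.node (.node (.node (.leaf [nat_lit 146,nat_lit 146,nat_lit 186,nat_lit 149,nat_lit 244])
 (.leaf [nat_lit 618])
) (.leaf [nat_lit 149,nat_lit 186,nat_lit 148,nat_lit 187,nat_lit 149,nat_lit 186,nat_lit 270,nat_lit 148,nat_lit 187,nat_lit 148,nat_lit 186,nat_lit 147,nat_lit 746])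
) (.node (.node (.leaf [nat_lit 187,nat_lit 149,nat_lit 186,nat_lit 147,nat_lit 147,nat_lit 264,nat_lit 149,nat_lit 187,nat_lit 148,nat_lit 186,nat_lit 172])
 (.leaf [nat_lit 186,nat_lit 149,nat_lit 186,nat_lit 148,nat_lit 860])
) (.leaf [nat_lit 70,nat_lit 72,nat_lit 92,nat_lit 71,nat_lit 1012])
)))))) (.node (.node (.node (.node (.node (.node (.node (.leaf [nat_lit 10,nat_lit 0,nat_lit 4,nat_lit 1,nat_lit 1,nat_lit 1,nat_lit 4,nat_lit 1,nat_lit 1,nat_lit 4,nat_lit 0,nat_lit 5,nat_lit 0,nat_lit 5,nat_lit 0,nat_lit 0,nat_lit 5,nat_lit 0,nat_lit 8])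
 (.leaf [nat_lit 70,nat_lit 73,nat_lit 1036])
) (.node (.leaf [])
 (.leaf [nat_lit 890])
)) (.node (.node (.leaf [nat_lit 146,nat_lit 186,nat_lit 149,nat_lit 268])
 (.leaf [nat_lit 71,nat_lit 93,nat_lit 75,nat_lit 70,nat_lit 84])
) (.leaf [nat_lit 187,nat_lit 149,nat_lit 186,nat_lit 149,nat_lit 186,nat_lit 147,nat_lit 248,nat_lit 149,nat_lit 187,nat_lit 148,nat_lit 186,nat_lit 149,nat_lit 146,nat_lit 568])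
)) (.node (.node (.node (.leaf [])
 (.leaf [nat_lit 1008])
) (.node (.leaf [nat_lit 534,nat_lit 534,nat_lit 537,nat_lit 613,nat_lit 536,nat_lit 612,nat_lit 652])
 (.leaf [nat_lit 1046])
)) (.node (.node (.leaf [nat_lit 70,nat_lit 93,nat_lit 396])
 (.leaf [nat_lit 428])
) (.leaf [])
))) (.node (.node (.node (.node (.leaf [nat_lit 20,nat_lit 17,nat_lit 15,nat_lit 46,nat_lit 50,nat_lit 64,nat_lit 55,nat_lit 66])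
 (.leaf [nat_lit 530])
) (.node (.leaf [nat_lit 133,nat_lit 104,nat_lit 132,nat_lit 104,nat_lit 588])
 (.leaf [nat_lit 954])
)) (.node (.node (.leaf [nat_lit 187,nat_lit 148,nat_lit 147,nat_lit 147,nat_lit 198,nat_lit 187,nat_lit 149,nat_lit 186,nat_lit 148,nat_lit 187,nat_lit 174])
 (.leaf [nat_lit 380])
) (.leaf [nat_lit 537,nat_lit 613,nat_lit 537,nat_lit 844])
)) (.node (.node (.node (.leaf [nat_lit 68,nat_lit 55,nat_lit 64,nat_lit 50,nat_lit 64,nat_lit 50,nat_lit 154])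
 (.leaf [nat_lit 442])
) (.node (.leaf [])
 (.leaf [nat_lit 612,nat_lit 536,nat_lit 612,nat_lit 534,nat_lit 942])
)) (.node (.node (.leaf [])
 (.leaf [nat_lit 258])
) (.leaf [nat_lit 612,nat_lit 536,nat_lit 756,nat_lit 148,nat_lit 187,nat_lit 860])
)))) (.node (.node (.node (.node (.node (.leaf [])
 (.leaf [nat_lit 10,nat_lit 1068,nat_lit 8])
) (.node (.leaf [])
 (.leaf [nat_lit 924])
)) (.node (.node (.leaf [nat_lit 149,nat_lit 187,nat_lit 148,nat_lit 186,nat_lit 160,nat_lit 187,nat_lit 149,nat_lit 186,nat_lit 148,nat_lit 187,nat_lit 148,nat_lit 270])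
 (.leaf [nat_lit 123,nat_lit 100])
) (.leaf [])
)) (.node (.node (.node (.leaf [nat_lit 144,nat_lit 20,nat_lit 18,nat_lit 21,nat_lit 14,nat_lit 13,nat_lit 78])
 (.leaf [nat_lit 312])
) (.node (.leaf [nat_lit 92,nat_lit 73,nat_lit 70,nat_lit 93,nat_lit 71,nat_lit 404,nat_lit 92,nat_lit 70,nat_lit 93,nat_lit 72,nat_lit 656])
 (.leaf [nat_lit 1062])
)) (.node (.node (.leaf [nat_lit 70,nat_lit 92,nat_lit 71,nat_lit 93,nat_lit 75,nat_lit 71,nat_lit 424,nat_lit 187,nat_lit 149,nat_lit 147,nat_lit 332])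
 (.leaf [nat_lit 824])
) (.leaf [nat_lit 534,nat_lit 536,nat_lit 613,nat_lit 940])
))) (.node (.node (.node (.node (.leaf [])
 (.leaf [nat_lit 632])
) (.node (.leaf [])
 (.leaf [nat_lit 1010])
)) (.node (.node (.leaf [])
 (.leaf [nat_lit 416])
) (.leaf [nat_lit 148,nat_lit 186,nat_lit 149,nat_lit 187,nat_lit 149,nat_lit 147,nat_lit 246,nat_lit 187,nat_lit 148,nat_lit 187,nat_lit 149,nat_lit 146,nat_lit 812])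
)) (.node (.node (.node (.leaf [])
 (.leaf [nat_lit 212])
) (.leaf [nat_lit 535,nat_lit 613,nat_lit 536,nat_lit 748])
) (.node (.node (.leaf [nat_lit 147,nat_lit 147,nat_lit 187,nat_lit 148,nat_lit 187,nat_lit 492])
 (.leaf [nat_lit 187,nat_lit 149,nat_lit 147,nat_lit 872])
) (.leaf [])
))))) (.node (.node (.node (.node (.node (.node (.leaf [nat_lit 26,nat_lit 14,nat_lit 24])
 (.leaf [])
) (.node (.leaf [nat_lit 535,nat_lit 535,nat_lit 540])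
 (.leaf [nat_lit 902])
)) (.node (.node (.leaf [])
 (.leaf [nat_lit 470])
) (.leaf [nat_lit 612,nat_lit 536,nat_lit 612,nat_lit 536,nat_lit 613,nat_lit 796])
)) (.node (.node (.node (.leaf [])
 (.leaf [nat_lit 394])
) (.node (.leaf [])
 (.leaf [nat_lit 1032])
)) (.node (.node (.leaf [])
 (.leaf [nat_lit 386])
) (.leaf [nat_lit 536,nat_lit 612,nat_lit 536,nat_lit 612,nat_lit 537,nat_lit 534,nat_lit 756,nat_lit 146,nat_lit 562])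
))) (.node (.node (.node (.node (.leaf [nat_lit 75,nat_lit 70,nat_lit 82,nat_lit 12,nat_lit 17,nat_lit 19,nat_lit 15,nat_lit 78])
 (.leaf [nat_lit 45,nat_lit 29,nat_lit 35,nat_lit 45,nat_lit 26])
) (.node (.leaf [])
 (.leaf [nat_lit 762])
)) (.node (.node (.leaf [nat_lit 147,nat_lit 148,nat_lit 186,nat_lit 149,nat_lit 187,nat_lit 148,nat_lit 348])
 (.leaf [nat_lit 1020])
) (.leaf [])
)) (.node (.node (.node (.leaf [nat_lit 147,nat_lit 186,nat_lit 149,nat_lit 187,nat_lit 220])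
 (.leaf [nat_lit 178])
) (.node (.leaf [nat_lit 148,nat_lit 186,nat_lit 149,nat_lit 187,nat_lit 148,nat_lit 186,nat_lit 148,nat_lit 428,nat_lit 72,nat_lit 70,nat_lit 93,nat_lit 644])
 (.leaf [nat_lit 536,nat_lit 613,nat_lit 537,nat_lit 612,nat_lit 536,nat_lit 613,nat_lit 990])
)) (.node (.node (.leaf [nat_lit 93,nat_lit 71,nat_lit 93,nat_lit 70,nat_lit 75,nat_lit 382,nat_lit 149,nat_lit 186,nat_lit 149,nat_lit 146,nat_lit 236])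
 (.leaf [nat_lit 332])
) (.leaf [nat_lit 534,nat_lit 613,nat_lit 536,nat_lit 613,nat_lit 537,nat_lit 613,nat_lit 988])
)))) (.node (.node (.node (.node (.node (.leaf [nat_lit 60,nat_lit 17,nat_lit 20,nat_lit 16,nat_lit 12,nat_lit 46])
 (.leaf [nat_lit 10,nat_lit 1084,nat_lit 8])
) (.node (.leaf [nat_lit 147,nat_lit 518,nat_lit 149,nat_lit 187,nat_lit 148,nat_lit 186,nat_lit 149,nat_lit 146,nat_lit 556])
 (.leaf [nat_lit 798])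
)) (.node (.node (.leaf [nat_lit 72,nat_lit 75,nat_lit 93,nat_lit 316])
 (.leaf [nat_lit 252])
) (.leaf [nat_lit 186,nat_lit 148,nat_lit 146,nat_lit 264,nat_lit 187,nat_lit 148,nat_lit 186,nat_lit 149,nat_lit 146,nat_lit 550])
)) (.node (.node (.node (.leaf [])
 (.leaf [nat_lit 430])
) (.node (.leaf [nat_lit 537,nat_lit 613,nat_lit 537,nat_lit 612,nat_lit 536,nat_lit 612,nat_lit 700])
 (.leaf [nat_lit 613,nat_lit 534,nat_lit 534,nat_lit 636])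
)) (.node (.node (.leaf [nat_lit 132,nat_lit 104,nat_lit 132,nat_lit 444])
 (.leaf [nat_lit 302])
) (.leaf [])
))) (.node (.node (.node (.node (.leaf [])
 (.leaf [nat_lit 65,nat_lit 65,nat_lit 48])
) (.node (.leaf [nat_lit 71,nat_lit 93,nat_lit 73,nat_lit 71,nat_lit 74,nat_lit 312,nat_lit 149,nat_lit 187,nat_lit 148,nat_lit 187,nat_lit 149,nat_lit 574])
 (.leaf [nat_lit 1016])
)) (.node (.node (.leaf [nat_lit 70,nat_lit 70,nat_lit 73,nat_lit 362,nat_lit 64,nat_lit 51,nat_lit 64,nat_lit 51,nat_lit 64,nat_lit 51,nat_lit 65,nat_lit 346])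
 (.leaf [nat_lit 254])
) (.leaf [nat_lit 16,nat_lit 13,nat_lit 18,nat_lit 20,nat_lit 892])
)) (.node (.node (.node (.leaf [nat_lit 187,nat_lit 148,nat_lit 186,nat_lit 149,nat_lit 186,nat_lit 146,nat_lit 236,nat_lit 132,nat_lit 102,nat_lit 102,nat_lit 105,nat_lit 240])
 (.leaf [nat_lit 484])
) (.leaf [])
) (.node (.node (.leaf [nat_lit 148,nat_lit 186,nat_lit 149,nat_lit 187,nat_lit 508])
 (.leaf [nat_lit 186,nat_lit 149,nat_lit 187,nat_lit 148,nat_lit 147,nat_lit 734])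
) (.leaf [nat_lit 537,nat_lit 613,nat_lit 537,nat_lit 612,nat_lit 534,nat_lit 534,nat_lit 780,nat_lit 148,nat_lit 187,nat_lit 148,nat_lit 187,nat_lit 149,nat_lit 146,nat_lit 836])
)))))))
noncomputable def Fm : LT :=
(.node (.node Fm0 Fm2) (.node Fm1 Fm3))

/-- The rules. -/
noncomputable def rules : LT :=
(.node (.node (.node (.node (.leaf [nat_lit 0])
 (.leaf [nat_lit 2,nat_lit 24])
) (.node (.leaf [nat_lit 2,nat_lit 1])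
 (.leaf [nat_lit 2,nat_lit 51])
)) (.node (.node (.leaf [nat_lit 0,nat_lit 119,nat_lit 119])
 (.leaf [nat_lit 2,nat_lit 18])
) (.leaf [nat_lit 2,nat_lit 3])
)) (.node (.node (.node (.leaf [nat_lit 1,nat_lit 119])
 (.leaf [nat_lit 2,nat_lit 4])
) (.leaf [nat_lit 2,nat_lit 2])
) (.node (.node (.leaf [nat_lit 2,nat_lit 0])
 (.leaf [nat_lit 2,nat_lit 49])
) (.leaf [nat_lit 1,nat_lit 66,nat_lit 119,nat_lit 66,nat_lit 119,nat_lit 66])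
)))
/-- The facts. -/
noncomputable def F : Facts where
  info := Fi
  h := Fh
  c := Fc
  mv := Fm
  df := (getP (nat_lit 9) (nat_lit 511) (nat_lit 0x8491c62210b8300800))
  rules := rules

noncomputable def sf : LT :=
(.node (.node (.node (.leaf [])
 (.leaf [nat_lit 35,nat_lit 46])
) (.node (.leaf [nat_lit 14,nat_lit 15,nat_lit 16,nat_lit 17,nat_lit 18,nat_lit 22])
 (.leaf [nat_lit 74,nat_lit 93])
)) (.node (.node (.leaf [nat_lit 535,nat_lit 537,nat_lit 539,nat_lit 541,nat_lit 543])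
 (.leaf [nat_lit 61,nat_lit 66])
) (.node (.leaf [nat_lit 25,nat_lit 32])
 (.leaf [nat_lit 268,nat_lit 306])
)))
/-- Coset representatives. -/
noncomputable def sR : LT :=
(.node (.leaf [])
 (.leaf [nat_lit 19])
)
/-- Partner letters. -/
noncomputable def tw : ℕ → ℕ := (getP (nat_lit 7) (nat_lit 127) (nat_lit 0x307603f7af9e3b72e9c376cd5a33624821864c0a853a0000000000000000000000000000000000000000))

/-- The partner of a word. -/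
noncomputable def th : List ℕ → (List ℕ → Bool) → Bool :=
  thT T (fun l => Bool.rec (Ez (nat_lit 46)) (E (Nat.add (nat_lit 6) l)) (blt l (nat_lit 6))) (nat_lit 23) (nat_lit 48) B tw (nat_lit 0) (nat_lit 7)

/-- Words that move three of five points to the first three. -/
noncomputable def w60 : LT :=
(.node (.node (.node (.node (.node (.node (.node (.leaf [])
 (.leaf [])
) (.node (.leaf [])
 (.leaf [nat_lit 21,nat_lit 17])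
)) (.node (.node (.leaf [nat_lit 20,nat_lit 11,nat_lit 20,nat_lit 11,nat_lit 18])
 (.leaf [nat_lit 20,nat_lit 20,nat_lit 11,nat_lit 20])
) (.node (.leaf [nat_lit 17,nat_lit 11])
 (.leaf [])
))) (.node (.node (.node (.leaf [nat_lit 21,nat_lit 17,nat_lit 17,nat_lit 21])
 (.leaf [])
) (.node (.leaf [nat_lit 20,nat_lit 20,nat_lit 11,nat_lit 18])
 (.leaf [])
)) (.node (.node (.leaf [])
 (.leaf [])
) (.node (.leaf [])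
 (.leaf [])
)))) (.node (.node (.node (.node (.leaf [])
 (.leaf [])
) (.node (.leaf [])
 (.leaf [])
)) (.node (.node (.leaf [])
 (.leaf [nat_lit 20,nat_lit 11,nat_lit 21])
) (.node (.leaf [])
 (.leaf [nat_lit 21,nat_lit 17,nat_lit 11])
))) (.node (.node (.node (.leaf [])
 (.leaf [nat_lit 17,nat_lit 17,nat_lit 21])
) (.node (.leaf [nat_lit 17])
 (.leaf [nat_lit 20,nat_lit 21])
)) (.node (.node (.leaf [nat_lit 17,nat_lit 21,nat_lit 20,nat_lit 20])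
 (.leaf [])
) (.node (.leaf [])
 (.leaf [])
))))) (.node (.node (.node (.node (.node (.leaf [])
 (.leaf [nat_lit 20,nat_lit 20,nat_lit 11])
) (.node (.leaf [])
 (.leaf [])
)) (.node (.node (.leaf [])
 (.leaf [nat_lit 17,nat_lit 21,nat_lit 20])
) (.node (.leaf [])
 (.leaf [])
))) (.node (.node (.node (.leaf [])
 (.leaf [])
) (.node (.leaf [nat_lit 20,nat_lit 11,nat_lit 20,nat_lit 11])
 (.leaf [])
)) (.node (.node (.leaf [])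
 (.leaf [])
) (.node (.leaf [nat_lit 17,nat_lit 17,nat_lit 21,nat_lit 17])
 (.leaf [])
)))) (.node (.node (.node (.node (.leaf [])
 (.leaf [nat_lit 20,nat_lit 11,nat_lit 20,nat_lit 21])
) (.node (.leaf [nat_lit 21,nat_lit 17,nat_lit 21,nat_lit 20])
 (.leaf [nat_lit 17,nat_lit 11,nat_lit 21,nat_lit 17])
)) (.node (.node (.leaf [nat_lit 20,nat_lit 20,nat_lit 21])
 (.leaf [nat_lit 17,nat_lit 11,nat_lit 21,nat_lit 20])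
) (.node (.leaf [nat_lit 21,nat_lit 17,nat_lit 21,nat_lit 17])
 (.leaf [])
))) (.node (.node (.node (.leaf [nat_lit 20,nat_lit 20,nat_lit 18,nat_lit 20])
 (.leaf [])
) (.node (.leaf [])
 (.leaf [nat_lit 17,nat_lit 21,nat_lit 17])
)) (.node (.node (.leaf [])
 (.leaf [])
) (.leaf [])
))))) (.node (.node (.node (.node (.node (.node (.leaf [])
 (.leaf [nat_lit 20,nat_lit 11,nat_lit 21,nat_lit 17])
) (.node (.leaf [])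
 (.leaf [nat_lit 21,nat_lit 17,nat_lit 21])
)) (.node (.node (.leaf [nat_lit 20,nat_lit 21,nat_lit 17])
 (.leaf [])
) (.node (.leaf [])
 (.leaf [nat_lit 20,nat_lit 18])
))) (.node (.node (.node (.leaf [nat_lit 18,nat_lit 20,nat_lit 20,nat_lit 18])
 (.leaf [nat_lit 17,nat_lit 11,nat_lit 21])
) (.node (.leaf [])
 (.leaf [nat_lit 20,nat_lit 20,nat_lit 11,nat_lit 20,nat_lit 11])
)) (.node (.node (.leaf [])
 (.leaf [nat_lit 20,nat_lit 11,nat_lit 18])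
) (.node (.leaf [])
 (.leaf [])
)))) (.node (.node (.node (.node (.leaf [])
 (.leaf [nat_lit 17,nat_lit 21])
) (.node (.leaf [])
 (.leaf [nat_lit 21,nat_lit 20,nat_lit 20,nat_lit 18])
)) (.node (.node (.leaf [nat_lit 20,nat_lit 11,nat_lit 20,nat_lit 18])
 (.leaf [nat_lit 17,nat_lit 17])
) (.node (.leaf [nat_lit 21,nat_lit 17,nat_lit 17])
 (.leaf [nat_lit 21,nat_lit 17,nat_lit 11,nat_lit 21])
))) (.node (.node (.node (.leaf [nat_lit 20,nat_lit 11,nat_lit 20,nat_lit 20])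
 (.leaf [nat_lit 17,nat_lit 11,nat_lit 17])
) (.node (.leaf [nat_lit 20,nat_lit 20,nat_lit 18])
 (.leaf [])
)) (.node (.node (.leaf [nat_lit 20,nat_lit 20,nat_lit 21,nat_lit 17])
 (.leaf [])
) (.leaf [])
)))) (.node (.node (.node (.node (.node (.leaf [])
 (.leaf [])
) (.node (.leaf [nat_lit 21])
 (.leaf [])
)) (.node (.node (.leaf [nat_lit 21,nat_lit 20])
 (.leaf [])
) (.node (.leaf [nat_lit 18])
 (.leaf [nat_lit 18,nat_lit 20,nat_lit 11])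
))) (.node (.node (.node (.leaf [nat_lit 17,nat_lit 11,nat_lit 20])
 (.leaf [])
) (.node (.leaf [])
 (.leaf [nat_lit 21,nat_lit 20,nat_lit 20])
)) (.node (.node (.leaf [nat_lit 20,nat_lit 11,nat_lit 21,nat_lit 20])
 (.leaf [])
) (.node (.leaf [nat_lit 17,nat_lit 11,nat_lit 17,nat_lit 17])
 (.leaf [])
)))) (.node (.node (.node (.node (.leaf [])
 (.leaf [nat_lit 20,nat_lit 20])
) (.node (.leaf [nat_lit 18,nat_lit 20,nat_lit 20])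
 (.leaf [nat_lit 20])
)) (.node (.node (.leaf [nat_lit 21,nat_lit 20,nat_lit 11])
 (.leaf [])
) (.node (.leaf [nat_lit 20,nat_lit 11,nat_lit 17])
 (.leaf [])
))) (.node (.node (.node (.leaf [])
 (.leaf [nat_lit 20,nat_lit 11])
) (.node (.leaf [nat_lit 20,nat_lit 11,nat_lit 20])
 (.leaf [nat_lit 21,nat_lit 20,nat_lit 11,nat_lit 20])
)) (.node (.node (.leaf [])
 (.leaf [nat_lit 18,nat_lit 20])
) (.leaf [])
))))))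

end Cfsg.Agent.Spor.LyR
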